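import Mathlib

/-!
Helper8 / G2(4): generic group theory.
* Sylow subgroups of prime order: two elements of order `p` generate conjugate subgroups.
* fixed-point-free action is inherited by such conjugates.
* element orders in a semidirect product `V ⋊ P` with `V` of exponent 2.
-/

set_option autoImplicit false

namespace Cfsg.Agent.Helper8.G24

theorem exists_conj_zpowers {G : Type*} [Group G] [Finite G] (p : ℕ) [hp : Fact p.Prime] (x y : G)
    (hx : orderOf x = p) (hy : orderOf y = p) (hcard : ¬ p ^ 2 ∣ Nat.card G) :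
    ∃ k : G, Subgroup.zpowers (k * y * k⁻¹) = Subgroup.zpowers x := by
  have hpd : p ∣ Nat.card G := hx ▸ orderOf_dvd_natCard x
  have hfac : (Nat.card G).factorization p = 1 := by
    have h1 : 1 ≤ (Nat.card G).factorization p :=
      (hp.out.dvd_iff_one_le_factorization Nat.card_pos.ne').1 hpd
    have h2 : ¬ 2 ≤ (Nat.card G).factorization p := fun h =>
      hcard ((hp.out.pow_dvd_iff_le_factorization Nat.card_pos.ne').2 h)
    omega
  have hcx : Nat.card (Subgroup.zpowers x) = p ^ (Nat.card G).factorization p := by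
    rw [hfac, pow_one, Nat.card_zpowers, hx]
  let P : Sylow p G := Sylow.ofCard (Subgroup.zpowers x) hcx
  have hP : (P : Subgroup G) = Subgroup.zpowers x := Sylow.coe_ofCard _ hcx
  have hpg : IsPGroup p (Subgroup.zpowers y) :=
    IsPGroup.of_card (n := 1) (by rw [pow_one, Nat.card_zpowers, hy])
  obtain ⟨Q, hQ⟩ := hpg.exists_le_sylow
  obtain ⟨k, hk⟩ := MulAction.exists_smul_eq G Q P
  refine ⟨k, ?_⟩
  have hmem : k * y * k⁻¹ ∈ Subgroup.zpowers x := by
    rw [← hP, ← hk, Sylow.coe_subgroup_smul, Subgroup.mem_smul_pointwise_iff_exists]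
    exact ⟨y, hQ (Subgroup.mem_zpowers y), by rw [MulAut.smul_def, MulAut.conj_apply]⟩
  have hord : orderOf (k * y * k⁻¹) = p := by
    have : k * y * k⁻¹ = MulAut.conj k y := by rw [MulAut.conj_apply]
    rw [this, MulEquiv.orderOf_eq, hy]
  apply Subgroup.eq_of_le_of_card_ge
  · exact Subgroup.zpowers_le.2 hmem
  · rw [Nat.card_zpowers, Nat.card_zpowers, hord, hx]

/-- fixed-point-free action of an element -/
def Fpf {P V : Type*} [Group P] [Group V] (φ : P →* MulAut V) (a : P) : Prop :=
  ∀ u : V, φ a u = u → u = 1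

theorem fix_zpow {V : Type*} [Group V] (σ : MulAut V) (w : V) (h : σ w = w) (j : ℤ) :
    (σ ^ j) w = w := by
  have hmem : σ ∈ MulAction.stabilizer (MulAut V) w := by
    rw [MulAction.mem_stabilizer_iff]; exact h
  have := Subgroup.zpow_mem _ hmem j
  rwa [MulAction.mem_stabilizer_iff] at this

theorem Fpf.of_conj {P V : Type*} [Group P] [Group V] (φ : P →* MulAut V) {x y k : P}
    (hx : Fpf φ x) (hk : Subgroup.zpowers (k * y * k⁻¹) = Subgroup.zpowers x) : Fpf φ y := by
  intro u hu
  obtain ⟨j, hj⟩ := Subgroup.mem_zpowers_iff.1 (hk ▸ Subgroup.mem_zpowers x)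
  set w := φ k u with hw
  have h1 : φ (k * y * k⁻¹) w = w := by
    rw [map_mul, map_mul, MulAut.mul_apply, MulAut.mul_apply, hw, map_inv, MulAut.inv_apply_self, hu]
  have h2 : φ x w = w := by
    rw [← hj, map_zpow]
    exact fix_zpow _ _ h1 j
  have h3 : w = 1 := hx w h2
  have h4 : φ k u = φ k 1 := by rw [map_one]; exact h3
  exact (φ k).injective h4

section semidirect

variable {V P : Type*} [CommGroup V] [Group P] (φ : P →* MulAut V)

theorem exists_inl_of_right_eq_one (g : V ⋊[φ] P) (hg : g.right = 1) :
    ∃ u : V, g = SemidirectProduct.inl u := by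
  refine ⟨g.left, ?_⟩
  apply SemidirectProduct.ext
  · rfl
  · rw [hg]; rfl

theorem orderOf_semidirect (hV : ∀ u : V, u * u = 1) (h : V ⋊[φ] P) :
    orderOf h = orderOf h.right ∨ orderOf h = 2 * orderOf h.right := by
  set n := orderOf h.right with hn
  have h1 : n ∣ orderOf h := by
    have := orderOf_map_dvd (SemidirectProduct.rightHom : V ⋊[φ] P →* P) h
    rwa [SemidirectProduct.rightHom_eq_right] at this
  have h2 : orderOf h ∣ 2 * n := by
    apply orderOf_dvd_of_pow_eq_one
    have hr : (h ^ n).right = 1 := by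
      have : (h ^ n).right = h.right ^ n := by
        rw [← SemidirectProduct.rightHom_eq_right, map_pow]
      rw [this, hn, pow_orderOf_eq_one]
    obtain ⟨u, hu⟩ := exists_inl_of_right_eq_one φ _ hr
    rw [mul_comm, pow_mul, hu, pow_two, ← map_mul, hV, map_one]
  obtain ⟨c, hc⟩ := h1
  rcases Nat.eq_zero_or_pos n with h0 | hpos
  · left; rw [hc, h0, zero_mul]
  · rw [hc, mul_comm 2 n] at h2
    have hc2 : c ∣ 2 := Nat.dvd_of_mul_dvd_mul_left hpos h2
    have : c = 1 ∨ c = 2 := by
      have := Nat.le_of_dvd (by norm_num) hc2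
      interval_cases c
      · simp at hc2
      · left; rfl
      · right; rfl
    rcases this with rfl | rfl
    · left; rw [hc, mul_one]
    · right; rw [hc, mul_comm]

theorem pow_eq_one_of_fpf (h : V ⋊[φ] P) (q : ℕ) (hq : h.right ^ q = 1) (hf : Fpf φ h.right) :
    h ^ q = 1 := by
  have hr : (h ^ q).right = 1 := by
    have : (h ^ q).right = h.right ^ q := by
      rw [← SemidirectProduct.rightHom_eq_right, map_pow]
    rw [this, hq]
  obtain ⟨u, hu⟩ := exists_inl_of_right_eq_one φ _ hr
  have hcomm : SemidirectProduct.inl u * h = h * SemidirectProduct.inl u := by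
    rw [← hu, ← pow_succ, ← pow_succ']
  have hdec : h = SemidirectProduct.inl h.left * SemidirectProduct.inr h.right :=
    (SemidirectProduct.inl_left_mul_inr_right h).symm
  set v := h.left
  set a := h.right
  have hc2 : (SemidirectProduct.inl u : V ⋊[φ] P) * SemidirectProduct.inr a =
      SemidirectProduct.inr a * SemidirectProduct.inl u := by
    have e1 : (SemidirectProduct.inl u : V ⋊[φ] P) * SemidirectProduct.inl v =
        SemidirectProduct.inl v * SemidirectProduct.inl u := by
      rw [← map_mul, ← map_mul, mul_comm]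
    rw [hdec] at hcomm
    have e2 : (SemidirectProduct.inl v : V ⋊[φ] P) * (SemidirectProduct.inl u *
        SemidirectProduct.inr a) = SemidirectProduct.inl v * (SemidirectProduct.inr a *
        SemidirectProduct.inl u) := by
      rw [← mul_assoc, ← e1, mul_assoc, hcomm, mul_assoc]
    exact mul_left_cancel e2
  have hfix : φ a u = u := by
    have e3 : (SemidirectProduct.inr a : V ⋊[φ] P) * SemidirectProduct.inl u *
        SemidirectProduct.inr a⁻¹ = SemidirectProduct.inl u := by
      rw [← hc2, mul_assoc, ← map_mul, mul_inv_cancel, map_one, mul_one]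
    rw [← SemidirectProduct.inl_aut] at e3
    exact SemidirectProduct.inl_injective e3
  rw [hu, hf u hfix, map_one]

end semidirect

end Cfsg.Agent.Helper8.G24
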