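import Mathlib

/-!
Helper8: the five arithmetic lemmas (AR) for helper25's Brauer–Reynolds rows S0999 / S4701
(board #6986).  Exact signatures of `tools/helper25_br/BRSkel.lean.txt`.
-/

set_option autoImplicit false

namespace Cfsg.Agent.Helper8.BRArith

theorem arith_Kminus (p e t kp km : ℕ) (het : e * t = p - 1) (ht : 3 ≤ t)
    (hcard : 1 + kp + km = e)
    (hrel : (1 : ℤ) + (kp : ℤ) * ((t * (p - e) : ℕ) : ℤ) - (km : ℤ) * ((p - 1 : ℕ) : ℤ) =
      -((p - e : ℕ) : ℤ)) :
    km = 1 + (t - 1) * kp ∧ e = 2 + t * kp := by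
  obtain ⟨t', rfl⟩ : ∃ t', t = t' + 1 := ⟨t - 1, by omega⟩
  have he1 : 1 ≤ e := by omega
  have hpe : p - e = e * t' + 1 := by
    have : e * (t' + 1) = e * t' + e := by ring
    omega
  rw [← het, hpe] at hrel
  have hkm : (km : ℤ) = (e : ℤ) - 1 - kp := by
    have : ((1 + kp + km : ℕ) : ℤ) = (e : ℤ) := by rw [hcard]
    push_cast at this; linarith
  push_cast at hrel
  rw [hkm] at hrel
  have hprod : ((kp : ℤ) * (t' + 1) - e + 2) * (1 + e * (t' + 1)) = 0 := by
    linear_combination hrel
  have hpos : (1 + (e : ℤ) * (t' + 1)) ≠ 0 := by positivity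
  have h0 : (kp : ℤ) * (t' + 1) - e + 2 = 0 := by
    rcases mul_eq_zero.1 hprod with h | h
    · exact h
    · exact absurd h hpos
  have hE : (e : ℤ) = 2 + (t' + 1) * kp := by linarith
  have hE' : e = 2 + (t' + 1) * kp := by exact_mod_cast hE
  refine ⟨?_, hE'⟩
  have ht1 : t' + 1 - 1 = t' := by omega
  rw [ht1]
  have : (km : ℤ) = 1 + (t' : ℤ) * kp := by
    rw [hkm, hE]; ring
  exact_mod_cast this

theorem arith_Kplus (p e t kp km : ℕ) (het : e * t = p - 1) (ht : 3 ≤ t)
    (hcard : 1 + kp + km = e)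
    (hrel : (1 : ℤ) + (kp : ℤ) * ((t * (p - e) : ℕ) : ℤ) - (km : ℤ) * ((p - 1 : ℕ) : ℤ) =
      (e : ℤ)) :
    km = (t - 1) * kp ∧ e = 1 + t * kp := by
  obtain ⟨t', rfl⟩ : ∃ t', t = t' + 1 := ⟨t - 1, by omega⟩
  have he1 : 1 ≤ e := by omega
  have hpe : p - e = e * t' + 1 := by
    have : e * (t' + 1) = e * t' + e := by ring
    omega
  rw [← het, hpe] at hrel
  have hkm : (km : ℤ) = (e : ℤ) - 1 - kp := by
    have : ((1 + kp + km : ℕ) : ℤ) = (e : ℤ) := by rw [hcard]
    push_cast at this; linarith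
  push_cast at hrel
  rw [hkm] at hrel
  have hprod : ((kp : ℤ) * (t' + 1) - e + 1) * (1 + e * (t' + 1)) = 0 := by
    linear_combination hrel
  have hpos : (1 + (e : ℤ) * (t' + 1)) ≠ 0 := by positivity
  have h0 : (kp : ℤ) * (t' + 1) - e + 1 = 0 := by
    rcases mul_eq_zero.1 hprod with h | h
    · exact h
    · exact absurd h hpos
  have hE : (e : ℤ) = 1 + (t' + 1) * kp := by linarith
  have hE' : e = 1 + (t' + 1) * kp := by exact_mod_cast hE
  refine ⟨?_, hE'⟩
  have ht1 : t' + 1 - 1 = t' := by omega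
  rw [ht1]
  have : (km : ℤ) = (t' : ℤ) * kp := by
    rw [hkm, hE]; ring
  exact_mod_cast this

theorem arith_Y0 (p e v n f : ℕ) (hp : p.Prime) (he : 2 ≤ e) (hep : e ∣ p - 1) (hn : 1 ≤ n)
    (hv : 1 ≤ v) (hsmall : e * v * (1 + n * p) < p ^ 2) (hf : f = 1 + (e - 1) * (1 + n * p))
    (hdvd : f ∣ p * (e * v * (1 + n * p))) : False := by
  have hp2 := hp.two_le
  have hele : e ≤ p - 1 := Nat.le_of_dvd (by omega) hep
  obtain ⟨e', rfl⟩ : ∃ e', e = e' + 1 := ⟨e - 1, by omega⟩
  have hf' : f = (e' + 1) + (e' * n) * p := by rw [hf]; simp; ring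
  -- coprime to p
  have hcp : Nat.Coprime f p := by
    rw [Nat.coprime_comm, hp.coprime_iff_not_dvd]
    intro h
    rw [hf'] at h
    have h2 : p ∣ e' + 1 := (Nat.dvd_add_left (Dvd.intro_left _ rfl)).1 h
    have := Nat.le_of_dvd (by omega) h2
    omega
  have hc1 : Nat.Coprime f (1 + n * p) := by
    rw [hf]; simp
  have h1 : f ∣ (e' + 1) * v * (1 + n * p) := hcp.dvd_of_dvd_mul_left hdvd
  have h2 : f ∣ (e' + 1) * v := hc1.dvd_of_dvd_mul_right h1
  have hev : (e' + 1) * v < p := by
    by_contra h; rw [not_lt] at h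
    have h3 : p * (1 + n * p) ≤ (e' + 1) * v * (1 + n * p) := Nat.mul_le_mul_right _ h
    have h4 : p * p ≤ p * (1 + n * p) := by
      apply Nat.mul_le_mul_left
      nlinarith
    nlinarith
  have hle := Nat.le_of_dvd (by positivity) h2
  have hfp : p < f := by
    rw [hf']
    have : p ≤ e' * n * p := by
      have : 1 ≤ e' * n := by
        have : 1 ≤ e' := by omega
        nlinarith
      nlinarith
    omega
  omega

theorem arith_Y (p e t f : ℕ) (ε : ℤ) (hp : p.Prime) (het : e * t = p - 1) (ht : 3 ≤ t)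
    (hε : ε = 1 ∨ ε = -1) (hf : f ∣ e * (t * (p - e)))
    (hmod : (f : ℤ) ≡ ε * (e : ℤ) [ZMOD p]) (hsq : t * f ^ 2 ≤ p * (e * (t * (p - e)))) :
    (ε = 1 ∧ f = e) ∨ (ε = -1 ∧ f = p - e) := by
  have hp2 := hp.two_le
  obtain ⟨t', rfl⟩ : ∃ t', t = t' + 1 := ⟨t - 1, by omega⟩
  have ht' : 2 ≤ t' := by omega
  have he1 : 1 ≤ e := by
    rcases Nat.eq_zero_or_pos e with h | h
    · subst h; omega
    · exact h
  have hpeq : p = e * (t' + 1) + 1 := by omega
  have hpe : p - e = e * t' + 1 := by
    have : e * (t' + 1) = e * t' + e := by ring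
    omega
  have hs : (t' + 1) * (p - e) = 1 + t' * p := by
    rw [hpe, hpeq]; ring
  rw [hs] at hf hsq
  obtain ⟨m, hm⟩ := hf
  have hfpos : 1 ≤ f := by
    rcases Nat.eq_zero_or_pos f with h | h
    · subst h
      rw [zero_mul] at hm
      have : 0 < e * (1 + t' * p) := by positivity
      omega
    · exact h
  have hmpos : 1 ≤ m := by
    rcases Nat.eq_zero_or_pos m with h | h
    · subst h
      rw [mul_zero] at hm
      have : 0 < e * (1 + t' * p) := by positivity
      omega
    · exact h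
  have hmZ : (e : ℤ) * (1 + t' * p) = f * m := by exact_mod_cast hm
  have hpZ : (p : ℤ) = e * (t' + 1) + 1 := by exact_mod_cast hpeq
  have heZ : (1 : ℤ) ≤ e := by exact_mod_cast he1
  have htZ : (2 : ℤ) ≤ t' := by exact_mod_cast ht'
  have hfZ : (1 : ℤ) ≤ f := by exact_mod_cast hfpos
  have hmZpos : (1 : ℤ) ≤ m := by exact_mod_cast hmpos
  have hep : (e : ℤ) < p := by nlinarith
  have hp0 : (p : ℤ) ≠ 0 := by linarith
  have hpprime : Prime (p : ℤ) := Nat.prime_iff_prime_int.1 hp
  have hnd : ¬ (p : ℤ) ∣ e := by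
    intro h
    have := Int.le_of_dvd (by linarith) h
    linarith
  have het' : (e : ℤ) * t' < p := by nlinarith
  rcases hε with rfl | rfl
  · left
    refine ⟨rfl, ?_⟩
    obtain ⟨c, hc⟩ := (Int.modEq_iff_dvd.1 hmod)
    have ha : (f : ℤ) = e + p * (-c) := by linarith
    generalize -c = a at ha
    have ha0 : 0 ≤ a := by
      by_contra h; rw [not_le] at h
      have : (p : ℤ) * a ≤ -p := by nlinarith
      linarith
    have hdiv : (p : ℤ) ∣ e * (m - 1) := by
      refine ⟨e * t' - a * m, ?_⟩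
      rw [ha] at hmZ; linarith
    have hdiv2 : (p : ℤ) ∣ (m : ℤ) - 1 := by
      rcases hpprime.dvd_or_dvd hdiv with h | h
      · exact absurd h hnd
      · exact h
    obtain ⟨b, hb⟩ := hdiv2
    have hmb : (m : ℤ) = 1 + p * b := by linarith
    have hb0 : 0 ≤ b := by
      by_contra h; rw [not_le] at h
      have : (p : ℤ) * b ≤ -p := by nlinarith
      linarith
    have hkey : a + e * b + p * (a * b) = e * t' := by
      have h2 : (p : ℤ) * (a + e * b + p * (a * b)) = p * (e * t') := by
        rw [ha, hmb] at hmZ; linarith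
      exact mul_left_cancel₀ hp0 h2
    have hab : a * b = 0 := by
      by_contra h
      have hab1 : 1 ≤ a * b := by
        have : 0 ≤ a * b := by positivity
        rcases this.lt_or_eq with h' | h'
        · linarith
        · exact absurd h'.symm h
      have : (p : ℤ) ≤ p * (a * b) := by nlinarith
      have : 0 ≤ (e : ℤ) * b := by positivity
      linarith
    rcases mul_eq_zero.1 hab with h | h
    · rw [h] at ha
      have : (f : ℤ) = e := by linarith
      exact_mod_cast this
    · exfalso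
      rw [h] at hmb
      have hm1 : m = 1 := by
        have : (m : ℤ) = 1 := by linarith
        exact_mod_cast this
      rw [hm1, mul_one] at hm
      -- f = e * (1 + t' p), hsq : (t'+1) f^2 ≤ p * (e * (1 + t' p)) = p f
      rw [hm] at hsq
      have h1 : (t' + 1) * f ≤ p := by
        have : (t' + 1) * f * f ≤ p * f := by
          calc (t' + 1) * f * f = (t' + 1) * f ^ 2 := by ring
            _ ≤ p * f := hsq
        exact Nat.le_of_mul_le_mul_right this hfpos
      have h2 : 1 + t' * p ≤ f := by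
        rw [← hm]
        calc 1 + t' * p = 1 * (1 + t' * p) := by ring
          _ ≤ e * (1 + t' * p) := Nat.mul_le_mul_right _ he1
      have h3 : 2 * p ≤ t' * p := Nat.mul_le_mul_right _ ht'
      nlinarith
  · right
    refine ⟨rfl, ?_⟩
    obtain ⟨c, hc⟩ := (Int.modEq_iff_dvd.1 hmod)
    have ha : (f : ℤ) = p * (-c) - e := by linarith
    generalize -c = a at ha
    have ha1 : 1 ≤ a := by
      by_contra h; rw [not_le] at h
      have : (p : ℤ) * a ≤ 0 := by nlinarith
      linarith
    have hdiv : (p : ℤ) ∣ e * (m + 1) := by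
      refine ⟨a * m - e * t', ?_⟩
      rw [ha] at hmZ; linarith
    have hdiv2 : (p : ℤ) ∣ (m : ℤ) + 1 := by
      rcases hpprime.dvd_or_dvd hdiv with h | h
      · exact absurd h hnd
      · exact h
    obtain ⟨b, hb⟩ := hdiv2
    have hmb : (m : ℤ) = p * b - 1 := by linarith
    have hb1 : 1 ≤ b := by
      by_contra h; rw [not_le] at h
      have : (p : ℤ) * b ≤ 0 := by nlinarith
      linarith
    have hkey : a * (p * b - 1) = e * (t' + b) := by
      have h2 : (p : ℤ) * (a * (p * b - 1)) = p * (e * (t' + b)) := by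
        rw [ha, hmb] at hmZ; linarith
      exact mul_left_cancel₀ hp0 h2
    have hb_eq : b = 1 := by
      by_contra h
      have hb2 : 2 ≤ b := by
        rcases hb1.lt_or_eq with h' | h'
        · linarith
        · exact absurd h'.symm h
      have hpos : 0 ≤ (p : ℤ) * b - 1 := by nlinarith
      have h3 : (p : ℤ) * b - 1 ≤ a * (p * b - 1) := by nlinarith
      -- e (t' + b) = p - 1 + e (b - 1)
      have h4 : (e : ℤ) * (t' + b) = p - 1 + e * (b - 1) := by rw [hpZ]; ring
      have h5 : (p : ℤ) * (b - 1) ≤ e * (b - 1) := by linarith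
      have h6 : 0 < b - 1 := by linarith
      have h7 : (p : ℤ) ≤ e := le_of_mul_le_mul_right h5 h6
      linarith
    rw [hb_eq] at hkey
    have ha_eq : a = 1 := by
      have h1 : (e : ℤ) * (t' + 1) = p - 1 := by rw [hpZ]; ring
      have h2 : a * ((p : ℤ) - 1) = 1 * (p - 1) := by
        have : a * ((p : ℤ) * 1 - 1) = a * (p - 1) := by ring
        linarith
      have h3 : (p : ℤ) - 1 ≠ 0 := by linarith
      exact mul_right_cancel₀ h3 h2
    rw [ha_eq] at ha
    have hfv : (f : ℤ) = p - e := by linarith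
    have hle : e ≤ p := by omega
    zify [hle]
    exact hfv

theorem arith_X (p e v n f : ℕ) (ε : ℤ) (hp : p.Prime) (hp2 : p ≠ 2) (he : e ∣ p - 1)
    (hv : 1 ≤ v) (hn : 2 ≤ n) (hsmall : e * v * (1 + n * p) < p ^ 2) (hε : ε = 1 ∨ ε = -1)
    (hf : f ∣ e * (1 + n * p)) (hf1 : f ≠ 1) (hmod : (f : ℤ) ≡ ε [ZMOD p]) :
    (ε = 1 ∧ f = 1 + n * p) ∨ (ε = -1 ∧ f = p - 1 ∧ (n + 1) * e = p - 1) := by
  have hp3 : 3 ≤ p := by have := hp.two_le; omega
  have he1 : 1 ≤ e := Nat.pos_of_dvd_of_pos he (by omega)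
  have hele : e ≤ p - 1 := Nat.le_of_dvd (by omega) he
  have h1 : e * (1 + n * p) < p ^ 2 := by
    calc e * (1 + n * p) = e * 1 * (1 + n * p) := by ring
      _ ≤ e * v * (1 + n * p) := by gcongr
      _ < p ^ 2 := hsmall
  have hen : e * n < p := by
    by_contra h; rw [not_lt] at h
    have : p * p ≤ e * n * p := Nat.mul_le_mul_right p h
    nlinarith
  obtain ⟨m, hm⟩ := hf
  have hfpos : 1 ≤ f := by
    rcases Nat.eq_zero_or_pos f with h | h
    · subst h
      rw [zero_mul] at hm
      have : 0 < e * (1 + n * p) := by positivity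
      omega
    · exact h
  have hmpos : 1 ≤ m := by
    rcases Nat.eq_zero_or_pos m with h | h
    · subst h
      rw [mul_zero] at hm
      have : 0 < e * (1 + n * p) := by positivity
      omega
    · exact h
  have hmZ : (e : ℤ) * (1 + n * p) = f * m := by exact_mod_cast hm
  have hpZ : (3 : ℤ) ≤ p := by exact_mod_cast hp3
  have heZ : (1 : ℤ) ≤ e := by exact_mod_cast he1
  have heleZ : (e : ℤ) ≤ p - 1 := by
    have : ((e : ℕ) : ℤ) ≤ ((p - 1 : ℕ) : ℤ) := by exact_mod_cast hele
    rwa [Nat.cast_sub (by omega)] at this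
  have henZ : (e : ℤ) * n < p := by exact_mod_cast hen
  have hnZ : (2 : ℤ) ≤ n := by exact_mod_cast hn
  have hfZ : (1 : ℤ) ≤ f := by exact_mod_cast hfpos
  have hf1Z : (f : ℤ) ≠ 1 := by exact_mod_cast hf1
  have hmZpos : (1 : ℤ) ≤ m := by exact_mod_cast hmpos
  rcases hε with rfl | rfl
  · left
    refine ⟨rfl, ?_⟩
    obtain ⟨c, hc⟩ := (Int.modEq_iff_dvd.1 hmod)
    -- 1 - f = p * c ; a = -c
    have ha : (f : ℤ) = 1 + p * (-c) := by linarith
    set a : ℤ := -c with ha_def
    have ha1 : 1 ≤ a := by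
      by_contra h; rw [not_le] at h
      have : (p : ℤ) * a ≤ 0 := by nlinarith
      have : (f : ℤ) ≤ 1 := by linarith
      have : (f : ℤ) = 1 := le_antisymm this hfZ
      exact hf1Z this
    -- m = e + p * b
    set b : ℤ := (e : ℤ) * n - a * m with hb_def
    have hmb : (m : ℤ) = e + p * b := by
      rw [hb_def]; rw [ha] at hmZ; linarith
    have hb0 : 0 ≤ b := by
      by_contra h; rw [not_le] at h
      have : (p : ℤ) * b ≤ -p := by nlinarith
      linarith
    -- b + a e + p a b = e n
    have hkey : b + a * e + p * (a * b) = e * n := by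
      have h2 : (p : ℤ) * (b + a * e + p * (a * b)) = p * (e * n) := by
        rw [ha, hmb] at hmZ; linarith
      have hp0 : (p : ℤ) ≠ 0 := by linarith
      exact mul_left_cancel₀ hp0 h2
    have hab : a * b = 0 := by
      by_contra h
      have hab1 : 1 ≤ a * b := by
        have : 0 ≤ a * b := by positivity
        rcases this.lt_or_eq with h' | h'
        · linarith
        · exact absurd h'.symm h
      have : (p : ℤ) ≤ p * (a * b) := by nlinarith
      have : 0 ≤ a * e := by positivity
      linarith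
    have hb : b = 0 := by
      rcases mul_eq_zero.1 hab with h | h
      · linarith
      · exact h
    have han : a = n := by
      rw [hb] at hkey
      have : a * e = n * e := by linarith
      have he0 : (e : ℤ) ≠ 0 := by linarith
      exact mul_right_cancel₀ he0 this
    have : (f : ℤ) = 1 + n * p := by rw [ha, han]; ring
    exact_mod_cast this
  · right
    refine ⟨rfl, ?_⟩
    obtain ⟨c, hc⟩ := (Int.modEq_iff_dvd.1 hmod)
    -- -1 - f = p * c ; a = -c ; f = p a - 1
    have ha : (f : ℤ) = p * (-c) - 1 := by linarith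
    set a : ℤ := -c with ha_def
    have ha1 : 1 ≤ a := by
      by_contra h; rw [not_le] at h
      have : (p : ℤ) * a ≤ 0 := by nlinarith
      linarith
    -- m = p b - e with b := a m - e n
    set b : ℤ := a * m - (e : ℤ) * n with hb_def
    have hmb : (m : ℤ) = p * b - e := by
      rw [hb_def]; rw [ha] at hmZ; linarith
    have hb1 : 1 ≤ b := by
      by_contra h; rw [not_le] at h
      have : (p : ℤ) * b ≤ 0 := by nlinarith
      linarith
    -- b (a p - 1) = e (n + a)
    have hkey : b * (a * p - 1) = e * (n + a) := by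
      have h2 : (p : ℤ) * (b * (a * p - 1)) = p * (e * (n + a)) := by
        rw [ha, hmb] at hmZ; linarith
      have hp0 : (p : ℤ) ≠ 0 := by linarith
      exact mul_left_cancel₀ hp0 h2
    have h2e : 2 * (e : ℤ) ≤ p - 1 := by nlinarith
    -- a = 1
    have hapos : 0 ≤ a * p - 1 := by nlinarith
    have ha_eq : a = 1 := by
      by_contra h
      have ha2 : 2 ≤ a := by
        rcases ha1.lt_or_eq with h' | h'
        · linarith
        · exact absurd h'.symm h
      -- a p - 1 ≤ b (a p - 1) = e n + e a < p + e a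
      have h3 : a * p - 1 ≤ b * (a * p - 1) := by nlinarith
      have h4 : a * (p - e) < p + 1 := by nlinarith
      have h5 : 2 * (a * (p - e)) ≥ a * (p + 1) := by nlinarith
      nlinarith
    rw [ha_eq] at hkey ha
    have hfv : (f : ℤ) = p - 1 := by linarith
    -- b (p-1) = e (n+1)
    have hb_eq : b = 1 := by
      by_contra h
      have hb2 : 2 ≤ b := by
        rcases hb1.lt_or_eq with h' | h'
        · linarith
        · exact absurd h'.symm h
      have h3 : 2 * ((p : ℤ) - 1) ≤ b * (1 * p - 1) := by nlinarith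
      have h4 : (e : ℤ) * (n + 1) = e * n + e := by ring
      linarith
    rw [hb_eq] at hkey
    have hfin : ((n : ℤ) + 1) * e = p - 1 := by linear_combination (-1 : ℤ) * hkey
    have h1p : 1 ≤ p := by omega
    refine ⟨?_, ?_⟩
    · zify [h1p]
      exact hfv
    · zify [h1p]
      exact hfin

end Cfsg.Agent.Helper8.BRArith
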