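import Mathlib
import Cfsg.Prelude.Def_Sporadic_a
import Cfsg.Agent.Helper26.Steiner2

/-!
Counting in a Steiner system `S(3,6,22)`: intersection equations against an arbitrary set of
points, and the numbers needed for the strongly regular graphs on 77 and 100 vertices.
-/

set_option autoImplicit false

namespace Cfsg.Agent.Helper8

open Cfsg Cfsg.Agent.Helper26

section

variable {α : Type*} [Fintype α] [DecidableEq α]

/-- The intersection equations against an arbitrary set of points `Y`. -/
theorem inter_equation_gen {t k : ℕ} {B : Set (Finset α)} (hB : IsSteinerSystem t k B)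
    (Y : Finset α) (i : ℕ) (hi : i ≤ t) :
    (∑ j ∈ Finset.range (Y.card + 1), meetCount B Y j * j.choose i) * (k - i).choose (t - i) =
      Y.card.choose i * (Fintype.card α - i).choose (t - i) := by
  classical
  set Bf : Finset (Finset α) := Finset.univ.filter (· ∈ B) with hBf
  have h1 : ∑ j ∈ Finset.range (Y.card + 1), meetCount B Y j * j.choose i =
      ∑ c ∈ Bf, (c ∩ Y).card.choose i := by
    rw [sum_fiber_inter' Bf Y (fun j => j.choose i)]
    refine Finset.sum_congr rfl fun j _ => ?_
    rw [meetCount_eq_card_filter]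
  rw [h1, sum_choose_inter', Finset.sum_mul]
  have h2 : ∀ I ∈ Y.powersetCard i, (Bf.filter fun c => I ⊆ c).card * (k - i).choose (t - i) =
      (Fintype.card α - i).choose (t - i) := by
    intro I hI
    rw [Finset.mem_powersetCard] at hI
    have h3 := card_blocks_through hB I (by rw [hI.2]; exact hi)
    rw [hI.2] at h3
    rw [← h3]
    congr 1
    rw [← Set.ncard_coe_finset]
    congr 1
    ext c
    simp [hBf]
  rw [Finset.sum_congr rfl h2, Finset.sum_const, Finset.card_powersetCard, smul_eq_mul]

/-- no block meets `Y` in more points than a block has -/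
theorem meetCount_eq_zero_of_lt {t k : ℕ} {B : Set (Finset α)} (hB : IsSteinerSystem t k B)
    (Y : Finset α) {j : ℕ} (hj : k < j) : meetCount B Y j = 0 := by
  rw [meetCount_eq_zero_iff]
  intro c hc h
  have := Finset.card_le_card (Finset.inter_subset_left (s₁ := c) (s₂ := Y))
  rw [hB.1 c hc] at this
  omega

theorem card_inter_union_add (d b c : Finset α) :
    (d ∩ (b ∪ c)).card + (d ∩ (b ∩ c)).card = (d ∩ b).card + (d ∩ c).card := by
  have h := Finset.card_union_add_card_inter (d ∩ b) (d ∩ c)
  have h1 : d ∩ b ∪ d ∩ c = d ∩ (b ∪ c) := (Finset.inter_union_distrib_left d b c).symm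
  have h2 : d ∩ b ∩ (d ∩ c) = d ∩ (b ∩ c) := by
    ext x
    simp only [Finset.mem_inter]
    tauto
  rw [h1, h2] at h
  exact h

end

section S22

variable {α : Type*} [Fintype α] [DecidableEq α] {B : Set (Finset α)}

/-- two blocks of an `S(3,6,22)` meet in 0 or 2 points, or are equal -/
theorem inter_cases (hα : Fintype.card α = 22) (hB : IsSteinerSystem 3 6 B) {b c : Finset α}
    (hb : b ∈ B) (hc : c ∈ B) : (c ∩ b).card = 0 ∨ (c ∩ b).card = 2 ∨ c = b := by
  obtain ⟨_, h1, _⟩ := meetCount_3_6_22 hα hB hb
  have hle := card_inter_le hB (b := b) hc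
  have n1 := ne_of_meetCount_eq_zero h1 hc
  by_cases h3 : 3 ≤ (c ∩ b).card
  · right; right
    exact block_eq_of_le_card_inter hB hc hb h3
  · omega

theorem ncard_blocks_22 (hα : Fintype.card α = 22) (hB : IsSteinerSystem 3 6 B) : B.ncard = 77 := by
  have h := card_blocks hB
  rw [hα] at h
  norm_num [Nat.choose] at h
  omega

theorem ncard_through_point (hα : Fintype.card α = 22) (hB : IsSteinerSystem 3 6 B) (a : α) :
    {d | d ∈ B ∧ a ∈ d}.ncard = 21 := by
  have h := card_blocks_through hB {a} (by simp)
  rw [hα] at h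
  simp only [Finset.card_singleton, Finset.singleton_subset_iff] at h
  norm_num [Nat.choose] at h
  omega

theorem ncard_through_pair (hα : Fintype.card α = 22) (hB : IsSteinerSystem 3 6 B) {a a' : α}
    (h : a ≠ a') : {d | d ∈ B ∧ a ∈ d ∧ a' ∈ d}.ncard = 5 := by
  have h1 := card_blocks_through hB {a, a'} (by rw [Finset.card_pair h]; norm_num)
  rw [hα, Finset.card_pair h] at h1
  have h2 : {d | d ∈ B ∧ ({a, a'} : Finset α) ⊆ d} = {d | d ∈ B ∧ a ∈ d ∧ a' ∈ d} := by
    ext d
    simp [Finset.insert_subset_iff]
  rw [h2] at h1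
  have e1 : Nat.choose (6 - 2) (3 - 2) = 4 := by decide
  have e2 : Nat.choose (22 - 2) (3 - 2) = 20 := by decide
  rw [e1, e2] at h1
  omega

/-- the blocks meeting `Y` in six points, when these are exactly `b` and `c` -/
theorem meetCount_six_pair {Y b c : Finset α} (hbc : b ≠ c)
    (h : ∀ d ∈ B, (d ∩ Y).card = 6 ↔ d = b ∨ d = c) (hb : b ∈ B) (hc : c ∈ B) :
    meetCount B Y 6 = 2 := by
  unfold meetCount
  have : {d | d ∈ B ∧ (d ∩ Y).card = 6} = {b, c} := by
    ext d
    simp only [Set.mem_ofPred_eq, Set.mem_insert_iff, Set.mem_singleton_iff]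
    constructor
    · rintro ⟨hd, h6⟩
      exact (h d hd).mp h6
    · rintro (rfl | rfl)
      · exact ⟨hb, (h _ hb).mpr (Or.inl rfl)⟩
      · exact ⟨hc, (h _ hc).mpr (Or.inr rfl)⟩
  rw [this, Set.ncard_pair hbc]

/-- no block is disjoint from two disjoint blocks -/
theorem meetCount_union_disjoint (hα : Fintype.card α = 22) (hB : IsSteinerSystem 3 6 B)
    {b c : Finset α} (hb : b ∈ B) (hc : c ∈ B) (hbc : b ∩ c = ∅) :
    meetCount B (b ∪ c) 0 = 0 := by
  have hb6 : b.card = 6 := hB.1 b hb
  have hc6 : c.card = 6 := hB.1 c hc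
  have hne : b ≠ c := by
    rintro rfl
    rw [Finset.inter_self] at hbc
    rw [hbc] at hb6; simp at hb6
  have hY : (b ∪ c).card = 12 := by
    rw [Finset.card_union_of_disjoint (Finset.disjoint_iff_inter_eq_empty.mpr hbc), hb6, hc6]
  -- the possible intersection sizes
  have hsize : ∀ d ∈ B, (d ∩ (b ∪ c)).card = (d ∩ b).card + (d ∩ c).card := by
    intro d _
    have := card_inter_union_add d b c
    rw [hbc, Finset.inter_empty, Finset.card_empty] at this
    omega
  have hcases : ∀ d ∈ B, ((d ∩ (b ∪ c)).card = 0 ∨ (d ∩ (b ∪ c)).card = 2 ∨ (d ∩ (b ∪ c)).card = 4) ∨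
      ((d = b ∨ d = c) ∧ (d ∩ (b ∪ c)).card = 6) := by
    intro d hd
    have h1 := hsize d hd
    rcases inter_cases hα hB hb hd with h2 | h2 | h2
    · rcases inter_cases hα hB hc hd with h3 | h3 | h3
      · left; omega
      · left; omega
      · right
        subst h3
        rw [Finset.inter_self] at h1
        exact ⟨Or.inr rfl, by omega⟩
    · rcases inter_cases hα hB hc hd with h3 | h3 | h3
      · left; omega
      · left; omega
      · exfalso
        subst h3
        rw [Finset.inter_comm, hbc] at h2; simp at h2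
    · subst h2
      right
      rw [Finset.inter_self, hbc, Finset.card_empty] at h1
      exact ⟨Or.inl rfl, by omega⟩
  have hz : ∀ j, j ≠ 0 → j ≠ 2 → j ≠ 4 → j ≠ 6 → meetCount B (b ∪ c) j = 0 := by
    intro j h0 h2 h4 h6
    rw [meetCount_eq_zero_iff]
    intro d hd hj
    rcases hcases d hd with h | ⟨_, h⟩ <;> omega
  have h6 : meetCount B (b ∪ c) 6 = 2 := by
    apply meetCount_six_pair hne _ hb hc
    intro d hd
    constructor
    · intro h
      rcases hcases d hd with h' | ⟨h', _⟩
      · omega
      · exact h'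
    · rintro (rfl | rfl)
      · rw [hsize _ hd, Finset.inter_self, hbc]; simp [hb6]
      · rw [hsize _ hd, Finset.inter_self, Finset.inter_comm, hbc]; simp [hc6]
  have e0 := inter_equation_gen hB (b ∪ c) 0 (by norm_num)
  have e1 := inter_equation_gen hB (b ∪ c) 1 (by norm_num)
  have e2 := inter_equation_gen hB (b ∪ c) 2 (by norm_num)
  rw [hα, hY] at e0 e1 e2
  simp only [Finset.sum_range_succ, Finset.sum_range_zero, h6,
    hz 1 (by norm_num) (by norm_num) (by norm_num) (by norm_num),
    hz 3 (by norm_num) (by norm_num) (by norm_num) (by norm_num),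
    hz 5 (by norm_num) (by norm_num) (by norm_num) (by norm_num),
    hz 7 (by norm_num) (by norm_num) (by norm_num) (by norm_num),
    hz 8 (by norm_num) (by norm_num) (by norm_num) (by norm_num),
    hz 9 (by norm_num) (by norm_num) (by norm_num) (by norm_num),
    hz 10 (by norm_num) (by norm_num) (by norm_num) (by norm_num),
    hz 11 (by norm_num) (by norm_num) (by norm_num) (by norm_num),
    hz 12 (by norm_num) (by norm_num) (by norm_num) (by norm_num)] at e0 e1 e2
  norm_num [Nat.choose] at e0 e1 e2
  omega

/-- exactly four blocks are disjoint from two blocks meeting in two points -/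
theorem meetCount_union_meeting (hα : Fintype.card α = 22) (hB : IsSteinerSystem 3 6 B)
    {b c : Finset α} (hb : b ∈ B) (hc : c ∈ B) (hbc : (c ∩ b).card = 2) :
    meetCount B (b ∪ c) 0 = 4 := by
  have hb6 : b.card = 6 := hB.1 b hb
  have hc6 : c.card = 6 := hB.1 c hc
  have hbc' : (b ∩ c).card = 2 := by rw [Finset.inter_comm]; exact hbc
  have hne : b ≠ c := by
    rintro rfl
    rw [Finset.inter_self] at hbc
    omega
  have hY : (b ∪ c).card = 10 := by
    have := Finset.card_union_add_card_inter b c
    omega
  have hsize : ∀ d : Finset α, (d ∩ (b ∪ c)).card + (d ∩ (b ∩ c)).card = (d ∩ b).card + (d ∩ c).card :=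
    fun d => card_inter_union_add d b c
  have hz1 : ∀ d : Finset α, (d ∩ (b ∩ c)).card ≤ (d ∩ b).card := fun d =>
    Finset.card_le_card (Finset.inter_subset_inter_left Finset.inter_subset_left)
  have hz2 : ∀ d : Finset α, (d ∩ (b ∩ c)).card ≤ (d ∩ c).card := fun d =>
    Finset.card_le_card (Finset.inter_subset_inter_left Finset.inter_subset_right)
  have hcases : ∀ d ∈ B, ((d ∩ (b ∪ c)).card ≤ 4 ∧ (d ∩ (b ∪ c)).card ≠ 1) ∨
      ((d = b ∨ d = c) ∧ (d ∩ (b ∪ c)).card = 6) := by
    intro d hd
    have h1 := hsize d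
    have h4 := hz1 d
    have h5 := hz2 d
    rcases inter_cases hα hB hb hd with h2 | h2 | h2
    · rcases inter_cases hα hB hc hd with h3 | h3 | h3
      · left; omega
      · left; omega
      · right
        subst h3
        refine ⟨Or.inr rfl, ?_⟩
        have : d ∩ (b ∪ d) = d := Finset.inter_eq_left.mpr Finset.subset_union_right
        rw [this, hc6]
    · rcases inter_cases hα hB hc hd with h3 | h3 | h3
      · left; omega
      · left; omega
      · right
        subst h3
        refine ⟨Or.inr rfl, ?_⟩
        have : d ∩ (b ∪ d) = d := Finset.inter_eq_left.mpr Finset.subset_union_right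
        rw [this, hc6]
    · subst h2
      right
      refine ⟨Or.inl rfl, ?_⟩
      have : d ∩ (d ∪ c) = d := Finset.inter_eq_left.mpr Finset.subset_union_left
      rw [this, hb6]
  have hz : ∀ j, (4 < j ∨ j = 1) → j ≠ 6 → meetCount B (b ∪ c) j = 0 := by
    intro j h0 h6
    rw [meetCount_eq_zero_iff]
    intro d hd hj
    rcases hcases d hd with h | ⟨_, h⟩ <;> omega
  have h6 : meetCount B (b ∪ c) 6 = 2 := by
    apply meetCount_six_pair hne _ hb hc
    intro d hd
    constructor
    · intro h
      rcases hcases d hd with h' | ⟨h', _⟩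
      · omega
      · exact h'
    · intro h
      rcases hcases d hd with h' | ⟨_, h'⟩
      · exfalso
        rcases h with rfl | rfl
        · have : d ∩ (d ∪ c) = d := Finset.inter_eq_left.mpr Finset.subset_union_left
          rw [this, hb6] at h'
          omega
        · have : d ∩ (b ∪ d) = d := Finset.inter_eq_left.mpr Finset.subset_union_right
          rw [this, hc6] at h'
          omega
      · exact h'
  have e0 := inter_equation_gen hB (b ∪ c) 0 (by norm_num)
  have e1 := inter_equation_gen hB (b ∪ c) 1 (by norm_num)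
  have e2 := inter_equation_gen hB (b ∪ c) 2 (by norm_num)
  have e3 := inter_equation_gen hB (b ∪ c) 3 (by norm_num)
  rw [hα, hY] at e0 e1 e2 e3
  simp only [Finset.sum_range_succ, Finset.sum_range_zero, h6,
    hz 1 (by norm_num) (by norm_num),
    hz 5 (by norm_num) (by norm_num),
    hz 7 (by norm_num) (by norm_num),
    hz 8 (by norm_num) (by norm_num),
    hz 9 (by norm_num) (by norm_num),
    hz 10 (by norm_num) (by norm_num)] at e0 e1 e2 e3
  norm_num [Nat.choose] at e0 e1 e2 e3
  omega

theorem card_inter_insert (d b : Finset α) (a : α) (ha : a ∉ b) :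
    (d ∩ insert a b).card = (d ∩ b).card + (if a ∈ d then 1 else 0) := by
  by_cases h : a ∈ d
  · rw [Finset.inter_insert_of_mem h, Finset.card_insert_of_notMem, if_pos h]
    intro h'
    exact ha (Finset.mem_inter.mp h').2
  · rw [Finset.inter_insert_of_notMem h, if_neg h, add_zero]

/-- through a point off a block there are exactly six blocks disjoint from the block -/
theorem ncard_through_point_disjoint (hα : Fintype.card α = 22) (hB : IsSteinerSystem 3 6 B)
    {b : Finset α} (hb : b ∈ B) {a : α} (ha : a ∉ b) :
    {d | d ∈ B ∧ a ∈ d ∧ d ∩ b = ∅}.ncard = 6 := by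
  have hb6 : b.card = 6 := hB.1 b hb
  have hY : (insert a b).card = 7 := by rw [Finset.card_insert_of_notMem ha, hb6]
  have hsize := fun d : Finset α => card_inter_insert d b a ha
  have hcases : ∀ d ∈ B, (d ∩ insert a b).card ≤ 3 ∨ (d = b ∧ (d ∩ insert a b).card = 6) := by
    intro d hd
    have h1 := hsize d
    rcases inter_cases hα hB hb hd with h2 | h2 | h2
    · left; split_ifs at h1 <;> omega
    · left; split_ifs at h1 <;> omega
    · subst h2
      right
      rw [if_neg ha, Finset.inter_self, hb6] at h1
      exact ⟨rfl, h1⟩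
  have hz : ∀ j, 3 < j → j ≠ 6 → meetCount B (insert a b) j = 0 := by
    intro j h0 h6
    rw [meetCount_eq_zero_iff]
    intro d hd hj
    rcases hcases d hd with h | ⟨_, h⟩ <;> omega
  have h6 : meetCount B (insert a b) 6 = 1 := by
    unfold meetCount
    rw [Set.ncard_eq_one]
    refine ⟨b, ?_⟩
    ext d
    simp only [Set.mem_ofPred_eq, Set.mem_singleton_iff]
    constructor
    · rintro ⟨hd, h⟩
      rcases hcases d hd with h' | ⟨h', _⟩
      · omega
      · exact h'
    · rintro rfl
      refine ⟨hb, ?_⟩
      rw [hsize, if_neg ha, Finset.inter_self, hb6]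
  have e0 := inter_equation_gen hB (insert a b) 0 (by norm_num)
  have e1 := inter_equation_gen hB (insert a b) 1 (by norm_num)
  have e2 := inter_equation_gen hB (insert a b) 2 (by norm_num)
  have e3 := inter_equation_gen hB (insert a b) 3 (by norm_num)
  rw [hα, hY] at e0 e1 e2 e3
  simp only [Finset.sum_range_succ, Finset.sum_range_zero, h6,
    hz 4 (by norm_num) (by norm_num),
    hz 5 (by norm_num) (by norm_num),
    hz 7 (by norm_num) (by norm_num)] at e0 e1 e2 e3
  norm_num [Nat.choose] at e0 e1 e2 e3
  have hm1 : meetCount B (insert a b) 1 = 6 := by omega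
  rw [← hm1]
  unfold meetCount
  congr 1
  ext d
  simp only [Set.mem_ofPred_eq]
  constructor
  · rintro ⟨hd, had, hdb⟩
    refine ⟨hd, ?_⟩
    rw [hsize, hdb, if_pos had]; simp
  · rintro ⟨hd, h⟩
    have h1 := hsize d
    rcases inter_cases hα hB hb hd with h2 | h2 | h2
    · refine ⟨hd, ?_, Finset.card_eq_zero.mp h2⟩
      by_contra hn
      rw [if_neg hn] at h1
      omega
    · exfalso; split_ifs at h1 <;> omega
    · exfalso
      subst h2
      rw [if_neg ha, Finset.inter_self, hb6] at h1
      omega

end S22

end Cfsg.Agent.Helper8
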