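import Mathlib
import Cfsg.Prelude.Def_Sporadic_a
import Cfsg.Agent.Helper8.Steiner22
import Cfsg.Agent.Helper27.Octads
import Cfsg.Agent.Helper26.GolayAbs

/-!
Octads against a dodecad of the length-24 code: an octad meets a dodecad in 2, 4 or 6 points,
and the numbers of octads of each kind are 132, 495, 132.
-/

set_option autoImplicit false

namespace Cfsg.Agent.Helper8

open Cfsg Cfsg.Agent.Helper26

/-- the weight of the support of a code word -/
theorem card_mem_supports {s : Finset GolayPt}
    (hs : s ∈ supports (golayCode : Set (GolayPt → ZMod 2))) :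
    s.card = 0 ∨ s.card = 8 ∨ s.card = 12 ∨ s.card = 16 ∨ s.card = 24 := by
  obtain ⟨w, hw, rfl⟩ := hs
  exact Cfsg.Agent.Helper27.weight_mem w hw

/-- an octad meets a dodecad in 2, 4 or 6 points -/
theorem octad_inter_dodecad {o d : Finset GolayPt} (ho : o ∈ octads) (hd : d ∈ dodecads) :
    (o ∩ d).card = 2 ∨ (o ∩ d).card = 4 ∨ (o ∩ d).card = 6 := by
  have h1 := card_mem_supports (golay_symmDiff ho.1 hd.1)
  have h2 := Cfsg.Agent.Helper27.card_symmDiff_add o d
  have h3 : (o ∩ d).card ≤ 8 := by
    have := Finset.card_le_card (Finset.inter_subset_left (s₁ := o) (s₂ := d))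
    rw [ho.2] at this
    exact this
  rw [ho.2, hd.2] at h2
  omega

/-- the numbers of octads meeting a dodecad in 6, 2, 4 points -/
theorem meetCount_octads_dodecad {d : Finset GolayPt} (hd : d ∈ dodecads) :
    meetCount octads d 6 = 132 ∧ meetCount octads d 2 = 132 ∧ meetCount octads d 4 = 495 := by
  have hS := Cfsg.Agent.Helper27.octads_steiner
  have hz : ∀ j, j ≠ 2 → j ≠ 4 → j ≠ 6 → meetCount octads d j = 0 := by
    intro j h2 h4 h6
    rw [meetCount_eq_zero_iff]
    intro c hc hj
    rcases octad_inter_dodecad hc hd with h | h | h <;> omega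
  have e0 := inter_equation_gen hS d 0 (by norm_num)
  have e1 := inter_equation_gen hS d 1 (by norm_num)
  have e2 := inter_equation_gen hS d 2 (by norm_num)
  rw [hd.2, card_golayPt] at e0 e1 e2
  simp only [Finset.sum_range_succ, Finset.sum_range_zero] at e0 e1 e2
  rw [hz 0 (by norm_num) (by norm_num) (by norm_num), hz 1 (by norm_num) (by norm_num) (by norm_num),
    hz 3 (by norm_num) (by norm_num) (by norm_num), hz 5 (by norm_num) (by norm_num) (by norm_num),
    hz 7 (by norm_num) (by norm_num) (by norm_num), hz 8 (by norm_num) (by norm_num) (by norm_num),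
    hz 9 (by norm_num) (by norm_num) (by norm_num), hz 10 (by norm_num) (by norm_num) (by norm_num),
    hz 11 (by norm_num) (by norm_num) (by norm_num), hz 12 (by norm_num) (by norm_num) (by norm_num)]
    at e0 e1 e2
  norm_num [Nat.choose] at e0 e1 e2
  omega

end Cfsg.Agent.Helper8
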