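import Mathlib

/-!
Counting integer vectors with prescribed entry sets, prescribed sum of squares and prescribed
sum modulo `m`, by a computable dynamic programme over the coordinates.
-/

set_option autoImplicit false

namespace Cfsg.Agent.Helper8

open Finset

section DP

variable {ι : Type*} [Fintype ι] [DecidableEq ι]

/-- vectors vanishing off `s`, with entries in `A i` on `s`, with sum of squares `k` and
sum congruent to `r` modulo `m` -/
def solF (A : ι → Finset ℤ) (m : ℤ) (s : Finset ι) (k r : ℤ) : Finset (ι → ℤ) :=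
  (Fintype.piFinset fun i => if i ∈ s then A i else {0}).filter fun y =>
    ∑ i ∈ s, y i ^ 2 = k ∧ m ∣ ∑ i ∈ s, y i - r

theorem mem_solF (A : ι → Finset ℤ) (m : ℤ) (s : Finset ι) (k r : ℤ) (y : ι → ℤ) :
    y ∈ solF A m s k r ↔ (∀ i, y i ∈ if i ∈ s then A i else {0}) ∧
      ∑ i ∈ s, y i ^ 2 = k ∧ m ∣ ∑ i ∈ s, y i - r := by
  unfold solF
  rw [Finset.mem_filter, Fintype.mem_piFinset]

theorem sum_update_of_notMem {s : Finset ι} {a : ι} (ha : a ∉ s) (y : ι → ℤ) (v : ℤ)
    (f : ℤ → ℤ) : ∑ i ∈ s, f (Function.update y a v i) = ∑ i ∈ s, f (y i) := by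
  refine Finset.sum_congr rfl fun i hi => ?_
  rw [Function.update_of_ne]
  rintro rfl
  exact ha hi

theorem solF_insert (A : ι → Finset ℤ) (m : ℤ) {s : Finset ι} {a : ι} (ha : a ∉ s) (k r : ℤ) :
    solF A m (insert a s) k r = (A a).biUnion fun v =>
      (solF A m s (k - v ^ 2) (r - v)).image fun y => Function.update y a v := by
  ext y
  rw [Finset.mem_biUnion, mem_solF]
  constructor
  · rintro ⟨h1, h2, h3⟩
    rw [Finset.sum_insert ha] at h2 h3
    have hya : y a ∈ A a := by
      have := h1 a
      rwa [if_pos (Finset.mem_insert_self a s)] at this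
    refine ⟨y a, hya, ?_⟩
    rw [Finset.mem_image]
    refine ⟨Function.update y a 0, ?_, ?_⟩
    · rw [mem_solF]
      refine ⟨fun i => ?_, ?_, ?_⟩
      · by_cases hia : i = a
        · subst hia
          rw [Function.update_self, if_neg ha]
          exact Finset.mem_singleton_self 0
        · rw [Function.update_of_ne hia]
          have := h1 i
          by_cases his : i ∈ s
          · rw [if_pos (Finset.mem_insert_of_mem his)] at this
            rwa [if_pos his]
          · rw [if_neg (by rw [Finset.mem_insert]; tauto)] at this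
            rwa [if_neg his]
      · rw [sum_update_of_notMem ha y 0 (fun t => t ^ 2)]
        linarith
      · rw [sum_update_of_notMem ha y 0 (fun t => t)]
        have : ∑ i ∈ s, y i - (r - y a) = y a + ∑ i ∈ s, y i - r := by ring
        rw [this]
        exact h3
    · simp
  · rintro ⟨v, hv, hy⟩
    rw [Finset.mem_image] at hy
    obtain ⟨y', hy', rfl⟩ := hy
    rw [mem_solF] at hy'
    obtain ⟨h1, h2, h3⟩ := hy'
    have hy'a : y' a = 0 := by
      have := h1 a
      rw [if_neg ha] at this
      exact Finset.mem_singleton.mp this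
    refine ⟨fun i => ?_, ?_, ?_⟩
    · by_cases hia : i = a
      · subst hia
        rw [Function.update_self, if_pos (Finset.mem_insert_self i s)]
        exact hv
      · rw [Function.update_of_ne hia]
        have := h1 i
        by_cases his : i ∈ s
        · rw [if_pos his] at this
          rwa [if_pos (Finset.mem_insert_of_mem his)]
        · rw [if_neg his] at this
          rwa [if_neg (by rw [Finset.mem_insert]; tauto)]
    · rw [Finset.sum_insert ha, Function.update_self,
        sum_update_of_notMem ha y' v (fun t => t ^ 2), h2]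
      ring
    · rw [Finset.sum_insert ha, Function.update_self,
        sum_update_of_notMem ha y' v (fun t => t)]
      have : v + ∑ i ∈ s, y' i - r = ∑ i ∈ s, y' i - (r - v) := by ring
      rw [this]
      exact h3

theorem card_solF_insert (A : ι → Finset ℤ) (m : ℤ) {s : Finset ι} {a : ι} (ha : a ∉ s)
    (k r : ℤ) :
    (solF A m (insert a s) k r).card = ∑ v ∈ A a, (solF A m s (k - v ^ 2) (r - v)).card := by
  rw [solF_insert A m ha, Finset.card_biUnion]
  · refine Finset.sum_congr rfl fun v _ => ?_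
    apply Finset.card_image_of_injOn
    intro y1 hy1 y2 hy2 h
    have e1 : y1 a = 0 := by
      have := ((mem_solF _ _ _ _ _ _).mp hy1).1 a
      rw [if_neg ha] at this
      exact Finset.mem_singleton.mp this
    have e2 : y2 a = 0 := by
      have := ((mem_solF _ _ _ _ _ _).mp hy2).1 a
      rw [if_neg ha] at this
      exact Finset.mem_singleton.mp this
    funext i
    by_cases hia : i = a
    · rw [hia, e1, e2]
    · have := congrFun h i
      simp only at this
      rwa [Function.update_of_ne hia, Function.update_of_ne hia] at this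
  · intro v _ v' _ hvv'
    rw [Function.onFun, Finset.disjoint_left]
    intro y hy hy'
    rw [Finset.mem_image] at hy hy'
    obtain ⟨y1, _, rfl⟩ := hy
    obtain ⟨y2, _, h2⟩ := hy'
    have := congrFun h2 a
    rw [Function.update_self, Function.update_self] at this
    exact hvv' this.symm

/-- the count for one kind of coordinates -/
def cntB (L : Finset ℤ) (m : ℤ) : ℕ → ℤ → ℤ → ℕ
  | 0, k, r => if k = 0 ∧ m ∣ r then 1 else 0
  | b + 1, k, r => ∑ v ∈ L, cntB L m b (k - v ^ 2) (r - v)

/-- the count for `a` coordinates of the first kind and `b` of the second kind -/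
def cntAB (L1 L2 : Finset ℤ) (m : ℤ) : ℕ → ℕ → ℤ → ℤ → ℕ
  | 0, b, k, r => cntB L2 m b k r
  | a + 1, b, k, r => ∑ v ∈ L1, cntAB L1 L2 m a b (k - v ^ 2) (r - v)

theorem cntAB_succ_right (L1 L2 : Finset ℤ) (m : ℤ) (a b : ℕ) (k r : ℤ) :
    cntAB L1 L2 m a (b + 1) k r = ∑ v ∈ L2, cntAB L1 L2 m a b (k - v ^ 2) (r - v) := by
  induction a generalizing k r with
  | zero => rfl
  | succ a ih =>
    simp only [cntAB]
    rw [Finset.sum_congr rfl fun v _ => ih (k - v ^ 2) (r - v), Finset.sum_comm]
    refine Finset.sum_congr rfl fun v2 _ => Finset.sum_congr rfl fun v1 _ => ?_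
    rw [sub_right_comm k, sub_right_comm r]

theorem card_solF (L1 L2 : Finset ℤ) (m : ℤ) (C s : Finset ι) (k r : ℤ) :
    (solF (fun i => if i ∈ C then L1 else L2) m s k r).card =
      cntAB L1 L2 m (s ∩ C).card (s \ C).card k r := by
  induction s using Finset.induction_on generalizing k r with
  | empty =>
    simp only [Finset.empty_inter, Finset.card_empty, Finset.empty_sdiff, cntAB, cntB]
    unfold solF
    simp only [Finset.notMem_empty, if_false, Finset.sum_empty, zero_sub, dvd_neg]
    rw [Fintype.piFinset_singleton]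
    by_cases h : k = 0 ∧ m ∣ r
    · rw [if_pos h, Finset.filter_true_of_mem, Finset.card_singleton]
      intro _ _
      exact ⟨h.1.symm, h.2⟩
    · rw [if_neg h, Finset.filter_false_of_mem, Finset.card_empty]
      intro _ _ h'
      exact h ⟨h'.1.symm, h'.2⟩
  | insert a s ha ih =>
    rw [card_solF_insert _ _ ha]
    by_cases haC : a ∈ C
    · rw [Finset.insert_inter_of_mem haC, Finset.insert_sdiff_of_mem _ haC,
        Finset.card_insert_of_notMem (fun h => ha (Finset.mem_inter.mp h).1)]
      simp only [cntAB, if_pos haC]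
      exact Finset.sum_congr rfl fun v _ => ih _ _
    · rw [Finset.insert_inter_of_notMem haC, Finset.insert_sdiff_of_notMem _ haC,
        Finset.card_insert_of_notMem (fun h => ha (Finset.mem_sdiff.mp h).1),
        cntAB_succ_right]
      simp only [if_neg haC]
      exact Finset.sum_congr rfl fun v _ => ih _ _

theorem cntB_neg (L : Finset ℤ) (m : ℤ) (b : ℕ) {k : ℤ} (hk : k < 0) (r : ℤ) :
    cntB L m b k r = 0 := by
  induction b generalizing k r with
  | zero =>
    simp only [cntB]
    rw [if_neg]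
    rintro ⟨h, _⟩
    omega
  | succ b ih =>
    simp only [cntB]
    refine Finset.sum_eq_zero fun v _ => ih ?_ _
    nlinarith [sq_nonneg v]

theorem cntAB_neg (L1 L2 : Finset ℤ) (m : ℤ) (a b : ℕ) {k : ℤ} (hk : k < 0) (r : ℤ) :
    cntAB L1 L2 m a b k r = 0 := by
  induction a generalizing k r with
  | zero => exact cntB_neg L2 m b hk r
  | succ a ih =>
    simp only [cntAB]
    refine Finset.sum_eq_zero fun v _ => ih ?_ _
    nlinarith [sq_nonneg v]

theorem cntB_emod (L : Finset ℤ) (m : ℤ) (b : ℕ) (k r : ℤ) :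
    cntB L m b k (r % m) = cntB L m b k r := by
  induction b generalizing k r with
  | zero =>
    simp only [cntB]
    have h : m ∣ r % m ↔ m ∣ r := by
      rw [Int.dvd_iff_emod_eq_zero, Int.emod_emod_of_dvd r (dvd_refl m),
        ← Int.dvd_iff_emod_eq_zero]
    simp only [h]
  | succ b ih =>
    simp only [cntB]
    refine Finset.sum_congr rfl fun v _ => ?_
    rw [← ih (k - v ^ 2) (r % m - v), ← ih (k - v ^ 2) (r - v)]
    congr 1
    rw [Int.sub_emod (r % m), Int.emod_emod_of_dvd r (dvd_refl m), ← Int.sub_emod]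

theorem cntAB_emod (L1 L2 : Finset ℤ) (m : ℤ) (a b : ℕ) (k r : ℤ) :
    cntAB L1 L2 m a b k (r % m) = cntAB L1 L2 m a b k r := by
  induction a generalizing k r with
  | zero => exact cntB_emod L2 m b k r
  | succ a ih =>
    simp only [cntAB]
    refine Finset.sum_congr rfl fun v _ => ?_
    rw [← ih (k - v ^ 2) (r % m - v), ← ih (k - v ^ 2) (r - v)]
    congr 1
    rw [Int.sub_emod (r % m), Int.emod_emod_of_dvd r (dvd_refl m), ← Int.sub_emod]

end DP

section Table

/-- one step of the dynamic programme on tables indexed by `k < K`, `r < m` -/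
def tblStep (L : List ℤ) (m K : ℕ) (p : List (List ℕ)) : List (List ℕ) :=
  (List.range K).map fun (k : ℕ) => (List.range m).map fun (r : ℕ) =>
    (L.map fun (v : ℤ) => if v.natAbs ^ 2 ≤ k then
      (p.getD (k - v.natAbs ^ 2) []).getD (((r : ℤ) - v) % (m : ℤ)).toNat 0 else 0).sum

def tbl0 (m K : ℕ) : List (List ℕ) :=
  (List.range K).map fun k => (List.range m).map fun r => if k = 0 ∧ r = 0 then 1 else 0

def tbl (L1 L2 : List ℤ) (m K a b : ℕ) : List (List ℕ) :=
  (tblStep L1 m K)^[a] ((tblStep L2 m K)^[b] (tbl0 m K))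

def look (t : List (List ℕ)) (k r : ℕ) : ℕ := (t.getD k []).getD r 0

/-- the table `t` stores the function `f` -/
def Rep (m K : ℕ) (t : List (List ℕ)) (f : ℤ → ℤ → ℕ) : Prop :=
  ∀ k < K, ∀ r < m, look t k r = f k r

theorem look_map_map (K m : ℕ) (g : ℕ → ℕ → ℕ) {k r : ℕ} (hk : k < K) (hr : r < m) :
    look ((List.range K).map fun k => (List.range m).map fun r => g k r) k r = g k r := by
  simp only [look, List.getD_eq_getElem?_getD, List.getElem?_map, List.getElem?_range hk,
    List.getElem?_range hr, Option.map_some, Option.getD_some]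

theorem rep_tblStep {m K : ℕ} (hm : 0 < m) (L : List ℤ) (hL : L.Nodup) {p : List (List ℕ)}
    {f : ℤ → ℤ → ℕ} (hp : Rep m K p f) (hneg : ∀ k < 0, ∀ r, f k r = 0)
    (hmod : ∀ k r, f k (r % m) = f k r) :
    Rep m K (tblStep L m K p) (fun k r => ∑ v ∈ L.toFinset, f (k - v ^ 2) (r - v)) := by
  intro k hk r hr
  unfold tblStep
  rw [look_map_map K m _ hk hr]
  show _ = ∑ v ∈ L.toFinset, f ((k : ℤ) - v ^ 2) ((r : ℤ) - v)
  rw [List.sum_toFinset _ hL]
  congr 1
  refine List.map_congr_left fun v _ => ?_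
  have hsq : ((v.natAbs ^ 2 : ℕ) : ℤ) = v ^ 2 := by
    rw [Nat.cast_pow, Int.natCast_natAbs, sq_abs]
  by_cases h : v.natAbs ^ 2 ≤ k
  · rw [if_pos h]
    have hm' : (m : ℤ) ≠ 0 := by omega
    have h0 : 0 ≤ ((r : ℤ) - v) % (m : ℤ) := Int.emod_nonneg _ hm'
    have h1 : ((r : ℤ) - v) % (m : ℤ) < m := Int.emod_lt_of_pos _ (by omega)
    have hr' : (((r : ℤ) - v) % (m : ℤ)).toNat < m := by omega
    have hk' : k - v.natAbs ^ 2 < K := by omega
    have := hp _ hk' _ hr'
    unfold look at this
    rw [this, Nat.cast_sub h, hsq, Int.toNat_of_nonneg h0, hmod]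
  · rw [if_neg h]
    symm
    apply hneg
    have : (k : ℤ) < ((v.natAbs ^ 2 : ℕ) : ℤ) := by exact_mod_cast not_le.mp h
    rw [hsq] at this
    linarith

theorem rep_tbl0 {m K : ℕ} (L : Finset ℤ) : Rep m K (tbl0 m K) (cntB L m 0) := by
  intro k hk r hr
  unfold tbl0
  rw [look_map_map K m _ hk hr]
  simp only [cntB]
  have h1 : (k = 0 ∧ r = 0) ↔ ((k : ℤ) = 0 ∧ (m : ℤ) ∣ (r : ℤ)) := by
    constructor
    · rintro ⟨rfl, rfl⟩
      simp
    · rintro ⟨h, h'⟩
      refine ⟨by exact_mod_cast h, ?_⟩
      rw [Int.natCast_dvd_natCast] at h'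
      exact Nat.eq_zero_of_dvd_of_lt h' hr
  simp only [h1]

theorem rep_tblB {m K : ℕ} (hm : 0 < m) (L : List ℤ) (hL : L.Nodup) (b : ℕ) :
    Rep m K ((tblStep L m K)^[b] (tbl0 m K)) (cntB L.toFinset m b) := by
  induction b with
  | zero => exact rep_tbl0 _
  | succ b ih =>
    rw [Function.iterate_succ_apply']
    exact rep_tblStep hm L hL ih (fun k hk r => cntB_neg _ _ _ hk r)
      (fun k r => cntB_emod _ _ _ k r)

theorem rep_tbl {m K : ℕ} (hm : 0 < m) (L1 L2 : List ℤ) (h1 : L1.Nodup) (h2 : L2.Nodup)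
    (a b : ℕ) : Rep m K (tbl L1 L2 m K a b) (cntAB L1.toFinset L2.toFinset m a b) := by
  unfold tbl
  induction a with
  | zero => exact rep_tblB hm L2 h2 b
  | succ a ih =>
    rw [Function.iterate_succ_apply']
    exact rep_tblStep hm L1 h1 ih (fun k hk r => cntAB_neg _ _ _ _ _ hk r)
      (fun k r => cntAB_emod _ _ _ _ _ k r)

theorem cntAB_eq_look {m K : ℕ} (hm : 0 < m) (L1 L2 : List ℤ) (h1 : L1.Nodup) (h2 : L2.Nodup)
    (a b : ℕ) {k r : ℕ} (hk : k < K) (hr : r < m) :
    cntAB L1.toFinset L2.toFinset m a b k r = look (tbl L1 L2 m K a b) k r :=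
  (rep_tbl hm L1 L2 h1 h2 a b k hk r hr).symm

end Table

end Cfsg.Agent.Helper8
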