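import Mathlib
import Cfsg.Prelude.Def_Sporadic_a
import Cfsg.Agent.S0390
import Cfsg.Agent.Helper8.SqCount
import Cfsg.Agent.Helper8.Dodecad
import Cfsg.Agent.Helper27.Octads
import Cfsg.Agent.Helper26.GolayAbs

/-!
Counting the vectors of given sum of squares in the rank-24 lattice built from the length-24 code.
-/

set_option autoImplicit false

namespace Cfsg.Agent.Helper8

open Cfsg Cfsg.Agent.Helper26

theorem mem_leechLattice_iff (x : GolayPt → ℤ) : x ∈ leechLattice ↔ x ∈ leechSet := by
  obtain ⟨L, hL⟩ := Cfsg.Agent.S0390.result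
  unfold leechLattice
  rw [← hL, AddSubgroup.closure_eq]
  rfl

/-- entries of even-type vectors on the code word -/
def Le1 : List ℤ := [2, -2, 6, -6]
/-- entries of even-type vectors off the code word -/
def Le2 : List ℤ := [0, 4, -4, 8, -8]
/-- entries of odd-type vectors on the code word -/
def Lo1 : List ℤ := [1, -3, 5, -7]
/-- entries of odd-type vectors off the code word -/
def Lo2 : List ℤ := [-1, 3, -5, 7]

theorem Le1_nodup : Le1.Nodup := by decide
theorem Le2_nodup : Le2.Nodup := by decide
theorem Lo1_nodup : Lo1.Nodup := by decide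
theorem Lo2_nodup : Lo2.Nodup := by decide

theorem mem_Le1 (v : ℤ) : v ∈ Le1.toFinset ↔ v = 2 ∨ v = -2 ∨ v = 6 ∨ v = -6 := by
  simp [Le1]
theorem mem_Le2 (v : ℤ) : v ∈ Le2.toFinset ↔ v = 0 ∨ v = 4 ∨ v = -4 ∨ v = 8 ∨ v = -8 := by
  simp [Le2]
theorem mem_Lo1 (v : ℤ) : v ∈ Lo1.toFinset ↔ v = 1 ∨ v = -3 ∨ v = 5 ∨ v = -7 := by
  simp [Lo1]
theorem mem_Lo2 (v : ℤ) : v ∈ Lo2.toFinset ↔ v = -1 ∨ v = 3 ∨ v = -5 ∨ v = 7 := by
  simp [Lo2]

/-- allowed entries of an even-type vector with code word `C` -/
def Ae (C : Finset GolayPt) (i : GolayPt) : Finset ℤ := if i ∈ C then Le1.toFinset else Le2.toFinset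
/-- allowed entries of an odd-type vector with code word `C` -/
def Ao (C : Finset GolayPt) (i : GolayPt) : Finset ℤ := if i ∈ C then Lo1.toFinset else Lo2.toFinset

open Classical in
/-- the supports of the code words, as a finset -/
noncomputable def codeF : Finset (Finset GolayPt) :=
  Finset.univ.filter (· ∈ supports (golayCode : Set (GolayPt → ZMod 2)))

theorem mem_codeF (C : Finset GolayPt) :
    C ∈ codeF ↔ C ∈ supports (golayCode : Set (GolayPt → ZMod 2)) := by
  unfold codeF
  simp

/-- even-type vectors over `C` -/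
def evenF (N : ℤ) (C : Finset GolayPt) : Finset (GolayPt → ℤ) := solF (Ae C) 8 Finset.univ N 0
/-- odd-type vectors over `C` -/
def oddF (N : ℤ) (C : Finset GolayPt) : Finset (GolayPt → ℤ) := solF (Ao C) 8 Finset.univ N 4

theorem mem_evenF (N : ℤ) (C : Finset GolayPt) (x : GolayPt → ℤ) :
    x ∈ evenF N C ↔ (∀ i, x i ∈ Ae C i) ∧ ∑ i, x i ^ 2 = N ∧ (8 : ℤ) ∣ ∑ i, x i - 0 := by
  unfold evenF
  rw [mem_solF]
  simp only [Finset.mem_univ, if_true]

theorem mem_oddF (N : ℤ) (C : Finset GolayPt) (x : GolayPt → ℤ) :
    x ∈ oddF N C ↔ (∀ i, x i ∈ Ao C i) ∧ ∑ i, x i ^ 2 = N ∧ (8 : ℤ) ∣ ∑ i, x i - 4 := by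
  unfold oddF
  rw [mem_solF]
  simp only [Finset.mem_univ, if_true]

theorem filter_modEq (x : GolayPt → ℤ) (k : ℤ) :
    (Finset.univ.filter fun i => x i ≡ k [ZMOD 4]) = Finset.univ.filter fun i => x i % 4 = k % 4 := by
  ext i
  rw [Cfsg.Agent.S0390.mem_cls, Finset.mem_filter]
  simp only [Finset.mem_univ, true_and]

theorem even_of_mem_Ae {C : Finset GolayPt} {i : GolayPt} {v : ℤ} (h : v ∈ Ae C i) :
    (i ∈ C → v % 4 = 2) ∧ (i ∉ C → v % 4 = 0) ∧ -8 ≤ v ∧ v ≤ 8 := by
  unfold Ae at h
  by_cases hi : i ∈ C
  · rw [if_pos hi, mem_Le1] at h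
    refine ⟨fun _ => by omega, fun h' => absurd hi h', by omega, by omega⟩
  · rw [if_neg hi, mem_Le2] at h
    refine ⟨fun h' => absurd h' hi, fun _ => by omega, by omega, by omega⟩

theorem odd_of_mem_Ao {C : Finset GolayPt} {i : GolayPt} {v : ℤ} (h : v ∈ Ao C i) :
    (i ∈ C → v % 4 = 1) ∧ (i ∉ C → v % 4 = 3) ∧ -8 ≤ v ∧ v ≤ 8 := by
  unfold Ao at h
  by_cases hi : i ∈ C
  · rw [if_pos hi, mem_Lo1] at h
    refine ⟨fun _ => by omega, fun h' => absurd hi h', by omega, by omega⟩
  · rw [if_neg hi, mem_Lo2] at h
    refine ⟨fun h' => absurd h' hi, fun _ => by omega, by omega, by omega⟩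

theorem evenF_subset_leech {N : ℤ} {C : Finset GolayPt}
    (hC : C ∈ supports (golayCode : Set (GolayPt → ZMod 2))) {x : GolayPt → ℤ}
    (hx : x ∈ evenF N C) : x ∈ leechSet ∧ sqNorm x = N := by
  rw [mem_evenF] at hx
  obtain ⟨h1, h2, h3⟩ := hx
  refine ⟨⟨0, fun i => ?_, ?_, fun k => ?_⟩, h2⟩
  · have := even_of_mem_Ae (h1 i)
    by_cases hi : i ∈ C
    · have := this.1 hi
      simp only [Int.ModEq]; omega
    · have := this.2.1 hi
      simp only [Int.ModEq]; omega
  · simp only [Int.ModEq]
    omega
  · rw [filter_modEq]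
    have hk : k % 4 = 0 ∨ k % 4 = 1 ∨ k % 4 = 2 ∨ k % 4 = 3 := by omega
    rcases hk with hk | hk | hk | hk
    · have : (Finset.univ.filter fun i => x i % 4 = k % 4) = Cᶜ := by
        ext i
        have := even_of_mem_Ae (h1 i)
        simp only [Finset.mem_filter, Finset.mem_univ, true_and, Finset.mem_compl]
        by_cases hi : i ∈ C
        · have := this.1 hi
          constructor
          · intro; omega
          · intro h; exact absurd hi h
        · have := this.2.1 hi
          constructor
          · intro _; exact hi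
          · intro _; omega
      rw [this]
      exact golay_compl hC
    · have : (Finset.univ.filter fun i => x i % 4 = k % 4) = ∅ := by
        ext i
        have := even_of_mem_Ae (h1 i)
        simp only [Finset.mem_filter, Finset.mem_univ, true_and, Finset.notMem_empty, iff_false]
        by_cases hi : i ∈ C
        · have := this.1 hi; omega
        · have := this.2.1 hi; omega
      rw [this]
      exact Cfsg.Agent.S0390.empty_mem_supports
    · have : (Finset.univ.filter fun i => x i % 4 = k % 4) = C := by
        ext i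
        have := even_of_mem_Ae (h1 i)
        simp only [Finset.mem_filter, Finset.mem_univ, true_and]
        by_cases hi : i ∈ C
        · have := this.1 hi
          constructor
          · intro _; exact hi
          · intro _; omega
        · have := this.2.1 hi
          constructor
          · intro; omega
          · intro h; exact absurd h hi
      rw [this]
      exact hC
    · have : (Finset.univ.filter fun i => x i % 4 = k % 4) = ∅ := by
        ext i
        have := even_of_mem_Ae (h1 i)
        simp only [Finset.mem_filter, Finset.mem_univ, true_and, Finset.notMem_empty, iff_false]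
        by_cases hi : i ∈ C
        · have := this.1 hi; omega
        · have := this.2.1 hi; omega
      rw [this]
      exact Cfsg.Agent.S0390.empty_mem_supports

theorem oddF_subset_leech {N : ℤ} {C : Finset GolayPt}
    (hC : C ∈ supports (golayCode : Set (GolayPt → ZMod 2))) {x : GolayPt → ℤ}
    (hx : x ∈ oddF N C) : x ∈ leechSet ∧ sqNorm x = N := by
  rw [mem_oddF] at hx
  obtain ⟨h1, h2, h3⟩ := hx
  refine ⟨⟨1, fun i => ?_, ?_, fun k => ?_⟩, h2⟩
  · have := odd_of_mem_Ao (h1 i)
    by_cases hi : i ∈ C
    · have := this.1 hi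
      simp only [Int.ModEq]; omega
    · have := this.2.1 hi
      simp only [Int.ModEq]; omega
  · simp only [Int.ModEq]
    omega
  · rw [filter_modEq]
    have hk : k % 4 = 0 ∨ k % 4 = 1 ∨ k % 4 = 2 ∨ k % 4 = 3 := by omega
    rcases hk with hk | hk | hk | hk
    · have : (Finset.univ.filter fun i => x i % 4 = k % 4) = ∅ := by
        ext i
        have := odd_of_mem_Ao (h1 i)
        simp only [Finset.mem_filter, Finset.mem_univ, true_and, Finset.notMem_empty, iff_false]
        by_cases hi : i ∈ C
        · have := this.1 hi; omega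
        · have := this.2.1 hi; omega
      rw [this]
      exact Cfsg.Agent.S0390.empty_mem_supports
    · have : (Finset.univ.filter fun i => x i % 4 = k % 4) = C := by
        ext i
        have := odd_of_mem_Ao (h1 i)
        simp only [Finset.mem_filter, Finset.mem_univ, true_and]
        by_cases hi : i ∈ C
        · have := this.1 hi
          constructor
          · intro _; exact hi
          · intro _; omega
        · have := this.2.1 hi
          constructor
          · intro; omega
          · intro h; exact absurd h hi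
      rw [this]
      exact hC
    · have : (Finset.univ.filter fun i => x i % 4 = k % 4) = ∅ := by
        ext i
        have := odd_of_mem_Ao (h1 i)
        simp only [Finset.mem_filter, Finset.mem_univ, true_and, Finset.notMem_empty, iff_false]
        by_cases hi : i ∈ C
        · have := this.1 hi; omega
        · have := this.2.1 hi; omega
      rw [this]
      exact Cfsg.Agent.S0390.empty_mem_supports
    · have : (Finset.univ.filter fun i => x i % 4 = k % 4) = Cᶜ := by
        ext i
        have := odd_of_mem_Ao (h1 i)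
        simp only [Finset.mem_filter, Finset.mem_univ, true_and, Finset.mem_compl]
        by_cases hi : i ∈ C
        · have := this.1 hi
          constructor
          · intro; omega
          · intro h; exact absurd hi h
        · have := this.2.1 hi
          constructor
          · intro _; exact hi
          · intro _; omega
      rw [this]
      exact golay_compl hC

theorem entry_bound {x : GolayPt → ℤ} {N : ℤ} (hN : N ≤ 80) (h : sqNorm x = N) (i : GolayPt) :
    -8 ≤ x i ∧ x i ≤ 8 := by
  have h1 : x i ^ 2 ≤ ∑ j, x j ^ 2 :=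
    Finset.single_le_sum (f := fun j => x j ^ 2) (fun j _ => sq_nonneg (x j)) (Finset.mem_univ i)
  unfold sqNorm at h
  rw [h] at h1
  constructor <;> nlinarith

/-- every lattice vector of small norm is of even or of odd type over some code word -/
theorem leech_subset {N : ℤ} (hN : N ≤ 80) {x : GolayPt → ℤ} (hx : x ∈ leechSet)
    (hn : sqNorm x = N) :
    ∃ C ∈ supports (golayCode : Set (GolayPt → ZMod 2)), x ∈ evenF N C ∨ x ∈ oddF N C := by
  obtain ⟨m, h1, h2, h3⟩ := hx
  have hb := entry_bound hN hn
  unfold sqNorm at hn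
  simp only [Int.ModEq] at h1 h2
  have hm : m % 2 = 0 ∨ m % 2 = 1 := by omega
  rcases hm with hm | hm
  · refine ⟨_, h3 2, Or.inl ?_⟩
    rw [mem_evenF]
    refine ⟨fun i => ?_, hn, ?_⟩
    · have := h1 i
      have := hb i
      unfold Ae
      by_cases hi : i ∈ (Finset.univ.filter fun i => x i ≡ 2 [ZMOD 4])
      · rw [if_pos hi, mem_Le1]
        rw [Cfsg.Agent.S0390.mem_cls] at hi
        omega
      · rw [if_neg hi, mem_Le2]
        rw [Cfsg.Agent.S0390.mem_cls] at hi
        omega
    · omega
  · refine ⟨_, h3 1, Or.inr ?_⟩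
    rw [mem_oddF]
    refine ⟨fun i => ?_, hn, ?_⟩
    · have := h1 i
      have := hb i
      unfold Ao
      by_cases hi : i ∈ (Finset.univ.filter fun i => x i ≡ 1 [ZMOD 4])
      · rw [if_pos hi, mem_Lo1]
        rw [Cfsg.Agent.S0390.mem_cls] at hi
        omega
      · rw [if_neg hi, mem_Lo2]
        rw [Cfsg.Agent.S0390.mem_cls] at hi
        omega
    · omega

/-- the lattice vectors of sum of squares `N`, as a finset -/
noncomputable def leechF (N : ℤ) : Finset (GolayPt → ℤ) :=
  codeF.biUnion fun C => evenF N C ∪ oddF N C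

theorem coe_leechF {N : ℤ} (hN : N ≤ 80) :
    (leechF N : Set (GolayPt → ℤ)) = {x | x ∈ leechLattice ∧ sqNorm x = N} := by
  ext x
  simp only [leechF, Finset.coe_biUnion, Set.mem_iUnion, Finset.mem_coe, Finset.mem_union,
    Set.mem_ofPred_eq, mem_leechLattice_iff, mem_codeF, exists_prop]
  constructor
  · rintro ⟨C, hC, h | h⟩
    · exact evenF_subset_leech hC h
    · exact oddF_subset_leech hC h
  · rintro ⟨hx, hn⟩
    exact leech_subset hN hx hn

theorem code_of_even {N : ℤ} {C : Finset GolayPt} {x : GolayPt → ℤ} (h : x ∈ evenF N C) :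
    C = Finset.univ.filter fun i => x i % 4 = 2 := by
  ext i
  have := even_of_mem_Ae (((mem_evenF _ _ _).mp h).1 i)
  simp only [Finset.mem_filter, Finset.mem_univ, true_and]
  by_cases hi : i ∈ C
  · have := this.1 hi
    tauto
  · have := this.2.1 hi
    constructor
    · intro h'; exact absurd h' hi
    · intro; omega

theorem code_of_odd {N : ℤ} {C : Finset GolayPt} {x : GolayPt → ℤ} (h : x ∈ oddF N C) :
    C = Finset.univ.filter fun i => x i % 4 = 1 := by
  ext i
  have := odd_of_mem_Ao (((mem_oddF _ _ _).mp h).1 i)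
  simp only [Finset.mem_filter, Finset.mem_univ, true_and]
  by_cases hi : i ∈ C
  · have := this.1 hi
    tauto
  · have := this.2.1 hi
    constructor
    · intro h'; exact absurd h' hi
    · intro; omega

theorem disjoint_even_odd (N : ℤ) (C C' : Finset GolayPt) : Disjoint (evenF N C) (oddF N C') := by
  rw [Finset.disjoint_left]
  intro x h1 h2
  have a := even_of_mem_Ae (((mem_evenF _ _ _).mp h1).1 none)
  have b := odd_of_mem_Ao (((mem_oddF _ _ _).mp h2).1 none)
  by_cases hi : none ∈ C <;> by_cases hi' : none ∈ C'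
  · have := a.1 hi; have := b.1 hi'; omega
  · have := a.1 hi; have := b.2.1 hi'; omega
  · have := a.2.1 hi; have := b.1 hi'; omega
  · have := a.2.1 hi; have := b.2.1 hi'; omega

theorem card_leechF (N : ℤ) :
    (leechF N).card = ∑ C ∈ codeF, ((evenF N C).card + (oddF N C).card) := by
  unfold leechF
  rw [Finset.card_biUnion]
  · refine Finset.sum_congr rfl fun C _ => ?_
    exact Finset.card_union_of_disjoint (disjoint_even_odd N C C)
  · intro C _ C' _ hCC'
    rw [Function.onFun, Finset.disjoint_union_left, Finset.disjoint_union_right,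
      Finset.disjoint_union_right]
    refine ⟨⟨?_, disjoint_even_odd N C C'⟩, ⟨(disjoint_even_odd N C' C).symm, ?_⟩⟩
    · rw [Finset.disjoint_left]
      intro x h1 h2
      exact hCC' ((code_of_even h1).trans (code_of_even h2).symm)
    · rw [Finset.disjoint_left]
      intro x h1 h2
      exact hCC' ((code_of_odd h1).trans (code_of_odd h2).symm)

theorem card_evenF (n : ℕ) (hn : n < 65) (C : Finset GolayPt) :
    (evenF n C).card = look (tbl Le1 Le2 8 65 C.card (24 - C.card)) n 0 := by
  have h := card_solF Le1.toFinset Le2.toFinset 8 C Finset.univ (n : ℤ) 0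
  rw [Finset.univ_inter, ← Finset.compl_eq_univ_sdiff, Finset.card_compl, card_golayPt] at h
  have h2 := cntAB_eq_look (m := 8) (K := 65) (by norm_num) Le1 Le2 Le1_nodup Le2_nodup
    C.card (24 - C.card) (k := n) (r := 0) hn (by norm_num)
  rw [← h2]
  exact h

theorem card_oddF (n : ℕ) (hn : n < 65) (C : Finset GolayPt) :
    (oddF n C).card = look (tbl Lo1 Lo2 8 65 C.card (24 - C.card)) n 4 := by
  have h := card_solF Lo1.toFinset Lo2.toFinset 8 C Finset.univ (n : ℤ) 4
  rw [Finset.univ_inter, ← Finset.compl_eq_univ_sdiff, Finset.card_compl, card_golayPt] at h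
  have h2 := cntAB_eq_look (m := 8) (K := 65) (by norm_num) Lo1 Lo2 Lo1_nodup Lo2_nodup
    C.card (24 - C.card) (k := n) (r := 4) hn (by norm_num)
  rw [← h2]
  exact h

/-! ### the weight enumerator -/

theorem card_codeF_eight : (codeF.filter fun C => C.card = 8).card = 759 := by
  rw [← Cfsg.Agent.Helper27.octads_ncard, ← Set.ncard_coe_finset]
  congr 1
  ext C
  simp only [Finset.coe_filter, Set.mem_ofPred_eq, mem_codeF]
  rfl

theorem card_codeF_twelve : (codeF.filter fun C => C.card = 12).card = 2576 := by
  rw [← Cfsg.Agent.Helper27.dodecads_ncard, ← Set.ncard_coe_finset]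
  congr 1
  ext C
  simp only [Finset.coe_filter, Set.mem_ofPred_eq, mem_codeF]
  rfl

theorem card_codeF_sixteen : (codeF.filter fun C => C.card = 16).card = 759 := by
  rw [← card_codeF_eight,
    ← Finset.card_image_of_injective (codeF.filter fun C => C.card = 8)
      (compl_injective (α := Finset GolayPt))]
  congr 1
  ext C
  simp only [Finset.mem_filter, Finset.mem_image, mem_codeF]
  constructor
  · rintro ⟨h1, h2⟩
    refine ⟨Cᶜ, ⟨golay_compl h1, ?_⟩, compl_compl C⟩
    rw [Finset.card_compl, card_golayPt, h2]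
  · rintro ⟨O, ⟨h1, h2⟩, rfl⟩
    refine ⟨golay_compl h1, ?_⟩
    rw [Finset.card_compl, card_golayPt, h2]

theorem card_codeF_zero : (codeF.filter fun C => C.card = 0).card = 1 := by
  rw [Finset.card_eq_one]
  refine ⟨∅, ?_⟩
  ext C
  simp only [Finset.mem_filter, mem_codeF, Finset.card_eq_zero, Finset.mem_singleton]
  constructor
  · rintro ⟨_, h⟩; exact h
  · rintro rfl; exact ⟨Cfsg.Agent.S0390.empty_mem_supports, rfl⟩

theorem card_codeF_twentyfour : (codeF.filter fun C => C.card = 24).card = 1 := by
  rw [Finset.card_eq_one]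
  refine ⟨Finset.univ, ?_⟩
  ext C
  simp only [Finset.mem_filter, mem_codeF, Finset.mem_singleton]
  constructor
  · rintro ⟨_, h⟩
    apply Finset.eq_univ_of_card
    rw [h, card_golayPt]
  · rintro rfl
    exact ⟨Cfsg.Agent.S0390.univ_mem_supports, by rw [Finset.card_univ, card_golayPt]⟩

theorem sum_codeF (g : ℕ → ℕ) :
    ∑ C ∈ codeF, g C.card = g 0 + 759 * g 8 + 2576 * g 12 + 759 * g 16 + g 24 := by
  have hmaps : ∀ C ∈ codeF, C.card ∈ ({0, 8, 12, 16, 24} : Finset ℕ) := by
    intro C hC
    have := card_mem_supports ((mem_codeF C).mp hC)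
    simp only [Finset.mem_insert, Finset.mem_singleton]
    exact this
  rw [← Finset.sum_fiberwise_of_maps_to hmaps]
  have hin : ∀ w : ℕ, ∑ C ∈ codeF.filter (fun C => C.card = w), g C.card =
      (codeF.filter fun C => C.card = w).card * g w := by
    intro w
    rw [Finset.sum_congr rfl (g := fun _ => g w), Finset.sum_const, smul_eq_mul]
    intro C hC
    rw [(Finset.mem_filter.mp hC).2]
  simp only [hin]
  rw [Finset.sum_insert (by decide), Finset.sum_insert (by decide), Finset.sum_insert (by decide),
    Finset.sum_insert (by decide), Finset.sum_singleton, card_codeF_zero, card_codeF_eight,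
    card_codeF_twelve, card_codeF_sixteen, card_codeF_twentyfour]
  ring

/-- the number of lattice vectors of sum of squares `n`, by the dynamic programme -/
def leechCount (n : ℕ) : ℕ :=
  let g : ℕ → ℕ := fun w => look (tbl Le1 Le2 8 65 w (24 - w)) n 0 + look (tbl Lo1 Lo2 8 65 w (24 - w)) n 4
  g 0 + 759 * g 8 + 2576 * g 12 + 759 * g 16 + g 24

theorem ncard_leech (n : ℕ) (hn : n < 65) :
    {x : GolayPt → ℤ | x ∈ leechLattice ∧ sqNorm x = n}.ncard = leechCount n := by
  rw [← coe_leechF (N := (n : ℤ)) (by omega), Set.ncard_coe_finset, card_leechF]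
  rw [Finset.sum_congr rfl fun C _ => by rw [card_evenF n hn C, card_oddF n hn C]]
  exact sum_codeF fun w =>
    look (tbl Le1 Le2 8 65 w (24 - w)) n 0 + look (tbl Lo1 Lo2 8 65 w (24 - w)) n 4

end Cfsg.Agent.Helper8
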