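import Mathlib
import Cfsg.Prelude.Def_Sporadic_a

/-!
A family of integer vectors of the same nonzero length on 24 coordinates, any two of which are
equal, opposite or orthogonal, has at most 48 members.
-/

set_option autoImplicit false

namespace Cfsg.Agent.Helper8

open Cfsg

/-- vectors up to sign -/
def sgnSetoid : Setoid (GolayPt → ℤ) where
  r v w := w = v ∨ w = -v
  iseqv := by
    refine ⟨fun v => Or.inl rfl, ?_, ?_⟩
    · rintro v w (h | h)
      · exact Or.inl h.symm
      · right; rw [h, neg_neg]
    · rintro u v w (h1 | h1) (h2 | h2)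
      · left; rw [h2, h1]
      · right; rw [h2, h1]
      · right; rw [h2, h1]
      · left; rw [h2, h1, neg_neg]

/-- a representative of a vector up to sign -/
noncomputable def sgnRep (v : GolayPt → ℤ) : GolayPt → ℤ := (Quotient.mk sgnSetoid v).out

theorem sgnRep_spec (v : GolayPt → ℤ) : v = sgnRep v ∨ v = -sgnRep v :=
  Quotient.mk_out (s := sgnSetoid) v

theorem sgnRep_eq {v w : GolayPt → ℤ} (h : w = v ∨ w = -v) : sgnRep v = sgnRep w := by
  unfold sgnRep
  have : Quotient.mk sgnSetoid v = Quotient.mk sgnSetoid w := Quotient.sound h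
  rw [this]

theorem dotInt_neg_left (v w : GolayPt → ℤ) : dotInt (-v) w = -dotInt v w := by
  unfold dotInt
  rw [← Finset.sum_neg_distrib]
  refine Finset.sum_congr rfl fun i _ => ?_
  simp only [Pi.neg_apply]
  ring

theorem dotInt_neg_right (v w : GolayPt → ℤ) : dotInt v (-w) = -dotInt v w := by
  unfold dotInt
  rw [← Finset.sum_neg_distrib]
  refine Finset.sum_congr rfl fun i _ => ?_
  simp only [Pi.neg_apply]
  ring

theorem sqNorm_neg' (v : GolayPt → ℤ) : sqNorm (-v) = sqNorm v := by
  unfold sqNorm
  refine Finset.sum_congr rfl fun i _ => ?_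
  simp only [Pi.neg_apply]
  ring

open scoped RealInnerProductSpace in
theorem card_le_of_orth (F : Finset (GolayPt → ℤ)) (hn : ∀ v ∈ F, sqNorm v = 64)
    (h : ∀ v ∈ F, ∀ w ∈ F, w = v ∨ w = -v ∨ dotInt v w = 0) : F.card ≤ 48 := by
  classical
  set R := F.image sgnRep with hR
  have h1 : F.card ≤ 2 * R.card := by
    apply Finset.card_le_mul_card_image
    intro a _
    have hsub : (F.filter fun x => sgnRep x = a) ⊆ {a, -a} := by
      intro x hx
      rw [Finset.mem_filter] at hx
      rw [Finset.mem_insert, Finset.mem_singleton, ← hx.2]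
      exact sgnRep_spec x
    exact (Finset.card_le_card hsub).trans Finset.card_le_two
  have hmemR : ∀ a ∈ R, ∃ v ∈ F, sgnRep v = a ∧ (v = a ∨ v = -a) := by
    intro a ha
    rw [hR, Finset.mem_image] at ha
    obtain ⟨v, hv, rfl⟩ := ha
    exact ⟨v, hv, rfl, sgnRep_spec v⟩
  have h2 : R.card ≤ 24 := by
    let e : ↥R → EuclideanSpace ℝ GolayPt := fun a => WithLp.toLp 2 fun i => (((a : GolayPt → ℤ) i : ℤ) : ℝ)
    have hinner : ∀ a b : ↥R, ⟪e a, e b⟫ = ((dotInt (a : GolayPt → ℤ) (b : GolayPt → ℤ) : ℤ) : ℝ) := by
      intro a b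
      simp only [e, EuclideanSpace.inner_toLp_toLp, dotProduct, dotInt, star_trivial]
      push_cast
      refine Finset.sum_congr rfl fun i _ => ?_
      ring
    have hne : ∀ a : ↥R, e a ≠ 0 := by
      intro a h0
      have h3 : ⟪e a, e a⟫ = 0 := by rw [h0, inner_zero_left]
      rw [hinner] at h3
      obtain ⟨v, hv, _, hva⟩ := hmemR a a.2
      have h4 : dotInt (a : GolayPt → ℤ) (a : GolayPt → ℤ) = sqNorm (a : GolayPt → ℤ) := by
        unfold dotInt sqNorm
        refine Finset.sum_congr rfl fun i _ => ?_
        ring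
      have h5 : sqNorm (a : GolayPt → ℤ) = 64 := by
        rcases hva with h' | h'
        · rw [← h']; exact hn v hv
        · have := hn v hv
          rw [h', sqNorm_neg'] at this
          exact this
      rw [h4, h5] at h3
      norm_num at h3
    have horth : Pairwise fun a b : ↥R => ⟪e a, e b⟫ = 0 := by
      intro a b hab
      show ⟪e a, e b⟫ = 0
      rw [hinner]
      obtain ⟨v, hv, hrv, hva⟩ := hmemR a a.2
      obtain ⟨w, hw, hrw, hwb⟩ := hmemR b b.2
      have hvw : dotInt v w = 0 := by
        rcases h v hv w hw with h' | h' | h'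
        · exact absurd (Subtype.ext (hrv.symm.trans ((sgnRep_eq (Or.inl h')).trans hrw))) hab
        · exact absurd (Subtype.ext (hrv.symm.trans ((sgnRep_eq (Or.inr h')).trans hrw))) hab
        · exact h'
      have : dotInt (a : GolayPt → ℤ) (b : GolayPt → ℤ) = 0 := by
        rcases hva with h' | h' <;> rcases hwb with h'' | h''
        · rw [← h', ← h'']; exact hvw
        · rw [h', h'', dotInt_neg_right] at hvw
          linarith
        · rw [h', h'', dotInt_neg_left] at hvw
          linarith
        · rw [h', h'', dotInt_neg_left, dotInt_neg_right] at hvw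
          linarith
      rw [this]
      norm_num
    have hli := linearIndependent_of_ne_zero_of_inner_eq_zero hne horth
    have := hli.fintype_card_le_finrank
    rw [finrank_euclideanSpace, Fintype.card_coe] at this
    have h24 : Fintype.card GolayPt = 24 := by decide
    rw [h24] at this
    exact this
  omega

end Cfsg.Agent.Helper8
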