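import Mathlib
import Cfsg.Prelude.Def_SporadicCombinatorics
import Cfsg.Agent.Helper8.LeechCount
import Cfsg.Agent.Helper8.OrthBound
import Cfsg.Agent.Helper92.LeechIndex
import Cfsg.Agent.Helper92.LeechMod2

/-!
The classes of the rank-24 lattice modulo twice the lattice: every class contains a vector of
sum of squares at most 64, and the vectors of sum of squares 64 in a class number 48.
-/

set_option autoImplicit false

namespace Cfsg.Agent.Helper8

open Cfsg

/-- twice the lattice -/
def twoL : AddSubgroup (GolayPt → ℤ) := leechLattice.map Cfsg.Agent.Helper92.dbl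

theorem dbl_eq (z : GolayPt → ℤ) : Cfsg.Agent.Helper92.dbl z = 2 • z := by
  ext i
  rw [Cfsg.Agent.Helper92.dbl_apply]
  simp

theorem mem_twoL (x : GolayPt → ℤ) : x ∈ twoL ↔ ∃ z ∈ leechLattice, x = 2 • z := by
  unfold twoL
  rw [AddSubgroup.mem_map]
  constructor
  · rintro ⟨z, hz, rfl⟩
    exact ⟨z, hz, dbl_eq z⟩
  · rintro ⟨z, hz, rfl⟩
    exact ⟨z, hz, dbl_eq z⟩

theorem index_twoL : twoL.index = 2 ^ 60 := by
  unfold twoL
  rw [AddSubgroup.index_map_of_injective _ Cfsg.Agent.Helper92.dbl_injective,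
    Cfsg.Agent.Helper92.index_leechLattice, Cfsg.Agent.Helper92.index_range_dbl]
  norm_num

theorem twoL_le : twoL ≤ leechLattice := by
  intro x hx
  rw [mem_twoL] at hx
  obtain ⟨z, hz, rfl⟩ := hx
  rw [two_smul]
  exact leechLattice.add_mem hz hz

instance : twoL.FiniteIndex := ⟨by rw [index_twoL]; norm_num⟩

instance : Finite ((GolayPt → ℤ) ⧸ twoL) := AddSubgroup.finite_quotient_of_finiteIndex

noncomputable instance : DecidableEq ((GolayPt → ℤ) ⧸ twoL) := Classical.decEq _

/-- the class of a vector modulo twice the lattice -/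
def phi : (GolayPt → ℤ) →+ (GolayPt → ℤ) ⧸ twoL := QuotientAddGroup.mk' twoL

theorem phi_eq_iff (v w : GolayPt → ℤ) :
    phi v = phi w ↔ ∃ z ∈ leechLattice, v - w = 2 • z := by
  unfold phi
  rw [QuotientAddGroup.mk'_apply, QuotientAddGroup.mk'_apply, QuotientAddGroup.eq, mem_twoL]
  constructor
  · rintro ⟨z, hz, h⟩
    refine ⟨-z, leechLattice.neg_mem hz, ?_⟩
    rw [smul_neg, ← h]
    abel
  · rintro ⟨z, hz, h⟩
    refine ⟨-z, leechLattice.neg_mem hz, ?_⟩
    rw [smul_neg, ← h]
    abel

/-- the classes of the lattice vectors -/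
def lamBar : AddSubgroup ((GolayPt → ℤ) ⧸ twoL) := leechLattice.map phi

theorem card_lamBar : Nat.card lamBar = 2 ^ 24 := by
  have h1 : lamBar.index = 2 ^ 36 := by
    unfold lamBar phi
    rw [AddSubgroup.index_map_eq _ (QuotientAddGroup.mk'_surjective twoL)
      (by rw [QuotientAddGroup.ker_mk']; exact twoL_le), Cfsg.Agent.Helper92.index_leechLattice]
  have h2 := AddSubgroup.card_mul_index lamBar
  rw [h1, ← AddSubgroup.index_eq_card, index_twoL] at h2
  have : (2 : ℕ) ^ 60 = 2 ^ 24 * 2 ^ 36 := by norm_num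
  rw [this] at h2
  exact Nat.eq_of_mul_eq_mul_right (by norm_num) h2

theorem mem_leechF {N : ℤ} (hN : N ≤ 80) (x : GolayPt → ℤ) :
    x ∈ leechF N ↔ x ∈ leechLattice ∧ sqNorm x = N := by
  rw [← Finset.mem_coe, coe_leechF hN]
  rfl

/-- congruent short vectors are equal, opposite, or orthogonal of sum of squares 64 -/
theorem short_cases {v w : GolayPt → ℤ} (hv : v ∈ leechLattice) (hw : w ∈ leechLattice)
    (hvn : sqNorm v ≤ 64) (hwn : sqNorm w ≤ 64) (h : phi v = phi w) :
    w = v ∨ w = -v ∨ (sqNorm v = 64 ∧ sqNorm w = 64 ∧ dotInt v w = 0) := by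
  rcases Cfsg.Agent.Helper92.short_congruent_of_min_norm
    (fun x hx h0 => Cfsg.Agent.Helper92.thirtytwo_le_sqNorm hx h0) v w hv hw hvn hwn
    ((phi_eq_iff v w).mp h) with h' | h' | ⟨h1, h2, h3, h4⟩
  · exact Or.inl h'
  · exact Or.inr (Or.inl h')
  · refine Or.inr (Or.inr ⟨h1, h2, ?_⟩)
    have e : sqNorm (v + w) = sqNorm v + sqNorm w + 2 * dotInt v w := by
      unfold sqNorm dotInt
      rw [Finset.mul_sum, ← Finset.sum_add_distrib, ← Finset.sum_add_distrib]
      refine Finset.sum_congr rfl fun i _ => ?_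
      simp only [Pi.add_apply]
      ring
    rw [h4, h1, h2] at e
    omega

theorem ne_neg_of_sqNorm_ne_zero {v : GolayPt → ℤ} (h : sqNorm v ≠ 0) : v ≠ -v := by
  intro hv
  apply h
  have h0 : v = 0 := by
    ext i
    have := congrFun hv i
    simp only [Pi.neg_apply] at this
    simp only [Pi.zero_apply]
    omega
  rw [h0]
  unfold sqNorm
  simp

theorem sqNorm_neg_eq (v : GolayPt → ℤ) : sqNorm (-v) = sqNorm v := sqNorm_neg' v

theorem phi_neg_eq {v : GolayPt → ℤ} (hv : v ∈ leechLattice) : phi (-v) = phi v := by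
  rw [phi_eq_iff]
  refine ⟨-v, leechLattice.neg_mem hv, ?_⟩
  rw [two_smul]
  abel

/-- the fibre of the class map on the vectors of sum of squares `N` (`N = 32, 48`) is a pair -/
theorem fiber_pair {N : ℤ} (hN : N ≤ 80) (hN0 : N ≠ 0) (hN64 : N < 64)
    {v : GolayPt → ℤ} (hv : v ∈ leechF N) :
    ((leechF N).filter fun a => phi a = phi v) = {v, -v} := by
  rw [mem_leechF hN] at hv
  ext w
  rw [Finset.mem_filter, mem_leechF hN, Finset.mem_insert, Finset.mem_singleton]
  constructor
  · rintro ⟨⟨hw, hwn⟩, hphi⟩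
    rcases short_cases hv.1 hw (by omega) (by omega) hphi.symm with h | h | ⟨h1, _, _⟩
    · exact Or.inl h
    · exact Or.inr h
    · omega
  · rintro (rfl | rfl)
    · exact ⟨hv, rfl⟩
    · exact ⟨⟨leechLattice.neg_mem hv.1, by rw [sqNorm_neg_eq]; exact hv.2⟩, phi_neg_eq hv.1⟩

theorem card_image_pair {N : ℤ} (hN : N ≤ 80) (hN0 : N ≠ 0) (hN64 : N < 64) :
    (leechF N).card = 2 * ((leechF N).image phi).card := by
  rw [Finset.card_eq_sum_card_image phi (leechF N)]
  have : ∀ b ∈ (leechF N).image phi, ((leechF N).filter fun a => phi a = b).card = 2 := by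
    intro b hb
    rw [Finset.mem_image] at hb
    obtain ⟨v, hv, rfl⟩ := hb
    rw [fiber_pair hN hN0 hN64 hv, Finset.card_pair]
    exact ne_neg_of_sqNorm_ne_zero (by rw [((mem_leechF hN v).mp hv).2]; exact hN0)
  rw [Finset.sum_congr rfl this, Finset.sum_const, smul_eq_mul, mul_comm]

theorem fiber64_le (b : (GolayPt → ℤ) ⧸ twoL) :
    ((leechF 64).filter fun a => phi a = b).card ≤ 48 := by
  apply card_le_of_orth
  · intro w hw
    exact ((mem_leechF (by norm_num) w).mp (Finset.mem_filter.mp hw).1).2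
  · intro v hv w hw
    rw [Finset.mem_filter, mem_leechF (by norm_num)] at hv hw
    rcases short_cases hv.1.1 hw.1.1 (by omega) (by omega) (hv.2.trans hw.2.symm)
      with h | h | ⟨_, _, h⟩
    · exact Or.inl h
    · exact Or.inr (Or.inl h)
    · exact Or.inr (Or.inr h)

theorem card_leechF_32 : (leechF 32).card = 196560 := by
  have h := ncard_leech 32 (by norm_num)
  have e : leechCount 32 = 196560 := by decide +kernel
  rw [e, ← coe_leechF (N := ((32 : ℕ) : ℤ)) (by norm_num), Set.ncard_coe_finset] at h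
  exact_mod_cast h

theorem card_leechF_48 : (leechF 48).card = 16773120 := by
  have h := ncard_leech 48 (by norm_num)
  have e : leechCount 48 = 16773120 := by decide +kernel
  rw [e, ← coe_leechF (N := ((48 : ℕ) : ℤ)) (by norm_num), Set.ncard_coe_finset] at h
  exact_mod_cast h

theorem card_leechF_64 : (leechF 64).card = 398034000 := by
  have h := ncard_leech 64 (by norm_num)
  have e : leechCount 64 = 398034000 := by decide +kernel
  rw [e, ← coe_leechF (N := ((64 : ℕ) : ℤ)) (by norm_num), Set.ncard_coe_finset] at h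
  exact_mod_cast h

/-- the classes of the short vectors of sum of squares `N` -/
noncomputable def img (N : ℤ) : Finset ((GolayPt → ℤ) ⧸ twoL) := (leechF N).image phi

theorem sqNorm_zero : sqNorm (0 : GolayPt → ℤ) = 0 := by
  unfold sqNorm
  simp

theorem img_disjoint {N N' : ℤ} (hN : N ≤ 64) (hN' : N' ≤ 64) (hne : N ≠ N') :
    Disjoint (img N) (img N') := by
  rw [Finset.disjoint_left]
  intro b hb hb'
  unfold img at hb hb'
  rw [Finset.mem_image] at hb hb'
  obtain ⟨v, hv, rfl⟩ := hb
  obtain ⟨w, hw, hvw⟩ := hb'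
  rw [mem_leechF (by omega)] at hv hw
  rcases short_cases hv.1 hw.1 (by omega) (by omega) hvw.symm with h | h | ⟨h1, h2, _⟩
  · rw [h] at hw; exact hne (hv.2.symm.trans hw.2)
  · rw [h, sqNorm_neg_eq] at hw; exact hne (hv.2.symm.trans hw.2)
  · exact hne (hv.2.symm.trans (h1.trans (h2.symm.trans hw.2)))

theorem zero_notMem_img {N : ℤ} (hN : N ≤ 64) (hN0 : N ≠ 0) : (0 : (GolayPt → ℤ) ⧸ twoL) ∉ img N := by
  intro h
  unfold img at h
  rw [Finset.mem_image] at h
  obtain ⟨v, hv, hv0⟩ := h
  rw [mem_leechF (by omega)] at hv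
  have h0 : phi v = phi 0 := by rw [hv0, map_zero]
  rcases short_cases hv.1 leechLattice.zero_mem (by omega) (by rw [sqNorm_zero]; norm_num) h0
    with h | h | ⟨_, h2, _⟩
  · rw [← h, sqNorm_zero] at hv; exact hN0 hv.2.symm
  · have : v = 0 := by rw [← neg_neg v, ← h, neg_zero]
    rw [this, sqNorm_zero] at hv; exact hN0 hv.2.symm
  · rw [sqNorm_zero] at h2; norm_num at h2

/-- all classes of short vectors -/
noncomputable def shortClasses : Finset ((GolayPt → ℤ) ⧸ twoL) :=
  insert 0 (img 32 ∪ (img 48 ∪ img 64))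

theorem card_shortClasses :
    shortClasses.card = 1 + (img 32).card + (img 48).card + (img 64).card := by
  unfold shortClasses
  rw [Finset.card_insert_of_notMem, Finset.card_union_of_disjoint, Finset.card_union_of_disjoint]
  · ring
  · exact img_disjoint (by norm_num) (by norm_num) (by norm_num)
  · rw [Finset.disjoint_union_right]
    exact ⟨img_disjoint (by norm_num) (by norm_num) (by norm_num),
      img_disjoint (by norm_num) (by norm_num) (by norm_num)⟩
  · simp only [Finset.mem_union, not_or]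
    exact ⟨zero_notMem_img (by norm_num) (by norm_num), zero_notMem_img (by norm_num) (by norm_num),
      zero_notMem_img (by norm_num) (by norm_num)⟩

theorem shortClasses_subset : (shortClasses : Set ((GolayPt → ℤ) ⧸ twoL)) ⊆ lamBar := by
  intro b hb
  rw [Finset.mem_coe] at hb
  unfold shortClasses at hb
  rw [Finset.mem_insert] at hb
  rcases hb with rfl | hb
  · exact lamBar.zero_mem
  · have : ∃ N : ℤ, N ≤ 64 ∧ b ∈ img N := by
      simp only [Finset.mem_union] at hb
      rcases hb with h | h | h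
      · exact ⟨32, by norm_num, h⟩
      · exact ⟨48, by norm_num, h⟩
      · exact ⟨64, by norm_num, h⟩
    obtain ⟨N, hN, hbN⟩ := this
    unfold img at hbN
    rw [Finset.mem_image] at hbN
    obtain ⟨v, hv, rfl⟩ := hbN
    rw [mem_leechF (by omega)] at hv
    exact AddSubgroup.mem_map_of_mem phi hv.1

theorem card_img_32 : (img 32).card = 98280 := by
  have := card_image_pair (N := 32) (by norm_num) (by norm_num) (by norm_num)
  rw [card_leechF_32] at this
  unfold img
  omega

theorem card_img_48 : (img 48).card = 8386560 := by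
  have := card_image_pair (N := 48) (by norm_num) (by norm_num) (by norm_num)
  rw [card_leechF_48] at this
  unfold img
  omega

theorem card_leechF_64_le : (leechF 64).card ≤ 48 * (img 64).card := by
  unfold img
  apply Finset.card_le_mul_card_image
  intro b _
  exact fiber64_le b

theorem card_shortClasses_le : shortClasses.card ≤ 2 ^ 24 := by
  rw [← card_lamBar, ← Set.ncard_coe_finset]
  have h : Nat.card lamBar = (lamBar : Set ((GolayPt → ℤ) ⧸ twoL)).ncard :=
    Nat.card_coe_set_eq (lamBar : Set ((GolayPt → ℤ) ⧸ twoL))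
  rw [h]
  exact Set.ncard_le_ncard shortClasses_subset (Set.toFinite _)

theorem card_img_64 : (img 64).card = 8292375 := by
  have h1 := card_shortClasses_le
  rw [card_shortClasses, card_img_32, card_img_48] at h1
  have h2 := card_leechF_64_le
  rw [card_leechF_64] at h2
  norm_num at h1
  omega

theorem shortClasses_eq : (shortClasses : Set ((GolayPt → ℤ) ⧸ twoL)) = lamBar := by
  apply Set.eq_of_subset_of_ncard_le shortClasses_subset _ (Set.toFinite _)
  rw [Set.ncard_coe_finset, card_shortClasses, card_img_32, card_img_48, card_img_64]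
  have h : Nat.card lamBar = (lamBar : Set ((GolayPt → ℤ) ⧸ twoL)).ncard :=
    Nat.card_coe_set_eq (lamBar : Set ((GolayPt → ℤ) ⧸ twoL))
  rw [← h, card_lamBar]
  norm_num

/-- each class of vectors of sum of squares 64 has exactly 48 members -/
theorem fiber64_eq {v : GolayPt → ℤ} (hv : v ∈ leechF 64) :
    ((leechF 64).filter fun a => phi a = phi v).card = 48 := by
  have h1 := Finset.card_eq_sum_card_image phi (leechF 64)
  rw [card_leechF_64] at h1
  have h2 : ∑ b ∈ (leechF 64).image phi, ((leechF 64).filter fun a => phi a = b).card =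
      ∑ _b ∈ (leechF 64).image phi, 48 := by
    rw [← h1, Finset.sum_const, smul_eq_mul]
    have := card_img_64
    unfold img at this
    rw [this]
  have h3 := (Finset.sum_eq_sum_iff_of_le (fun b _ => fiber64_le b)).mp h2
  exact h3 (phi v) (Finset.mem_image_of_mem phi hv)

theorem cross_ncard {x : GolayPt → ℤ} (hx : x ∈ leechLattice) (hxn : sqNorm x = 64) :
    (cross x).ncard = 48 := by
  have hx' : x ∈ leechF 64 := (mem_leechF (by norm_num) x).mpr ⟨hx, hxn⟩
  rw [← fiber64_eq hx', ← Set.ncard_coe_finset]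
  congr 1
  ext y
  unfold cross
  rw [Finset.coe_filter, Set.mem_ofPred_eq, Set.mem_ofPred_eq, mem_leechF (by norm_num), hxn,
    ← phi_eq_iff x y]
  constructor
  · rintro ⟨h1, h2, h3⟩
    exact ⟨⟨h1, h2⟩, h3.symm⟩
  · rintro ⟨⟨h1, h2⟩, h3⟩
    exact ⟨h1, h2, h3.symm⟩

theorem exists_short_congruent {x : GolayPt → ℤ} (hx : x ∈ leechLattice) :
    ∃ y ∈ leechLattice, sqNorm y ≤ 64 ∧ ∃ z ∈ leechLattice, x - y = 2 • z := by
  have h1 : phi x ∈ (shortClasses : Set ((GolayPt → ℤ) ⧸ twoL)) := by
    rw [shortClasses_eq]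
    exact AddSubgroup.mem_map_of_mem phi hx
  rw [Finset.mem_coe] at h1
  unfold shortClasses at h1
  rw [Finset.mem_insert] at h1
  rcases h1 with h1 | h1
  · refine ⟨0, leechLattice.zero_mem, by rw [sqNorm_zero]; norm_num, ?_⟩
    rw [← phi_eq_iff, h1, map_zero]
  · have : ∃ N : ℤ, N ≤ 64 ∧ phi x ∈ img N := by
      simp only [Finset.mem_union] at h1
      rcases h1 with h | h | h
      · exact ⟨32, by norm_num, h⟩
      · exact ⟨48, by norm_num, h⟩
      · exact ⟨64, by norm_num, h⟩
    obtain ⟨N, hN, hbN⟩ := this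
    unfold img at hbN
    rw [Finset.mem_image] at hbN
    obtain ⟨v, hv, hvx⟩ := hbN
    rw [mem_leechF (by omega)] at hv
    refine ⟨v, hv.1, by rw [hv.2]; exact hN, ?_⟩
    rw [← phi_eq_iff, hvx]

end Cfsg.Agent.Helper8
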