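import Cfsg.Prelude.Def_Sporadic_a

set_option autoImplicit false

namespace Cfsg.Agent.Helper8

open Cfsg

/-- weight of the generators -/
theorem card_support_qrWord : ∀ s : ZMod 23, (support₂ (qrWord s)).card = 12 := by decide +kernel

theorem card_support_one : (support₂ (1 : GolayPt → ZMod 2)).card = 24 := by decide +kernel

theorem qrWord_dot_qrWord : ∀ s t : ZMod 23, (qrWord s) ⬝ᵥ (qrWord t) = 0 := by decide +kernel

theorem qrWord_dot_one : ∀ s : ZMod 23, (qrWord s) ⬝ᵥ (1 : GolayPt → ZMod 2) = 0 := by decide +kernel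

theorem one_dot_one : (1 : GolayPt → ZMod 2) ⬝ᵥ (1 : GolayPt → ZMod 2) = 0 := by decide +kernel

/-- the code is self-orthogonal -/
theorem golay_dot_eq_zero {u v : GolayPt → ZMod 2} (hu : u ∈ golayCode) (hv : v ∈ golayCode) :
    u ⬝ᵥ v = 0 := by
  unfold golayCode at hu hv
  induction hu, hv using Submodule.span_induction₂ with
  | mem_mem x y hx hy =>
    rcases hx with ⟨s, rfl⟩ | hx
    · rcases hy with ⟨t, rfl⟩ | hy
      · exact qrWord_dot_qrWord s t
      · rw [Set.mem_singleton_iff] at hy; subst hy
        exact qrWord_dot_one s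
    · rw [Set.mem_singleton_iff] at hx; subst hx
      rcases hy with ⟨t, rfl⟩ | hy
      · rw [dotProduct_comm]; exact qrWord_dot_one t
      · rw [Set.mem_singleton_iff] at hy; subst hy
        exact one_dot_one
  | zero_left y hy => exact zero_dotProduct y
  | zero_right x hx => exact dotProduct_zero x
  | add_left x y z hx hy hz h1 h2 => rw [add_dotProduct, h1, h2, add_zero]
  | add_right x y z hx hy hz h1 h2 => rw [dotProduct_add, h1, h2, add_zero]
  | smul_left r x y hx hy h => rw [smul_dotProduct, h, smul_zero]
  | smul_right r x y hx hy h => rw [dotProduct_smul, h, smul_zero]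

/-- the dot product counts the intersection of the supports modulo 2 -/
theorem card_inter_support_cast (u v : GolayPt → ZMod 2) :
    (((support₂ u ∩ support₂ v).card : ℕ) : ZMod 2) = u ⬝ᵥ v := by
  have h : ∀ a b : ZMod 2, a * b = if (a ≠ 0 ∧ b ≠ 0) then 1 else 0 := by decide
  unfold dotProduct
  simp_rw [h]
  rw [Finset.sum_boole]
  congr 2
  ext i
  simp [support₂, Finset.mem_inter, Finset.mem_filter]

/-- supports of code words meet evenly -/
theorem even_card_inter_support {u v : GolayPt → ZMod 2} (hu : u ∈ golayCode) (hv : v ∈ golayCode) :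
    Even (support₂ u ∩ support₂ v).card := by
  have h := card_inter_support_cast u v
  rw [golay_dot_eq_zero hu hv] at h
  rw [even_iff_two_dvd]
  exact (ZMod.natCast_eq_zero_iff _ 2).mp h

/-- support of a sum -/
theorem support₂_add (u v : GolayPt → ZMod 2) :
    support₂ (u + v) = symmDiff (support₂ u) (support₂ v) := by
  ext i
  have h : ∀ a b : ZMod 2, a + b ≠ 0 ↔ ((a ≠ 0 ∧ ¬ b ≠ 0) ∨ (b ≠ 0 ∧ ¬ a ≠ 0)) := by decide
  simp only [support₂, Finset.mem_filter, Finset.mem_univ, true_and, Finset.mem_symmDiff, Pi.add_apply]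
  exact h (u i) (v i)

theorem card_symmDiff_add {α : Type*} [DecidableEq α] (A B : Finset α) :
    (symmDiff A B).card + 2 * (A ∩ B).card = A.card + B.card := by
  have h1 : symmDiff A B = (A \ B) ∪ (B \ A) := rfl
  have h2 : Disjoint (A \ B) (B \ A) := by
    rw [Finset.disjoint_left]
    intro x hx hx'
    rw [Finset.mem_sdiff] at hx hx'
    exact hx.2 hx'.1
  rw [h1, Finset.card_union_of_disjoint h2]
  have h3 := Finset.card_sdiff_add_card_inter A B
  have h4 := Finset.card_sdiff_add_card_inter B A
  rw [Finset.inter_comm B A] at h4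
  omega

/-- the code is doubly even -/
theorem four_dvd_card_support {u : GolayPt → ZMod 2} (hu : u ∈ golayCode) :
    4 ∣ (support₂ u).card := by
  unfold golayCode at hu
  induction hu using Submodule.span_induction with
  | mem x hx =>
    rcases hx with ⟨s, rfl⟩ | hx
    · rw [card_support_qrWord]; norm_num
    · rw [Set.mem_singleton_iff] at hx; subst hx
      rw [card_support_one]; norm_num
  | zero =>
    have : support₂ (0 : GolayPt → ZMod 2) = ∅ := by
      ext i; simp [support₂]
    rw [this]; simp
  | add x y hx hy h1 h2 =>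
    have h3 := even_card_inter_support (u := x) (v := y) hx hy
    have h4 := card_symmDiff_add (support₂ x) (support₂ y)
    rw [support₂_add]
    obtain ⟨a, ha⟩ := h1
    obtain ⟨b, hb⟩ := h2
    obtain ⟨c, hc⟩ := h3
    omega
  | smul a x hx h =>
    have h01 : ∀ a : ZMod 2, a = 0 ∨ a = 1 := by decide
    rcases h01 a with rfl | rfl
    · have : support₂ ((0 : ZMod 2) • x) = ∅ := by
        ext i; simp [support₂]
      rw [this]; simp
    · rw [one_smul]; exact h

end Cfsg.Agent.Helper8
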