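import Mathlib
import Cfsg.Prelude.Def_SporadicCombinatorics
import Cfsg.Agent.S0432
import Cfsg.Agent.S0433
import Cfsg.Agent.Helper8.LeechCount
import Cfsg.Agent.Helper92.LeechIndex
import Cfsg.Agent.Helper7.M24Chain

/-!
The stabiliser of the standard cross in the automorphism group of the rank-24 lattice consists of
the signed coordinate permutations attached to the length-24 code.
-/

set_option autoImplicit false

namespace Cfsg.Agent.Helper8

open Cfsg
open scoped Pointwise

/-! ### signed permutations -/

theorem signedPerm_add (σ : Equiv.Perm GolayPt) (c : Finset GolayPt) (x y : GolayPt → ℤ) :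
    signedPerm σ c (x + y) = signedPerm σ c x + signedPerm σ c y := by
  ext i
  unfold signedPerm
  simp only [Pi.add_apply]
  split_ifs <;> ring

theorem sqNorm_signedPerm (σ : Equiv.Perm GolayPt) (c : Finset GolayPt) (x : GolayPt → ℤ) :
    sqNorm (signedPerm σ c x) = sqNorm x := by
  unfold sqNorm signedPerm
  rw [← Equiv.sum_comp σ.symm (fun i => x i ^ 2)]
  refine Finset.sum_congr rfl fun i _ => ?_
  split_ifs <;> ring

theorem signedPerm_single (σ : Equiv.Perm GolayPt) (c : Finset GolayPt) (i : GolayPt) (s : ℤ) :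
    signedPerm σ c (Pi.single i s) = Pi.single (σ i) (if σ i ∈ c then -s else s) := by
  ext j
  unfold signedPerm
  by_cases hj : j = σ i
  · subst hj
    simp
  · have h1 : σ.symm j ≠ i := by
      intro h
      apply hj
      rw [← h]
      simp
    rw [Pi.single_eq_of_ne hj, Pi.single_eq_of_ne h1]
    simp

theorem signedPerm_injective (σ : Equiv.Perm GolayPt) (c : Finset GolayPt) :
    Function.Injective (signedPerm σ c) := by
  intro x y h
  ext k
  have := congrFun h (σ k)
  unfold signedPerm at this
  simp only [Equiv.symm_apply_apply] at this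
  split_ifs at this <;> omega

theorem signedPerm_mem {σ : Equiv.Perm GolayPt} (hσ : σ ∈ M24) {c : Finset GolayPt}
    (hc : c ∈ supports (golayCode : Set (GolayPt → ZMod 2))) {x : GolayPt → ℤ}
    (hx : x ∈ leechLattice) : signedPerm σ c x ∈ leechLattice := by
  have h1 := Cfsg.Agent.S0432.result σ⁻¹ (Subgroup.inv_mem _ hσ) x hx
  exact Cfsg.Agent.S0433.result c hc _ h1

theorem signedPerm_surj {σ : Equiv.Perm GolayPt} (hσ : σ ∈ M24) {c : Finset GolayPt}
    (hc : c ∈ supports (golayCode : Set (GolayPt → ZMod 2))) {y : GolayPt → ℤ}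
    (hy : y ∈ leechLattice) : ∃ x ∈ leechLattice, signedPerm σ c x = y := by
  have h1 := Cfsg.Agent.S0433.result c hc y hy
  have h2 := Cfsg.Agent.S0432.result σ hσ _ h1
  refine ⟨_, h2, ?_⟩
  ext j
  unfold signedPerm
  simp only [Equiv.apply_symm_apply]
  split_ifs <;> ring

/-- the automorphism of the lattice given by a signed permutation -/
noncomputable def monoPerm {σ : Equiv.Perm GolayPt} (hσ : σ ∈ M24) {c : Finset GolayPt}
    (hc : c ∈ supports (golayCode : Set (GolayPt → ZMod 2))) : Equiv.Perm leechLattice :=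
  Equiv.ofBijective (fun v => ⟨signedPerm σ c v.1, signedPerm_mem hσ hc v.2⟩) (by
    constructor
    · intro v w h
      apply Subtype.ext
      apply signedPerm_injective σ c
      exact congrArg Subtype.val h
    · intro w
      obtain ⟨x, hx, hxw⟩ := signedPerm_surj hσ hc w.2
      exact ⟨⟨x, hx⟩, Subtype.ext hxw⟩)

theorem monoPerm_apply {σ : Equiv.Perm GolayPt} (hσ : σ ∈ M24) {c : Finset GolayPt}
    (hc : c ∈ supports (golayCode : Set (GolayPt → ZMod 2))) (v : leechLattice) :
    ((monoPerm hσ hc v : leechLattice) : GolayPt → ℤ) = signedPerm σ c v.1 := rfl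

theorem monoPerm_mem {σ : Equiv.Perm GolayPt} (hσ : σ ∈ M24) {c : Finset GolayPt}
    (hc : c ∈ supports (golayCode : Set (GolayPt → ZMod 2))) : monoPerm hσ hc ∈ Co0 := by
  refine ⟨fun v w => ?_, fun v => ?_⟩
  · apply Subtype.ext
    rw [monoPerm_apply, AddSubgroup.coe_add, AddSubgroup.coe_add, monoPerm_apply, monoPerm_apply,
      signedPerm_add]
  · rw [monoPerm_apply, sqNorm_signedPerm]

/-! ### special lattice vectors -/

theorem single8_mem (i : GolayPt) (s : ℤ) (hs : s = 8 ∨ s = -8) :
    (Pi.single i s : GolayPt → ℤ) ∈ leechLattice := by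
  rw [mem_leechLattice_iff]
  have h : (Pi.single i s : GolayPt → ℤ) ∈ evenF 64 ∅ := by
    rw [mem_evenF]
    refine ⟨fun j => ?_, ?_, ?_⟩
    · unfold Ae
      rw [if_neg (Finset.notMem_empty j), mem_Le2, Pi.single_apply]
      split_ifs <;> omega
    · rw [Finset.sum_eq_single i]
      · rw [Pi.single_eq_same]
        rcases hs with rfl | rfl <;> norm_num
      · intro j _ hj
        rw [Pi.single_eq_of_ne hj]
        norm_num
      · intro h
        exact absurd (Finset.mem_univ i) h
    · rw [Finset.sum_pi_single', if_pos (Finset.mem_univ i)]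
      rcases hs with rfl | rfl <;> norm_num
  have h2 := evenF_subset_leech (N := 64) (C := ∅) Cfsg.Agent.S0390.empty_mem_supports h
  exact h2.1

/-- twice the indicator of a code word -/
def twoInd (C : Finset GolayPt) : GolayPt → ℤ := fun j => if j ∈ C then 2 else 0

theorem twoInd_mem {C : Finset GolayPt}
    (hC : C ∈ supports (golayCode : Set (GolayPt → ZMod 2))) : twoInd C ∈ leechLattice := by
  rw [mem_leechLattice_iff]
  have h : twoInd C ∈ evenF (4 * C.card) C := by
    rw [mem_evenF]
    refine ⟨fun j => ?_, ?_, ?_⟩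
    · unfold Ae twoInd
      by_cases hj : j ∈ C
      · rw [if_pos hj, if_pos hj, mem_Le1]; omega
      · rw [if_neg hj, if_neg hj, mem_Le2]; omega
    · unfold twoInd
      have : ∀ j ∈ Finset.univ, (if j ∈ C then (2 : ℤ) else 0) ^ 2 = if j ∈ C then 4 else 0 := by
        intro j _
        split_ifs <;> norm_num
      rw [Finset.sum_congr rfl this, Finset.sum_ite_mem, Finset.univ_inter, Finset.sum_const]
      simp
      ring
    · unfold twoInd
      rw [Finset.sum_ite_mem, Finset.univ_inter, Finset.sum_const]
      have := card_mem_supports hC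
      simp only [nsmul_eq_mul, sub_zero]
      rcases this with h | h | h | h | h <;> rw [h] <;> norm_num
  exact (evenF_subset_leech hC h).1

theorem oddVec_mem_lattice : Cfsg.Agent.Helper92.oddVec ∈ leechLattice :=
  (mem_leechLattice_iff _).mpr Cfsg.Agent.Helper92.oddVec_mem

/-! ### automorphisms fixing the standard cross -/

/-- the automorphism maps the standard cross into itself -/
def FixesCross (g : ↥Co0) : Prop :=
  ∀ v : ↥leechLattice, (v : GolayPt → ℤ) ∈ stdCross →
    ((g • v : ↥leechLattice) : GolayPt → ℤ) ∈ stdCross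

theorem exists_mono_of_fixesCross (g : ↥Co0) (hg : FixesCross g) :
    ∃ σ ∈ M24, ∃ c ∈ supports (golayCode : Set (GolayPt → ZMod 2)),
      ∀ v : ↥leechLattice, ((g • v : ↥leechLattice) : GolayPt → ℤ) = signedPerm σ c v.1 := by
  classical
  let G : ↥leechLattice →+ ↥leechLattice :=
    AddMonoidHom.mk' (g : Equiv.Perm leechLattice) g.2.1
  have hGinj : Function.Injective G := (g : Equiv.Perm leechLattice).injective
  let Ei : GolayPt → ↥leechLattice := fun i => ⟨Pi.single i 8, single8_mem i 8 (Or.inl rfl)⟩
  have hE : ∀ i, ∃ j s, (s = 8 ∨ s = -8) ∧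
      ((G (Ei i) : ↥leechLattice) : GolayPt → ℤ) = Pi.single j s :=
    fun i => hg (Ei i) ⟨i, 8, Or.inl rfl, rfl⟩
  choose σ0 s hs hσs using hE
  -- the key formula
  have key : ∀ (v : ↥leechLattice) (j : GolayPt),
      8 * ((G v : ↥leechLattice) : GolayPt → ℤ) j =
        ∑ i, v.1 i * (Pi.single (σ0 i) (s i) : GolayPt → ℤ) j := by
    intro v j
    have h8 : (8 : ℤ) • v = ∑ i, (v.1 i) • Ei i := by
      apply Subtype.ext
      rw [AddSubgroup.coe_zsmul, AddSubgroup.val_finsetSum]
      ext k
      rw [Finset.sum_apply, Pi.smul_apply, smul_eq_mul]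
      rw [Finset.sum_eq_single k]
      · rw [AddSubgroup.coe_zsmul, Pi.smul_apply, smul_eq_mul]
        show 8 * v.1 k = v.1 k * (Pi.single k 8 : GolayPt → ℤ) k
        rw [Pi.single_eq_same]
        ring
      · intro i _ hik
        rw [AddSubgroup.coe_zsmul, Pi.smul_apply, smul_eq_mul]
        show v.1 i * (Pi.single i 8 : GolayPt → ℤ) k = 0
        rw [Pi.single_eq_of_ne (Ne.symm hik)]
        ring
      · intro h
        exact absurd (Finset.mem_univ k) h
    have h1 := congrArg G h8
    rw [map_zsmul, map_sum] at h1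
    have h2 := congrArg (fun w : ↥leechLattice => (w : GolayPt → ℤ) j) h1
    simp only [AddSubgroup.coe_zsmul, AddSubgroup.val_finsetSum, Pi.smul_apply, smul_eq_mul,
      Finset.sum_apply, map_zsmul] at h2
    rw [h2]
    refine Finset.sum_congr rfl fun i _ => ?_
    rw [hσs i]
  -- σ0 is injective
  have hinj : Function.Injective σ0 := by
    intro i i' hii'
    by_contra hne
    have h1 := hσs i
    have h2 := hσs i'
    rw [← hii'] at h2
    rcases hs i with h | h <;> rcases hs i' with h' | h'
    · have : G (Ei i) = G (Ei i') := Subtype.ext (by rw [h1, h2, h, h'])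
      have := congrArg (fun w : ↥leechLattice => (w : GolayPt → ℤ) i) (hGinj this)
      simp only [Ei] at this
      rw [Pi.single_eq_same, Pi.single_eq_of_ne hne] at this
      norm_num at this
    · have : G (Ei i) = G (-(Ei i')) := by
        rw [map_neg]
        apply Subtype.ext
        rw [AddSubgroup.coe_neg, h1, h2, h, h', ← Pi.single_neg, neg_neg]
      have := congrArg (fun w : ↥leechLattice => (w : GolayPt → ℤ) i) (hGinj this)
      simp only [Ei, AddSubgroup.coe_neg, Pi.neg_apply] at this
      rw [Pi.single_eq_same, Pi.single_eq_of_ne hne] at this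
      norm_num at this
    · have : G (Ei i) = G (-(Ei i')) := by
        rw [map_neg]
        apply Subtype.ext
        rw [AddSubgroup.coe_neg, h1, h2, h, h', ← Pi.single_neg]
      have := congrArg (fun w : ↥leechLattice => (w : GolayPt → ℤ) i) (hGinj this)
      simp only [Ei, AddSubgroup.coe_neg, Pi.neg_apply] at this
      rw [Pi.single_eq_same, Pi.single_eq_of_ne hne] at this
      norm_num at this
    · have : G (Ei i) = G (Ei i') := Subtype.ext (by rw [h1, h2, h, h'])
      have := congrArg (fun w : ↥leechLattice => (w : GolayPt → ℤ) i) (hGinj this)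
      simp only [Ei] at this
      rw [Pi.single_eq_same, Pi.single_eq_of_ne hne] at this
      norm_num at this
  let σ : Equiv.Perm GolayPt := Equiv.ofBijective σ0 ⟨hinj, Finite.surjective_of_injective hinj⟩
  have hσ0 : ∀ i, σ i = σ0 i := fun i => rfl
  let c : Finset GolayPt := Finset.univ.filter fun j => s (σ.symm j) = -8
  -- the formula for G
  have hform : ∀ v : ↥leechLattice,
      ((G v : ↥leechLattice) : GolayPt → ℤ) = signedPerm σ c v.1 := by
    intro v
    ext j
    have h1 := key v j
    rw [Finset.sum_eq_single (σ.symm j)] at h1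
    · rw [← hσ0, Equiv.apply_symm_apply, Pi.single_eq_same] at h1
      unfold signedPerm
      rcases hs (σ.symm j) with h | h
      · have hj : j ∉ c := by
          simp only [c, Finset.mem_filter, Finset.mem_univ, true_and]
          rw [h]; norm_num
        rw [if_neg hj]
        rw [h] at h1
        omega
      · have hj : j ∈ c := by
          simp only [c, Finset.mem_filter, Finset.mem_univ, true_and]
          exact h
        rw [if_pos hj]
        rw [h] at h1
        omega
    · intro i _ hi
      have : j ≠ σ0 i := by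
        intro h
        apply hi
        rw [h, ← hσ0, Equiv.symm_apply_apply]
      rw [Pi.single_eq_of_ne this]
      ring
    · intro h
      exact absurd (Finset.mem_univ _) h
  -- the sign set is a code word
  have hc : c ∈ supports (golayCode : Set (GolayPt → ZMod 2)) := by
    have h1 : ((G ⟨_, oddVec_mem_lattice⟩ : ↥leechLattice) : GolayPt → ℤ) ∈ leechLattice :=
      (G ⟨_, oddVec_mem_lattice⟩).2
    rw [hform, mem_leechLattice_iff] at h1
    obtain ⟨m, _, _, h3⟩ := h1
    have h4 := h3 3
    rw [filter_modEq] at h4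
    have : (Finset.univ.filter fun i =>
        signedPerm σ c Cfsg.Agent.Helper92.oddVec i % 4 = 3 % 4) = c := by
      ext j
      rw [Finset.mem_filter]
      unfold signedPerm Cfsg.Agent.Helper92.oddVec
      by_cases hj : j ∈ c
      · rw [if_pos hj]
        simp only [Finset.mem_univ, true_and, hj, iff_true]
        split_ifs <;> norm_num
      · rw [if_neg hj]
        simp only [Finset.mem_univ, true_and, hj, iff_false]
        split_ifs <;> norm_num
    rw [this] at h4
    exact h4
  -- the permutation preserves the code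
  have hσ : σ ∈ M24 := by
    rw [Cfsg.Agent.Helper7.mem_M24_iff_le]
    rintro _ ⟨w, hw, rfl⟩
    have hC : support₂ w ∈ supports (golayCode : Set (GolayPt → ZMod 2)) := ⟨w, hw, rfl⟩
    have h1 : ((G ⟨_, twoInd_mem hC⟩ : ↥leechLattice) : GolayPt → ℤ) ∈ leechLattice :=
      (G ⟨_, twoInd_mem hC⟩).2
    rw [hform, mem_leechLattice_iff] at h1
    obtain ⟨m, _, _, h3⟩ := h1
    have h4 := h3 2
    rw [filter_modEq] at h4
    have : (Finset.univ.filter fun i =>
        signedPerm σ c (twoInd (support₂ w)) i % 4 = 2 % 4) = σ • support₂ w := by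
      ext j
      rw [Finset.mem_filter, Finset.mem_smul_finset]
      unfold signedPerm twoInd
      simp only [Finset.mem_univ, true_and]
      constructor
      · intro h
        refine ⟨σ.symm j, ?_, by simp⟩
        by_contra hn
        rw [if_neg hn] at h
        simp at h
      · rintro ⟨y, hy, rfl⟩
        simp only [Equiv.Perm.smul_def, Equiv.symm_apply_apply, if_pos hy]
        split_ifs <;> norm_num
    rw [this, Cfsg.Agent.Helper7.smul_support₂] at h4
    obtain ⟨w', hw', hsupp⟩ := h4
    have := Cfsg.Agent.Helper7.support₂_injective hsupp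
    show Cfsg.Agent.Helper7.permL σ w ∈ golayCode
    rw [← this]
    exact hw'
  exact ⟨σ, hσ, c, hc, fun v => hform v⟩

/-! ### the order of the stabiliser -/

theorem card_supports_golay :
    Nat.card {c : Finset GolayPt // c ∈ supports (golayCode : Set (GolayPt → ZMod 2))} = 4096 := by
  have h : Nat.card ↥(supports (golayCode : Set (GolayPt → ZMod 2))) = 4096 := by
    rw [Nat.card_coe_set_eq]
    unfold supports
    rw [Set.ncard_image_of_injective _ Cfsg.Agent.Helper7.support₂_injective,
      ← Nat.card_coe_set_eq]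
    exact Cfsg.Agent.Helper27.card_golayCode
  exact h

theorem monoPerm_fixesCross {σ : Equiv.Perm GolayPt} (hσ : σ ∈ M24) {c : Finset GolayPt}
    (hc : c ∈ supports (golayCode : Set (GolayPt → ZMod 2))) :
    FixesCross ⟨monoPerm hσ hc, monoPerm_mem hσ hc⟩ := by
  rintro v ⟨i, s, hs, hv⟩
  show ((monoPerm hσ hc v : leechLattice) : GolayPt → ℤ) ∈ stdCross
  rw [monoPerm_apply, hv, signedPerm_single]
  refine ⟨σ i, _, ?_, rfl⟩
  split_ifs <;> rcases hs with rfl | rfl <;> norm_num

theorem card_fixesCross : Nat.card {g : ↥Co0 // FixesCross g} = 4096 * 244823040 := by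
  classical
  let Ψ : (↥M24 × {c : Finset GolayPt // c ∈ supports (golayCode : Set (GolayPt → ZMod 2))}) →
      {g : ↥Co0 // FixesCross g} :=
    fun p => ⟨⟨monoPerm p.1.2 p.2.2, monoPerm_mem p.1.2 p.2.2⟩, monoPerm_fixesCross p.1.2 p.2.2⟩
  have hΨ : ∀ p v, (((Ψ p).1.1 v : leechLattice) : GolayPt → ℤ) = signedPerm p.1.1 p.2.1 v.1 :=
    fun p v => rfl
  have hinj : Function.Injective Ψ := by
    rintro ⟨⟨σ, hσ⟩, ⟨c, hc⟩⟩ ⟨⟨σ', hσ'⟩, ⟨c', hc'⟩⟩ h
    have key : ∀ i : GolayPt, σ i = σ' i ∧ (σ i ∈ c ↔ σ i ∈ c') := by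
      intro i
      have h1 := hΨ ⟨⟨σ, hσ⟩, ⟨c, hc⟩⟩ ⟨Pi.single i 8, single8_mem i 8 (Or.inl rfl)⟩
      have h2 := hΨ ⟨⟨σ', hσ'⟩, ⟨c', hc'⟩⟩ ⟨Pi.single i 8, single8_mem i 8 (Or.inl rfl)⟩
      rw [h] at h1
      rw [h1] at h2
      simp only at h2
      rw [signedPerm_single, signedPerm_single] at h2
      have h3 := congrFun h2 (σ i)
      rw [Pi.single_eq_same] at h3
      have hσi : σ i = σ' i := by
        by_contra hne
        rw [Pi.single_eq_of_ne hne] at h3
        split_ifs at h3 <;> norm_num at h3
      refine ⟨hσi, ?_⟩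
      rw [← hσi, Pi.single_eq_same] at h3
      constructor
      · intro hi
        by_contra hi'
        rw [if_pos hi, if_neg hi'] at h3
        norm_num at h3
      · intro hi'
        by_contra hi
        rw [if_neg hi, if_pos hi'] at h3
        norm_num at h3
    have hσσ' : σ = σ' := Equiv.ext fun i => (key i).1
    have hcc' : c = c' := by
      ext j
      have := (key (σ.symm j)).2
      rwa [Equiv.apply_symm_apply] at this
    subst hσσ'
    subst hcc'
    rfl
  have hsurj : Function.Surjective Ψ := by
    rintro ⟨g, hg⟩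
    obtain ⟨σ, hσ, c, hc, hform⟩ := exists_mono_of_fixesCross g hg
    refine ⟨⟨⟨σ, hσ⟩, ⟨c, hc⟩⟩, ?_⟩
    apply Subtype.ext
    apply Subtype.ext
    apply Equiv.ext
    intro v
    apply Subtype.ext
    rw [hΨ]
    exact (hform v).symm
  rw [← Nat.card_congr (Equiv.ofBijective Ψ ⟨hinj, hsurj⟩), Nat.card_prod, card_supports_golay,
    Cfsg.Agent.Helper7.card_M24]

theorem mem_golayMonomialMaps {σ : Equiv.Perm GolayPt} (hσ : σ ∈ M24) {c : Finset GolayPt}
    (hc : c ∈ supports (golayCode : Set (GolayPt → ZMod 2))) :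
    signedPerm σ c ∈ golayMonomialMaps :=
  ⟨σ, hσ, c, hc, rfl⟩

end Cfsg.Agent.Helper8
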