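import Mathlib
import Cfsg.Prelude.Def_SporadicCombinatorics
import Cfsg.Agent.Helper8.CrossStab
import Cfsg.Agent.Helper26.Steiner
import Cfsg.Agent.Helper27.Octads
import Cfsg.Agent.Helper7.M24Trans

/-!
The centre of the automorphism group of the rank-24 lattice has order two.
-/

set_option autoImplicit false

namespace Cfsg.Agent.Helper8

open Cfsg
open scoped Pointwise

/-- two distinct points are separated by a code word -/
theorem exists_code_sep {i j : GolayPt} (hij : i ≠ j) :
    ∃ C ∈ supports (golayCode : Set (GolayPt → ZMod 2)), j ∈ C ∧ i ∉ C := by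
  classical
  have hS := Cfsg.Agent.Helper27.octads_steiner
  have h1 := Cfsg.Agent.Helper26.card_blocks_through hS {j} (by simp)
  have h2 := Cfsg.Agent.Helper26.card_blocks_through hS {i, j}
    (by rw [Finset.card_pair hij]; norm_num)
  rw [Cfsg.Agent.Helper26.card_golayPt, Finset.card_singleton] at h1
  rw [Cfsg.Agent.Helper26.card_golayPt, Finset.card_pair hij] at h2
  have e1 : Nat.choose (8 - 1) (5 - 1) = 35 := by decide
  have e2 : Nat.choose (24 - 1) (5 - 1) = 8855 := by decide +kernel
  have e3 : Nat.choose (8 - 2) (5 - 2) = 20 := by decide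
  have e4 : Nat.choose (24 - 2) (5 - 2) = 1540 := by decide +kernel
  rw [e1, e2] at h1
  rw [e3, e4] at h2
  by_contra hcon
  have hsub : {b : Finset GolayPt | b ∈ octads ∧ {j} ⊆ b} ⊆
      {b : Finset GolayPt | b ∈ octads ∧ {i, j} ⊆ b} := by
    rintro b ⟨hb, hjb⟩
    refine ⟨hb, ?_⟩
    have hj : j ∈ b := Finset.singleton_subset_iff.mp hjb
    have hi : i ∈ b := by
      by_contra hi
      exact hcon ⟨b, hb.1, hj, hi⟩
    intro x hx
    rw [Finset.mem_insert, Finset.mem_singleton] at hx
    rcases hx with rfl | rfl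
    · exact hi
    · exact hj
  have hle := Set.ncard_le_ncard hsub (Set.toFinite _)
  omega

/-- the automorphism of the lattice given by a signed permutation, as an element of the group -/
noncomputable def monoCo0 {σ : Equiv.Perm GolayPt} (hσ : σ ∈ M24) {c : Finset GolayPt}
    (hc : c ∈ supports (golayCode : Set (GolayPt → ZMod 2))) : ↥Co0 :=
  ⟨monoPerm hσ hc, monoPerm_mem hσ hc⟩

theorem monoCo0_smul {σ : Equiv.Perm GolayPt} (hσ : σ ∈ M24) {c : Finset GolayPt}
    (hc : c ∈ supports (golayCode : Set (GolayPt → ZMod 2))) (v : ↥leechLattice) :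
    ((monoCo0 hσ hc • v : ↥leechLattice) : GolayPt → ℤ) = signedPerm σ c v.1 := rfl

/-- the action of an automorphism as an additive map -/
def co0Hom (g : ↥Co0) : ↥leechLattice →+ ↥leechLattice :=
  AddMonoidHom.mk' (fun v => g • v) g.2.1

theorem co0Hom_apply (g : ↥Co0) (v : ↥leechLattice) : co0Hom g v = g • v := rfl

theorem co0_smul_neg (g : ↥Co0) (v : ↥leechLattice) : g • (-v) = -(g • v) := by
  rw [← co0Hom_apply, ← co0Hom_apply, map_neg]

theorem co0_sqNorm (g : ↥Co0) (v : ↥leechLattice) :
    sqNorm ((g • v : ↥leechLattice) : GolayPt → ℤ) = sqNorm (v : GolayPt → ℤ) := g.2.2 v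

/-- the lattice vector `8 e_i` -/
def vec8 (i : GolayPt) : ↥leechLattice := ⟨Pi.single i 8, single8_mem i 8 (Or.inl rfl)⟩

theorem vec8_val (i : GolayPt) : ((vec8 i : ↥leechLattice) : GolayPt → ℤ) = Pi.single i 8 := rfl

theorem eq_vec8_or_neg (v : ↥leechLattice) (i : GolayPt) (s : ℤ) (hs : s = 8 ∨ s = -8)
    (hv : (v : GolayPt → ℤ) = Pi.single i s) : v = vec8 i ∨ v = -vec8 i := by
  rcases hs with rfl | rfl
  · left
    exact Subtype.ext hv
  · right
    apply Subtype.ext
    rw [hv, AddSubgroup.coe_neg, vec8_val, ← Pi.single_neg]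

theorem signedPerm_one_apply (c : Finset GolayPt) (x : GolayPt → ℤ) (j : GolayPt) :
    signedPerm 1 c x j = if j ∈ c then -x j else x j := rfl

theorem signedPerm_one_single (c : Finset GolayPt) (i : GolayPt) (s : ℤ) :
    signedPerm 1 c (Pi.single i s) = Pi.single i (if i ∈ c then -s else s) :=
  signedPerm_single 1 c i s

theorem signedPerm_empty_single (σ : Equiv.Perm GolayPt) (i : GolayPt) (s : ℤ) :
    signedPerm σ ∅ (Pi.single i s) = Pi.single (σ i) s := by
  rw [signedPerm_single, if_neg (Finset.notMem_empty _)]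

/-- a central automorphism maps `8 e_i` to `± 8 e_i` -/
theorem center_vec8 (z : ↥Co0) (hz : z ∈ Subgroup.center ↥Co0) (i : GolayPt) :
    ∃ s : ℤ, (s = 8 ∨ s = -8) ∧
      ((z • vec8 i : ↥leechLattice) : GolayPt → ℤ) = Pi.single i s := by
  classical
  rw [Subgroup.mem_center_iff] at hz
  have hzero : ∀ j, j ≠ i → ((z • vec8 i : ↥leechLattice) : GolayPt → ℤ) j = 0 := by
    intro j hji
    obtain ⟨C, hC, hjC, hiC⟩ := exists_code_sep (Ne.symm hji)
    have hcomm := hz (monoCo0 (Subgroup.one_mem M24) hC)
    have h1 : (monoCo0 (Subgroup.one_mem M24) hC * z) • vec8 i =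
        (z * monoCo0 (Subgroup.one_mem M24) hC) • vec8 i := by rw [hcomm]
    rw [mul_smul, mul_smul] at h1
    have h2 : monoCo0 (Subgroup.one_mem M24) hC • vec8 i = vec8 i := by
      apply Subtype.ext
      rw [monoCo0_smul, vec8_val, signedPerm_one_single, if_neg hiC]
    rw [h2] at h1
    have h3 := congrArg (fun w : ↥leechLattice => (w : GolayPt → ℤ) j) h1
    rw [monoCo0_smul, signedPerm_one_apply, if_pos hjC] at h3
    omega
  have hnorm := co0_sqNorm z (vec8 i)
  rw [vec8_val] at hnorm
  unfold sqNorm at hnorm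
  rw [Finset.sum_eq_single i (fun j _ hj => by rw [hzero j hj]; norm_num)
    (fun h => absurd (Finset.mem_univ i) h),
    Finset.sum_eq_single i (fun j _ hj => by rw [Pi.single_eq_of_ne hj]; norm_num)
    (fun h => absurd (Finset.mem_univ i) h), Pi.single_eq_same] at hnorm
  refine ⟨((z • vec8 i : ↥leechLattice) : GolayPt → ℤ) i, ?_, ?_⟩
  · have h : (((z • vec8 i : ↥leechLattice) : GolayPt → ℤ) i - 8) *
        (((z • vec8 i : ↥leechLattice) : GolayPt → ℤ) i + 8) = 0 := by
      ring_nf
      ring_nf at hnorm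
      omega
    rcases mul_eq_zero.mp h with h | h
    · left; omega
    · right; omega
  · ext j
    by_cases hj : j = i
    · subst hj
      rw [Pi.single_eq_same]
    · rw [Pi.single_eq_of_ne hj, hzero j hj]

theorem center_fixesCross (z : ↥Co0) (hz : z ∈ Subgroup.center ↥Co0) : FixesCross z := by
  rintro v ⟨i, s, hs, hv⟩
  obtain ⟨s', hs', hzi⟩ := center_vec8 z hz i
  rcases eq_vec8_or_neg v i s hs hv with rfl | rfl
  · exact ⟨i, s', hs', hzi⟩
  · rw [co0_smul_neg, AddSubgroup.coe_neg, hzi, ← Pi.single_neg]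
    refine ⟨i, -s', ?_, rfl⟩
    rcases hs' with rfl | rfl
    · right; rfl
    · left; norm_num

/-- the negation map as an automorphism -/
noncomputable def negCo0 : ↥Co0 :=
  monoCo0 (Subgroup.one_mem M24) Cfsg.Agent.S0390.univ_mem_supports

theorem negCo0_smul (v : ↥leechLattice) : negCo0 • v = -v := by
  apply Subtype.ext
  unfold negCo0
  rw [monoCo0_smul, AddSubgroup.coe_neg]
  ext j
  rw [signedPerm_one_apply, if_pos (Finset.mem_univ j), Pi.neg_apply]

theorem co0_ext {g h : ↥Co0} (H : ∀ v : ↥leechLattice, g • v = h • v) : g = h := by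
  apply Subtype.ext
  apply Equiv.ext
  intro v
  exact H v

theorem negCo0_ne_one : negCo0 ≠ 1 := by
  intro h
  have h1 := negCo0_smul (vec8 none)
  rw [h, one_smul] at h1
  have h2 := congrArg (fun w : ↥leechLattice => (w : GolayPt → ℤ) none) h1
  simp only [AddSubgroup.coe_neg, Pi.neg_apply, vec8_val, Pi.single_eq_same] at h2
  norm_num at h2

theorem negCo0_mem_center : negCo0 ∈ Subgroup.center ↥Co0 := by
  rw [Subgroup.mem_center_iff]
  intro g
  apply co0_ext
  intro v
  rw [mul_smul, mul_smul, negCo0_smul, negCo0_smul, co0_smul_neg]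

theorem center_eq_or (z : ↥Co0) (hz : z ∈ Subgroup.center ↥Co0) : z = 1 ∨ z = negCo0 := by
  classical
  obtain ⟨σ, hσ, c, hc, hform⟩ := exists_mono_of_fixesCross z (center_fixesCross z hz)
  -- the permutation part is trivial
  have hσ1 : ∀ i, σ i = i := by
    intro i
    obtain ⟨s, hs, hzi⟩ := center_vec8 z hz i
    have h1 := hform (vec8 i)
    rw [hzi, vec8_val, signedPerm_single] at h1
    have h2 := congrFun h1 (σ i)
    rw [Pi.single_eq_same] at h2
    by_contra hne
    rw [Pi.single_eq_of_ne hne] at h2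
    split_ifs at h2 <;> norm_num at h2
  have hσe : σ = 1 := Equiv.ext hσ1
  subst hσe
  -- the sign set is invariant under the group of the code
  have hinv : ∀ π ∈ M24, ∀ i, i ∈ c ↔ π i ∈ c := by
    intro π hπ i
    have hcomm := (Subgroup.mem_center_iff.mp hz)
      (monoCo0 hπ Cfsg.Agent.S0390.empty_mem_supports)
    have h1 : (monoCo0 hπ Cfsg.Agent.S0390.empty_mem_supports * z) • vec8 i =
        (z * monoCo0 hπ Cfsg.Agent.S0390.empty_mem_supports) • vec8 i := by rw [hcomm]
    rw [mul_smul, mul_smul] at h1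
    have h2 := congrArg (fun w : ↥leechLattice => (w : GolayPt → ℤ) (π i)) h1
    rw [monoCo0_smul, hform, hform, monoCo0_smul, vec8_val, signedPerm_one_single,
      signedPerm_empty_single, signedPerm_empty_single, signedPerm_one_single,
      Pi.single_eq_same, Pi.single_eq_same] at h2
    constructor
    · intro hi
      by_contra hpi
      rw [if_pos hi, if_neg hpi] at h2
      norm_num at h2
    · intro hpi
      by_contra hi
      rw [if_neg hi, if_pos hpi] at h2
      norm_num at h2
  have : MulAction.IsPretransitive ↥M24 GolayPt := by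
    rw [← MulAction.is_one_pretransitive_iff]
    have := Cfsg.Agent.Helper7.m24_five_transitive
    exact MulAction.isMultiplyPretransitive_of_le (G := ↥M24) (α := GolayPt) (m := 1) (n := 5)
      (by norm_num) (by rw [Nat.card_eq_fintype_card, Cfsg.Agent.Helper26.card_golayPt]; norm_num)
  by_cases hne : c.Nonempty
  · right
    obtain ⟨i, hi⟩ := hne
    have hall : ∀ j, j ∈ c := by
      intro j
      obtain ⟨π, hπ⟩ := MulAction.exists_smul_eq ↥M24 i j
      have := (hinv π.1 π.2 i).mp hi
      rw [← hπ]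
      exact this
    apply co0_ext
    intro v
    rw [negCo0_smul]
    apply Subtype.ext
    rw [hform, AddSubgroup.coe_neg]
    ext j
    rw [signedPerm_one_apply, if_pos (hall j), Pi.neg_apply]
  · left
    rw [Finset.not_nonempty_iff_eq_empty] at hne
    subst hne
    apply co0_ext
    intro v
    rw [one_smul]
    apply Subtype.ext
    rw [hform]
    ext j
    rw [signedPerm_one_apply, if_neg (Finset.notMem_empty j)]

theorem card_center_co0 : Nat.card (Subgroup.center ↥Co0) = 2 := by
  have hset : ((Subgroup.center ↥Co0 : Subgroup ↥Co0) : Set ↥Co0) = {1, negCo0} := by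
    ext z
    simp only [SetLike.mem_coe, Set.mem_insert_iff, Set.mem_singleton_iff]
    constructor
    · exact center_eq_or z
    · rintro (rfl | rfl)
      · exact Subgroup.one_mem _
      · exact negCo0_mem_center
  have h1 : Nat.card (Subgroup.center ↥Co0) =
      ((Subgroup.center ↥Co0 : Subgroup ↥Co0) : Set ↥Co0).ncard := by
    rw [← Nat.card_coe_set_eq]
    rfl
  rw [h1, hset, Set.ncard_pair (Ne.symm negCo0_ne_one)]

end Cfsg.Agent.Helper8
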