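import Mathlib
import Cfsg.Prelude.Def_SporadicCombinatorics
import Cfsg.Agent.Helper8.CrossStab
import Cfsg.Agent.Helper27.GolayWeights

/-!
An explicit automorphism of the rank-24 lattice attached to a partition of the 24 points into
six 4-sets, which is not a signed coordinate permutation.
-/

set_option autoImplicit false

namespace Cfsg.Agent.Helper8

open Cfsg Cfsg.Agent.Helper27

/-- integer vectors on the 24 points -/
abbrev IVec := GolayPt → ℤ

/-! ### coordinates adapted to the six 4-sets -/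

/-- the table of (block, slot) by index of the point -/
def sxTab : List (Fin 6 × Fin 4) :=
  [(0, 1), (0, 2), (0, 3), (2, 0), (1, 0), (2, 1), (3, 0), (3, 1), (5, 0), (4, 0), (4, 1), (5, 1),
   (5, 2), (1, 1), (2, 2), (4, 2), (1, 2), (2, 3), (5, 3), (3, 2), (4, 3), (3, 3), (1, 3), (0, 0)]

/-- the six blocks, as lists of indices -/
def sxBlocks : List (List ℕ) :=
  [[23, 0, 1, 2], [4, 13, 16, 22], [3, 5, 14, 17], [6, 7, 19, 21], [9, 10, 15, 20],
   [8, 11, 12, 18]]

/-- (block, slot) of a point -/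
def sxIdx (p : GolayPt) : Fin 6 × Fin 4 := sxTab.getD (gIdx p) (0, 0)

/-- the point with given (block, slot) -/
def sxPt (q : Fin 6 × Fin 4) : GolayPt := gPt ((sxBlocks.getD q.1 []).getD q.2 0)

theorem sxPt_sxIdx : ∀ p : GolayPt, sxPt (sxIdx p) = p := by decide +kernel

theorem sxIdx_sxPt : ∀ q : Fin 6 × Fin 4, sxIdx (sxPt q) = q := by decide +kernel

/-- the coordinate change -/
def sxE : GolayPt ≃ Fin 6 × Fin 4 := ⟨sxIdx, sxPt, sxPt_sxIdx, sxIdx_sxPt⟩

theorem sum_sx (f : GolayPt → ℤ) :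
    ∑ p, f p = ∑ k : Fin 6,
      (f (sxPt (k, 0)) + f (sxPt (k, 1)) + f (sxPt (k, 2)) + f (sxPt (k, 3))) := by
  rw [← Equiv.sum_comp sxE.symm f, Fintype.sum_prod_type]
  refine Finset.sum_congr rfl fun k _ => ?_
  rw [Fin.sum_univ_four]
  rfl

/-- the sum of the coordinates over a block -/
def tetSum (x : IVec) (k : Fin 6) : ℤ :=
  x (sxPt (k, 0)) + x (sxPt (k, 1)) + x (sxPt (k, 2)) + x (sxPt (k, 3))

/-- all block sums are even -/
def EvenSums (x : IVec) : Prop := ∀ k, (2 : ℤ) ∣ tetSum x k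

/-- the map: on each block subtract half the block sum; change sign on the first block -/
def xiFun (x : IVec) : IVec := fun p =>
  if (sxIdx p).1 = 0 then tetSum x (sxIdx p).1 / 2 - x p else x p - tetSum x (sxIdx p).1 / 2

theorem xiFun_sxPt (x : IVec) (k : Fin 6) (a : Fin 4) :
    xiFun x (sxPt (k, a)) =
      if k = 0 then tetSum x k / 2 - x (sxPt (k, a)) else x (sxPt (k, a)) - tetSum x k / 2 := by
  unfold xiFun
  rw [sxIdx_sxPt]

theorem tetSum_add (x y : IVec) (k : Fin 6) : tetSum (x + y) k = tetSum x k + tetSum y k := by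
  unfold tetSum
  simp only [Pi.add_apply]
  ring

theorem tetSum_neg (x : IVec) (k : Fin 6) : tetSum (-x) k = -tetSum x k := by
  unfold tetSum
  simp only [Pi.neg_apply]
  ring

theorem evenSums_zero : EvenSums 0 := by
  intro k
  unfold tetSum
  simp

theorem EvenSums.add {x y : IVec} (hx : EvenSums x) (hy : EvenSums y) : EvenSums (x + y) := by
  intro k
  rw [tetSum_add]
  exact dvd_add (hx k) (hy k)

theorem EvenSums.neg {x : IVec} (hx : EvenSums x) : EvenSums (-x) := by
  intro k
  rw [tetSum_neg]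
  exact (dvd_neg).mpr (hx k)

theorem xiFun_add {x y : IVec} (hx : EvenSums x) (_hy : EvenSums y) :
    xiFun (x + y) = xiFun x + xiFun y := by
  ext p
  unfold xiFun
  simp only [Pi.add_apply]
  rw [tetSum_add, Int.add_ediv_of_dvd_left (hx _)]
  split_ifs <;> ring

theorem xiFun_neg {x : IVec} (hx : EvenSums x) : xiFun (-x) = -xiFun x := by
  ext p
  unfold xiFun
  simp only [Pi.neg_apply]
  rw [tetSum_neg, Int.neg_ediv_of_dvd (hx _)]
  split_ifs <;> ring

theorem tetSum_xiFun {x : IVec} (hx : EvenSums x) (k : Fin 6) :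
    tetSum (xiFun x) k = if k = 0 then tetSum x k else -tetSum x k := by
  obtain ⟨t, ht⟩ := hx k
  have h2 : tetSum x k / 2 = t := by rw [ht]; simp
  have : tetSum (xiFun x) k = xiFun x (sxPt (k, 0)) + xiFun x (sxPt (k, 1)) +
      xiFun x (sxPt (k, 2)) + xiFun x (sxPt (k, 3)) := rfl
  rw [this, xiFun_sxPt, xiFun_sxPt, xiFun_sxPt, xiFun_sxPt, h2]
  unfold tetSum at ht ⊢
  split_ifs
  · linarith
  · linarith

theorem EvenSums.xiFun {x : IVec} (hx : EvenSums x) : EvenSums (xiFun x) := by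
  intro k
  rw [tetSum_xiFun hx]
  split_ifs
  · exact hx k
  · exact (dvd_neg).mpr (hx k)

theorem xiFun_xiFun {x : IVec} (hx : EvenSums x) : xiFun (xiFun x) = x := by
  ext p
  obtain ⟨t, ht⟩ := hx (sxIdx p).1
  have h2 : tetSum x (sxIdx p).1 / 2 = t := by rw [ht]; simp
  have h3 : (-tetSum x (sxIdx p).1) / 2 = -t := by rw [ht]; omega
  show (if (sxIdx p).1 = 0 then tetSum (xiFun x) (sxIdx p).1 / 2 - xiFun x p
    else xiFun x p - tetSum (xiFun x) (sxIdx p).1 / 2) = x p
  rw [tetSum_xiFun hx]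
  unfold xiFun
  by_cases hk : (sxIdx p).1 = 0
  · rw [if_pos hk, if_pos hk, if_pos hk, h2]
    ring
  · rw [if_neg hk, if_neg hk, if_neg hk, h3, h2]
    ring

theorem sqNorm_xiFun {x : IVec} (hx : EvenSums x) : sqNorm (xiFun x) = sqNorm x := by
  unfold sqNorm
  rw [sum_sx, sum_sx]
  refine Finset.sum_congr rfl fun k _ => ?_
  obtain ⟨t, ht⟩ := hx k
  have h2 : tetSum x k / 2 = t := by rw [ht]; simp
  rw [xiFun_sxPt, xiFun_sxPt, xiFun_sxPt, xiFun_sxPt, h2]
  unfold tetSum at ht
  split_ifs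
  · linear_combination (-2 * t) * ht
  · linear_combination (-2 * t) * ht

/-! ### a membership test for explicit vectors -/

/-- the sum of the first `n` coordinates -/
def sumTo (x : IVec) : ℕ → ℤ
  | 0 => 0
  | n + 1 => sumTo x n + x (gPt n)

theorem sumTo_eq (x : IVec) (n : ℕ) : sumTo x n = ∑ i ∈ Finset.range n, x (gPt i) := by
  induction n with
  | zero => simp [sumTo]
  | succ n ih => rw [sumTo, ih, Finset.sum_range_succ]

/-- the first `n` coordinates have remainder `m` modulo 2 -/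
def parTo (x : IVec) (m : ℤ) : ℕ → Bool
  | 0 => true
  | n + 1 => parTo x m n && decide (x (gPt n) % 2 = m)

theorem parTo_iff (x : IVec) (m : ℤ) (n : ℕ) :
    parTo x m n = true ↔ ∀ i < n, x (gPt i) % 2 = m := by
  induction n with
  | zero => simp [parTo]
  | succ n ih =>
    rw [parTo, Bool.and_eq_true, ih, decide_eq_true_eq]
    constructor
    · rintro ⟨h1, h2⟩ i hi
      rcases Nat.lt_succ_iff_lt_or_eq.mp hi with h | rfl
      · exact h1 i h
      · exact h2
    · intro h
      exact ⟨fun i hi => h i (Nat.lt_succ_of_lt hi), h n (Nat.lt_succ_self n)⟩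

/-- the mask of the positions with a given remainder modulo 4 -/
def clsMask (x : IVec) (k : ℤ) : ℕ := Nat.ofBits fun i : Fin 24 => decide (x (gPt i) % 4 = k)

/-- the membership test -/
def leechChk (x : IVec) : Bool :=
  parTo x (x (gPt 0) % 2) 24 && decide ((sumTo x 24 - 4 * (x (gPt 0) % 2)) % 8 = 0) &&
    isCode (clsMask x 0) && isCode (clsMask x 1) && isCode (clsMask x 2) && isCode (clsMask x 3)

theorem mem_supports_iff_isCode (s : Finset GolayPt) :
    s ∈ supports (golayCode : Set (GolayPt → ZMod 2)) ↔ isCode (maskOfSet s) = true := by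
  have h := wordOf_mem_golayCode_iff (maskOfSet_lt s)
  rw [← indWord_setOf, setOf_maskOfSet] at h
  exact (mem_supports_iff _ s).trans h

theorem maskOfSet_cls (x : IVec) (k : ℤ) (hk : k % 4 = k) :
    maskOfSet (Finset.univ.filter fun i => x i ≡ k [ZMOD 4]) = clsMask x k := by
  unfold maskOfSet clsMask
  congr 1
  funext i
  rw [decide_eq_decide, Finset.mem_filter]
  unfold Int.ModEq
  rw [hk]
  simp

theorem mem_of_leechChk {x : IVec} (h : leechChk x = true) : x ∈ leechLattice := by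
  unfold leechChk at h
  simp only [Bool.and_eq_true, decide_eq_true_eq] at h
  obtain ⟨⟨⟨⟨⟨h1, h2⟩, c0⟩, c1⟩, c2⟩, c3⟩ := h
  rw [mem_leechLattice_iff]
  refine ⟨x (gPt 0) % 2, fun p => ?_, ?_, fun k => ?_⟩
  · have := (parTo_iff x _ 24).mp h1 (gIdx p) (gIdx_lt p)
    rw [gPt_gIdx] at this
    unfold Int.ModEq
    omega
  · rw [sum_golayPt, ← sumTo_eq]
    unfold Int.ModEq
    omega
  · have hk : (Finset.univ.filter fun i => x i ≡ k [ZMOD 4]) =
        Finset.univ.filter fun i => x i ≡ k % 4 [ZMOD 4] := by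
      ext i
      simp only [Finset.mem_filter, Finset.mem_univ, true_and]
      unfold Int.ModEq
      rw [Int.emod_emod_of_dvd k (dvd_refl 4)]
    rw [hk, mem_supports_iff_isCode]
    have h4 : k % 4 = 0 ∨ k % 4 = 1 ∨ k % 4 = 2 ∨ k % 4 = 3 := by omega
    rcases h4 with h4 | h4 | h4 | h4 <;> rw [h4, maskOfSet_cls x _ (by norm_num)] <;> assumption

end Cfsg.Agent.Helper8
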