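import Mathlib
import Cfsg.Prelude.Def_SporadicCombinatorics
import Cfsg.Agent.Helper8.Xi

/-!
Kernel computations: the explicit map of `Xi.lean` sends a list of generators of the rank-24
lattice into the lattice.
-/

set_option autoImplicit false

namespace Cfsg.Agent.Helper8

open Cfsg Cfsg.Agent.Helper27

/-- twice the indicator of a mask -/
def twoW (m : ℕ) : IVec := fun p => if m.testBit (gIdx p) then 2 else 0

theorem twoInd_support₂_wordOf (m : ℕ) : twoInd (support₂ (wordOf m)) = twoW m := by
  ext p
  unfold twoInd twoW
  rw [support₂_wordOf]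
  by_cases h : m.testBit (gIdx p) = true
  · rw [if_pos ((mem_setOf m p).mpr h), if_pos h]
  · rw [if_neg (fun h' => h ((mem_setOf m p).mp h')), if_neg h]

set_option maxRecDepth 100000 in
theorem xi_two_code : ∀ w ∈ golayCode, xiFun (twoInd (support₂ w)) ∈ leechLattice := by
  apply forall_golay (fun w => xiFun (twoInd (support₂ w)) ∈ leechLattice)
    (fun m => leechChk (xiFun (twoW m)))
  · intro c _ h
    rw [twoInd_support₂_wordOf]
    exact mem_of_leechChk h
  · decide +kernel

set_option maxRecDepth 100000 in
theorem xi_oddVec_chk : leechChk (xiFun Cfsg.Agent.Helper92.oddVec) = true := by decide +kernel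

/-- the vector `4 e_p - 4 e_∞` -/
def dvec (p : GolayPt) : IVec := Pi.single p 4 - Pi.single none 4

set_option maxRecDepth 100000 in
theorem xi_dvec_chk : ∀ p : GolayPt, leechChk (xiFun (dvec p)) = true := by decide +kernel

set_option maxRecDepth 100000 in
theorem xi_e8_chk : leechChk (xiFun (Pi.single none 8)) = true := by decide +kernel

end Cfsg.Agent.Helper8
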