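import Mathlib
import Cfsg.Prelude.Def_SporadicCombinatorics
import Cfsg.Agent.Helper8.Xi
import Cfsg.Agent.Helper8.XiCode

/-!
The explicit map of `Xi.lean` preserves the rank-24 lattice; the resulting automorphism.
-/

set_option autoImplicit false

namespace Cfsg.Agent.Helper8

open Cfsg Cfsg.Agent.Helper27

/-! ### block sums of lattice vectors are even -/

theorem evenSums_of_even {x : IVec} (h : ∀ i, (2 : ℤ) ∣ x i) : EvenSums x := by
  intro k
  unfold tetSum
  exact dvd_add (dvd_add (dvd_add (h _) (h _)) (h _)) (h _)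

theorem evenSums_of_mem {x : IVec} (hx : x ∈ leechLattice) : EvenSums x := by
  rw [mem_leechLattice_iff] at hx
  obtain ⟨m, hm, -, -⟩ := hx
  intro k
  unfold tetSum
  have h0 := hm (sxPt (k, 0))
  have h1 := hm (sxPt (k, 1))
  have h2 := hm (sxPt (k, 2))
  have h3 := hm (sxPt (k, 3))
  unfold Int.ModEq at h0 h1 h2 h3
  omega

theorem xiFun_zero : xiFun 0 = 0 := by
  ext p
  unfold xiFun tetSum
  simp

/-- the vectors with even block sums whose image lies in the lattice -/
def xiK : AddSubgroup IVec where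
  carrier := {x | EvenSums x ∧ xiFun x ∈ leechLattice}
  zero_mem' := ⟨evenSums_zero, by rw [xiFun_zero]; exact zero_mem _⟩
  add_mem' := fun ha hb => ⟨ha.1.add hb.1, by rw [xiFun_add ha.1 hb.1]; exact add_mem ha.2 hb.2⟩
  neg_mem' := fun ha => ⟨ha.1.neg, by rw [xiFun_neg ha.1]; exact neg_mem ha.2⟩

theorem mem_xiK (x : IVec) : x ∈ xiK ↔ EvenSums x ∧ xiFun x ∈ leechLattice := Iff.rfl

/-! ### generators -/

theorem twoInd_mem_xiK {C : Finset GolayPt}
    (hC : C ∈ supports (golayCode : Set (GolayPt → ZMod 2))) : twoInd C ∈ xiK := by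
  refine ⟨evenSums_of_mem (twoInd_mem hC), ?_⟩
  obtain ⟨w, hw, rfl⟩ := hC
  exact xi_two_code w hw

theorem oddVec_mem_xiK : Cfsg.Agent.Helper92.oddVec ∈ xiK :=
  ⟨evenSums_of_mem oddVec_mem_lattice, mem_of_leechChk xi_oddVec_chk⟩

theorem dvec_mem_xiK (p : GolayPt) : dvec p ∈ xiK := by
  refine ⟨evenSums_of_even fun i => ?_, mem_of_leechChk (xi_dvec_chk p)⟩
  unfold dvec
  rw [Pi.sub_apply, Pi.single_apply, Pi.single_apply]
  split_ifs <;> norm_num

theorem e8_mem_xiK : (Pi.single none 8 : IVec) ∈ xiK := by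
  refine ⟨evenSums_of_even fun i => ?_, mem_of_leechChk xi_e8_chk⟩
  rw [Pi.single_apply]
  split_ifs <;> norm_num

theorem four_smul_mem_xiK (y : IVec) (hy : (2 : ℤ) ∣ ∑ i, y i) : (4 : ℤ) • y ∈ xiK := by
  obtain ⟨t, ht⟩ := hy
  have h : (4 : ℤ) • y = ∑ i, y i • dvec i + t • (Pi.single none 8 : IVec) := by
    ext j
    rw [Pi.add_apply, Finset.sum_apply, Pi.smul_apply, Pi.smul_apply, smul_eq_mul, smul_eq_mul]
    have h1 : ∀ i ∈ Finset.univ, (y i • dvec i) j =
        y i * (Pi.single i 4 : IVec) j - y i * (Pi.single none 4 : IVec) j := by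
      intro i _
      unfold dvec
      rw [Pi.smul_apply, Pi.sub_apply, smul_eq_mul]
      ring
    rw [Finset.sum_congr rfl h1, Finset.sum_sub_distrib, ← Finset.sum_mul, ht]
    rw [Finset.sum_eq_single j]
    · rw [Pi.single_eq_same]
      by_cases hj : j = none
      · subst hj
        rw [Pi.single_eq_same, Pi.single_eq_same]
        ring
      · rw [Pi.single_eq_of_ne hj, Pi.single_eq_of_ne hj]
        ring
    · intro i _ hij
      rw [Pi.single_eq_of_ne (Ne.symm hij)]
      ring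
    · intro h
      exact absurd (Finset.mem_univ j) h
  rw [h]
  exact add_mem (sum_mem fun i _ => xiK.zsmul_mem (dvec_mem_xiK i) _)
    (xiK.zsmul_mem e8_mem_xiK _)

/-! ### decomposition of lattice vectors -/

theorem oddVec_apply_cases (i : GolayPt) :
    Cfsg.Agent.Helper92.oddVec i = 1 ∨ Cfsg.Agent.Helper92.oddVec i = -3 := by
  unfold Cfsg.Agent.Helper92.oddVec
  split_ifs
  · right; rfl
  · left; rfl

theorem leech_decomp {x : IVec} (hx : x ∈ leechLattice) :
    ∃ (m : ℤ) (C : Finset GolayPt) (y : IVec),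
      C ∈ supports (golayCode : Set (GolayPt → ZMod 2)) ∧ (2 : ℤ) ∣ ∑ i, y i ∧
        x = m • Cfsg.Agent.Helper92.oddVec + twoInd C + (4 : ℤ) • y := by
  classical
  have hx0 := hx
  rw [mem_leechLattice_iff] at hx0
  obtain ⟨m, hm, -, -⟩ := hx0
  have hx' : x - m • Cfsg.Agent.Helper92.oddVec ∈ leechLattice :=
    sub_mem hx (leechLattice.zsmul_mem oddVec_mem_lattice m)
  obtain ⟨x', hx'def⟩ : ∃ x', x' = x - m • Cfsg.Agent.Helper92.oddVec := ⟨_, rfl⟩
  rw [← hx'def] at hx'
  have heven : ∀ i, x' i % 2 = 0 := by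
    intro i
    have h1 := hm i
    unfold Int.ModEq at h1
    have : x' i = x i - m * Cfsg.Agent.Helper92.oddVec i := by
      rw [hx'def, Pi.sub_apply, Pi.smul_apply, smul_eq_mul]
    rw [this]
    rcases oddVec_apply_cases i with h | h <;> rw [h] <;> omega
  have hx'' := hx'
  rw [mem_leechLattice_iff] at hx''
  obtain ⟨m', hm', hsum, hcls⟩ := hx''
  have hm'even : m' % 2 = 0 := by
    have h1 := hm' none
    have h2 := heven none
    unfold Int.ModEq at h1
    omega
  obtain ⟨C, hCdef⟩ : ∃ C : Finset GolayPt, C = Finset.univ.filter fun i => x' i ≡ 2 [ZMOD 4] :=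
    ⟨_, rfl⟩
  have hC : C ∈ supports (golayCode : Set (GolayPt → ZMod 2)) := by rw [hCdef]; exact hcls 2
  have hmemC : ∀ i, i ∈ C ↔ x' i % 4 = 2 := by
    intro i
    rw [hCdef, Finset.mem_filter]
    unfold Int.ModEq
    simp
  have hdiv : ∀ i, (4 : ℤ) ∣ x' i - (if i ∈ C then 2 else 0) := by
    intro i
    have h2 := heven i
    by_cases hi : i ∈ C
    · rw [if_pos hi]
      have := (hmemC i).mp hi
      omega
    · rw [if_neg hi]
      have : ¬ x' i % 4 = 2 := fun h => hi ((hmemC i).mpr h)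
      omega
  refine ⟨m, C, fun i => (x' i - (if i ∈ C then 2 else 0)) / 4, hC, ?_, ?_⟩
  · -- the sum is even
    show (2 : ℤ) ∣ ∑ i, (x' i - (if i ∈ C then 2 else 0)) / 4
    have h4 : (4 : ℤ) * ∑ i, (x' i - (if i ∈ C then 2 else 0)) / 4 =
        ∑ i, x' i - 2 * C.card := by
      rw [Finset.mul_sum]
      have : ∀ i ∈ Finset.univ, 4 * ((x' i - (if i ∈ C then 2 else 0)) / 4) =
          x' i - (if i ∈ C then 2 else 0) := fun i _ => Int.mul_ediv_cancel' (hdiv i)
      rw [Finset.sum_congr rfl this, Finset.sum_sub_distrib, Finset.sum_ite_mem,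
        Finset.univ_inter, Finset.sum_const]
      simp
      ring
    have hcard := card_mem_supports hC
    unfold Int.ModEq at hsum
    rcases hcard with h | h | h | h | h <;> rw [h] at h4 <;> omega
  · ext i
    rw [Pi.add_apply, Pi.add_apply, Pi.smul_apply, Pi.smul_apply, smul_eq_mul, smul_eq_mul]
    have h1 : x' i = x i - m * Cfsg.Agent.Helper92.oddVec i := by
      rw [hx'def, Pi.sub_apply, Pi.smul_apply, smul_eq_mul]
    have h2 := Int.mul_ediv_cancel' (hdiv i)
    unfold twoInd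
    rw [h2, h1]
    ring

theorem leech_le_xiK : leechLattice ≤ xiK := by
  intro x hx
  obtain ⟨m, C, y, hC, hy, rfl⟩ := leech_decomp hx
  exact add_mem (add_mem (xiK.zsmul_mem oddVec_mem_xiK m) (twoInd_mem_xiK hC))
    (four_smul_mem_xiK y hy)

theorem xiFun_mem {x : IVec} (hx : x ∈ leechLattice) : xiFun x ∈ leechLattice :=
  (leech_le_xiK hx).2

/-! ### the automorphism -/

/-- the map as a permutation of the lattice -/
def xiPerm : Equiv.Perm leechLattice where
  toFun v := ⟨xiFun v.1, xiFun_mem v.2⟩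
  invFun v := ⟨xiFun v.1, xiFun_mem v.2⟩
  left_inv v := Subtype.ext (xiFun_xiFun (evenSums_of_mem v.2))
  right_inv v := Subtype.ext (xiFun_xiFun (evenSums_of_mem v.2))

theorem xiPerm_apply (v : leechLattice) :
    ((xiPerm v : leechLattice) : GolayPt → ℤ) = xiFun v.1 := rfl

theorem xiPerm_mem : xiPerm ∈ Co0 := by
  refine ⟨fun v w => ?_, fun v => ?_⟩
  · apply Subtype.ext
    rw [xiPerm_apply, AddSubgroup.coe_add, AddSubgroup.coe_add, xiPerm_apply, xiPerm_apply,
      xiFun_add (evenSums_of_mem v.2) (evenSums_of_mem w.2)]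
  · rw [xiPerm_apply, sqNorm_xiFun (evenSums_of_mem v.2)]

/-- the automorphism as an element of the group -/
def xiCo0 : ↥Co0 := ⟨xiPerm, xiPerm_mem⟩

theorem xiCo0_smul (v : ↥leechLattice) :
    ((xiCo0 • v : ↥leechLattice) : GolayPt → ℤ) = xiFun v.1 := rfl

end Cfsg.Agent.Helper8
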