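import Mathlib
import Cfsg.Prelude.Def_SporadicCombinatorics
import Cfsg.Agent.Helper8.XiMem
import Cfsg.Agent.Helper8.Co0Center

/-!
The orbit relation of the automorphism group of the rank-24 lattice, on raw integer vectors.
-/

set_option autoImplicit false

namespace Cfsg.Agent.Helper8

open Cfsg Cfsg.Agent.Helper27

/-- `x` is a lattice vector and some automorphism maps it to `y` -/
def VRel (x y : IVec) : Prop :=
  ∃ (hx : x ∈ leechLattice) (g : ↥Co0),
    ((g • (⟨x, hx⟩ : ↥leechLattice) : ↥leechLattice) : IVec) = y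

theorem VRel.mem_left {x y : IVec} (h : VRel x y) : x ∈ leechLattice := h.1

theorem VRel.mem_right {x y : IVec} (h : VRel x y) : y ∈ leechLattice := by
  obtain ⟨hx, g, rfl⟩ := h
  exact (g • (⟨x, hx⟩ : ↥leechLattice)).2

theorem VRel.refl {x : IVec} (hx : x ∈ leechLattice) : VRel x x :=
  ⟨hx, 1, by rw [one_smul]⟩

theorem VRel.trans {x y z : IVec} (h1 : VRel x y) (h2 : VRel y z) : VRel x z := by
  obtain ⟨hx, g, rfl⟩ := h1
  obtain ⟨hy, h, rfl⟩ := h2
  exact ⟨hx, h * g, by rw [mul_smul]⟩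

theorem VRel.symm {x y : IVec} (h : VRel x y) : VRel y x := by
  have hy := h.mem_right
  obtain ⟨hx, g, rfl⟩ := h
  refine ⟨hy, g⁻¹, ?_⟩
  have : (⟨((g • (⟨x, hx⟩ : ↥leechLattice) : ↥leechLattice) : IVec), hy⟩ : ↥leechLattice) =
      g • (⟨x, hx⟩ : ↥leechLattice) := Subtype.ext rfl
  rw [this, inv_smul_smul]

theorem vrel_signedPerm {x : IVec} (hx : x ∈ leechLattice) {σ : Equiv.Perm GolayPt}
    (hσ : σ ∈ M24) {c : Finset GolayPt}
    (hc : c ∈ supports (golayCode : Set (GolayPt → ZMod 2))) : VRel x (signedPerm σ c x) :=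
  ⟨hx, monoCo0 hσ hc, rfl⟩

theorem vrel_xi {x : IVec} (hx : x ∈ leechLattice) : VRel x (xiFun x) :=
  ⟨hx, xiCo0, rfl⟩

theorem vrel_sign {x : IVec} (hx : x ∈ leechLattice) {c : Finset GolayPt}
    (hc : c ∈ supports (golayCode : Set (GolayPt → ZMod 2))) : VRel x (signedPerm 1 c x) :=
  vrel_signedPerm hx (Subgroup.one_mem _) hc

theorem vrel_perm {x : IVec} (hx : x ∈ leechLattice) {σ : Equiv.Perm GolayPt}
    (hσ : σ ∈ M24) : VRel x (signedPerm σ ∅ x) :=
  vrel_signedPerm hx hσ Cfsg.Agent.S0390.empty_mem_supports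

theorem signedPerm_empty_apply (σ : Equiv.Perm GolayPt) (x : IVec) (i : GolayPt) :
    signedPerm σ ∅ x i = x (σ.symm i) := by
  unfold signedPerm
  rw [if_neg (Finset.notMem_empty i)]

/-- from related vectors to an element of the group -/
theorem exists_smul_of_vrel {v w : ↥leechLattice} (h : VRel v.1 w.1) : ∃ g : ↥Co0, g • v = w := by
  obtain ⟨hx, g, hg⟩ := h
  exact ⟨g, Subtype.ext hg⟩

end Cfsg.Agent.Helper8
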