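import Mathlib
import Cfsg.Prelude.Def_SporadicCombinatorics
import Cfsg.Agent.Helper8.Orbit
import Cfsg.Agent.Helper26.OctadMeet
import Cfsg.Agent.Helper7.M24Octad
import Cfsg.Agent.Helper7.M24Stab

/-!
The automorphism group of the rank-24 lattice is transitive on the vectors of sum of squares 32.
-/

set_option autoImplicit false

namespace Cfsg.Agent.Helper8

open Cfsg Cfsg.Agent.Helper27

/-! ### the three shapes -/

/-- shape `(±4, ±4, 0, …)` -/
def IsA (x : IVec) : Prop :=
  ∃ (i j : GolayPt) (s t : ℤ), i ≠ j ∧ (s = 4 ∨ s = -4) ∧ (t = 4 ∨ t = -4) ∧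
    x = Pi.single i s + Pi.single j t

/-- shape `(±2)^8` on an octad -/
def IsB (x : IVec) : Prop :=
  ∃ O ∈ octads, (∀ i ∈ O, x i = 2 ∨ x i = -2) ∧ ∀ i ∉ O, x i = 0

/-- the vector with `-3` at `k` and `1` elsewhere -/
def oddBase (k : GolayPt) : IVec := fun i => if i = k then -3 else 1

/-- shape `(∓3, ±1, …)` -/
def IsC (x : IVec) : Prop :=
  ∃ (k : GolayPt) (C : Finset GolayPt), C ∈ supports (golayCode : Set (GolayPt → ZMod 2)) ∧
    x = signedPerm 1 C (oddBase k)

/-! ### shape A -/

/-- the base vector of shape A -/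
def vA0 : IVec := Pi.single (Cfsg.Agent.Helper7.pt 0) 4 + Pi.single (Cfsg.Agent.Helper7.pt 1) 4

set_option maxRecDepth 100000 in
theorem vA0_chk : leechChk vA0 = true := by decide +kernel

theorem vA0_mem : vA0 ∈ leechLattice := mem_of_leechChk vA0_chk

theorem vrelA {x : IVec} (h : IsA x) : VRel vA0 x := by
  obtain ⟨i, j, s, t, hij, hs, ht, rfl⟩ := h
  obtain ⟨g, hg, hg0, hg1⟩ := Cfsg.Agent.Helper7.m24_exists_map₂ hij
  have h1 : VRel vA0 (Pi.single i 4 + Pi.single j 4) := by
    have := vrel_perm vA0_mem hg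
    unfold vA0 at this
    rw [signedPerm_add, signedPerm_empty_single, signedPerm_empty_single, hg0, hg1] at this
    exact this
  have key : ∀ C ∈ supports (golayCode : Set (GolayPt → ZMod 2)),
      VRel vA0 (Pi.single i (if i ∈ C then -4 else 4) + Pi.single j (if j ∈ C then -4 else 4)) := by
    intro C hC
    have := vrel_sign h1.mem_right hC
    rw [signedPerm_add, signedPerm_one_single, signedPerm_one_single] at this
    exact h1.trans this
  rcases hs with rfl | rfl <;> rcases ht with rfl | rfl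
  · exact h1
  · obtain ⟨C, hC, hjC, hiC⟩ := exists_code_sep hij
    have := key C hC
    rwa [if_neg hiC, if_pos hjC] at this
  · obtain ⟨C, hC, hiC, hjC⟩ := exists_code_sep (Ne.symm hij)
    have := key C hC
    rwa [if_pos hiC, if_neg hjC] at this
  · have := key Finset.univ Cfsg.Agent.S0390.univ_mem_supports
    rwa [if_pos (Finset.mem_univ _), if_pos (Finset.mem_univ _)] at this

/-! ### shape B -/

/-- a code word meeting an octad in a prescribed even subset -/
theorem exists_code_inter_octad {O : Finset GolayPt} (hO : O ∈ octads) {S : Finset GolayPt}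
    (hS : S ⊆ O) (hev : Even S.card) :
    ∃ C ∈ supports (golayCode : Set (GolayPt → ZMod 2)), C ∩ O = S := by
  classical
  have hSt := Cfsg.Agent.Helper27.octads_steiner
  have h8 : O.card = 8 := hO.2
  have hle : S.card ≤ 8 := h8 ▸ Finset.card_le_card hS
  obtain ⟨r, hr⟩ := hev
  have hcases : S.card = 0 ∨ S.card = 2 ∨ S.card = 4 ∨ S.card = 6 ∨ S.card = 8 := by omega
  rcases hcases with h | h | h | h | h
  · refine ⟨∅, Cfsg.Agent.S0390.empty_mem_supports, ?_⟩
    rw [Finset.card_eq_zero.mp h, Finset.empty_inter]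
  · have := Cfsg.Agent.Helper26.octad_meet_two hSt hO hS h
    have hne : {o' : Finset GolayPt | o' ∈ octads ∧ O ∩ o' = S}.Nonempty := by
      rw [← Set.ncard_pos (Set.toFinite _), this]; norm_num
    obtain ⟨o', ho', hoo'⟩ := hne
    exact ⟨o', ho'.1, by rw [Finset.inter_comm]; exact hoo'⟩
  · have := Cfsg.Agent.Helper26.octad_meet_four hSt hO hS h
    have hne : {o' : Finset GolayPt | o' ∈ octads ∧ O ∩ o' = S}.Nonempty := by
      rw [← Set.ncard_pos (Set.toFinite _), this]; norm_num
    obtain ⟨o', ho', hoo'⟩ := hne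
    exact ⟨o', ho'.1, by rw [Finset.inter_comm]; exact hoo'⟩
  · have h2 : (O \ S).card = 2 := by
      rw [Finset.card_sdiff_of_subset hS, h8, h]
    have := Cfsg.Agent.Helper26.octad_meet_two hSt hO (Finset.sdiff_subset) h2
    have hne : {o' : Finset GolayPt | o' ∈ octads ∧ O ∩ o' = O \ S}.Nonempty := by
      rw [← Set.ncard_pos (Set.toFinite _), this]; norm_num
    obtain ⟨o', ho', hoo'⟩ := hne
    refine ⟨symmDiff O o', Cfsg.Agent.Helper26.golay_symmDiff hO.1 ho'.1, ?_⟩
    ext p
    have hp : p ∈ O ∩ o' ↔ p ∈ O \ S := by rw [hoo']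
    rw [Finset.mem_inter, Finset.mem_sdiff] at hp
    rw [Finset.mem_inter, Finset.mem_symmDiff]
    constructor
    · rintro ⟨h1 | h1, h2⟩
      · by_contra hpS
        exact h1.2 (hp.mpr ⟨h1.1, hpS⟩).2
      · exact absurd h2 h1.2
    · intro hpS
      have hpO := hS hpS
      refine ⟨Or.inl ⟨hpO, fun hpo' => ?_⟩, hpO⟩
      exact (hp.mp ⟨hpO, hpo'⟩).2 hpS
  · refine ⟨O, hO.1, ?_⟩
    rw [Finset.inter_self]
    exact (Finset.eq_of_subset_of_card_le hS (by rw [h8, h])).symm

/-- an even-type lattice vector has coordinate sum divisible by 8 -/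
theorem eight_dvd_sum_of_even {x : IVec} (hx : x ∈ leechLattice) (i0 : GolayPt)
    (h0 : x i0 % 2 = 0) : (8 : ℤ) ∣ ∑ i, x i := by
  rw [mem_leechLattice_iff] at hx
  obtain ⟨m, hm, hsum, -⟩ := hx
  have := hm i0
  unfold Int.ModEq at this hsum
  omega

theorem even_minus_card {x : IVec} (hx : x ∈ leechLattice) {O : Finset GolayPt}
    (h8 : O.card = 8) (h1 : ∀ i ∈ O, x i = 2 ∨ x i = -2) (h0 : ∀ i ∉ O, x i = 0) :
    Even (O.filter fun i => x i = -2).card := by
  classical
  have hne : O.Nonempty := by rw [← Finset.card_pos, h8]; norm_num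
  obtain ⟨i0, hi0⟩ := hne
  have hdvd := eight_dvd_sum_of_even hx i0 (by rcases h1 i0 hi0 with h | h <;> rw [h] <;> norm_num)
  have hsum : ∑ i, x i = ∑ i ∈ O, x i := by
    rw [← Finset.sum_add_sum_compl O x]
    have : ∑ i ∈ Oᶜ, x i = 0 :=
      Finset.sum_eq_zero fun i hi => h0 i (Finset.mem_compl.mp hi)
    rw [this, add_zero]
  have hsum2 : ∑ i ∈ O, x i = ∑ i ∈ O, ((2 : ℤ) - 4 * (if x i = -2 then 1 else 0)) := by
    refine Finset.sum_congr rfl fun i hi => ?_
    rcases h1 i hi with h | h <;> rw [h] <;> norm_num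
  rw [hsum, hsum2, Finset.sum_sub_distrib, Finset.sum_const, ← Finset.mul_sum,
    Finset.sum_boole, h8] at hdvd
  rw [Nat.even_iff]
  simp only [smul_eq_mul, nsmul_eq_mul] at hdvd
  omega

/-- the base octad: the union of the first two blocks -/
def octB : Finset GolayPt := setOf 12656663

theorem octB_mem : octB ∈ octads := by
  unfold octB
  rw [setOf_mem_octads_iff (by norm_num)]
  decide +kernel

theorem vrelB {x : IVec} (hx : x ∈ leechLattice) (h : IsB x) : VRel x (twoInd octB) := by
  classical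
  obtain ⟨O, hO, h1, h0⟩ := h
  obtain ⟨g, hg, hgO⟩ := Cfsg.Agent.Helper7.exists_smul_octad_eq hO octB_mem
  have r1 := vrel_perm hx hg
  have hmem : ∀ i, i ∈ octB ↔ g.symm i ∈ O := by
    intro i
    rw [← hgO, Finset.mem_smul_finset]
    constructor
    · rintro ⟨y, hy, rfl⟩
      simpa using hy
    · intro h
      exact ⟨g.symm i, h, by simp⟩
  have h1' : ∀ i ∈ octB, signedPerm g ∅ x i = 2 ∨ signedPerm g ∅ x i = -2 := by
    intro i hi
    rw [signedPerm_empty_apply]
    exact h1 _ ((hmem i).mp hi)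
  have h0' : ∀ i ∉ octB, signedPerm g ∅ x i = 0 := by
    intro i hi
    rw [signedPerm_empty_apply]
    exact h0 _ (fun h => hi ((hmem i).mpr h))
  have hev := even_minus_card r1.mem_right octB_mem.2 h1' h0'
  obtain ⟨C, hC, hCS⟩ := exists_code_inter_octad octB_mem (Finset.filter_subset _ _) hev
  have r2 := vrel_sign r1.mem_right hC
  have heq : signedPerm 1 C (signedPerm g ∅ x) = twoInd octB := by
    ext i
    rw [signedPerm_one_apply]
    unfold twoInd
    by_cases hi : i ∈ octB
    · rw [if_pos hi]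
      have hiC : i ∈ C ↔ signedPerm g ∅ x i = -2 := by
        have : i ∈ C ∩ octB ↔ i ∈ octB.filter fun i => signedPerm g ∅ x i = -2 := by rw [hCS]
        rw [Finset.mem_inter, Finset.mem_filter] at this
        constructor
        · intro h; exact (this.mp ⟨h, hi⟩).2
        · intro h; exact (this.mpr ⟨hi, h⟩).1
      by_cases hc : i ∈ C
      · rw [if_pos hc, hiC.mp hc]; norm_num
      · rw [if_neg hc]
        rcases h1' i hi with h | h
        · exact h
        · exact absurd (hiC.mpr h) hc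
    · rw [if_neg hi, h0' i hi]
      split_ifs <;> norm_num
  rw [heq] at r2
  exact r1.trans r2

/-! ### shape C -/

/-- the base vector of shape C -/
def vC0 : IVec := oddBase (Cfsg.Agent.Helper7.pt 0)

set_option maxRecDepth 100000 in
theorem vC0_chk : leechChk vC0 = true := by decide +kernel

theorem vC0_mem : vC0 ∈ leechLattice := mem_of_leechChk vC0_chk

theorem vrelC {x : IVec} (h : IsC x) : VRel vC0 x := by
  obtain ⟨k, C, hC, rfl⟩ := h
  obtain ⟨g, hg, hg0⟩ := Cfsg.Agent.Helper7.m24_exists_map₁ k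
  have r1 := vrel_perm vC0_mem hg
  have heq : signedPerm g ∅ vC0 = oddBase k := by
    ext i
    rw [signedPerm_empty_apply]
    unfold vC0 oddBase
    have : g.symm i = Cfsg.Agent.Helper7.pt 0 ↔ i = k := by
      rw [Equiv.symm_apply_eq, hg0]
    by_cases hik : i = k
    · rw [if_pos hik, if_pos (this.mpr hik)]
    · rw [if_neg hik, if_neg (fun h => hik (this.mp h))]
  rw [heq] at r1
  exact r1.trans (vrel_sign r1.mem_right hC)

end Cfsg.Agent.Helper8
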