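import Mathlib
import Cfsg.Prelude.Def_SporadicCombinatorics
import Cfsg.Agent.Helper8.Min32

/-!
Classification of the lattice vectors of sum of squares 32 into three shapes, and transitivity.
-/

set_option autoImplicit false

namespace Cfsg.Agent.Helper8

open Cfsg Cfsg.Agent.Helper27

theorem sq_cases_Le1 {v : ℤ} (h : v = 2 ∨ v = -2 ∨ v = 6 ∨ v = -6) : 4 ≤ v ^ 2 := by
  rcases h with rfl | rfl | rfl | rfl <;> norm_num

/-- classification of the even-type vectors of sum of squares 32 -/
theorem min_cases_even {x : IVec} {C : Finset GolayPt}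
    (hC : C ∈ supports (golayCode : Set (GolayPt → ZMod 2))) (h : x ∈ evenF 32 C) :
    IsA x ∨ IsB x := by
  classical
  rw [mem_evenF] at h
  obtain ⟨hent, hsq, -⟩ := h
  have hentC : ∀ i ∈ C, x i = 2 ∨ x i = -2 ∨ x i = 6 ∨ x i = -6 := by
    intro i hi
    have := hent i
    unfold Ae at this
    rwa [if_pos hi, mem_Le1] at this
  have hentN : ∀ i ∉ C, x i = 0 ∨ x i = 4 ∨ x i = -4 ∨ x i = 8 ∨ x i = -8 := by
    intro i hi
    have := hent i
    unfold Ae at this
    rwa [if_neg hi, mem_Le2] at this
  -- the size of the code word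
  have hbound : (C.card : ℤ) * 4 ≤ 32 := by
    have h1 : C.card • (4 : ℤ) ≤ ∑ i ∈ C, x i ^ 2 :=
      Finset.card_nsmul_le_sum C (fun i => x i ^ 2) 4 fun i hi => sq_cases_Le1 (hentC i hi)
    have h2 : ∑ i ∈ C, x i ^ 2 ≤ ∑ i, x i ^ 2 :=
      Finset.sum_le_sum_of_subset_of_nonneg (Finset.subset_univ C) fun i _ _ => sq_nonneg _
    rw [nsmul_eq_mul] at h1
    linarith
  have hcard := card_mem_supports hC
  have hcard' : C.card = 0 ∨ C.card = 8 := by
    rcases hcard with h | h | h | h | h <;> rw [h] at hbound <;> first | (left; exact h) | (right; exact h) | (norm_num at hbound)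
  rcases hcard' with h0 | h8
  · -- shape A
    left
    have hCe : C = ∅ := Finset.card_eq_zero.mp h0
    subst hCe
    have hentN' : ∀ i, x i = 0 ∨ x i = 4 ∨ x i = -4 ∨ x i = 8 ∨ x i = -8 :=
      fun i => hentN i (Finset.notMem_empty i)
    obtain ⟨S, hSdef⟩ : ∃ S : Finset GolayPt, S = Finset.univ.filter fun i => x i ≠ 0 := ⟨_, rfl⟩
    have hmemS : ∀ i, i ∈ S ↔ x i ≠ 0 := by
      intro i; rw [hSdef]; simp
    have hsumS : ∑ i ∈ S, x i ^ 2 = 32 := by
      rw [← hsq, hSdef, Finset.sum_filter]
      refine Finset.sum_congr rfl fun i _ => ?_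
      by_cases hi : x i = 0
      · rw [if_neg (not_not.mpr hi), hi]; norm_num
      · rw [if_pos hi]
    have hge : ∀ i ∈ S, (16 : ℤ) ≤ x i ^ 2 := by
      intro i hi
      have := (hmemS i).mp hi
      rcases hentN' i with h | h | h | h | h
      · exact absurd h this
      all_goals rw [h]; norm_num
    have hcardS : (S.card : ℤ) * 16 ≤ 32 := by
      have h1 : S.card • (16 : ℤ) ≤ ∑ i ∈ S, x i ^ 2 :=
        Finset.card_nsmul_le_sum S (fun i => x i ^ 2) 16 hge
      rw [nsmul_eq_mul] at h1
      linarith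
    have hS2 : S.card = 2 := by
      have hle : S.card ≤ 2 := by omega
      interval_cases hS : S.card
      · rw [Finset.card_eq_zero.mp hS] at hsumS
        norm_num at hsumS
      · obtain ⟨i, hi⟩ := Finset.card_eq_one.mp hS
        rw [hi, Finset.sum_singleton] at hsumS
        rcases hentN' i with h | h | h | h | h <;> rw [h] at hsumS <;> norm_num at hsumS
      · rfl
    obtain ⟨i, j, hij, hSij⟩ := Finset.card_eq_two.mp hS2
    rw [hSij, Finset.sum_pair hij] at hsumS
    have hi4 : x i = 4 ∨ x i = -4 := by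
      rcases hentN' i with h | h | h | h | h <;> rcases hentN' j with h' | h' | h' | h' | h' <;>
        rw [h, h'] at hsumS <;> norm_num at hsumS <;> first | (left; exact h) | (right; exact h)
    have hj4 : x j = 4 ∨ x j = -4 := by
      rcases hentN' i with h | h | h | h | h <;> rcases hentN' j with h' | h' | h' | h' | h' <;>
        rw [h, h'] at hsumS <;> norm_num at hsumS <;> first | (left; exact h') | (right; exact h')
    refine ⟨i, j, x i, x j, hij, hi4, hj4, ?_⟩
    ext k
    rw [Pi.add_apply]
    by_cases hki : k = i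
    · subst hki
      rw [Pi.single_eq_same, Pi.single_eq_of_ne hij, add_zero]
    · by_cases hkj : k = j
      · subst hkj
        rw [Pi.single_eq_same, Pi.single_eq_of_ne hki, zero_add]
      · rw [Pi.single_eq_of_ne hki, Pi.single_eq_of_ne hkj, add_zero]
        have : k ∉ S := by
          rw [hSij, Finset.mem_insert, Finset.mem_singleton]
          tauto
        rw [hmemS] at this
        exact not_not.mp this
  · -- shape B
    right
    refine ⟨C, ⟨hC, h8⟩, ?_⟩
    have hnonneg : ∀ i ∈ Finset.univ, 0 ≤ x i ^ 2 - (if i ∈ C then 4 else 0) := by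
      intro i _
      by_cases hi : i ∈ C
      · rw [if_pos hi]
        have := sq_cases_Le1 (hentC i hi)
        linarith
      · rw [if_neg hi]
        have := sq_nonneg (x i)
        linarith
    have hzero : ∑ i, (x i ^ 2 - (if i ∈ C then (4 : ℤ) else 0)) = 0 := by
      rw [Finset.sum_sub_distrib, hsq, Finset.sum_ite_mem, Finset.univ_inter, Finset.sum_const, h8]
      norm_num
    have hall := (Finset.sum_eq_zero_iff_of_nonneg hnonneg).mp hzero
    constructor
    · intro i hi
      have := hall i (Finset.mem_univ i)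
      rw [if_pos hi] at this
      rcases hentC i hi with h | h | h | h
      · left; exact h
      · right; exact h
      · rw [h] at this; norm_num at this
      · rw [h] at this; norm_num at this
    · intro i hi
      have := hall i (Finset.mem_univ i)
      rw [if_neg hi, sub_zero] at this
      exact pow_eq_zero_iff (by norm_num) |>.mp this

/-- classification of the odd-type vectors of sum of squares 32 -/
theorem min_cases_odd {x : IVec} {C : Finset GolayPt}
    (hC : C ∈ supports (golayCode : Set (GolayPt → ZMod 2))) (h : x ∈ oddF 32 C) : IsC x := by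
  classical
  rw [mem_oddF] at h
  obtain ⟨hent, hsq, -⟩ := h
  have hentC : ∀ i ∈ C, x i = 1 ∨ x i = -3 ∨ x i = 5 ∨ x i = -7 := by
    intro i hi
    have := hent i
    unfold Ao at this
    rwa [if_pos hi, mem_Lo1] at this
  have hentN : ∀ i ∉ C, x i = -1 ∨ x i = 3 ∨ x i = -5 ∨ x i = 7 := by
    intro i hi
    have := hent i
    unfold Ao at this
    rwa [if_neg hi, mem_Lo2] at this
  have hsqcases : ∀ i, x i ^ 2 = 1 ∨ 9 ≤ x i ^ 2 := by
    intro i
    by_cases hi : i ∈ C
    · rcases hentC i hi with h | h | h | h <;> rw [h] <;> norm_num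
    · rcases hentN i hi with h | h | h | h <;> rw [h] <;> norm_num
  obtain ⟨S, hSdef⟩ : ∃ S : Finset GolayPt, S = Finset.univ.filter fun i => x i ^ 2 ≠ 1 := ⟨_, rfl⟩
  have hmemS : ∀ i, i ∈ S ↔ x i ^ 2 ≠ 1 := by
    intro i; rw [hSdef]; simp
  have htot : ∑ i, (x i ^ 2 - 1) = 8 := by
    rw [Finset.sum_sub_distrib, hsq, Finset.sum_const, Finset.card_univ,
      Cfsg.Agent.Helper26.card_golayPt]
    norm_num
  have hsumS : ∑ i ∈ S, (x i ^ 2 - 1) = 8 := by
    rw [← htot, hSdef, Finset.sum_filter]
    refine Finset.sum_congr rfl fun i _ => ?_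
    by_cases hi : x i ^ 2 = 1
    · rw [if_neg (not_not.mpr hi), hi]; norm_num
    · rw [if_pos hi]
  have hge : ∀ i ∈ S, (8 : ℤ) ≤ x i ^ 2 - 1 := by
    intro i hi
    have := (hmemS i).mp hi
    rcases hsqcases i with h | h
    · exact absurd h this
    · linarith
  have hcardS : (S.card : ℤ) * 8 ≤ 8 := by
    have h1 : S.card • (8 : ℤ) ≤ ∑ i ∈ S, (x i ^ 2 - 1) :=
      Finset.card_nsmul_le_sum S (fun i => x i ^ 2 - 1) 8 hge
    rw [nsmul_eq_mul] at h1
    linarith
  have hS1 : S.card = 1 := by
    have hle : S.card ≤ 1 := by omega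
    interval_cases hS : S.card
    · rw [Finset.card_eq_zero.mp hS] at hsumS
      norm_num at hsumS
    · rfl
  obtain ⟨k, hk⟩ := Finset.card_eq_one.mp hS1
  rw [hk, Finset.sum_singleton] at hsumS
  have hk9 : x k ^ 2 = 9 := by linarith
  have hother : ∀ i, i ≠ k → x i ^ 2 = 1 := by
    intro i hik
    have : i ∉ S := by rw [hk, Finset.mem_singleton]; exact hik
    rw [hmemS] at this
    exact not_not.mp this
  refine ⟨k, Cᶜ, Cfsg.Agent.Helper26.golay_compl hC, ?_⟩
  ext i
  rw [signedPerm_one_apply]
  unfold oddBase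
  by_cases hiC : i ∈ C
  · rw [if_neg (by rw [Finset.mem_compl]; exact not_not.mpr hiC)]
    by_cases hik : i = k
    · subst hik
      rw [if_pos rfl]
      rcases hentC i hiC with h | h | h | h <;> rw [h] at hk9 <;> norm_num at hk9
      exact h
    · rw [if_neg hik]
      have h1 := hother i hik
      rcases hentC i hiC with h | h | h | h <;> rw [h] at h1 <;> norm_num at h1
      exact h
  · rw [if_pos (by rw [Finset.mem_compl]; exact hiC)]
    by_cases hik : i = k
    · subst hik
      rw [if_pos rfl]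
      rcases hentN i hiC with h | h | h | h <;> rw [h] at hk9 <;> norm_num at hk9
      rw [h]; norm_num
    · rw [if_neg hik]
      have h1 := hother i hik
      rcases hentN i hiC with h | h | h | h <;> rw [h] at h1 <;> norm_num at h1
      rw [h]

theorem min_cases {x : IVec} (hx : x ∈ leechLattice) (hn : sqNorm x = 32) :
    IsA x ∨ IsB x ∨ IsC x := by
  obtain ⟨C, hC, h | h⟩ := leech_subset (by norm_num) ((mem_leechLattice_iff x).mp hx) hn
  · rcases min_cases_even hC h with h | h
    · exact Or.inl h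
    · exact Or.inr (Or.inl h)
  · exact Or.inr (Or.inr (min_cases_odd hC h))

/-! ### links between the shapes -/

/-- a vector of shape A whose image is of shape B -/
def vA1 : IVec := Pi.single (gPt 0) 4 + Pi.single (gPt 4) 4

theorem isA_vA1 : IsA vA1 :=
  ⟨gPt 0, gPt 4, 4, 4, by decide, Or.inl rfl, Or.inl rfl, rfl⟩

set_option maxRecDepth 100000 in
theorem xi_vA1_entries : ∀ i : GolayPt,
    (i ∈ octB → xiFun vA1 i = 2 ∨ xiFun vA1 i = -2) ∧ (i ∉ octB → xiFun vA1 i = 0) := by
  decide +kernel

theorem isB_xi_vA1 : IsB (xiFun vA1) :=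
  ⟨octB, octB_mem, fun i hi => (xi_vA1_entries i).1 hi, fun i hi => (xi_vA1_entries i).2 hi⟩

/-- an octad meeting the six blocks in 3, 1, 1, 1, 1, 1 points -/
def octC : Finset GolayPt := setOf 9347075

theorem octC_mem : octC ∈ octads := by
  unfold octC
  rw [setOf_mem_octads_iff (by norm_num)]
  decide +kernel

/-- a vector of shape B whose image is of shape C -/
def vB1 : IVec := twoInd octC

theorem vB1_mem : vB1 ∈ leechLattice := twoInd_mem octC_mem.1

theorem isB_vB1 : IsB vB1 := by
  refine ⟨octC, octC_mem, fun i hi => ?_, fun i hi => ?_⟩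
  · left
    unfold vB1 twoInd
    rw [if_pos hi]
  · unfold vB1 twoInd
    rw [if_neg hi]

theorem setOf_mem_supports {m : ℕ} (hm : m < 2 ^ 24) (h : isCode m = true) :
    setOf m ∈ supports (golayCode : Set (GolayPt → ZMod 2)) := by
  rw [← support₂_wordOf]
  exact ⟨wordOf m, (wordOf_mem_golayCode_iff hm).mpr h, rfl⟩

set_option maxRecDepth 100000 in
theorem xi_vB1_eq : ∀ i : GolayPt,
    xiFun vB1 i = signedPerm 1 (setOf 7430140) (oddBase (gPt 2)) i := by
  decide +kernel

theorem isC_xi_vB1 : IsC (xiFun vB1) :=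
  ⟨gPt 2, setOf 7430140, setOf_mem_supports (by norm_num) (by decide +kernel),
    funext xi_vB1_eq⟩

/-- the automorphism group is transitive on the lattice vectors of sum of squares 32 -/
theorem vrel_min32 {x : IVec} (hx : x ∈ leechLattice) (hn : sqNorm x = 32) : VRel vA0 x := by
  have rAB : VRel vA0 (twoInd octB) :=
    ((vrelA isA_vA1).trans (vrel_xi (vrelA isA_vA1).mem_right)).trans
      (vrelB (vrel_xi (vrelA isA_vA1).mem_right).mem_right isB_xi_vA1)
  have rAC : VRel vA0 vC0 :=
    ((rAB.trans (vrelB vB1_mem isB_vB1).symm).trans (vrel_xi vB1_mem)).trans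
      (vrelC isC_xi_vB1).symm
  rcases min_cases hx hn with h | h | h
  · exact vrelA h
  · exact rAB.trans (vrelB hx h).symm
  · exact rAC.trans (vrelC h)

theorem co0_transitive_min32 (v w : ↥leechLattice) (hv : sqNorm (v : IVec) = 32)
    (hw : sqNorm (w : IVec) = 32) : ∃ g : ↥Co0, g • v = w :=
  exists_smul_of_vrel ((vrel_min32 v.2 hv).symm.trans (vrel_min32 w.2 hw))

end Cfsg.Agent.Helper8
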