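import Mathlib
import Cfsg.Prelude.Def_SporadicCombinatorics
import Cfsg.Agent.Helper8.Min32b
import Cfsg.Agent.Helper26.M24Homog

/-!
Vectors of sum of squares 64 in the rank-24 lattice with all entries in `{0, 4, -4}` lie in the
orbit of a vector of the standard cross.
-/

set_option autoImplicit false

namespace Cfsg.Agent.Helper8

open Cfsg Cfsg.Agent.Helper27
open scoped Pointwise

/-! ### changing signs on a subset of an octad -/

theorem sign_fix {O : Finset GolayPt} (hO : O ∈ octads) {x : IVec} (hx : x ∈ leechLattice)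
    {S : Finset GolayPt} (hS : S ⊆ O) (hev : Even S.card) :
    ∃ y, VRel x y ∧ (∀ i ∈ S, y i = -x i) ∧ (∀ i ∈ O, i ∉ S → y i = x i) ∧
      ∀ i ∉ O, y i = x i ∨ y i = -x i := by
  obtain ⟨C, hC, hCS⟩ := exists_code_inter_octad hO hS hev
  have hmem : ∀ i ∈ O, (i ∈ C ↔ i ∈ S) := by
    intro i hi
    rw [← hCS, Finset.mem_inter]
    exact ⟨fun h => ⟨h, hi⟩, fun h => h.1⟩
  refine ⟨signedPerm 1 C x, vrel_sign hx hC, fun i hi => ?_, fun i hi hiS => ?_, fun i _ => ?_⟩
  · rw [signedPerm_one_apply, if_pos ((hmem i (hS hi)).mpr hi)]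
  · rw [signedPerm_one_apply, if_neg (fun h => hiS ((hmem i hi).mp h))]
  · rw [signedPerm_one_apply]
    split_ifs
    · right; rfl
    · left; rfl

/-- moving a list of at most five points to a given list -/
theorem vrel_move {x : IVec} (hx : x ∈ leechLattice) (l m : List GolayPt) (hl : l.Nodup)
    (hm : m.Nodup) (hlen : l.length = m.length) (h5 : l.length ≤ 5) :
    ∃ g ∈ M24, l.map (⇑g) = m ∧ VRel x (signedPerm g ∅ x) := by
  obtain ⟨g, hg, hmap⟩ := Cfsg.Agent.Helper26.exists_map_list l m hl hm hlen h5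
  exact ⟨g, hg, hmap, vrel_perm hx hg⟩

/-! ### shape `(±4)^4` -/

/-- all entries are `0`, `4` or `-4` -/
def Is44 (z : IVec) : Prop := ∀ i, z i = 0 ∨ z i = 4 ∨ z i = -4

/-- the first block, as a list -/
def blk1 : List GolayPt := [gPt 23, gPt 0, gPt 1, gPt 2]

theorem blk1_nodup : blk1.Nodup := by decide

/-- the normal form of shape `(±4)^4` -/
def z44 : IVec := fun i => if i = gPt 2 then -4 else if i ∈ blk1 then 4 else 0

set_option maxRecDepth 100000 in
theorem xi_z44 : ∀ i : GolayPt, xiFun z44 i = (Pi.single (gPt 2) 8 : IVec) i := by decide +kernel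

theorem blk1_subset_octB : ∀ i ∈ blk1, i ∈ octB := by decide +kernel

theorem z44_cases : ∀ i : GolayPt, (i ∈ blk1 → z44 i = 4 ∨ z44 i = -4) ∧ (i ∉ blk1 → z44 i = 0) := by
  decide +kernel

theorem card_support_44 {z : IVec} (hn : sqNorm z = 64) (h : Is44 z) :
    (Finset.univ.filter fun i => z i ≠ 0).card = 4 := by
  classical
  have h1 : sqNorm z = ∑ i, (if z i ≠ 0 then (16 : ℤ) else 0) := by
    unfold sqNorm
    refine Finset.sum_congr rfl fun i _ => ?_
    rcases h i with h | h | h <;> rw [h] <;> norm_num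
  rw [hn, Finset.sum_ite, Finset.sum_const_zero, add_zero, Finset.sum_const, nsmul_eq_mul] at h1
  have : ((Finset.univ.filter fun i => z i ≠ 0).card : ℤ) = 4 := by linarith
  exact_mod_cast this

theorem vrel_44 {z : IVec} (hz : z ∈ leechLattice) (hn : sqNorm z = 64) (h : Is44 z) :
    VRel z (Pi.single (gPt 2) 8) := by
  classical
  obtain ⟨Q, hQdef⟩ : ∃ Q : Finset GolayPt, Q = Finset.univ.filter fun i => z i ≠ 0 := ⟨_, rfl⟩
  have hQ4 : Q.card = 4 := by rw [hQdef]; exact card_support_44 hn h
  have hmemQ : ∀ i, i ∈ Q ↔ z i ≠ 0 := by intro i; rw [hQdef]; simp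
  obtain ⟨g, hg, hmap, r1⟩ := vrel_move hz Q.toList blk1 (Finset.nodup_toList Q) blk1_nodup
    (by rw [Finset.length_toList, hQ4]; rfl) (by rw [Finset.length_toList, hQ4]; norm_num)
  -- the support after the move
  have hsupp : ∀ i, g.symm i ∈ Q ↔ i ∈ blk1 := by
    intro i
    rw [← hmap, List.mem_map]
    constructor
    · intro hi
      exact ⟨g.symm i, Finset.mem_toList.mpr hi, by simp⟩
    · rintro ⟨q, hq, rfl⟩
      rw [Equiv.symm_apply_apply]
      exact Finset.mem_toList.mp hq
  have h1in : ∀ i ∈ blk1, signedPerm g ∅ z i = 4 ∨ signedPerm g ∅ z i = -4 := by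
    intro i hi
    rw [signedPerm_empty_apply]
    have := (hmemQ _).mp ((hsupp i).mpr hi)
    rcases h (g.symm i) with h' | h' | h'
    · exact absurd h' this
    · left; exact h'
    · right; exact h'
  have h1out : ∀ i ∉ blk1, signedPerm g ∅ z i = 0 := by
    intro i hi
    rw [signedPerm_empty_apply]
    by_contra hne
    exact hi ((hsupp i).mp ((hmemQ _).mpr hne))
  -- the signs
  obtain ⟨S, hSdef⟩ : ∃ S : Finset GolayPt,
      S = blk1.toFinset.filter fun i => signedPerm g ∅ z i ≠ z44 i := ⟨_, rfl⟩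
  have hSsub : S ⊆ blk1.toFinset := by rw [hSdef]; exact Finset.filter_subset _ _
  obtain ⟨S', hS'sub, hS'ev, hS'blk⟩ : ∃ S' : Finset GolayPt, S' ⊆ octB ∧ Even S'.card ∧
      ∀ i ∈ blk1, (i ∈ S' ↔ i ∈ S) := by
    by_cases hev : Even S.card
    · refine ⟨S, fun i hi => blk1_subset_octB i (List.mem_toFinset.mp (hSsub hi)), hev,
        fun i _ => Iff.rfl⟩
    · have h4 : gPt 4 ∉ S := fun h => by
        have := List.mem_toFinset.mp (hSsub h)
        revert this
        decide
      refine ⟨insert (gPt 4) S, ?_, ?_, ?_⟩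
      · intro i hi
        rw [Finset.mem_insert] at hi
        rcases hi with rfl | hi
        · decide +kernel
        · exact blk1_subset_octB i (List.mem_toFinset.mp (hSsub hi))
      · rw [Finset.card_insert_of_notMem h4]
        exact Nat.even_add_one.mpr hev
      · intro i hi
        rw [Finset.mem_insert]
        constructor
        · rintro (rfl | h)
          · exact absurd hi (by decide)
          · exact h
        · intro h; exact Or.inr h
  obtain ⟨y, r2, hyS, hyO, hyout⟩ := sign_fix octB_mem r1.mem_right hS'sub hS'ev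
  have hy : y = z44 := by
    ext i
    by_cases hi : i ∈ blk1
    · have hiO := blk1_subset_octB i hi
      by_cases hiS : i ∈ S
      · rw [hyS i ((hS'blk i hi).mpr hiS)]
        rw [hSdef, Finset.mem_filter] at hiS
        rcases h1in i hi with h' | h' <;> rcases (z44_cases i).1 hi with h'' | h'' <;>
          rw [h', h''] <;> rw [h', h''] at hiS <;> first | rfl | exact absurd rfl hiS.2
      · rw [hyO i hiO (fun h' => hiS ((hS'blk i hi).mp h'))]
        rw [hSdef, Finset.mem_filter] at hiS
        by_contra hne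
        exact hiS ⟨List.mem_toFinset.mpr hi, hne⟩
    · rw [(z44_cases i).2 hi]
      by_cases hiO : i ∈ octB
      · by_cases hiS' : i ∈ S'
        · rw [hyS i hiS', h1out i hi]; rfl
        · rw [hyO i hiO hiS', h1out i hi]
      · rcases hyout i hiO with h' | h' <;> rw [h', h1out i hi] <;> rfl
  rw [hy] at r2
  have r3 := vrel_xi r2.mem_right
  rw [funext xi_z44] at r3
  exact (r1.trans r2).trans r3

end Cfsg.Agent.Helper8
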