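import Mathlib
import Cfsg.Prelude.Def_SporadicCombinatorics
import Cfsg.Agent.Helper8.Norm64a

/-!
Vectors of shape `(±6, (±2)^7)` in the rank-24 lattice lie in the orbit of a vector of the
standard cross.
-/

set_option autoImplicit false

namespace Cfsg.Agent.Helper8

open Cfsg Cfsg.Agent.Helper27
open scoped Pointwise

theorem VRel.sqNorm_eq {x y : IVec} (h : VRel x y) : sqNorm y = sqNorm x := by
  obtain ⟨hx, g, rfl⟩ := h
  exact co0_sqNorm g ⟨x, hx⟩

/-- two lattice vectors differing by signs, with entries `2 mod 4` on a set and `0` off it, differ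
in an even number of places -/
theorem even_card_diff {O : Finset GolayPt} {x y : IVec} (hx : x ∈ leechLattice)
    (hy : y ∈ leechLattice) (hxy : ∀ i, y i = x i ∨ y i = -x i) (h2 : ∀ i ∈ O, x i % 4 = 2)
    (h0 : ∀ i ∉ O, x i = 0) : Even (O.filter fun i => y i ≠ x i).card := by
  classical
  have hd : x - y ∈ leechLattice := sub_mem hx hy
  have hdi : ∀ i, (x - y) i = if i ∈ O.filter (fun i => y i ≠ x i) then 2 * x i else 0 := by
    intro i
    rw [Pi.sub_apply]
    by_cases hi : i ∈ O
    · by_cases hne : y i ≠ x i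
      · rw [if_pos (Finset.mem_filter.mpr ⟨hi, hne⟩)]
        rcases hxy i with h | h
        · exact absurd h hne
        · rw [h]; ring
      · have hnot : i ∉ O.filter (fun i => y i ≠ x i) := fun h => hne (Finset.mem_filter.mp h).2
        rw [if_neg hnot, not_not.mp hne]; ring
    · have hnot : i ∉ O.filter (fun i => y i ≠ x i) := fun h => hi (Finset.mem_filter.mp h).1
      rw [if_neg hnot]
      have := h0 i hi
      rcases hxy i with h | h <;> rw [h, this] <;> norm_num
  have heven : (x - y) none % 2 = 0 := by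
    rw [hdi]
    split_ifs <;> omega
  have hdvd := eight_dvd_sum_of_even hd none heven
  have hsum : ∑ i, (x - y) i = ∑ i ∈ O.filter (fun i => y i ≠ x i), 2 * x i := by
    rw [Finset.sum_congr rfl fun i _ => hdi i, Finset.sum_ite_mem, Finset.univ_inter]
  have hsum2 : ∑ i ∈ O.filter (fun i => y i ≠ x i), 2 * x i =
      ∑ i ∈ O.filter (fun i => y i ≠ x i), ((4 : ℤ) + 8 * ((2 * x i - 4) / 8)) := by
    refine Finset.sum_congr rfl fun i hi => ?_
    have := h2 i (Finset.mem_filter.mp hi).1
    omega
  rw [hsum, hsum2, Finset.sum_add_distrib, Finset.sum_const, ← Finset.mul_sum, nsmul_eq_mul]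
    at hdvd
  rw [Nat.even_iff]
  omega

/-- the list of five points of the base octad used as a target -/
def blk5 : List GolayPt := [gPt 23, gPt 0, gPt 1, gPt 2, gPt 4]

theorem blk5_nodup : blk5.Nodup := by decide

theorem blk5_subset_octB : ∀ i ∈ blk5, i ∈ octB := by decide +kernel

/-- an octad whose image contains the five target points is mapped to the base octad -/
theorem smul_eq_octB {O : Finset GolayPt} (hO : O ∈ octads) {g : Equiv.Perm GolayPt}
    (hg : g ∈ M24) {l : List GolayPt} (hl : ∀ p ∈ l, p ∈ O) (hmap : l.map (⇑g) = blk5) :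
    g • O = octB := by
  classical
  apply Cfsg.Agent.Helper7.octad_eq_of_five octB_mem (Cfsg.Agent.Helper7.smul_mem_octads hg hO)
    blk5.toFinset
  · rw [List.toFinset_card_of_nodup blk5_nodup]
    decide
  · intro p hp
    exact blk5_subset_octB p (List.mem_toFinset.mp hp)
  · intro p hp
    rw [List.mem_toFinset, ← hmap, List.mem_map] at hp
    obtain ⟨q, hq, rfl⟩ := hp
    rw [Finset.mem_smul_finset]
    exact ⟨q, hl q hq, rfl⟩

theorem mem_smul_iff_symm (g : Equiv.Perm GolayPt) (O : Finset GolayPt) (i : GolayPt) :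
    i ∈ g • O ↔ g.symm i ∈ O := by
  rw [Finset.mem_smul_finset]
  constructor
  · rintro ⟨y, hy, rfl⟩
    simpa using hy
  · intro h
    exact ⟨g.symm i, h, by simp⟩

/-- the normal form of shape `(6, 2^7)` -/
def z62 : IVec := fun i =>
  if i = gPt 23 then 6 else if i = gPt 22 then -2 else if i ∈ octB then 2 else 0

set_option maxRecDepth 100000 in
theorem z62_chk : leechChk z62 = true := by decide +kernel

set_option maxRecDepth 100000 in
theorem xi_z62_44 : ∀ i : GolayPt, xiFun z62 i = 0 ∨ xiFun z62 i = 4 ∨ xiFun z62 i = -4 := by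
  decide +kernel

theorem z62_cases : ∀ i : GolayPt, (i = gPt 23 → z62 i = 6) ∧
    (i ∈ octB → i ≠ gPt 23 → z62 i = 2 ∨ z62 i = -2) ∧ (i ∉ octB → z62 i = 0) := by
  decide +kernel

theorem gPt23_mem_octB : gPt 23 ∈ octB := by decide +kernel

theorem vrel_62 {z : IVec} (hz : z ∈ leechLattice) (hn : sqNorm z = 64) {O : Finset GolayPt}
    (hO : O ∈ octads) {a : GolayPt} (ha : a ∈ O) (h6 : z a = 6 ∨ z a = -6)
    (h2 : ∀ i ∈ O, i ≠ a → z i = 2 ∨ z i = -2) (h0 : ∀ i ∉ O, z i = 0) :
    VRel z (Pi.single (gPt 2) 8) := by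
  classical
  have h8 : O.card = 8 := hO.2
  obtain ⟨s, hs, hs4⟩ := Finset.exists_subset_card_eq (s := O.erase a) (n := 4)
    (by rw [Finset.card_erase_of_mem ha, h8]; norm_num)
  have has : a ∉ s := fun h => (Finset.mem_erase.mp (hs h)).1 rfl
  obtain ⟨g, hg, hmap, r1⟩ := vrel_move hz (a :: s.toList) blk5
    (List.nodup_cons.mpr ⟨fun h => has (Finset.mem_toList.mp h), Finset.nodup_toList s⟩)
    blk5_nodup (by rw [List.length_cons, Finset.length_toList, hs4]; rfl)
    (by rw [List.length_cons, Finset.length_toList, hs4])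
  have hlO : ∀ p ∈ a :: s.toList, p ∈ O := by
    intro p hp
    rw [List.mem_cons] at hp
    rcases hp with rfl | hp
    · exact ha
    · exact (Finset.mem_erase.mp (hs (Finset.mem_toList.mp hp))).2
  have hgO := smul_eq_octB hO hg hlO hmap
  have hga : g a = gPt 23 := by
    have := congrArg List.head? hmap
    simpa [blk5] using this
  have hsymm : ∀ i, i ∈ octB ↔ g.symm i ∈ O := by
    intro i
    rw [← hgO, mem_smul_iff_symm]
  have hsymma : ∀ i, g.symm i = a ↔ i = gPt 23 := by
    intro i
    rw [Equiv.symm_apply_eq, hga]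
  -- the moved vector
  have e1 : signedPerm g ∅ z (gPt 23) = 6 ∨ signedPerm g ∅ z (gPt 23) = -6 := by
    rw [signedPerm_empty_apply, (hsymma _).mpr rfl]
    exact h6
  have e2 : ∀ i ∈ octB, i ≠ gPt 23 → signedPerm g ∅ z i = 2 ∨ signedPerm g ∅ z i = -2 := by
    intro i hi hne
    rw [signedPerm_empty_apply]
    exact h2 _ ((hsymm i).mp hi) (fun h => hne ((hsymma i).mp h))
  have e0 : ∀ i ∉ octB, signedPerm g ∅ z i = 0 := by
    intro i hi
    rw [signedPerm_empty_apply]
    exact h0 _ (fun h => hi ((hsymm i).mpr h))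
  -- the signs
  have hxy : ∀ i, z62 i = signedPerm g ∅ z i ∨ z62 i = -signedPerm g ∅ z i := by
    intro i
    by_cases hi : i ∈ octB
    · by_cases h23 : i = gPt 23
      · subst h23
        rw [(z62_cases _).1 rfl]
        rcases e1 with h | h <;> rw [h] <;> norm_num
      · rcases (z62_cases i).2.1 hi h23 with h | h <;> rcases e2 i hi h23 with h' | h' <;>
          rw [h, h'] <;> norm_num
    · rw [(z62_cases i).2.2 hi, e0 i hi]
      norm_num
  have hev := even_card_diff r1.mem_right (mem_of_leechChk z62_chk) hxy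
    (fun i hi => by
      by_cases h23 : i = gPt 23
      · subst h23
        rcases e1 with h | h <;> rw [h] <;> norm_num
      · rcases e2 i hi h23 with h | h <;> rw [h] <;> norm_num)
    e0
  obtain ⟨y, r2, hyS, hyO, hyout⟩ := sign_fix octB_mem r1.mem_right (Finset.filter_subset _ _) hev
  have hy : y = z62 := by
    ext i
    by_cases hi : i ∈ octB
    · by_cases hne : z62 i ≠ signedPerm g ∅ z i
      · rw [hyS i (Finset.mem_filter.mpr ⟨hi, hne⟩)]
        rcases hxy i with h | h
        · exact absurd h hne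
        · exact h.symm
      · rw [hyO i hi (fun h => hne (Finset.mem_filter.mp h).2)]
        exact (not_not.mp hne).symm
    · rw [(z62_cases i).2.2 hi]
      rcases hyout i hi with h | h <;> rw [h, e0 i hi] <;> rfl
  rw [hy] at r2
  have r3 := vrel_xi r2.mem_right
  have r123 := (r1.trans r2).trans r3
  exact r123.trans (vrel_44 r123.mem_right (by rw [r123.sqNorm_eq, hn]) xi_z62_44)

end Cfsg.Agent.Helper8
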