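import Mathlib
import Cfsg.Prelude.Def_SporadicCombinatorics
import Cfsg.Agent.Helper8.Norm64b

/-!
Vectors of shape `((±4)^2, (±2)^8)` in the rank-24 lattice lie in the orbit of a vector of the
standard cross.
-/

set_option autoImplicit false

namespace Cfsg.Agent.Helper8

open Cfsg Cfsg.Agent.Helper27
open scoped Pointwise

/-! ### the octads through the first block -/

/-- the masks of the unions of the first block with another block -/
def blkMasks : List ℕ := [12656663, 8536111, 11010247, 9471495, 8657159]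

/-- the test on masks -/
def blkTest (m : ℕ) : Bool :=
  !(popc 24 m == 8 && m.testBit 23 && m.testBit 0 && m.testBit 1 && m.testBit 2) ||
    blkMasks.contains m

set_option maxRecDepth 100000 in
theorem blkMasks_struct : ∀ m ∈ blkMasks, ∃ k : Fin 6, k ≠ 0 ∧
    ∀ i : GolayPt, (wordOf m i ≠ 0 ↔ ((sxIdx i).1 = 0 ∨ (sxIdx i).1 = k)) := by
  decide +kernel

set_option maxRecDepth 100000 in
theorem blkTest_all : allRange (fun c => blkTest (encode c)) 12 0 = true := by decide +kernel

theorem octads_through_blk1 {O : Finset GolayPt} (hO : O ∈ octads) (h : ∀ i ∈ blk1, i ∈ O) :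
    ∃ k : Fin 6, k ≠ 0 ∧ ∀ i : GolayPt, (i ∈ O ↔ ((sxIdx i).1 = 0 ∨ (sxIdx i).1 = k)) := by
  have key := forall_golay (fun w => hammingNorm w = 8 → (∀ i ∈ blk1, w i ≠ 0) →
      ∃ k : Fin 6, k ≠ 0 ∧ ∀ i : GolayPt, (w i ≠ 0 ↔ ((sxIdx i).1 = 0 ∨ (sxIdx i).1 = k)))
    blkTest (by
      intro c _ hf h8 hb
      unfold blkTest at hf
      rw [Bool.or_eq_true] at hf
      rcases hf with hf | hf
      · exfalso
        rw [Bool.not_eq_true', ← Bool.not_eq_true] at hf
        apply hf
        rw [hammingNorm_wordOf] at h8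
        have t : ∀ j : ℕ, gPt j ∈ blk1 → j < 24 → (encode c).testBit j = true := by
          intro j hj hj24
          have := hb (gPt j) hj
          rw [wordOf_apply, gIdx_gPt j hj24] at this
          by_contra hne
          rw [Bool.not_eq_true] at hne
          rw [hne] at this
          exact this rfl
        simp only [Bool.and_eq_true, beq_iff_eq]
        exact ⟨⟨⟨⟨h8, t 23 (by decide) (by norm_num)⟩, t 0 (by decide) (by norm_num)⟩,
          t 1 (by decide) (by norm_num)⟩, t 2 (by decide) (by norm_num)⟩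
      · exact blkMasks_struct _ (List.contains_iff_mem.mp hf)) blkTest_all
  obtain ⟨w, hw, rfl⟩ := hO.1
  have h8 : hammingNorm w = 8 := hO.2
  obtain ⟨k, hk, hk'⟩ := key w hw h8 (fun i hi => (Cfsg.Agent.Helper7.mem_support₂ w i).mp (h i hi))
  exact ⟨k, hk, fun i => (Cfsg.Agent.Helper7.mem_support₂ w i).trans (hk' i)⟩

/-! ### the action on single blocks -/

theorem xi_block_pm2 {x : IVec} {j : Fin 6}
    (h : ∀ a : Fin 4, x (sxPt (j, a)) = 2 ∨ x (sxPt (j, a)) = -2)
    (hs : tetSum x j = 4 ∨ tetSum x j = -4) (a : Fin 4) :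
    xiFun x (sxPt (j, a)) = 0 ∨ xiFun x (sxPt (j, a)) = 4 ∨ xiFun x (sxPt (j, a)) = -4 := by
  rw [xiFun_sxPt]
  unfold tetSum at hs ⊢
  have h0 := h 0
  have h1 := h 1
  have h2 := h 2
  have h3 := h 3
  have ha := h a
  fin_cases a <;> simp only [Fin.zero_eta, Fin.mk_one, Fin.reduceFinMk] at ha ⊢ <;>
    split_ifs <;> omega

theorem xi_block_zero {x : IVec} {j : Fin 6} (h : ∀ a : Fin 4, x (sxPt (j, a)) = 0) (a : Fin 4) :
    xiFun x (sxPt (j, a)) = 0 := by
  rw [xiFun_sxPt]
  unfold tetSum
  rw [h 0, h 1, h 2, h 3, h a]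
  split_ifs <;> norm_num

theorem xi_block_two4 {x : IVec} {j : Fin 6} {a1 a2 : Fin 4} (hne : a1 ≠ a2)
    (h1 : x (sxPt (j, a1)) = 4 ∨ x (sxPt (j, a1)) = -4)
    (h2 : x (sxPt (j, a2)) = 4 ∨ x (sxPt (j, a2)) = -4)
    (h0 : ∀ a : Fin 4, a ≠ a1 → a ≠ a2 → x (sxPt (j, a)) = 0) (a : Fin 4) :
    xiFun x (sxPt (j, a)) = 0 ∨ xiFun x (sxPt (j, a)) = 4 ∨ xiFun x (sxPt (j, a)) = -4 := by
  rw [xiFun_sxPt]
  unfold tetSum
  fin_cases a1 <;> fin_cases a2 <;> simp only [Fin.zero_eta, Fin.mk_one, Fin.reduceFinMk] at * <;>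
    first
    | exact absurd rfl hne
    | (have e1 := h0 0 (by decide) (by decide)
       have e2 := h0 1 (by decide) (by decide)
       fin_cases a <;> simp only [Fin.zero_eta, Fin.mk_one, Fin.reduceFinMk] at * <;>
         split_ifs <;> omega)
    | (have e1 := h0 0 (by decide) (by decide)
       have e2 := h0 2 (by decide) (by decide)
       fin_cases a <;> simp only [Fin.zero_eta, Fin.mk_one, Fin.reduceFinMk] at * <;>
         split_ifs <;> omega)
    | (have e1 := h0 0 (by decide) (by decide)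
       have e2 := h0 3 (by decide) (by decide)
       fin_cases a <;> simp only [Fin.zero_eta, Fin.mk_one, Fin.reduceFinMk] at * <;>
         split_ifs <;> omega)
    | (have e1 := h0 1 (by decide) (by decide)
       have e2 := h0 2 (by decide) (by decide)
       fin_cases a <;> simp only [Fin.zero_eta, Fin.mk_one, Fin.reduceFinMk] at * <;>
         split_ifs <;> omega)
    | (have e1 := h0 1 (by decide) (by decide)
       have e2 := h0 3 (by decide) (by decide)
       fin_cases a <;> simp only [Fin.zero_eta, Fin.mk_one, Fin.reduceFinMk] at * <;>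
         split_ifs <;> omega)
    | (have e1 := h0 2 (by decide) (by decide)
       have e2 := h0 3 (by decide) (by decide)
       fin_cases a <;> simp only [Fin.zero_eta, Fin.mk_one, Fin.reduceFinMk] at * <;>
         split_ifs <;> omega)

end Cfsg.Agent.Helper8
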