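import Mathlib
import Cfsg.Prelude.Def_SporadicCombinatorics
import Cfsg.Agent.Helper8.Norm64c

/-!
Vectors of shape `((±4)^2, (±2)^8)`: the main reduction.
-/

set_option autoImplicit false

namespace Cfsg.Agent.Helper8

open Cfsg Cfsg.Agent.Helper27
open scoped Pointwise

/-- the target list: the first block and a point of the third block -/
def blk5' : List GolayPt := [gPt 23, gPt 0, gPt 1, gPt 2, gPt 3]

theorem blk5'_nodup : blk5'.Nodup := by decide

theorem blk1_block : ∀ i : GolayPt, (sxIdx i).1 = 0 ↔ i ∈ blk1 := by decide +kernel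

theorem sxPt_20 : sxPt (2, 0) = gPt 3 := by decide +kernel

theorem sxIdx_gPt3 : sxIdx (gPt 3) = (2, 0) := by decide +kernel

theorem tetSum_pm2_cases {x : IVec} {j : Fin 6}
    (h : ∀ a : Fin 4, x (sxPt (j, a)) = 2 ∨ x (sxPt (j, a)) = -2) :
    tetSum x j = 8 ∨ tetSum x j = 4 ∨ tetSum x j = 0 ∨ tetSum x j = -4 ∨ tetSum x j = -8 := by
  unfold tetSum
  rcases h 0 with h0 | h0 <;> rcases h 1 with h1 | h1 <;> rcases h 2 with h2 | h2 <;>
    rcases h 3 with h3 | h3 <;> rw [h0, h1, h2, h3] <;> norm_num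

theorem flip_first {a0 a1 a2 a3 : ℤ} (h0 : a0 = 2 ∨ a0 = -2) (h1 : a1 = 2 ∨ a1 = -2)
    (h2 : a2 = 2 ∨ a2 = -2) (h3 : a3 = 2 ∨ a3 = -2)
    (hs : ¬ (a0 + a1 + a2 + a3 = 4 ∨ a0 + a1 + a2 + a3 = -4)) :
    -a0 + a1 + a2 + a3 = 4 ∨ -a0 + a1 + a2 + a3 = -4 := by
  rcases h0 with rfl | rfl <;> rcases h1 with rfl | rfl <;> rcases h2 with rfl | rfl <;>
    rcases h3 with rfl | rfl <;> revert hs <;> decide

theorem vrel_42 {z : IVec} (hz : z ∈ leechLattice) (hn : sqNorm z = 64) {O : Finset GolayPt}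
    (hO : O ∈ octads) {a b : GolayPt} (haO : a ∉ O) (hbO : b ∉ O) (hab : a ≠ b)
    (h4a : z a = 4 ∨ z a = -4) (h4b : z b = 4 ∨ z b = -4)
    (h2 : ∀ i ∈ O, z i = 2 ∨ z i = -2) (h0 : ∀ i ∉ O, i ≠ a → i ≠ b → z i = 0) :
    VRel z (Pi.single (gPt 2) 8) := by
  classical
  have hSt := Cfsg.Agent.Helper27.octads_steiner
  have h8 : O.card = 8 := hO.2
  -- three points of the octad, and the octad through them and the two outer points
  obtain ⟨s3, hs3, hs3c⟩ := Finset.exists_subset_card_eq (s := O) (n := 3) (by rw [h8]; norm_num)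
  have has3 : a ∉ s3 := fun h => haO (hs3 h)
  have hbs3 : b ∉ s3 := fun h => hbO (hs3 h)
  have hF5 : (insert a (insert b s3)).card = 5 := by
    rw [Finset.card_insert_of_notMem, Finset.card_insert_of_notMem hbs3, hs3c]
    rw [Finset.mem_insert]
    rintro (h | h)
    · exact hab h
    · exact has3 h
  obtain ⟨O2, ⟨hO2, hF⟩, -⟩ := hSt.2 _ hF5
  have haO2 : a ∈ O2 := hF (Finset.mem_insert_self _ _)
  have hbO2 : b ∈ O2 := hF (Finset.mem_insert_of_mem (Finset.mem_insert_self _ _))
  have hs3O2 : s3 ⊆ O2 := fun i hi =>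
    hF (Finset.mem_insert_of_mem (Finset.mem_insert_of_mem hi))
  have hne : O ≠ O2 := fun h => haO (h ▸ haO2)
  have hQ4 : (O ∩ O2).card = 4 := by
    have h1 := Cfsg.Agent.Helper26.octad_inter_card hSt hO hO2 hne
    have h2 : 3 ≤ (O ∩ O2).card := by
      rw [← hs3c]
      exact Finset.card_le_card (Finset.subset_inter hs3 hs3O2)
    omega
  have haQ : a ∉ O ∩ O2 := fun h => haO (Finset.mem_inter.mp h).1
  -- the move
  obtain ⟨g, hg, hmap, r1⟩ := vrel_move hz ((O ∩ O2).toList ++ [a]) blk5'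
    (by
      rw [List.nodup_append]
      refine ⟨Finset.nodup_toList _, List.nodup_singleton a, ?_⟩
      intro x hx y hy hxy
      rw [List.mem_singleton] at hy
      rw [hxy, hy] at hx
      exact haQ (Finset.mem_toList.mp hx))
    blk5'_nodup
    (by rw [List.length_append, Finset.length_toList, hQ4]; rfl)
    (by rw [List.length_append, Finset.length_toList, hQ4]; norm_num)
  rw [List.map_append] at hmap
  have hmap' : (O ∩ O2).toList.map (⇑g) = blk1 ∧ [a].map (⇑g) = [gPt 3] := by
    apply List.append_inj hmap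
    rw [List.length_map, Finset.length_toList, hQ4]
    rfl
  have hga : g a = gPt 3 := by
    have := hmap'.2
    simpa using this
  have hgQ : ∀ i, i ∈ blk1 ↔ g.symm i ∈ O ∩ O2 := by
    intro i
    rw [← hmap'.1, List.mem_map]
    constructor
    · rintro ⟨q, hq, rfl⟩
      rw [Equiv.symm_apply_apply]
      exact Finset.mem_toList.mp hq
    · intro h
      exact ⟨g.symm i, Finset.mem_toList.mpr h, by simp⟩
  -- the image of the second octad is the union of the first and third blocks
  obtain ⟨k2, -, hk2⟩ := octads_through_blk1 (Cfsg.Agent.Helper7.smul_mem_octads hg hO2)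
    (fun i hi => (mem_smul_iff_symm g O2 i).mpr (Finset.mem_inter.mp ((hgQ i).mp hi)).2)
  have hk2eq : k2 = 2 := by
    have := (hk2 (gPt 3)).mp ((mem_smul_iff_symm g O2 _).mpr (by
      rw [← hga, Equiv.symm_apply_apply]; exact haO2))
    rw [sxIdx_gPt3] at this
    rcases this with h | h
    · exact absurd h (by decide)
    · exact h.symm
  subst hk2eq
  -- the image of `b`
  have hgb2 : (sxIdx (g b)).1 = 2 := by
    have := (hk2 (g b)).mp ((mem_smul_iff_symm g O2 _).mpr (by
      rw [Equiv.symm_apply_apply]; exact hbO2))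
    rcases this with h | h
    · exfalso
      have := (hgQ (g b)).mp ((blk1_block _).mp h)
      rw [Equiv.symm_apply_apply] at this
      exact hbO (Finset.mem_inter.mp this).1
    · exact h
  have hgb3 : g b ≠ gPt 3 := by
    rw [← hga]
    exact fun h => hab (g.injective h).symm
  -- the image of the first octad
  obtain ⟨k, hk0, hk⟩ := octads_through_blk1 (Cfsg.Agent.Helper7.smul_mem_octads hg hO)
    (fun i hi => (mem_smul_iff_symm g O i).mpr (Finset.mem_inter.mp ((hgQ i).mp hi)).1)
  have hk2' : k ≠ 2 := by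
    intro h
    have := (hk (gPt 3)).mpr (Or.inr (by rw [sxIdx_gPt3, h]))
    rw [mem_smul_iff_symm, ← hga, Equiv.symm_apply_apply] at this
    exact haO this
  have hgOmem : g • O ∈ octads := Cfsg.Agent.Helper7.smul_mem_octads hg hO
  -- the moved vector
  have f2 : ∀ i ∈ g • O, signedPerm g ∅ z i = 2 ∨ signedPerm g ∅ z i = -2 := by
    intro i hi
    rw [signedPerm_empty_apply]
    exact h2 _ ((mem_smul_iff_symm g O i).mp hi)
  have f4a : signedPerm g ∅ z (gPt 3) = 4 ∨ signedPerm g ∅ z (gPt 3) = -4 := by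
    rw [signedPerm_empty_apply, ← hga, Equiv.symm_apply_apply]
    exact h4a
  have f4b : signedPerm g ∅ z (g b) = 4 ∨ signedPerm g ∅ z (g b) = -4 := by
    rw [signedPerm_empty_apply, Equiv.symm_apply_apply]
    exact h4b
  have f0 : ∀ i ∉ g • O, i ≠ gPt 3 → i ≠ g b → signedPerm g ∅ z i = 0 := by
    intro i hi h3 hb
    rw [signedPerm_empty_apply]
    apply h0
    · exact fun h => hi ((mem_smul_iff_symm g O i).mpr h)
    · intro h
      apply h3
      rw [← hga, ← h, Equiv.apply_symm_apply]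
    · intro h
      apply hb
      rw [← h, Equiv.apply_symm_apply]
  -- fixing the signs on the first block
  have hmemO : ∀ (j : Fin 6) (c : Fin 4), sxPt (j, c) ∈ g • O ↔ (j = 0 ∨ j = k) := by
    intro j c
    rw [hk, sxIdx_sxPt]
  have h3notO : gPt 3 ∉ g • O := by
    rw [hk, sxIdx_gPt3]
    rintro (h | h)
    · exact absurd h (by decide)
    · exact hk2' h.symm
  have hgbnotO : g b ∉ g • O := by
    rw [hk, hgb2]
    rintro (h | h)
    · exact absurd h (by decide)
    · exact hk2' h.symm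
  obtain ⟨z2, r2, g2, g4a, g4b, g0, gs⟩ : ∃ z2 : IVec, VRel (signedPerm g ∅ z) z2 ∧
      (∀ i ∈ g • O, z2 i = 2 ∨ z2 i = -2) ∧ (z2 (gPt 3) = 4 ∨ z2 (gPt 3) = -4) ∧
      (z2 (g b) = 4 ∨ z2 (g b) = -4) ∧ (∀ i ∉ g • O, i ≠ gPt 3 → i ≠ g b → z2 i = 0) ∧
      (tetSum z2 0 = 4 ∨ tetSum z2 0 = -4) := by
    have hb0 : ∀ c : Fin 4, signedPerm g ∅ z (sxPt (0, c)) = 2 ∨
        signedPerm g ∅ z (sxPt (0, c)) = -2 :=
      fun c => f2 _ ((hmemO 0 c).mpr (Or.inl rfl))
    by_cases hs : tetSum (signedPerm g ∅ z) 0 = 4 ∨ tetSum (signedPerm g ∅ z) 0 = -4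
    · exact ⟨_, VRel.refl r1.mem_right, f2, f4a, f4b, f0, hs⟩
    · have hne01 : sxPt (0, 0) ≠ sxPt (k, 0) := by
        intro h
        have := congrArg sxIdx h
        rw [sxIdx_sxPt, sxIdx_sxPt, Prod.mk.injEq] at this
        exact hk0 this.1.symm
      obtain ⟨y, ry, hyS, hyO, hyout⟩ := sign_fix hgOmem r1.mem_right
        (S := {sxPt (0, 0), sxPt (k, 0)})
        (by
          intro i hi
          rw [Finset.mem_insert, Finset.mem_singleton] at hi
          rcases hi with rfl | rfl
          · exact (hmemO 0 0).mpr (Or.inl rfl)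
          · exact (hmemO k 0).mpr (Or.inr rfl))
        (by rw [Finset.card_pair hne01]; exact ⟨1, rfl⟩)
      have hycases : ∀ i, y i = signedPerm g ∅ z i ∨ y i = -signedPerm g ∅ z i := by
        intro i
        by_cases hiO : i ∈ g • O
        · by_cases hiS : i ∈ ({sxPt (0, 0), sxPt (k, 0)} : Finset GolayPt)
          · right; exact hyS i hiS
          · left; exact hyO i hiO hiS
        · exact hyout i hiO
      refine ⟨y, ry, fun i hi => ?_, ?_, ?_, fun i hi h3 hb => ?_, ?_⟩
      · rcases hycases i with h | h <;> rcases f2 i hi with h' | h' <;> rw [h, h'] <;> norm_num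
      · rcases hycases (gPt 3) with h | h <;> rcases f4a with h' | h' <;> rw [h, h'] <;> norm_num
      · rcases hycases (g b) with h | h <;> rcases f4b with h' | h' <;> rw [h, h'] <;> norm_num
      · rcases hycases i with h | h <;> rw [h, f0 i hi h3 hb] <;> norm_num
      · have e0 : y (sxPt (0, 0)) = -signedPerm g ∅ z (sxPt (0, 0)) :=
          hyS _ (Finset.mem_insert_self _ _)
        have eo : ∀ c : Fin 4, c ≠ 0 → y (sxPt (0, c)) = signedPerm g ∅ z (sxPt (0, c)) := by
          intro c hc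
          apply hyO _ ((hmemO 0 c).mpr (Or.inl rfl))
          rw [Finset.mem_insert, Finset.mem_singleton]
          rintro (h | h)
          · have := congrArg sxIdx h
            rw [sxIdx_sxPt, sxIdx_sxPt, Prod.mk.injEq] at this
            exact hc this.2
          · have := congrArg sxIdx h
            rw [sxIdx_sxPt, sxIdx_sxPt, Prod.mk.injEq] at this
            exact hk0 this.1.symm
        unfold tetSum at hs ⊢
        rw [e0, eo 1 (by decide), eo 2 (by decide), eo 3 (by decide)]
        exact flip_first (hb0 0) (hb0 1) (hb0 2) (hb0 3) hs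
  -- the structure of the vector by blocks
  have b0 : ∀ c : Fin 4, z2 (sxPt (0, c)) = 2 ∨ z2 (sxPt (0, c)) = -2 :=
    fun c => g2 _ ((hmemO 0 c).mpr (Or.inl rfl))
  have bk : ∀ c : Fin 4, z2 (sxPt (k, c)) = 2 ∨ z2 (sxPt (k, c)) = -2 :=
    fun c => g2 _ ((hmemO k c).mpr (Or.inr rfl))
  obtain ⟨c2, hc2⟩ : ∃ c2 : Fin 4, g b = sxPt (2, c2) := by
    refine ⟨(sxIdx (g b)).2, ?_⟩
    rw [← hgb2]
    exact (sxPt_sxIdx (g b)).symm
  have hc20 : c2 ≠ 0 := by
    intro h
    rw [h, sxPt_20] at hc2
    exact hgb3 hc2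
  have b2a : z2 (sxPt (2, 0)) = 4 ∨ z2 (sxPt (2, 0)) = -4 := by rw [sxPt_20]; exact g4a
  have b2b : z2 (sxPt (2, c2)) = 4 ∨ z2 (sxPt (2, c2)) = -4 := by rw [← hc2]; exact g4b
  have b2o : ∀ c : Fin 4, c ≠ 0 → c ≠ c2 → z2 (sxPt (2, c)) = 0 := by
    intro c hc0 hcc2
    apply g0
    · rw [hmemO]
      rintro (h | h)
      · exact absurd h (by decide)
      · exact hk2' h.symm
    · rw [← sxPt_20]
      intro h
      have := congrArg sxIdx h
      rw [sxIdx_sxPt, sxIdx_sxPt, Prod.mk.injEq] at this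
      exact hc0 this.2
    · rw [hc2]
      intro h
      have := congrArg sxIdx h
      rw [sxIdx_sxPt, sxIdx_sxPt, Prod.mk.injEq] at this
      exact hcc2 this.2
  have bz : ∀ j : Fin 6, j ≠ 0 → j ≠ k → j ≠ 2 → ∀ c : Fin 4, z2 (sxPt (j, c)) = 0 := by
    intro j hj0 hjk hj2 c
    apply g0
    · rw [hmemO]
      rintro (h | h)
      · exact hj0 h
      · exact hjk h
    · rw [← sxPt_20]
      intro h
      have := congrArg sxIdx h
      rw [sxIdx_sxPt, sxIdx_sxPt, Prod.mk.injEq] at this
      exact hj2 this.1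
    · rw [hc2]
      intro h
      have := congrArg sxIdx h
      rw [sxIdx_sxPt, sxIdx_sxPt, Prod.mk.injEq] at this
      exact hj2 this.1
  -- the sum over the other block of the octad
  have hz2 : z2 ∈ leechLattice := r2.mem_right
  have hdvd := eight_dvd_sum_of_even hz2 (gPt 3) (by rcases g4a with h | h <;> rw [h] <;> norm_num)
  rw [sum_sx, Fin.sum_univ_six] at hdvd
  have tz : ∀ j : Fin 6, j ≠ 0 → j ≠ k → j ≠ 2 →
      z2 (sxPt (j, 0)) + z2 (sxPt (j, 1)) + z2 (sxPt (j, 2)) + z2 (sxPt (j, 3)) = 0 := by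
    intro j h1 h2 h3
    rw [bz j h1 h2 h3 0, bz j h1 h2 h3 1, bz j h1 h2 h3 2, bz j h1 h2 h3 3]
    norm_num
  have t2 : z2 (sxPt (2, 0)) + z2 (sxPt (2, 1)) + z2 (sxPt (2, 2)) + z2 (sxPt (2, 3)) = 8 ∨
      z2 (sxPt (2, 0)) + z2 (sxPt (2, 1)) + z2 (sxPt (2, 2)) + z2 (sxPt (2, 3)) = 0 ∨
      z2 (sxPt (2, 0)) + z2 (sxPt (2, 1)) + z2 (sxPt (2, 2)) + z2 (sxPt (2, 3)) = -8 := by
    fin_cases c2
    · exact absurd rfl hc20
    · have e2 := b2o 2 (by decide) (by decide)
      have e3 := b2o 3 (by decide) (by decide)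
      simp only [Fin.mk_one] at b2b
      rw [e2, e3]
      rcases b2a with h | h <;> rcases b2b with h' | h' <;> rw [h, h'] <;> norm_num
    · have e1 := b2o 1 (by decide) (by decide)
      have e3 := b2o 3 (by decide) (by decide)
      simp only [Fin.reduceFinMk] at b2b
      rw [e1, e3]
      rcases b2a with h | h <;> rcases b2b with h' | h' <;> rw [h, h'] <;> norm_num
    · have e1 := b2o 1 (by decide) (by decide)
      have e2 := b2o 2 (by decide) (by decide)
      simp only [Fin.reduceFinMk] at b2b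
      rw [e1, e2]
      rcases b2a with h | h <;> rcases b2b with h' | h' <;> rw [h, h'] <;> norm_num
  have hsk : tetSum z2 k = 4 ∨ tetSum z2 k = -4 := by
    have hcs := tetSum_pm2_cases bk
    have gs' := gs
    unfold tetSum at hcs gs' ⊢
    fin_cases k
    · exact absurd rfl hk0
    · have e3 := tz 3 (by decide) (by decide) (by decide)
      have e4 := tz 4 (by decide) (by decide) (by decide)
      have e5 := tz 5 (by decide) (by decide) (by decide)
      simp only [Fin.mk_one] at hcs ⊢
      omega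
    · exact absurd rfl hk2'
    · have e1 := tz 1 (by decide) (by decide) (by decide)
      have e4 := tz 4 (by decide) (by decide) (by decide)
      have e5 := tz 5 (by decide) (by decide) (by decide)
      simp only [Fin.reduceFinMk] at hcs ⊢
      omega
    · have e1 := tz 1 (by decide) (by decide) (by decide)
      have e3 := tz 3 (by decide) (by decide) (by decide)
      have e5 := tz 5 (by decide) (by decide) (by decide)
      simp only [Fin.reduceFinMk] at hcs ⊢
      omega
    · have e1 := tz 1 (by decide) (by decide) (by decide)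
      have e3 := tz 3 (by decide) (by decide) (by decide)
      have e4 := tz 4 (by decide) (by decide) (by decide)
      simp only [Fin.reduceFinMk] at hcs ⊢
      omega
  -- the image has entries `0`, `±4`
  have h44 : Is44 (xiFun z2) := by
    intro i
    rw [← sxPt_sxIdx i]
    obtain ⟨j, c⟩ := sxIdx i
    by_cases hj0 : j = 0
    · subst hj0
      exact xi_block_pm2 b0 gs c
    · by_cases hjk : j = k
      · subst hjk
        exact xi_block_pm2 bk hsk c
      · by_cases hj2 : j = 2
        · subst hj2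
          exact xi_block_two4 (Ne.symm hc20) b2a b2b b2o c
        · left
          exact xi_block_zero (bz j hj0 hjk hj2) c
  have r3 := vrel_xi hz2
  have r123 := (r1.trans r2).trans r3
  exact r123.trans (vrel_44 r123.mem_right (by rw [r123.sqNorm_eq, hn]) h44)

end Cfsg.Agent.Helper8
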