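import Mathlib
import Cfsg.Agent.Helper8.SqCount

/-!
Counting the solutions of the dynamic programme of `SqCount.lean` with a prescribed sum of two
of the coordinates.
-/

set_option autoImplicit false

namespace Cfsg.Agent.Helper8

open Finset

section

variable {ι : Type*} [Fintype ι] [DecidableEq ι]

theorem solF_congr {A A' : ι → Finset ℤ} {s : Finset ι} (h : ∀ i ∈ s, A i = A' i) (m k r : ℤ) :
    solF A m s k r = solF A' m s k r := by
  ext y
  rw [mem_solF, mem_solF]
  refine and_congr (forall_congr' fun i => ?_) Iff.rfl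
  by_cases hi : i ∈ s
  · rw [if_pos hi, if_pos hi, h i hi]
  · rw [if_neg hi, if_neg hi]

/-- solutions with two prescribed entries -/
theorem card_solF_two (A : ι → Finset ℤ) (m : ℤ) {p q : ι} (hpq : p ≠ q) (k r a b : ℤ)
    (ha : a ∈ A p) (hb : b ∈ A q) :
    ((solF A m univ k r).filter fun y => y p = a ∧ y q = b).card =
      (solF A m ((univ.erase p).erase q) (k - a ^ 2 - b ^ 2) (r - a - b)).card := by
  set A' : ι → Finset ℤ := Function.update (Function.update A p {a}) q {b} with hA'
  have hA'p : A' p = {a} := by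
    rw [hA', Function.update_of_ne hpq, Function.update_self]
  have hA'q : A' q = {b} := by
    rw [hA', Function.update_self]
  have hA'o : ∀ i, i ≠ p → i ≠ q → A' i = A i := by
    intro i hip hiq
    rw [hA', Function.update_of_ne hiq, Function.update_of_ne hip]
  have hset : ((solF A m univ k r).filter fun y => y p = a ∧ y q = b) = solF A' m univ k r := by
    ext y
    rw [Finset.mem_filter, mem_solF, mem_solF]
    simp only [Finset.mem_univ, if_true]
    constructor
    · rintro ⟨⟨h1, h2, h3⟩, hp, hq⟩
      refine ⟨fun i => ?_, h2, h3⟩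
      by_cases hip : i = p
      · rw [hip, hA'p, hp]; exact Finset.mem_singleton_self _
      · by_cases hiq : i = q
        · rw [hiq, hA'q, hq]; exact Finset.mem_singleton_self _
        · rw [hA'o i hip hiq]; exact h1 i
    · rintro ⟨h1, h2, h3⟩
      have hp : y p = a := by
        have := h1 p
        rwa [hA'p, Finset.mem_singleton] at this
      have hq : y q = b := by
        have := h1 q
        rwa [hA'q, Finset.mem_singleton] at this
      refine ⟨⟨fun i => ?_, h2, h3⟩, hp, hq⟩
      by_cases hip : i = p
      · rw [hip, hp]; exact ha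
      · by_cases hiq : i = q
        · rw [hiq, hq]; exact hb
        · rw [← hA'o i hip hiq]; exact h1 i
  have huniv : (univ : Finset ι) = insert p (insert q ((univ.erase p).erase q)) := by
    ext i
    simp only [Finset.mem_univ, Finset.mem_insert, Finset.mem_erase, true_iff, and_true]
    tauto
  have hq' : q ∉ (univ.erase p).erase q := Finset.notMem_erase q _
  have hp' : p ∉ insert q ((univ.erase p).erase q) := by
    simp only [Finset.mem_insert, Finset.mem_erase, Finset.mem_univ, and_true, not_or]
    exact ⟨hpq, fun h => h.2 rfl⟩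
  have hs2 : solF A' m univ k r =
      solF A' m (insert p (insert q ((univ.erase p).erase q))) k r := by rw [← huniv]
  rw [hset, hs2, card_solF_insert A' m hp', hA'p, Finset.sum_singleton,
    card_solF_insert A' m hq', hA'q, Finset.sum_singleton]
  rw [solF_congr (A := A') (A' := A)]
  · intro i hi
    rw [Finset.mem_erase, Finset.mem_erase] at hi
    exact hA'o i hi.2.1 hi.1

/-- solutions with a prescribed sum of two entries -/
theorem card_solF_pairsum (A : ι → Finset ℤ) (m : ℤ) {p q : ι} (hpq : p ≠ q) (k r t : ℤ) :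
    ((solF A m univ k r).filter fun y => y p + y q = t).card =
      ∑ a ∈ A p, ∑ b ∈ A q, if a + b = t then
        (solF A m ((univ.erase p).erase q) (k - a ^ 2 - b ^ 2) (r - a - b)).card else 0 := by
  have hmaps : ∀ y ∈ (solF A m univ k r).filter fun y => y p + y q = t,
      (y p, y q) ∈ A p ×ˢ A q := by
    intro y hy
    rw [Finset.mem_filter, mem_solF] at hy
    have h1 := hy.1.1 p
    have h2 := hy.1.1 q
    simp only [Finset.mem_univ, if_true] at h1 h2
    exact Finset.mem_product.mpr ⟨h1, h2⟩
  rw [Finset.card_eq_sum_card_fiberwise hmaps, Finset.sum_product]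
  refine Finset.sum_congr rfl fun a ha => Finset.sum_congr rfl fun b hb => ?_
  by_cases hab : a + b = t
  · rw [if_pos hab, ← card_solF_two A m hpq k r a b ha hb]
    congr 1
    ext y
    simp only [Finset.mem_filter, Prod.mk.injEq]
    constructor
    · rintro ⟨⟨h1, _⟩, h2⟩
      exact ⟨h1, h2⟩
    · rintro ⟨h1, h2, h3⟩
      exact ⟨⟨h1, by rw [h2, h3, hab]⟩, h2, h3⟩
  · rw [if_neg hab, Finset.card_eq_zero]
    ext y
    simp only [Finset.mem_filter, Prod.mk.injEq, Finset.notMem_empty, iff_false]
    rintro ⟨⟨_, h1⟩, h2, h3⟩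
    rw [h2, h3] at h1
    exact hab h1

end

/-- table look-up with integer arguments -/
theorem cntAB_eq_lookZ {m K : ℕ} (hm : 0 < m) (L1 L2 : List ℤ) (h1 : L1.Nodup) (h2 : L2.Nodup)
    (a b : ℕ) (k r : ℤ) (hk : k < K) :
    cntAB L1.toFinset L2.toFinset m a b k r =
      if k < 0 then 0 else look (tbl L1 L2 m K a b) k.toNat (r % (m : ℤ)).toNat := by
  by_cases hneg : k < 0
  · rw [if_pos hneg, cntAB_neg _ _ _ _ _ hneg]
  · rw [if_neg hneg, ← cntAB_emod]
    have hm' : (m : ℤ) ≠ 0 := by omega
    have h0 : 0 ≤ r % (m : ℤ) := Int.emod_nonneg _ hm'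
    have h3 : r % (m : ℤ) < m := Int.emod_lt_of_pos _ (by omega)
    have hk' : k.toNat < K := by omega
    have hr' : (r % (m : ℤ)).toNat < m := by omega
    have := cntAB_eq_look hm L1 L2 h1 h2 a b hk' hr'
    rw [← this, Int.toNat_of_nonneg (not_lt.mp hneg), Int.toNat_of_nonneg h0]

end Cfsg.Agent.Helper8
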