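import Mathlib
import Cfsg.Prelude.Def_SporadicCombinatorics
import Cfsg.Agent.Helper8.PairCount
import Cfsg.Agent.Helper8.LeechCount
import Cfsg.Agent.Helper7.Code

/-!
Counting the lattice vectors of sum of squares 32 with a prescribed sum of the coordinates at two
fixed points.
-/

set_option autoImplicit false

namespace Cfsg.Agent.Helper8

open Cfsg Cfsg.Agent.Helper27

/-- the first distinguished point -/
abbrev pA : GolayPt := Cfsg.Agent.Helper7.pt 0
/-- the second distinguished point -/
abbrev pB : GolayPt := Cfsg.Agent.Helper7.pt 1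

theorem pA_ne_pB : pA ≠ pB := by decide

/-- the other 22 points -/
def rest22 : Finset GolayPt := (Finset.univ.erase pA).erase pB

theorem card_rest22 : rest22.card = 22 := by
  unfold rest22
  rw [Finset.card_erase_of_mem, Finset.card_erase_of_mem (Finset.mem_univ _), Finset.card_univ,
    Cfsg.Agent.Helper26.card_golayPt]
  rw [Finset.mem_erase]
  exact ⟨Ne.symm pA_ne_pB, Finset.mem_univ _⟩

theorem card_rest22_inter (C : Finset GolayPt) :
    (rest22 ∩ C).card = C.card - (if pA ∈ C then 1 else 0) - (if pB ∈ C then 1 else 0) := by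
  have h : rest22 ∩ C = (C.erase pA).erase pB := by
    ext i
    unfold rest22
    simp only [Finset.mem_inter, Finset.mem_erase, Finset.mem_univ, and_true]
    tauto
  rw [h, Finset.card_erase_eq_ite, Finset.card_erase_eq_ite]
  have h2 : pB ∈ C.erase pA ↔ pB ∈ C := by
    rw [Finset.mem_erase]
    exact ⟨fun h => h.2, fun h => ⟨Ne.symm pA_ne_pB, h⟩⟩
  by_cases ha : pA ∈ C <;> by_cases hb : pB ∈ C <;> simp [ha, hb, h2]

theorem card_rest22_sdiff (C : Finset GolayPt) :
    (rest22 \ C).card = 22 - (rest22 ∩ C).card := by
  have := Finset.card_sdiff_add_card_inter rest22 C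
  rw [card_rest22] at this
  omega

/-- one term of the count -/
def pairTerm (L1 L2 : List ℤ) (n' : ℕ) (N r0 a b : ℤ) : ℕ :=
  if N - a ^ 2 - b ^ 2 < 0 then 0 else
    look (tbl L1 L2 8 33 n' (22 - n')) (N - a ^ 2 - b ^ 2).toNat ((r0 - a - b) % 8).toNat

/-- the count for one code word, by the dynamic programme -/
def pairCnt (L1 L2 : List ℤ) (bp bq : Bool) (n' : ℕ) (N r0 t : ℤ) : ℕ :=
  ((if bp then L1 else L2).map fun a =>
    ((if bq then L1 else L2).map fun b =>
      if a + b = t then pairTerm L1 L2 n' N r0 a b else 0).sum).sum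

theorem card_filter_pairsum (L1 L2 : List ℤ) (h1 : L1.Nodup) (h2 : L2.Nodup)
    (C : Finset GolayPt) (N r0 t : ℤ) (hN : N ≤ 32) :
    ((solF (fun i => if i ∈ C then L1.toFinset else L2.toFinset) 8 Finset.univ N r0).filter
      fun y => y pA + y pB = t).card =
      pairCnt L1 L2 (decide (pA ∈ C)) (decide (pB ∈ C)) (rest22 ∩ C).card N r0 t := by
  rw [card_solF_pairsum _ _ pA_ne_pB]
  have hterm : ∀ a b : ℤ,
      (solF (fun i => if i ∈ C then L1.toFinset else L2.toFinset) 8
        ((Finset.univ.erase pA).erase pB) (N - a ^ 2 - b ^ 2) (r0 - a - b)).card =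
        pairTerm L1 L2 (rest22 ∩ C).card N r0 a b := by
    intro a b
    rw [card_solF, ← rest22.eq_def, card_rest22_sdiff]
    unfold pairTerm
    have hk : N - a ^ 2 - b ^ 2 < ((33 : ℕ) : ℤ) := by
      have := sq_nonneg a
      have := sq_nonneg b
      push_cast
      linarith
    exact cntAB_eq_lookZ (m := 8) (K := 33) (by norm_num) L1 L2 h1 h2 _ _ _ _ hk
  simp only [hterm]
  unfold pairCnt
  have hA : (if pA ∈ C then L1.toFinset else L2.toFinset) =
      (if decide (pA ∈ C) = true then L1 else L2).toFinset := by
    by_cases h : pA ∈ C <;> simp [h]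
  have hB : (if pB ∈ C then L1.toFinset else L2.toFinset) =
      (if decide (pB ∈ C) = true then L1 else L2).toFinset := by
    by_cases h : pB ∈ C <;> simp [h]
  have hndA : (if decide (pA ∈ C) = true then L1 else L2).Nodup := by
    split_ifs
    · exact h1
    · exact h2
  have hndB : (if decide (pB ∈ C) = true then L1 else L2).Nodup := by
    split_ifs
    · exact h1
    · exact h2
  rw [hA, hB, List.sum_toFinset _ hndA]
  congr 1
  refine List.map_congr_left fun a _ => ?_
  rw [List.sum_toFinset _ hndB]

/-! ### counting code words by weight and by the two distinguished points -/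

theorem card_codeF_filter (P : Finset GolayPt → Prop) [DecidablePred P] (f : ℕ → Bool)
    (h : ∀ c < 4096, (P (setOf (encode c)) ↔ f (encode c) = true)) :
    (codeF.filter P).card = countRange (fun c => f (encode c)) 12 0 := by
  have h1 := ncard_golay_filter (fun w => P (support₂ w)) f (by
    intro c hc
    rw [support₂_wordOf]
    exact h c hc)
  rw [← h1, ← Set.ncard_coe_finset,
    ← Set.ncard_image_of_injective {w | w ∈ golayCode ∧ P (support₂ w)}
      Cfsg.Agent.Helper7.support₂_injective]
  congr 1
  ext C
  simp only [Finset.coe_filter, Set.mem_ofPred_eq, mem_codeF, Set.mem_image]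
  constructor
  · rintro ⟨⟨w, hw, rfl⟩, hP⟩
    exact ⟨w, ⟨hw, hP⟩, rfl⟩
  · rintro ⟨w, ⟨hw, hP⟩, rfl⟩
    exact ⟨⟨w, hw, rfl⟩, hP⟩

/-- the key of a code word: its weight and whether it contains the two distinguished points -/
def keyOf (C : Finset GolayPt) : ℕ × Bool × Bool := (C.card, decide (pA ∈ C), decide (pB ∈ C))

/-- the possible keys -/
def keys : Finset (ℕ × Bool × Bool) :=
  ({0, 8, 12, 16, 24} : Finset ℕ) ×ˢ ((Finset.univ : Finset Bool) ×ˢ (Finset.univ : Finset Bool))

/-- the test for a key, on masks -/
def keyTest (key : ℕ × Bool × Bool) (m : ℕ) : Bool :=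
  (popc 24 m == key.1) && (m.testBit 0 == key.2.1) && (m.testBit 1 == key.2.2)

/-- the number of code words with a given key -/
def keyCount (key : ℕ × Bool × Bool) : ℕ := countRange (fun c => keyTest key (encode c)) 12 0

theorem keyOf_setOf (m : ℕ) : keyOf (setOf m) = (popc 24 m, m.testBit 0, m.testBit 1) := by
  unfold keyOf
  rw [card_setOf]
  have aux : ∀ (p : GolayPt) (i : ℕ), gIdx p = i → decide (p ∈ setOf m) = m.testBit i := by
    intro p i hi
    have h : p ∈ setOf m ↔ m.testBit i = true := by rw [mem_setOf, hi]
    by_cases hb : m.testBit i = true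
    · rw [hb, decide_eq_true_eq]
      exact h.mpr hb
    · rw [Bool.not_eq_true] at hb
      rw [hb, decide_eq_false_iff_not]
      intro h'
      have := h.mp h'
      rw [hb] at this
      exact absurd this (by decide)
  have hA : decide (pA ∈ setOf m) = m.testBit 0 := aux pA 0 rfl
  have hB : decide (pB ∈ setOf m) = m.testBit 1 := aux pB 1 rfl
  rw [hA, hB]

theorem card_codeF_key (key : ℕ × Bool × Bool) :
    (codeF.filter fun C => keyOf C = key).card = keyCount key := by
  apply card_codeF_filter
  intro c _
  rw [keyOf_setOf]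
  unfold keyTest
  obtain ⟨n, b1, b2⟩ := key
  simp only [Prod.mk.injEq, Bool.and_eq_true, beq_iff_eq, and_assoc]

theorem sum_codeF_key (g : ℕ × Bool × Bool → ℕ) :
    ∑ C ∈ codeF, g (keyOf C) = ∑ key ∈ keys, keyCount key * g key := by
  have hmaps : ∀ C ∈ codeF, keyOf C ∈ keys := by
    intro C hC
    have := card_mem_supports ((mem_codeF C).mp hC)
    unfold keys keyOf
    simp only [Finset.mem_product, Finset.mem_insert, Finset.mem_singleton, Finset.mem_univ,
      and_true]
    exact this
  rw [← Finset.sum_fiberwise_of_maps_to hmaps]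
  refine Finset.sum_congr rfl fun key _ => ?_
  rw [← card_codeF_key, Finset.sum_congr rfl (g := fun _ => g key), Finset.sum_const, smul_eq_mul]
  intro C hC
  rw [(Finset.mem_filter.mp hC).2]

/-! ### the census for the base vector -/

theorem disjoint_blocks (N : ℤ) {C C' : Finset GolayPt} (h : C ≠ C') :
    Disjoint (evenF N C ∪ oddF N C) (evenF N C' ∪ oddF N C') := by
  rw [Finset.disjoint_union_left, Finset.disjoint_union_right, Finset.disjoint_union_right]
  refine ⟨⟨?_, disjoint_even_odd N C C'⟩, ⟨(disjoint_even_odd N C' C).symm, ?_⟩⟩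
  · rw [Finset.disjoint_left]
    intro x h1 h2
    exact h ((code_of_even h1).trans (code_of_even h2).symm)
  · rw [Finset.disjoint_left]
    intro x h1 h2
    exact h ((code_of_odd h1).trans (code_of_odd h2).symm)

theorem card_leechF_filter' (N : ℤ) (P : (GolayPt → ℤ) → Prop) [DecidablePred P] :
    ((leechF N).filter P).card =
      ∑ C ∈ codeF, (((evenF N C).filter P).card + ((oddF N C).filter P).card) := by
  unfold leechF
  rw [Finset.filter_biUnion, Finset.card_biUnion]
  · refine Finset.sum_congr rfl fun C _ => ?_
    rw [Finset.filter_union]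
    exact Finset.card_union_of_disjoint
      (Finset.disjoint_filter_filter (disjoint_even_odd N C C))
  · intro C _ C' _ hCC'
    exact Finset.disjoint_filter_filter (disjoint_blocks N hCC')

/-- the count attached to a key -/
def keyG (t : ℤ) (key : ℕ × Bool × Bool) : ℕ :=
  pairCnt Le1 Le2 key.2.1 key.2.2
      (key.1 - (if key.2.1 then 1 else 0) - (if key.2.2 then 1 else 0)) 32 0 t +
    pairCnt Lo1 Lo2 key.2.1 key.2.2
      (key.1 - (if key.2.1 then 1 else 0) - (if key.2.2 then 1 else 0)) 32 4 t

/-- the list of keys -/
def keyList : List (ℕ × Bool × Bool) :=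
  [(0, false, false), (0, false, true), (0, true, false), (0, true, true),
   (8, false, false), (8, false, true), (8, true, false), (8, true, true),
   (12, false, false), (12, false, true), (12, true, false), (12, true, true),
   (16, false, false), (16, false, true), (16, true, false), (16, true, true),
   (24, false, false), (24, false, true), (24, true, false), (24, true, true)]

theorem keys_eq : keys = keyList.toFinset := by decide

theorem keyList_nodup : keyList.Nodup := by decide

/-- the number of lattice vectors of sum of squares 32 whose two distinguished coordinates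
have sum `t`, by the dynamic programme -/
def censusNum (t : ℤ) : ℕ := (keyList.map fun key => keyCount key * keyG t key).sum

theorem card_census (t : ℤ) :
    ((leechF 32).filter fun x => x pA + x pB = t).card = censusNum t := by
  rw [card_leechF_filter']
  have h : ∀ C ∈ codeF, ((evenF 32 C).filter fun x => x pA + x pB = t).card +
      ((oddF 32 C).filter fun x => x pA + x pB = t).card = keyG t (keyOf C) := by
    intro C _
    have he := card_filter_pairsum Le1 Le2 Le1_nodup Le2_nodup C 32 0 t (le_refl _)
    have ho := card_filter_pairsum Lo1 Lo2 Lo1_nodup Lo2_nodup C 32 4 t (le_refl _)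
    have hn : (rest22 ∩ C).card = C.card - (if decide (pA ∈ C) = true then 1 else 0) -
        (if decide (pB ∈ C) = true then 1 else 0) := by
      rw [card_rest22_inter]
      simp only [decide_eq_true_eq]
    rw [hn] at he ho
    unfold keyG keyOf
    exact congrArg₂ (· + ·) he ho
  rw [Finset.sum_congr rfl h, sum_codeF_key, keys_eq, List.sum_toFinset _ keyList_nodup]
  rfl

set_option maxRecDepth 100000 in
theorem censusNum_neg4 : censusNum (-4) = 4600 := by decide +kernel

set_option maxRecDepth 100000 in
theorem censusNum_neg2 : censusNum (-2) = 47104 := by decide +kernel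

set_option maxRecDepth 100000 in
theorem censusNum_zero : censusNum 0 = 93150 := by decide +kernel

end Cfsg.Agent.Helper8
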