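import Mathlib
import Cfsg.Prelude.Def_SporadicCombinatorics
import Cfsg.Agent.Helper8.PairCensus
import Cfsg.Agent.Helper8.Min32b

/-!
The census of inner products of a lattice vector of sum of squares 32 with all such vectors.
-/

set_option autoImplicit false

namespace Cfsg.Agent.Helper8

open Cfsg Cfsg.Agent.Helper27

theorem sqNorm_add (x y : IVec) : sqNorm (x + y) = sqNorm x + sqNorm y + 2 * dotInt x y := by
  unfold sqNorm dotInt
  rw [Finset.mul_sum, ← Finset.sum_add_distrib, ← Finset.sum_add_distrib]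
  refine Finset.sum_congr rfl fun i _ => ?_
  rw [Pi.add_apply]
  ring

/-- automorphisms preserve inner products -/
theorem co0_dotInt (g : ↥Co0) (a b : ↥leechLattice) :
    dotInt ((g • a : ↥leechLattice) : IVec) ((g • b : ↥leechLattice) : IVec) =
      dotInt (a : IVec) (b : IVec) := by
  have h1 := sqNorm_add (a : IVec) (b : IVec)
  have h2 := sqNorm_add ((g • a : ↥leechLattice) : IVec) ((g • b : ↥leechLattice) : IVec)
  have h3 : ((g • a : ↥leechLattice) : IVec) + ((g • b : ↥leechLattice) : IVec) =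
      ((g • (a + b) : ↥leechLattice) : IVec) := by
    rw [← AddSubgroup.coe_add]
    congr 1
    exact (g.2.1 a b).symm
  rw [h3, co0_sqNorm, co0_sqNorm, co0_sqNorm, AddSubgroup.coe_add] at h2
  linarith

theorem dotInt_vA0 (w : IVec) : dotInt vA0 w = 4 * (w pA + w pB) := by
  unfold dotInt vA0
  simp only [Pi.add_apply, add_mul]
  rw [Finset.sum_add_distrib]
  have h1 : ∀ p : GolayPt, ∑ i, (Pi.single p (4 : ℤ) : IVec) i * w i = 4 * w p := by
    intro p
    rw [Finset.sum_eq_single p]
    · rw [Pi.single_eq_same]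
    · intro i _ hi
      rw [Pi.single_eq_of_ne hi, zero_mul]
    · intro h
      exact absurd (Finset.mem_univ p) h
  rw [h1, h1]
  ring

theorem census_vA0 (c t : ℤ) (hc : c = 4 * t) :
    {w : IVec | w ∈ leechLattice ∧ sqNorm w = 32 ∧ dotInt vA0 w = c}.ncard = censusNum t := by
  rw [← card_census, ← Set.ncard_coe_finset]
  congr 1
  ext w
  rw [Finset.coe_filter, Set.mem_ofPred_eq, Set.mem_ofPred_eq, Finset.mem_coe.symm,
    coe_leechF (by norm_num), Set.mem_ofPred_eq, dotInt_vA0, hc]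
  constructor
  · rintro ⟨h1, h2, h3⟩
    exact ⟨⟨h1, h2⟩, by linarith⟩
  · rintro ⟨⟨h1, h2⟩, h3⟩
    exact ⟨h1, h2, by rw [h3]⟩

/-- the census does not depend on the vector -/
theorem census_transfer (g : ↥Co0) (v : ↥leechLattice) (c : ℤ) :
    {w : IVec | w ∈ leechLattice ∧ sqNorm w = 32 ∧
        dotInt ((g • v : ↥leechLattice) : IVec) w = c}.ncard =
      {w : IVec | w ∈ leechLattice ∧ sqNorm w = 32 ∧ dotInt (v : IVec) w = c}.ncard := by
  have key : ∀ u : ↥leechLattice,
      {w : IVec | w ∈ leechLattice ∧ sqNorm w = 32 ∧ dotInt (u : IVec) w = c} =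
        Subtype.val '' {w : ↥leechLattice | sqNorm (w : IVec) = 32 ∧
          dotInt (u : IVec) (w : IVec) = c} := by
    intro u
    ext w
    simp only [Set.mem_ofPred_eq, Set.mem_image]
    constructor
    · rintro ⟨h1, h2, h3⟩
      exact ⟨⟨w, h1⟩, ⟨h2, h3⟩, rfl⟩
    · rintro ⟨w', ⟨h2, h3⟩, rfl⟩
      exact ⟨w'.2, h2, h3⟩
  rw [key, key, Set.ncard_image_of_injective _ Subtype.val_injective,
    Set.ncard_image_of_injective _ Subtype.val_injective]
  have himg : {w : ↥leechLattice | sqNorm (w : IVec) = 32 ∧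
      dotInt ((g • v : ↥leechLattice) : IVec) (w : IVec) = c} =
      (fun w : ↥leechLattice => g • w) '' {w : ↥leechLattice | sqNorm (w : IVec) = 32 ∧
        dotInt (v : IVec) (w : IVec) = c} := by
    ext w
    simp only [Set.mem_ofPred_eq, Set.mem_image]
    constructor
    · rintro ⟨h1, h2⟩
      refine ⟨g⁻¹ • w, ⟨?_, ?_⟩, smul_inv_smul g w⟩
      · rw [co0_sqNorm]; exact h1
      · rw [← co0_dotInt g v (g⁻¹ • w), smul_inv_smul]; exact h2
    · rintro ⟨w', ⟨h1, h2⟩, rfl⟩
      exact ⟨by rw [co0_sqNorm]; exact h1, by rw [co0_dotInt]; exact h2⟩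
  rw [himg, Set.ncard_image_of_injective _ (MulAction.injective g)]

theorem census_min32 (v : IVec) (hv : v ∈ leechLattice) (hvn : sqNorm v = 32) (c t : ℤ)
    (hc : c = 4 * t) :
    {w : IVec | w ∈ leechLattice ∧ sqNorm w = 32 ∧ dotInt v w = c}.ncard = censusNum t := by
  obtain ⟨hx, g, hg⟩ := vrel_min32 hv hvn
  have := census_transfer g ⟨vA0, hx⟩ c
  rw [hg] at this
  rw [this]
  exact census_vA0 c t hc

end Cfsg.Agent.Helper8
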