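import Mathlib
import Cfsg.Prelude.Def_SporadicCombinatorics
import Cfsg.Agent.Helper8.Norm64d
import Cfsg.Agent.Helper8.PairCensus2

/-!
All lattice vectors of sum of squares 64 are equivalent under the automorphism group.
-/

set_option autoImplicit false

namespace Cfsg.Agent.Helper8

open Cfsg Cfsg.Agent.Helper27
open scoped Pointwise

/-! ### the standard vectors -/

theorem vrel_std (p : GolayPt) {s : ℤ} (hs : s = 8 ∨ s = -8) :
    VRel (Pi.single p s) (Pi.single (gPt 2) 8) := by
  have hmem := single8_mem p s hs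
  obtain ⟨g, hg, hmap, r1⟩ := vrel_move hmem [p] [gPt 2] (List.nodup_singleton _)
    (List.nodup_singleton _) rfl (by norm_num)
  have hgp : g p = gPt 2 := by simpa using hmap
  rw [signedPerm_empty_single, hgp] at r1
  rcases hs with rfl | rfl
  · exact r1
  · refine r1.trans ⟨r1.mem_right, negCo0, ?_⟩
    rw [negCo0_smul, AddSubgroup.coe_neg]
    show -(Pi.single (gPt 2) (-8) : IVec) = Pi.single (gPt 2) 8
    rw [← Pi.single_neg, neg_neg]

theorem vrel_mult4 {z : IVec} (hz : z ∈ leechLattice) (hn : sqNorm z = 64)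
    (h4 : ∀ i, (4 : ℤ) ∣ z i) : VRel z (Pi.single (gPt 2) 8) := by
  classical
  by_cases h : Is44 z
  · exact vrel_44 hz hn h
  · unfold Is44 at h
    rw [not_forall] at h
    obtain ⟨k, hk⟩ := h
    have hsq : z k ^ 2 + ∑ i ∈ Finset.univ.erase k, z i ^ 2 = 64 := by
      rw [← hn]
      unfold sqNorm
      exact Finset.add_sum_erase Finset.univ (fun i => z i ^ 2) (Finset.mem_univ k)
    have hrest : 0 ≤ ∑ i ∈ Finset.univ.erase k, z i ^ 2 :=
      Finset.sum_nonneg fun i _ => sq_nonneg (z i)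
    obtain ⟨m, hm⟩ := h4 k
    have hm2 : m = 2 ∨ m = -2 := by
      have h1 : -2 ≤ m := by nlinarith
      have h2 : m ≤ 2 := by nlinarith
      have h3 : m ≠ 0 := fun h => hk (Or.inl (by rw [hm, h]; norm_num))
      have h4 : m ≠ 1 := fun h => hk (Or.inr (Or.inl (by rw [hm, h]; norm_num)))
      have h5 : m ≠ -1 := fun h => hk (Or.inr (Or.inr (by rw [hm, h]; norm_num)))
      omega
    have hs0 : ∑ i ∈ Finset.univ.erase k, z i ^ 2 = 0 := by
      rcases hm2 with h | h <;> rw [hm, h] at hsq <;> linarith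
    have hzero : ∀ i, i ≠ k → z i = 0 := by
      intro i hi
      have := (Finset.sum_eq_zero_iff_of_nonneg (fun i _ => sq_nonneg (z i))).mp hs0 i
        (Finset.mem_erase.mpr ⟨hi, Finset.mem_univ _⟩)
      exact pow_eq_zero_iff (two_ne_zero) |>.mp this
    have hzeq : z = Pi.single k (z k) := by
      ext i
      by_cases hi : i = k
      · subst hi
        rw [Pi.single_eq_same]
      · rw [Pi.single_eq_of_ne hi, hzero i hi]
    rw [hzeq]
    apply vrel_std k
    rcases hm2 with h | h <;> rw [hm, h] <;> norm_num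

/-! ### shape `(5, 3, 3, 1^21)` -/

theorem smul_mem_supports {g : Equiv.Perm GolayPt} (hg : g ∈ M24) {C : Finset GolayPt}
    (hC : C ∈ supports (golayCode : Set (GolayPt → ZMod 2))) :
    g • C ∈ supports (golayCode : Set (GolayPt → ZMod 2)) := by
  have h : g • supports (golayCode : Set (GolayPt → ZMod 2)) = supports golayCode := by
    have := hg
    rw [M24, setSystemAut, MulAction.mem_stabilizer_iff] at this
    exact this
  rw [← h]
  exact Set.smul_mem_smul_set hC

theorem signedPerm_empty_signedPerm_one (g : Equiv.Perm GolayPt) (C : Finset GolayPt) (x : IVec) :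
    signedPerm g ∅ (signedPerm 1 C x) = signedPerm 1 (g • C) (signedPerm g ∅ x) := by
  ext i
  rw [signedPerm_empty_apply, signedPerm_one_apply, signedPerm_one_apply, signedPerm_empty_apply]
  by_cases h : g.symm i ∈ C
  · rw [if_pos h, if_pos ((mem_smul_iff_symm g C i).mpr h)]
  · rw [if_neg h, if_neg (fun h' => h ((mem_smul_iff_symm g C i).mp h'))]

theorem signedPerm_empty_oddBase (g : Equiv.Perm GolayPt) (k : GolayPt) :
    signedPerm g ∅ (oddBase k) = oddBase (g k) := by
  ext i
  rw [signedPerm_empty_apply]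
  unfold oddBase
  by_cases h : i = g k
  · rw [if_pos h, if_pos (by rw [h, Equiv.symm_apply_apply])]
  · rw [if_neg h, if_neg (fun h' => h (by rw [← h', Equiv.apply_symm_apply]))]

theorem signedPerm_empty_vA0 {g : Equiv.Perm GolayPt} (hA : g pA = pA) (hB : g pB = pB) :
    signedPerm g ∅ vA0 = vA0 := by
  unfold vA0
  rw [signedPerm_add, signedPerm_empty_single, signedPerm_empty_single, hA, hB]

theorem signedPerm_one_vA0 {C : Finset GolayPt} (hA : pA ∉ C) (hB : pB ∉ C) :
    signedPerm 1 C vA0 = vA0 := by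
  unfold vA0
  rw [signedPerm_add, signedPerm_one_single, signedPerm_one_single, if_neg hA, if_neg hB]

theorem signedPerm_one_symmDiff (A B : Finset GolayPt) (x : IVec) :
    signedPerm 1 (symmDiff A B) (signedPerm 1 A x) = signedPerm 1 B x := by
  ext i
  rw [signedPerm_one_apply, signedPerm_one_apply, signedPerm_one_apply]
  by_cases hA : i ∈ A <;> by_cases hB : i ∈ B <;> simp [Finset.mem_symmDiff, hA, hB]

/-- the first normal form -/
def y533a : IVec := vA0 + signedPerm 1 (setOf 10305542) (oddBase (gPt 3))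

/-- the second normal form -/
def y533b : IVec := vA0 + signedPerm 1 (setOf 6053905) (oddBase (gPt 3))

/-- the octad carrying the entries `±2` of the images -/
def oct42 : Finset GolayPt := setOf 2031657

theorem oct42_mem : oct42 ∈ octads := by
  unfold oct42
  rw [setOf_mem_octads_iff (by norm_num)]
  decide +kernel

set_option maxRecDepth 100000 in
theorem xi_y533a : ∀ i : GolayPt, (i ∈ oct42 → xiFun y533a i = 2 ∨ xiFun y533a i = -2) ∧
    (i ∉ oct42 → i ≠ gPt 2 → i ≠ gPt 23 → xiFun y533a i = 0) ∧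
    ((i = gPt 2 ∨ i = gPt 23) → (i ∉ oct42 ∧ (xiFun y533a i = 4 ∨ xiFun y533a i = -4))) := by
  decide +kernel

set_option maxRecDepth 100000 in
theorem xi_y533b : ∀ i : GolayPt, (i ∈ oct42 → xiFun y533b i = 2 ∨ xiFun y533b i = -2) ∧
    (i ∉ oct42 → i ≠ gPt 2 → i ≠ gPt 23 → xiFun y533b i = 0) ∧
    ((i = gPt 2 ∨ i = gPt 23) → (i ∉ oct42 ∧ (xiFun y533b i = 4 ∨ xiFun y533b i = -4))) := by
  decide +kernel

set_option maxRecDepth 100000 in
theorem c533_facts : pA ∉ setOf 10305542 ∧ pB ∈ setOf 10305542 ∧ pA ∈ setOf 6053905 ∧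
    pB ∉ setOf 6053905 ∧ gPt 2 ≠ gPt 23 ∧ isCode 10305542 = true ∧ isCode 6053905 = true ∧
    gPt 3 ≠ pA ∧ gPt 3 ≠ pB := by
  decide +kernel

theorem vrel_of_xi42 {y : IVec} (hy : y ∈ leechLattice) (hn : sqNorm y = 64)
    (h : ∀ i : GolayPt, (i ∈ oct42 → xiFun y i = 2 ∨ xiFun y i = -2) ∧
    (i ∉ oct42 → i ≠ gPt 2 → i ≠ gPt 23 → xiFun y i = 0) ∧
    ((i = gPt 2 ∨ i = gPt 23) → (i ∉ oct42 ∧ (xiFun y i = 4 ∨ xiFun y i = -4)))) :
    VRel y (Pi.single (gPt 2) 8) := by
  have r := vrel_xi hy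
  refine r.trans (vrel_42 r.mem_right (by rw [r.sqNorm_eq, hn]) oct42_mem
    ((h (gPt 2)).2.2 (Or.inl rfl)).1 ((h (gPt 23)).2.2 (Or.inr rfl)).1 c533_facts.2.2.2.2.1
    ((h (gPt 2)).2.2 (Or.inl rfl)).2 ((h (gPt 23)).2.2 (Or.inr rfl)).2
    (fun i hi => (h i).1 hi) (fun i hi ha hb => (h i).2.1 hi ha hb))

theorem vrel_533 {k : GolayPt} {C : Finset GolayPt}
    (hC : C ∈ supports (golayCode : Set (GolayPt → ZMod 2))) (hkA : k ≠ pA) (hkB : k ≠ pB)
    (hx : (pA ∉ C ∧ pB ∈ C) ∨ (pA ∈ C ∧ pB ∉ C))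
    (hz : vA0 + signedPerm 1 C (oddBase k) ∈ leechLattice)
    (hn : sqNorm (vA0 + signedPerm 1 C (oddBase k)) = 64) :
    VRel (vA0 + signedPerm 1 C (oddBase k)) (Pi.single (gPt 2) 8) := by
  classical
  obtain ⟨g, hg, hmap, r1⟩ := vrel_move hz [pA, pB, k] [pA, pB, gPt 3]
    (by
      rw [List.nodup_cons, List.nodup_cons]
      refine ⟨?_, ?_, List.nodup_singleton _⟩
      · rw [List.mem_cons, List.mem_singleton]
        rintro (h | h)
        · exact pA_ne_pB h
        · exact hkA h.symm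
      · rw [List.mem_singleton]
        exact fun h => hkB h.symm)
    (by decide) rfl (by norm_num)
  have hgA : g pA = pA := by
    have := congrArg (fun l => l[0]?) hmap
    simpa using this
  have hgB : g pB = pB := by
    have := congrArg (fun l => l[1]?) hmap
    simpa using this
  have hgk : g k = gPt 3 := by
    have := congrArg (fun l => l[2]?) hmap
    simpa using this
  have hgC := smul_mem_supports hg hC
  have hAiff : pA ∈ g • C ↔ pA ∈ C := by
    rw [mem_smul_iff_symm]
    have : g.symm pA = pA := by rw [Equiv.symm_apply_eq, hgA]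
    rw [this]
  have hBiff : pB ∈ g • C ↔ pB ∈ C := by
    rw [mem_smul_iff_symm]
    have : g.symm pB = pB := by rw [Equiv.symm_apply_eq, hgB]
    rw [this]
  have hmoved : signedPerm g ∅ (vA0 + signedPerm 1 C (oddBase k)) =
      vA0 + signedPerm 1 (g • C) (oddBase (gPt 3)) := by
    rw [signedPerm_add, signedPerm_empty_vA0 hgA hgB, signedPerm_empty_signedPerm_one,
      signedPerm_empty_oddBase, hgk]
  rw [hmoved] at r1
  have hn1 : sqNorm (vA0 + signedPerm 1 (g • C) (oddBase (gPt 3))) = 64 := by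
    rw [r1.sqNorm_eq, hn]
  obtain ⟨f1, f2, f3, f4, -, f6, f7, -, -⟩ := c533_facts
  rcases hx with ⟨hA, hB⟩ | ⟨hA, hB⟩
  · -- normalise to the first form
    have hC1 := setOf_mem_supports (m := 10305542) (by norm_num) f6
    have hC' := Cfsg.Agent.Helper26.golay_symmDiff hgC hC1
    have r2 := vrel_sign r1.mem_right hC'
    have hA' : pA ∉ symmDiff (g • C) (setOf 10305542) := by
      rw [Finset.mem_symmDiff, hAiff]
      rintro (⟨h, -⟩ | ⟨h, -⟩)
      · exact hA h
      · exact f1 h
    have hB' : pB ∉ symmDiff (g • C) (setOf 10305542) := by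
      rw [Finset.mem_symmDiff, hBiff]
      rintro (⟨-, h⟩ | ⟨-, h⟩)
      · exact h f2
      · exact h hB
    rw [signedPerm_add, signedPerm_one_vA0 hA' hB', signedPerm_one_symmDiff] at r2
    have r3 := r1.trans r2
    refine r3.trans (vrel_of_xi42 (y := y533a) r3.mem_right ?_ xi_y533a)
    show sqNorm (vA0 + signedPerm 1 (setOf 10305542) (oddBase (gPt 3))) = 64
    rw [r3.sqNorm_eq, hn]
  · have hC1 := setOf_mem_supports (m := 6053905) (by norm_num) f7
    have hC' := Cfsg.Agent.Helper26.golay_symmDiff hgC hC1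
    have r2 := vrel_sign r1.mem_right hC'
    have hA' : pA ∉ symmDiff (g • C) (setOf 6053905) := by
      rw [Finset.mem_symmDiff, hAiff]
      rintro (⟨-, h⟩ | ⟨-, h⟩)
      · exact h f3
      · exact h hA
    have hB' : pB ∉ symmDiff (g • C) (setOf 6053905) := by
      rw [Finset.mem_symmDiff, hBiff]
      rintro (⟨h, -⟩ | ⟨h, -⟩)
      · exact hB h
      · exact f4 h
    rw [signedPerm_add, signedPerm_one_vA0 hA' hB', signedPerm_one_symmDiff] at r2
    have r3 := r1.trans r2
    refine r3.trans (vrel_of_xi42 (y := y533b) r3.mem_right ?_ xi_y533b)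
    show sqNorm (vA0 + signedPerm 1 (setOf 6053905) (oddBase (gPt 3))) = 64
    rw [r3.sqNorm_eq, hn]

end Cfsg.Agent.Helper8
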