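import Mathlib
import Cfsg.Prelude.Def_SporadicCombinatorics
import Cfsg.Agent.Helper8.Norm64e
import Cfsg.Agent.Helper8.LeechClasses

/-!
All lattice vectors of sum of squares 64 are equivalent under the automorphism group: the
decomposition into two orthogonal minimal vectors.
-/

set_option autoImplicit false

namespace Cfsg.Agent.Helper8

open Cfsg Cfsg.Agent.Helper27
open scoped Pointwise

theorem vA0_apply (i : GolayPt) : vA0 i = (if i = pA then 4 else 0) + (if i = pB then 4 else 0) := by
  unfold vA0
  rw [Pi.add_apply, Pi.single_apply, Pi.single_apply]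

theorem vA0_pA : vA0 pA = 4 := by
  rw [vA0_apply, if_pos rfl, if_neg pA_ne_pB]
  rfl

theorem vA0_pB : vA0 pB = 4 := by
  rw [vA0_apply, if_pos rfl, if_neg pA_ne_pB.symm]
  rfl

theorem vA0_other {i : GolayPt} (hA : i ≠ pA) (hB : i ≠ pB) : vA0 i = 0 := by
  rw [vA0_apply, if_neg hA, if_neg hB]
  rfl

theorem four_dvd_vA0 (i : GolayPt) : (4 : ℤ) ∣ vA0 i := by
  rw [vA0_apply]
  split_ifs <;> norm_num

/-- the sum of the base vector and an orthogonal minimal vector -/
theorem vrel_orth {w : IVec} (hw : w ∈ leechLattice) (hwn : sqNorm w = 32)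
    (hdot : dotInt vA0 w = 0) : VRel (vA0 + w) (Pi.single (gPt 2) 8) := by
  classical
  have hsum : w pA + w pB = 0 := by
    rw [dotInt_vA0] at hdot
    omega
  have hz : vA0 + w ∈ leechLattice := leechLattice.add_mem vA0_mem hw
  have hvn : sqNorm vA0 = 32 := by decide +kernel
  have hn : sqNorm (vA0 + w) = 64 := by
    rw [sqNorm_add, hvn, hwn, hdot]
    norm_num
  rcases min_cases hw hwn with hA | hB | hC
  · -- shape A
    obtain ⟨i, j, s, t, -, hs, ht, rfl⟩ := hA
    apply vrel_mult4 hz hn
    intro k
    rw [Pi.add_apply, Pi.add_apply, Pi.single_apply, Pi.single_apply]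
    apply dvd_add (four_dvd_vA0 k)
    apply dvd_add
    · split_ifs
      · rcases hs with rfl | rfl <;> norm_num
      · exact dvd_zero _
    · split_ifs
      · rcases ht with rfl | rfl <;> norm_num
      · exact dvd_zero _
  · -- shape B
    obtain ⟨O, hO, h2, h0⟩ := hB
    by_cases hAO : pA ∈ O
    · by_cases hBO : pB ∈ O
      · -- opposite signs at the two points
        rcases h2 pA hAO with hwA | hwA
        · have hwB : w pB = -2 := by omega
          apply vrel_62 hz hn hO hAO (a := pA)
          · left
            rw [Pi.add_apply, vA0_pA, hwA]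
            norm_num
          · intro i hi hiA
            rw [Pi.add_apply]
            by_cases hiB : i = pB
            · left
              rw [hiB, vA0_pB, hwB]
              norm_num
            · rw [vA0_other hiA hiB, zero_add]
              exact h2 i hi
          · intro i hi
            have hiA : i ≠ pA := by
              rintro rfl
              exact hi hAO
            have hiB : i ≠ pB := by
              rintro rfl
              exact hi hBO
            rw [Pi.add_apply, h0 i hi, vA0_other hiA hiB]
            norm_num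
        · have hwB : w pB = 2 := by omega
          apply vrel_62 hz hn hO hBO (a := pB)
          · left
            rw [Pi.add_apply, vA0_pB, hwB]
            norm_num
          · intro i hi hiB
            rw [Pi.add_apply]
            by_cases hiA : i = pA
            · left
              rw [hiA, vA0_pA, hwA]
              norm_num
            · rw [vA0_other hiA hiB, zero_add]
              exact h2 i hi
          · intro i hi
            have hiA : i ≠ pA := by
              rintro rfl
              exact hi hAO
            have hiB : i ≠ pB := by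
              rintro rfl
              exact hi hBO
            rw [Pi.add_apply, h0 i hi, vA0_other hiA hiB]
            norm_num
      · exfalso
        have := h0 pB hBO
        rcases h2 pA hAO with h | h <;> omega
    · by_cases hBO : pB ∈ O
      · exfalso
        have := h0 pA hAO
        rcases h2 pB hBO with h | h <;> omega
      · apply vrel_42 hz hn hO hAO hBO pA_ne_pB
        · left
          rw [Pi.add_apply, vA0_pA, h0 pA hAO]
          norm_num
        · left
          rw [Pi.add_apply, vA0_pB, h0 pB hBO]
          norm_num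
        · intro i hi
          have hiA : i ≠ pA := by
            rintro rfl
            exact hAO hi
          have hiB : i ≠ pB := by
            rintro rfl
            exact hBO hi
          rw [Pi.add_apply, vA0_other hiA hiB, zero_add]
          exact h2 i hi
        · intro i hi hiA hiB
          rw [Pi.add_apply, vA0_other hiA hiB, h0 i hi]
          norm_num
  · -- shape C
    obtain ⟨k, C, hC, rfl⟩ := hC
    have hwA : signedPerm 1 C (oddBase k) pA =
        (if pA ∈ C then -1 else 1) * (if pA = k then (-3 : ℤ) else 1) := by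
      rw [signedPerm_one_apply]
      unfold oddBase
      split_ifs <;> ring
    have hwB : signedPerm 1 C (oddBase k) pB =
        (if pB ∈ C then -1 else 1) * (if pB = k then (-3 : ℤ) else 1) := by
      rw [signedPerm_one_apply]
      unfold oddBase
      split_ifs <;> ring
    rw [hwA, hwB] at hsum
    have hkA : k ≠ pA := by
      intro h
      have h1 : pB ≠ k := fun h' => pA_ne_pB (h'.trans h).symm
      rw [if_pos h.symm, if_neg h1] at hsum
      split_ifs at hsum <;> omega
    have hkB : k ≠ pB := by
      intro h
      have h1 : pA ≠ k := fun h' => pA_ne_pB (h'.trans h)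
      rw [if_pos h.symm, if_neg h1] at hsum
      split_ifs at hsum <;> omega
    have h1 : pA ≠ k := fun h => hkA h.symm
    have h2 : pB ≠ k := fun h => hkB h.symm
    rw [if_neg h1, if_neg h2] at hsum
    apply vrel_533 hC hkA hkB ?_ hz hn
    by_cases hA : pA ∈ C
    · by_cases hB : pB ∈ C
      · exfalso
        rw [if_pos hA, if_pos hB] at hsum
        omega
      · exact Or.inr ⟨hA, hB⟩
    · by_cases hB : pB ∈ C
      · exact Or.inl ⟨hA, hB⟩
      · exfalso
        rw [if_neg hA, if_neg hB] at hsum
        omega

/-- every lattice vector of sum of squares 64 is equivalent to a standard one -/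
theorem vrel_norm64 {z : IVec} (hz : z ∈ leechLattice) (hn : sqNorm z = 64) :
    VRel z (Pi.single (gPt 2) 8) := by
  classical
  -- a second vector of the cross
  obtain ⟨z', hz'c, hz'n⟩ : ∃ z' ∈ cross z, z' ∉ ({z, -z} : Set IVec) := by
    apply Set.exists_mem_notMem_of_ncard_lt_ncard
    · rw [cross_ncard hz hn]
      exact lt_of_le_of_lt (Set.ncard_insert_le _ _) (by rw [Set.ncard_singleton]; norm_num)
    · exact Set.toFinite _
  obtain ⟨hz'mem, hz'norm, u, hu, hzu⟩ := hz'c
  rw [Set.mem_insert_iff, Set.mem_singleton_iff, not_or] at hz'n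
  have hphi : phi z = phi z' := (phi_eq_iff z z').mpr ⟨u, hu, hzu⟩
  rw [hn] at hz'norm
  have hdot : dotInt z z' = 0 := by
    rcases short_cases hz hz'mem (le_of_eq hn) (le_of_eq hz'norm) hphi with h | h | h
    · exact absurd h hz'n.1
    · exact absurd h hz'n.2
    · exact h.2.2
  -- the two halves
  have hvmem : z - u ∈ leechLattice := leechLattice.sub_mem hz hu
  have hz'eq : z' = (z - u) - u := by
    have : z' = z - 2 • u := by rw [← hzu]; abel
    rw [this, two_smul]
    abel
  have hzeq : z = (z - u) + u := by abel
  have e1 : sqNorm z = sqNorm (z - u) + sqNorm u + 2 * dotInt (z - u) u := by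
    conv_lhs => rw [hzeq]
    exact sqNorm_add _ _
  have e2 : sqNorm z' = sqNorm (z - u) + sqNorm u - 2 * dotInt (z - u) u := by
    rw [hz'eq]
    unfold sqNorm dotInt
    rw [Finset.mul_sum, ← Finset.sum_add_distrib, ← Finset.sum_sub_distrib]
    refine Finset.sum_congr rfl fun i _ => ?_
    simp only [Pi.sub_apply]
    ring
  have e3 : dotInt z z' = sqNorm (z - u) - sqNorm u := by
    conv_lhs => rw [hz'eq, hzeq]
    unfold sqNorm dotInt
    rw [← Finset.sum_sub_distrib]
    refine Finset.sum_congr rfl fun i _ => ?_
    simp only [Pi.sub_apply, Pi.add_apply]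
    ring
  have hv32 : sqNorm (z - u) = 32 := by omega
  have hu32 : sqNorm u = 32 := by omega
  have hvu : dotInt (z - u) u = 0 := by omega
  -- move the first half to the base vector
  obtain ⟨hvmem', g, hg⟩ := (vrel_min32 hvmem hv32).symm
  have hgz : ((g • (⟨z, hz⟩ : ↥leechLattice) : ↥leechLattice) : IVec) =
      vA0 + ((g • (⟨u, hu⟩ : ↥leechLattice) : ↥leechLattice) : IVec) := by
    have h1 : (⟨z, hz⟩ : ↥leechLattice) = ⟨z - u, hvmem'⟩ + ⟨u, hu⟩ := Subtype.ext hzeq
    have h2 : g • ((⟨z - u, hvmem'⟩ : ↥leechLattice) + ⟨u, hu⟩) =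
        g • (⟨z - u, hvmem'⟩ : ↥leechLattice) + g • (⟨u, hu⟩ : ↥leechLattice) := g.2.1 _ _
    rw [h1, h2, AddSubgroup.coe_add, hg]
  have r1 : VRel z (vA0 + ((g • (⟨u, hu⟩ : ↥leechLattice) : ↥leechLattice) : IVec)) :=
    ⟨hz, g, hgz⟩
  refine r1.trans (vrel_orth (g • (⟨u, hu⟩ : ↥leechLattice)).2 ?_ ?_)
  · rw [co0_sqNorm]
    exact hu32
  · rw [← hg, co0_dotInt]
    exact hvu

/-- the automorphism group is transitive on the vectors of sum of squares 64 -/
theorem vrel_norm64_single {z : IVec} (hz : z ∈ leechLattice) (hn : sqNorm z = 64) (p : GolayPt)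
    {s : ℤ} (hs : s = 8 ∨ s = -8) : VRel z (Pi.single p s) :=
  (vrel_norm64 hz hn).trans (vrel_std p hs).symm

theorem vrel_norm64_pair {x y : IVec} (hx : x ∈ leechLattice) (hxn : sqNorm x = 64)
    (hy : y ∈ leechLattice) (hyn : sqNorm y = 64) : VRel x y :=
  (vrel_norm64 hx hxn).trans (vrel_norm64 hy hyn).symm

theorem co0_transitive_norm64 (v w : ↥leechLattice) (hv : sqNorm (v : IVec) = 64)
    (hw : sqNorm (w : IVec) = 64) : ∃ g : ↥Co0, g • v = w :=
  exists_smul_of_vrel (vrel_norm64_pair v.2 hv w.2 hw)

end Cfsg.Agent.Helper8
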