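import Mathlib
import Cfsg.Prelude.Def_SporadicCombinatorics
import Cfsg.Agent.Helper8.Norm64f
import Cfsg.Agent.Helper8.CrossStab

/-!
The order of the automorphism group of the rank-24 lattice.
-/

set_option autoImplicit false

namespace Cfsg.Agent.Helper8

open Cfsg Cfsg.Agent.Helper27
open scoped Pointwise

/-- the elements of a group that map a point into a set contained in its orbit -/
theorem card_fiber_set {G β : Type*} [Group G] [MulAction G β] (b : β) (S : Set β)
    (hS : ∀ s ∈ S, ∃ g : G, g • b = s) :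
    Nat.card {g : G // g • b ∈ S} = Nat.card S * Nat.card (MulAction.stabilizer G b) := by
  classical
  choose! h hh using hS
  have e : {g : G // g • b ∈ S} ≃ S × MulAction.stabilizer G b :=
    { toFun := fun g => (⟨g.1 • b, g.2⟩, ⟨(h (g.1 • b))⁻¹ * g.1, by
          rw [MulAction.mem_stabilizer_iff, mul_smul, inv_smul_eq_iff, hh _ g.2]⟩)
      invFun := fun p => ⟨h p.1.1 * p.2.1, by
          rw [mul_smul, MulAction.mem_stabilizer_iff.mp p.2.2, hh _ p.1.2]
          exact p.1.2⟩
      left_inv := by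
        rintro ⟨g, hg⟩
        apply Subtype.ext
        show h (g • b) * ((h (g • b))⁻¹ * g) = g
        group
      right_inv := by
        rintro ⟨⟨s, hs⟩, ⟨k, hk⟩⟩
        have hk' : k • b = b := hk
        have e1 : (h s * k) • b = s := by rw [mul_smul, hk', hh s hs]
        apply Prod.ext
        · apply Subtype.ext
          exact e1
        · apply Subtype.ext
          show (h ((h s * k) • b))⁻¹ * (h s * k) = k
          rw [e1]
          group }
  rw [Nat.card_congr e, Nat.card_prod]

theorem card_subtype_lattice (P : IVec → Prop) (hP : ∀ x, P x → x ∈ leechLattice) :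
    Nat.card {v : ↥leechLattice // P v.1} = {x : IVec | P x}.ncard := by
  rw [← Nat.card_coe_set_eq]
  exact Nat.card_congr
    { toFun := fun v => ⟨v.1.1, v.2⟩
      invFun := fun x => ⟨⟨x.1, hP _ x.2⟩, x.2⟩
      left_inv := fun v => rfl
      right_inv := fun x => rfl }

theorem sqNorm_single8 (i : GolayPt) {s : ℤ} (hs : s = 8 ∨ s = -8) :
    sqNorm (Pi.single i s : IVec) = 64 := by
  classical
  unfold sqNorm
  rw [Finset.sum_eq_single i]
  · rw [Pi.single_eq_same]
    rcases hs with rfl | rfl <;> norm_num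
  · intro j _ hj
    rw [Pi.single_eq_of_ne hj]
    norm_num
  · intro h
    exact absurd (Finset.mem_univ i) h

theorem stdCross_subset : ∀ x ∈ stdCross, x ∈ leechLattice ∧ sqNorm x = 64 := by
  rintro x ⟨i, s, hs, rfl⟩
  exact ⟨single8_mem i s hs, sqNorm_single8 i hs⟩

theorem ncard_stdCross : stdCross.ncard = 48 := by
  classical
  let f : GolayPt × Bool → IVec := fun p => Pi.single p.1 (if p.2 then 8 else -8)
  have hf : Function.Injective f := by
    rintro ⟨i, a⟩ ⟨j, b⟩ h
    have hij : i = j := by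
      by_contra hne
      have h1 := congrFun h i
      simp only [f] at h1
      rw [Pi.single_eq_same, Pi.single_eq_of_ne hne] at h1
      split_ifs at h1 <;> norm_num at h1
    subst hij
    have h1 := congrFun h i
    simp only [f, Pi.single_eq_same] at h1
    have hab : a = b := by
      cases a <;> cases b <;> simp at h1 ⊢
    rw [hab]
  have hrange : stdCross = Set.range f := by
    ext y
    constructor
    · rintro ⟨i, s, hs | hs, rfl⟩
      · exact ⟨(i, true), by simp [f, hs]⟩
      · exact ⟨(i, false), by simp [f, hs]⟩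
    · rintro ⟨⟨i, b⟩, rfl⟩
      refine ⟨i, _, ?_, rfl⟩
      cases b <;> simp
  rw [hrange, ← Set.image_univ, Set.ncard_image_of_injective _ hf, Set.ncard_univ, Nat.card_prod,
    Nat.card_eq_fintype_card, Nat.card_eq_fintype_card, Cfsg.Agent.Helper26.card_golayPt,
    Fintype.card_bool]

/-- sums of two vectors `±4 e_i` are lattice vectors -/
theorem four_pair_mem (i j : GolayPt) {s t : ℤ} (hs : s = 4 ∨ s = -4) (ht : t = 4 ∨ t = -4) :
    (Pi.single i s + Pi.single j t : IVec) ∈ leechLattice := by
  classical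
  by_cases hij : i = j
  · subst hij
    rw [← Pi.single_add]
    rcases hs with rfl | rfl <;> rcases ht with rfl | rfl
    · exact single8_mem i _ (Or.inl (by norm_num))
    · have : (4 : ℤ) + -4 = 0 := by norm_num
      rw [this, Pi.single_zero]
      exact leechLattice.zero_mem
    · have : (-4 : ℤ) + 4 = 0 := by norm_num
      rw [this, Pi.single_zero]
      exact leechLattice.zero_mem
    · exact single8_mem i _ (Or.inr (by norm_num))
  · exact (vrelA ⟨i, j, s, t, hij, hs, ht, rfl⟩).mem_right

theorem std_sub {x y : IVec} (hx : x ∈ stdCross) (hy : y ∈ stdCross) :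
    ∃ u ∈ leechLattice, x - y = 2 • u := by
  classical
  obtain ⟨i, s, hs, rfl⟩ := hx
  obtain ⟨j, t, ht, rfl⟩ := hy
  have key : ∀ s' t' : ℤ, s = 2 * s' → t = -(2 * t') →
      (Pi.single i s - Pi.single j t : IVec) = 2 • (Pi.single i s' + Pi.single j t' : IVec) := by
    intro s' t' hs' ht'
    ext k
    rw [hs', ht']
    simp only [Pi.sub_apply, Pi.smul_apply, Pi.add_apply, Pi.single_apply]
    split_ifs <;> ring
  rcases hs with rfl | rfl <;> rcases ht with rfl | rfl
  · exact ⟨_, four_pair_mem i j (Or.inl rfl) (Or.inr rfl), key 4 (-4) (by norm_num) (by norm_num)⟩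
  · exact ⟨_, four_pair_mem i j (Or.inl rfl) (Or.inl rfl), key 4 4 (by norm_num) (by norm_num)⟩
  · exact ⟨_, four_pair_mem i j (Or.inr rfl) (Or.inr rfl), key (-4) (-4) (by norm_num)
      (by norm_num)⟩
  · exact ⟨_, four_pair_mem i j (Or.inr rfl) (Or.inl rfl), key (-4) 4 (by norm_num) (by norm_num)⟩

/-- the cross through a standard vector is the standard cross -/
theorem cross_std {x : IVec} (hx : x ∈ stdCross) : cross x = stdCross := by
  have hx' := stdCross_subset x hx
  have hsub : stdCross ⊆ cross x := by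
    intro y hy
    have hy' := stdCross_subset y hy
    exact ⟨hy'.1, by rw [hy'.2, hx'.2], std_sub hx hy⟩
  have hc := cross_ncard hx'.1 hx'.2
  exact (Set.eq_of_subset_of_ncard_le hsub (by rw [hc, ncard_stdCross])
    (Set.finite_of_ncard_ne_zero (by rw [hc]; norm_num))).symm

theorem co0_smul_sub (g : ↥Co0) (a b : ↥leechLattice) : g • (a - b) = g • a - g • b := by
  rw [← co0Hom_apply, ← co0Hom_apply, ← co0Hom_apply, map_sub]

theorem co0_smul_two (g : ↥Co0) (a : ↥leechLattice) : g • ((2 : ℕ) • a) = (2 : ℕ) • (g • a) := by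
  rw [← co0Hom_apply, ← co0Hom_apply, map_nsmul]

/-- automorphisms map crosses to crosses -/
theorem co0_cross (g : ↥Co0) (a b : ↥leechLattice) (h : b.1 ∈ cross a.1) :
    (g • b : ↥leechLattice).1 ∈ cross (g • a : ↥leechLattice).1 := by
  obtain ⟨-, hn, u, hu, hab⟩ := h
  refine ⟨(g • b).2, by rw [co0_sqNorm, co0_sqNorm, hn], (g • (⟨u, hu⟩ : ↥leechLattice)).1,
    (g • (⟨u, hu⟩ : ↥leechLattice)).2, ?_⟩
  have h1 : a - b = (2 : ℕ) • (⟨u, hu⟩ : ↥leechLattice) := Subtype.ext hab
  have h2 := congrArg (fun v : ↥leechLattice => (g • v : ↥leechLattice).1) h1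
  simp only [co0_smul_sub, co0_smul_two] at h2
  exact h2

theorem fixesCross_iff (g : ↥Co0) (p : GolayPt) :
    FixesCross g ↔ ((g • vec8 p : ↥leechLattice) : IVec) ∈ stdCross := by
  have hp : ((vec8 p : ↥leechLattice) : IVec) ∈ stdCross := ⟨p, 8, Or.inl rfl, rfl⟩
  constructor
  · intro h
    exact h (vec8 p) hp
  · intro h v hv
    have h1 : v.1 ∈ cross (vec8 p : ↥leechLattice).1 := by
      rw [cross_std hp]
      exact hv
    have h2 := co0_cross g (vec8 p) v h1
    rw [cross_std h] at h2
    exact h2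

/-- the order of the automorphism group -/
theorem card_co0 : Nat.card ↥Co0 = 8315553613086720000 := by
  have hz0 : sqNorm ((vec8 (gPt 2) : ↥leechLattice) : IVec) = 64 :=
    sqNorm_single8 (gPt 2) (Or.inl rfl)
  have h1 := card_fiber_set (G := ↥Co0) (vec8 (gPt 2))
    {v : ↥leechLattice | v.1 ∈ leechLattice ∧ sqNorm v.1 = 64}
    (fun s hs => co0_transitive_norm64 (vec8 (gPt 2)) s hz0 hs.2)
  have h2 := card_fiber_set (G := ↥Co0) (vec8 (gPt 2))
    {v : ↥leechLattice | v.1 ∈ stdCross}
    (fun s hs => co0_transitive_norm64 (vec8 (gPt 2)) s hz0 (stdCross_subset s.1 hs).2)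
  have e1 : Nat.card {g : ↥Co0 // g • vec8 (gPt 2) ∈
      {v : ↥leechLattice | v.1 ∈ leechLattice ∧ sqNorm v.1 = 64}} = Nat.card ↥Co0 :=
    Nat.card_congr (Equiv.subtypeUnivEquiv fun g =>
      ⟨(g • vec8 (gPt 2)).2, by rw [co0_sqNorm]; exact hz0⟩)
  have e2 : Nat.card {g : ↥Co0 // g • vec8 (gPt 2) ∈ {v : ↥leechLattice | v.1 ∈ stdCross}} =
      4096 * 244823040 := by
    rw [← card_fixesCross]
    exact Nat.card_congr (Equiv.subtypeEquivRight fun g => (fixesCross_iff g (gPt 2)).symm)
  have c1 : Nat.card ↥{v : ↥leechLattice | v.1 ∈ leechLattice ∧ sqNorm v.1 = 64} = 398034000 := by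
    have h := card_subtype_lattice (fun x => x ∈ leechLattice ∧ sqNorm x = 64) (fun x hx => hx.1)
    have h' := ncard_leech 64 (by norm_num)
    have e : leechCount 64 = 398034000 := by decide +kernel
    rw [e] at h'
    have h'' : {x : IVec | x ∈ leechLattice ∧ sqNorm x = 64}.ncard = 398034000 := by
      exact_mod_cast h'
    rw [← h'']
    exact h
  have c2 : Nat.card ↥{v : ↥leechLattice | v.1 ∈ stdCross} = 48 := by
    have h := card_subtype_lattice (fun x => x ∈ stdCross) (fun x hx => (stdCross_subset x hx).1)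
    rw [← ncard_stdCross]
    exact h
  rw [e1, c1] at h1
  rw [e2, c2] at h2
  have h3 : Nat.card (MulAction.stabilizer (↥Co0) (vec8 (gPt 2))) = 20891566080 := by omega
  rw [h1, h3]

end Cfsg.Agent.Helper8
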