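import Mathlib
import Cfsg.Prelude.Def_SporadicCombinatorics
import Cfsg.Agent.Helper8.Xi
import Cfsg.Agent.Helper26.GolayAbs

/-!
A bound of equiangular type: a family of integer vectors orthogonal to a fixed vector of sum of
squares 48, all of the same length 80, falling into opposite pairs, any two others having inner
product `±16`, has at most 552 members.
-/

set_option autoImplicit false

namespace Cfsg.Agent.Helper8

open Cfsg

/-! ### bilinearity of the inner product -/

theorem dotInt_comm (x y : IVec) : dotInt x y = dotInt y x := by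
  unfold dotInt
  exact Finset.sum_congr rfl fun i _ => mul_comm _ _

theorem dotInt_sub_left (x y z : IVec) : dotInt (x - y) z = dotInt x z - dotInt y z := by
  unfold dotInt
  rw [← Finset.sum_sub_distrib]
  refine Finset.sum_congr rfl fun i _ => ?_
  rw [Pi.sub_apply]
  ring

theorem dotInt_sub_right (x y z : IVec) : dotInt x (y - z) = dotInt x y - dotInt x z := by
  rw [dotInt_comm, dotInt_sub_left, dotInt_comm y, dotInt_comm z]

theorem dotInt_add_left (x y z : IVec) : dotInt (x + y) z = dotInt x z + dotInt y z := by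
  unfold dotInt
  rw [← Finset.sum_add_distrib]
  refine Finset.sum_congr rfl fun i _ => ?_
  rw [Pi.add_apply]
  ring

theorem dotInt_add_right (x y z : IVec) : dotInt x (y + z) = dotInt x y + dotInt x z := by
  rw [dotInt_comm, dotInt_add_left, dotInt_comm y, dotInt_comm z]

theorem dotInt_two_smul_left (x z : IVec) : dotInt ((2 : ℕ) • x) z = 2 * dotInt x z := by
  rw [two_smul, dotInt_add_left]
  ring

theorem dotInt_two_smul_right (x z : IVec) : dotInt x ((2 : ℕ) • z) = 2 * dotInt x z := by
  rw [dotInt_comm, dotInt_two_smul_left, dotInt_comm]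

theorem dotInt_self (x : IVec) : dotInt x x = sqNorm x := by
  unfold dotInt sqNorm
  exact Finset.sum_congr rfl fun i _ => (sq (x i)).symm

theorem sqNorm_sub (x y : IVec) : sqNorm (x - y) = sqNorm x + sqNorm y - 2 * dotInt x y := by
  rw [← dotInt_self, dotInt_sub_left, dotInt_sub_right, dotInt_sub_right, dotInt_self, dotInt_self,
    dotInt_comm y x]
  ring

/-! ### sums of outer products -/

/-- the sum of the outer squares of a family of vectors -/
def outerSum (S : Finset IVec) (t : IVec → IVec) (i j : GolayPt) : ℤ := ∑ a ∈ S, t a i * t a j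

theorem frob_outer (S : Finset IVec) (t : IVec → IVec) (N : GolayPt → GolayPt → ℤ) :
    ∑ i, ∑ j, outerSum S t i j * N i j = ∑ a ∈ S, ∑ i, ∑ j, t a i * t a j * N i j := by
  unfold outerSum
  simp only [Finset.sum_mul]
  calc ∑ i, ∑ j, ∑ a ∈ S, t a i * t a j * N i j
      = ∑ i, ∑ a ∈ S, ∑ j, t a i * t a j * N i j :=
        Finset.sum_congr rfl fun i _ => Finset.sum_comm
    _ = ∑ a ∈ S, ∑ i, ∑ j, t a i * t a j * N i j := Finset.sum_comm

theorem sum_outer_mul (x y : IVec) : ∑ i, ∑ j, x i * x j * (y i * y j) = dotInt x y ^ 2 := by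
  unfold dotInt
  rw [sq, Finset.sum_mul_sum]
  exact Finset.sum_congr rfl fun i _ => Finset.sum_congr rfl fun j _ => by ring

theorem gram_identity (S : Finset IVec) (t : IVec → IVec) :
    ∑ i, ∑ j, outerSum S t i j ^ 2 = ∑ a ∈ S, ∑ b ∈ S, dotInt (t b) (t a) ^ 2 := by
  have h1 : ∑ i, ∑ j, outerSum S t i j ^ 2 = ∑ i, ∑ j, outerSum S t i j * outerSum S t i j :=
    Finset.sum_congr rfl fun i _ => Finset.sum_congr rfl fun j _ => sq _
  rw [h1, frob_outer]
  refine Finset.sum_congr rfl fun a _ => ?_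
  have h2 : ∑ i, ∑ j, t a i * t a j * outerSum S t i j =
      ∑ i, ∑ j, outerSum S t i j * (t a i * t a j) :=
    Finset.sum_congr rfl fun i _ => Finset.sum_congr rfl fun j _ => mul_comm _ _
  rw [h2, frob_outer]
  exact Finset.sum_congr rfl fun b _ => sum_outer_mul (t b) (t a)

theorem sum_diag (x : IVec) (n0 : ℤ) :
    ∑ i, ∑ j, x i * x j * (if i = j then n0 else 0) = n0 * dotInt x x := by
  classical
  unfold dotInt
  rw [Finset.mul_sum]
  refine Finset.sum_congr rfl fun i _ => ?_
  have : ∀ j, x i * x j * (if i = j then n0 else 0) = if i = j then x i * x j * n0 else 0 := by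
    intro j
    split_ifs <;> ring
  simp only [this]
  rw [Finset.sum_ite_eq, if_pos (Finset.mem_univ _)]
  ring

theorem sum_Q_sq (u : IVec) (n0 : ℤ) (hu : sqNorm u = n0) :
    ∑ i, ∑ j, ((if i = j then n0 else 0) - u i * u j) ^ 2 = 23 * n0 ^ 2 := by
  classical
  have hu' : ∑ j, u j ^ 2 = n0 := hu
  have h1 : ∀ i : GolayPt, ∑ j, ((if i = j then n0 else 0) - u i * u j) ^ 2 =
      n0 ^ 2 - 2 * n0 * u i ^ 2 + u i ^ 2 * n0 := by
    intro i
    have : ∀ j, ((if i = j then n0 else 0) - u i * u j) ^ 2 =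
        (if i = j then n0 ^ 2 - 2 * n0 * (u i * u j) else 0) + u i ^ 2 * u j ^ 2 := by
      intro j
      split_ifs <;> ring
    simp only [this]
    rw [Finset.sum_add_distrib, Finset.sum_ite_eq, if_pos (Finset.mem_univ _), ← Finset.mul_sum,
      hu']
    ring
  simp only [h1]
  rw [Finset.sum_add_distrib, Finset.sum_sub_distrib, Finset.sum_const, ← Finset.mul_sum,
    ← Finset.sum_mul, hu', Finset.card_univ, Cfsg.Agent.Helper26.card_golayPt]
  simp only [nsmul_eq_mul]
  push_cast
  ring

/-- the trace inequality -/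
theorem trace_ineq (S : Finset IVec) (t : IVec → IVec) (u : IVec) (n0 : ℤ) (hu : sqNorm u = n0)
    (hort : ∀ a ∈ S, dotInt (t a) u = 0) :
    (n0 * ∑ a ∈ S, dotInt (t a) (t a)) ^ 2 ≤
      (∑ a ∈ S, ∑ b ∈ S, dotInt (t b) (t a) ^ 2) * (23 * n0 ^ 2) := by
  classical
  have cs := Finset.sum_mul_sq_le_sq_mul_sq (Finset.univ ×ˢ Finset.univ : Finset (GolayPt × GolayPt))
    (fun p => outerSum S t p.1 p.2) (fun p => (if p.1 = p.2 then n0 else 0) - u p.1 * u p.2)
  rw [Finset.sum_product (s := Finset.univ) (t := Finset.univ)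
      (f := fun p => outerSum S t p.1 p.2 * ((if p.1 = p.2 then n0 else 0) - u p.1 * u p.2)),
    Finset.sum_product (s := Finset.univ) (t := Finset.univ)
      (f := fun p => outerSum S t p.1 p.2 ^ 2),
    Finset.sum_product (s := Finset.univ) (t := Finset.univ)
      (f := fun p => ((if p.1 = p.2 then n0 else 0) - u p.1 * u p.2) ^ 2)] at cs
  simp only at cs
  rw [gram_identity, sum_Q_sq u n0 hu, frob_outer] at cs
  have h3 : ∑ a ∈ S, ∑ i, ∑ j, t a i * t a j * ((if i = j then n0 else 0) - u i * u j) =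
      n0 * ∑ a ∈ S, dotInt (t a) (t a) := by
    rw [Finset.mul_sum]
    refine Finset.sum_congr rfl fun a ha => ?_
    have : ∀ i j, t a i * t a j * ((if i = j then n0 else 0) - u i * u j) =
        t a i * t a j * (if i = j then n0 else 0) - t a i * t a j * (u i * u j) := by
      intro i j
      ring
    simp only [this, Finset.sum_sub_distrib]
    rw [sum_diag, sum_outer_mul, hort a ha]
    ring
  rw [h3] at cs
  exact cs

/-- the bound -/
theorem card_le_552 (S : Finset IVec) (u : IVec) (hu : sqNorm u = 48) (t : IVec → IVec)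
    (hort : ∀ a ∈ S, dotInt (t a) u = 0)
    (hself : ∀ a ∈ S, dotInt (t a) (t a) = 80)
    (hopp : ∀ a ∈ S, u - a ∈ S ∧ u - a ≠ a)
    (hoppd : ∀ a ∈ S, dotInt (t (u - a)) (t a) ^ 2 = 6400)
    (hother : ∀ a ∈ S, ∀ b ∈ S, b ≠ a → b ≠ u - a → dotInt (t b) (t a) ^ 2 = 256) :
    S.card ≤ 552 := by
  classical
  have h1 := trace_ineq S t u 48 hu hort
  have hT1 : ∑ a ∈ S, dotInt (t a) (t a) = 80 * S.card := by
    rw [Finset.sum_congr rfl hself, Finset.sum_const, nsmul_eq_mul]
    ring
  have hT2 : ∑ a ∈ S, ∑ b ∈ S, dotInt (t b) (t a) ^ 2 =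
      (S.card : ℤ) * (12288 + 256 * S.card) := by
    have hrow : ∀ a ∈ S, ∑ b ∈ S, dotInt (t b) (t a) ^ 2 = 12288 + 256 * (S.card : ℤ) := by
      intro a ha
      obtain ⟨hua, hne⟩ := hopp a ha
      have hua' : u - a ∈ S.erase a := Finset.mem_erase.mpr ⟨hne, hua⟩
      rw [← Finset.add_sum_erase S _ ha, ← Finset.add_sum_erase (S.erase a) _ hua', hoppd a ha,
        hself a ha]
      have hrest : ∑ b ∈ (S.erase a).erase (u - a), dotInt (t b) (t a) ^ 2 =
          ∑ _b ∈ (S.erase a).erase (u - a), (256 : ℤ) := by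
        refine Finset.sum_congr rfl fun b hb => ?_
        rw [Finset.mem_erase, Finset.mem_erase] at hb
        exact hother a ha b hb.2.2 hb.2.1 hb.1
      rw [hrest, Finset.sum_const, Finset.card_erase_of_mem hua', Finset.card_erase_of_mem ha,
        nsmul_eq_mul]
      have hc : 2 ≤ S.card := by
        have := Finset.card_pos.mpr ⟨u - a, hua'⟩
        rw [Finset.card_erase_of_mem ha] at this
        omega
      have hcast : ((S.card - 1 - 1 : ℕ) : ℤ) = (S.card : ℤ) - 2 := by
        omega
      rw [hcast]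
      ring
    rw [Finset.sum_congr rfl hrow, Finset.sum_const, nsmul_eq_mul]
  rw [hT1, hT2] at h1
  by_contra hlt
  have hd : (553 : ℤ) ≤ S.card := by
    have : 553 ≤ S.card := by omega
    exact_mod_cast this
  nlinarith [hd, h1]

end Cfsg.Agent.Helper8
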