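import Mathlib
import Cfsg.Prelude.Def_SporadicCombinatorics
import Cfsg.Agent.Helper8.Decomp48a
import Cfsg.Agent.Helper8.PairCensus2
import Cfsg.Agent.Helper8.LeechClasses
import Cfsg.Agent.Helper92.LeechBasic

/-!
Every lattice vector of sum of squares 48 is the sum of two minimal vectors in exactly 552 ordered
ways.
-/

set_option autoImplicit false

namespace Cfsg.Agent.Helper8

open Cfsg

theorem eight_dvd_dotInt {a b : IVec} (ha : a ∈ leechLattice) (hb : b ∈ leechLattice) :
    (8 : ℤ) ∣ dotInt a b := by
  have h1 := Cfsg.Agent.Helper92.sixteen_dvd_sqNorm (leechLattice.add_mem ha hb)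
  have h2 := Cfsg.Agent.Helper92.sixteen_dvd_sqNorm ha
  have h3 := Cfsg.Agent.Helper92.sixteen_dvd_sqNorm hb
  rw [sqNorm_add] at h1
  omega

theorem dot_le_16 {a b : IVec} (ha : a ∈ leechLattice) (hb : b ∈ leechLattice)
    (hna : sqNorm a = 32) (hnb : sqNorm b = 32) (hne : a ≠ b) : dotInt a b ≤ 16 := by
  have h := Cfsg.Agent.Helper92.thirtytwo_le_sqNorm (leechLattice.sub_mem ha hb)
    (sub_ne_zero.mpr hne)
  rw [sqNorm_sub, hna, hnb] at h
  omega

/-- the minimal vectors whose difference from `u` is minimal -/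
noncomputable def summands (u : IVec) : Finset IVec := by
  classical
  exact (leechF 32).filter fun v => sqNorm (u - v) = 32

theorem mem_summands (u v : IVec) :
    v ∈ summands u ↔ v ∈ leechLattice ∧ sqNorm v = 32 ∧ sqNorm (u - v) = 32 := by
  classical
  unfold summands
  rw [Finset.mem_filter, mem_leechF (by norm_num), and_assoc]

theorem dot_of_mem_summands {u v : IVec} (hu : sqNorm u = 48) (hv : v ∈ summands u) :
    dotInt u v = 24 := by
  rw [mem_summands] at hv
  have := hv.2.2
  rw [sqNorm_sub, hu, hv.2.1] at this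
  omega

theorem card_summands_le {u : IVec} (hu : u ∈ leechLattice) (hun : sqNorm u = 48) :
    (summands u).card ≤ 552 := by
  classical
  have hdotu : dotInt u u = 48 := by rw [dotInt_self, hun]
  have hopp : ∀ a ∈ summands u, u - a ∈ summands u ∧ u - a ≠ a := by
    intro a ha
    have hd := dot_of_mem_summands hun ha
    rw [mem_summands] at ha
    refine ⟨?_, ?_⟩
    · rw [mem_summands]
      refine ⟨leechLattice.sub_mem hu ha.1, ha.2.2, ?_⟩
      rw [sub_sub_cancel]
      exact ha.2.1
    · intro h
      have h1 : dotInt (u - a) a = dotInt a a := by rw [h]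
      rw [dotInt_sub_left, hd, dotInt_self, ha.2.1] at h1
      omega
  have htdot : ∀ a b : IVec, dotInt u a = 24 → dotInt u b = 24 →
      dotInt ((2 : ℕ) • b - u) ((2 : ℕ) • a - u) = 4 * dotInt b a - 48 := by
    intro a b ha hb
    rw [dotInt_sub_left, dotInt_sub_right, dotInt_sub_right, dotInt_two_smul_left,
      dotInt_two_smul_right, dotInt_two_smul_left, dotInt_two_smul_right, hdotu, ha,
      dotInt_comm b u, hb]
    ring
  refine card_le_552 (summands u) u hun (fun a => (2 : ℕ) • a - u) ?_ ?_ hopp ?_ ?_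
  · intro a ha
    have hd := dot_of_mem_summands hun ha
    show dotInt ((2 : ℕ) • a - u) u = 0
    rw [dotInt_sub_left, dotInt_two_smul_left, dotInt_comm a u, hd, hdotu]
    norm_num
  · intro a ha
    have hd := dot_of_mem_summands hun ha
    show dotInt ((2 : ℕ) • a - u) ((2 : ℕ) • a - u) = 80
    rw [htdot a a hd hd, dotInt_self, ((mem_summands u a).mp ha).2.1]
    norm_num
  · intro a ha
    have hd := dot_of_mem_summands hun ha
    have hd' := dot_of_mem_summands hun (hopp a ha).1
    show dotInt ((2 : ℕ) • (u - a) - u) ((2 : ℕ) • a - u) ^ 2 = 6400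
    rw [htdot a (u - a) hd hd', dotInt_sub_left, hd, dotInt_self, ((mem_summands u a).mp ha).2.1]
    norm_num
  · intro a ha b hb hba hbua
    have hda := dot_of_mem_summands hun ha
    have hdb := dot_of_mem_summands hun hb
    have ha' := (mem_summands u a).mp ha
    have hb' := (mem_summands u b).mp hb
    have hub' := (mem_summands u (u - b)).mp (hopp b hb).1
    show dotInt ((2 : ℕ) • b - u) ((2 : ℕ) • a - u) ^ 2 = 256
    rw [htdot a b hda hdb]
    have h8 := eight_dvd_dotInt hb'.1 ha'.1
    have hle := dot_le_16 hb'.1 ha'.1 hb'.2.1 ha'.2.1 hba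
    have hge : dotInt (u - b) a ≤ 16 := by
      apply dot_le_16 hub'.1 ha'.1 hub'.2.1 ha'.2.1
      intro h
      apply hbua
      rw [← h, sub_sub_cancel]
    rw [dotInt_sub_left, hda] at hge
    obtain ⟨k, hk⟩ := h8
    have hk' : k = 1 ∨ k = 2 := by omega
    rcases hk' with rfl | rfl <;> rw [hk] <;> norm_num

/-- the double count -/
theorem sum_card_summands :
    ∑ u ∈ leechF 48, (summands u).card = 196560 * 47104 := by
  classical
  have h1 : ∀ u ∈ leechF 48, (summands u).card =
      ∑ v ∈ leechF 32, if sqNorm (u - v) = 32 then 1 else 0 := by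
    intro u _
    unfold summands
    rw [Finset.card_filter]
  rw [Finset.sum_congr rfl h1, Finset.sum_comm]
  have h2 : ∀ v ∈ leechF 32, (∑ u ∈ leechF 48, if sqNorm (u - v) = 32 then 1 else 0) = 47104 := by
    intro v hv
    rw [mem_leechF (by norm_num)] at hv
    rw [← Finset.card_filter]
    have hc := census_min32 v hv.1 hv.2 (-8) (-2) (by norm_num)
    rw [censusNum_neg2] at hc
    rw [← hc, ← Set.ncard_coe_finset]
    apply Set.ncard_congr (fun u _ => u - v)
    · intro u hu
      rw [Finset.mem_coe, Finset.mem_filter, mem_leechF (by norm_num)] at hu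
      refine ⟨leechLattice.sub_mem hu.1.1 hv.1, hu.2, ?_⟩
      have := hu.2
      rw [sqNorm_sub, hu.1.2, hv.2] at this
      rw [dotInt_sub_right, dotInt_self, hv.2, dotInt_comm v u]
      omega
    · intro a b _ _ h
      exact sub_left_injective h
    · intro w hw
      refine ⟨v + w, ?_, by abel⟩
      rw [Finset.mem_coe, Finset.mem_filter, mem_leechF (by norm_num)]
      obtain ⟨hw1, hw2, hw3⟩ := hw
      refine ⟨⟨leechLattice.add_mem hv.1 hw1, ?_⟩, ?_⟩
      · rw [sqNorm_add, hv.2, hw2, hw3]
        norm_num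
      · rw [add_sub_cancel_left]
        exact hw2
  rw [Finset.sum_congr rfl h2, Finset.sum_const, card_leechF_32, smul_eq_mul]

/-- the number of decompositions -/
theorem card_summands {u : IVec} (hu : u ∈ leechLattice) (hun : sqNorm u = 48) :
    (summands u).card = 552 := by
  have h1 : ∑ u ∈ leechF 48, (summands u).card = ∑ _u ∈ leechF 48, 552 := by
    rw [sum_card_summands, Finset.sum_const, card_leechF_48, smul_eq_mul]
  have h2 := (Finset.sum_eq_sum_iff_of_le (fun v hv => by
    rw [mem_leechF (by norm_num)] at hv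
    exact card_summands_le hv.1 hv.2)).mp h1
  exact h2 u ((mem_leechF (by norm_num) u).mpr ⟨hu, hun⟩)

end Cfsg.Agent.Helper8
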