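import Mathlib
import Cfsg.Prelude.Def_SporadicCombinatorics
import Cfsg.Agent.Helper92.PermTab
import Cfsg.Agent.Helper8.Orbit
import Cfsg.Agent.Helper8.Min32b

/-!
A calculator for words in monomial maps and the extra automorphism, acting on integer vectors given
by lists of 24 entries, with evaluation forced step by step so that the kernel can run it.
-/

set_option autoImplicit false

namespace Cfsg.Agent.Helper8

open Cfsg Cfsg.Agent.Helper27 Cfsg.Agent.Helper92

/-- the vector given by a list of entries (by index of the point) -/
def vecOf (l : List ℤ) : IVec := fun p => l.getD (gIdx p) 0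

/-- the list of entries of a vector -/
def listOf (x : IVec) : List ℤ := (List.range 24).map fun i => x (gPt i)

theorem vecOf_range_map (f : ℕ → ℤ) (p : GolayPt) :
    vecOf ((List.range 24).map f) p = f (gIdx p) := by
  unfold vecOf
  have h : gIdx p < ((List.range 24).map f).length := by
    rw [List.length_map, List.length_range]
    exact gIdx_lt p
  rw [List.getD_eq_getElem _ _ h, List.getElem_map, List.getElem_range]

theorem vecOf_listOf (x : IVec) : vecOf (listOf x) = x := by
  ext p
  unfold listOf
  rw [vecOf_range_map, gPt_gIdx]

/-! ### forcing evaluation -/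

/-- force a natural number -/
def forceN {α : Sort _} (f : ℕ → α) (m : ℕ) : α := Nat.casesOn m (f 0) (fun n => f (Nat.succ n))

theorem forceN_eq {α : Sort _} (f : ℕ → α) (m : ℕ) : forceN f m = f m := by
  cases m <;> rfl

/-- force an integer -/
def forceInt {α : Sort _} (k : ℤ → α) (v : ℤ) : α :=
  Int.casesOn v (fun n => forceN (fun n' => k (Int.ofNat n')) n)
    (fun n => forceN (fun n' => k (Int.negSucc n')) n)

theorem forceInt_eq {α : Sort _} (k : ℤ → α) (v : ℤ) : forceInt k v = k v := by
  cases v <;> simp only [forceInt, forceN_eq]

/-- force all entries of a list, then continue -/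
def forceListK {α : Sort _} : List ℤ → (List ℤ → α) → α
  | [], k => k []
  | v :: vs, k => forceInt (fun v' => forceListK vs (fun vs' => k (v' :: vs'))) v

theorem forceListK_eq {α : Sort _} (l : List ℤ) (k : List ℤ → α) : forceListK l k = k l := by
  induction l generalizing k with
  | nil => rfl
  | cons v vs ih =>
    rw [forceListK, forceInt_eq, ih]

/-! ### letters -/

/-- a letter: a permutation by its table and inverse table, a sign change by a mask, or the extra
automorphism -/
inductive Letter
  | P (t s : List ℕ)
  | S (m : ℕ)
  | X

/-- validity of a letter -/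
def Letter.ok : Letter → Bool
  | .P t s => isInvPair t s && checkM24 s
  | .S m => decide (m < 2 ^ 24) && isCode m
  | .X => true

/-- the map of a letter -/
def Letter.sem : Letter → IVec → IVec
  | .P t s => signedPerm (permOfTabs t s) ∅
  | .S m => signedPerm 1 (setOf m)
  | .X => xiFun

/-- the action of a letter on lists -/
def Letter.stepL : Letter → List ℤ → List ℤ
  | .P _ s, l => (List.range 24).map fun i => l.getD (s.getD i 0) 0
  | .S m, l => (List.range 24).map fun i => if m.testBit i then -l.getD i 0 else l.getD i 0
  | .X, l => (List.range 24).map fun i => xiFun (vecOf l) (gPt i)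

theorem Letter.vecOf_stepL (a : Letter) (h : a.ok = true) (l : List ℤ) :
    vecOf (a.stepL l) = a.sem (vecOf l) := by
  cases a with
  | P t s =>
    have hinv : isInvPair t s = true := by
      unfold Letter.ok at h
      rw [Bool.and_eq_true] at h
      exact h.1
    ext p
    show vecOf ((List.range 24).map fun i => l.getD (s.getD i 0) 0) p =
      signedPerm (permOfTabs t s) ∅ (vecOf l) p
    rw [vecOf_range_map, signedPerm_empty_apply, permOfTabs_symm_apply hinv, tabFun]
    unfold vecOf
    rw [gIdx_gPt _ (isInvPair_spec hinv (gIdx p) (gIdx_lt p)).2.1]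
  | S m =>
    ext p
    show vecOf ((List.range 24).map fun i =>
      if m.testBit i then -l.getD i 0 else l.getD i 0) p = signedPerm 1 (setOf m) (vecOf l) p
    rw [vecOf_range_map, signedPerm_one_apply]
    by_cases hb : m.testBit (gIdx p) = true
    · rw [if_pos hb, if_pos ((mem_setOf m p).mpr hb)]
      rfl
    · rw [if_neg hb, if_neg (fun h' => hb ((mem_setOf m p).mp h'))]
      rfl
  | X =>
    ext p
    show vecOf ((List.range 24).map fun i => xiFun (vecOf l) (gPt i)) p = xiFun (vecOf l) p
    rw [vecOf_range_map, gPt_gIdx]

theorem Letter.exists_co0 (a : Letter) (h : a.ok = true) :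
    ∃ g : ↥Co0, ∀ v : ↥leechLattice, ((g • v : ↥leechLattice) : IVec) = a.sem v.1 := by
  cases a with
  | P t s =>
    unfold Letter.ok at h
    rw [Bool.and_eq_true] at h
    exact ⟨monoCo0 (permOfTabs_mem_M24 h.1 h.2) Cfsg.Agent.S0390.empty_mem_supports,
      fun v => monoCo0_smul _ _ v⟩
  | S m =>
    unfold Letter.ok at h
    rw [Bool.and_eq_true, decide_eq_true_eq] at h
    exact ⟨monoCo0 (Subgroup.one_mem M24) (setOf_mem_supports h.1 h.2),
      fun v => monoCo0_smul _ _ v⟩
  | X => exact ⟨xiCo0, fun v => xiCo0_smul v⟩

/-! ### words -/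

/-- run a word on a list, forcing after every letter -/
def runW : List Letter → List ℤ → List ℤ
  | [], l => l
  | a :: w, l => forceListK (a.stepL l) (fun l' => runW w l')

theorem runW_cons (a : Letter) (w : List Letter) (l : List ℤ) :
    runW (a :: w) l = runW w (a.stepL l) := by
  rw [runW, forceListK_eq]

/-- the map of a word (first letter applied first) -/
def semW : List Letter → IVec → IVec
  | [], x => x
  | a :: w, x => semW w (a.sem x)

/-- validity of a word -/
def okW (w : List Letter) : Bool := w.all Letter.ok

theorem vecOf_runW (w : List Letter) (hw : okW w = true) (l : List ℤ) :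
    vecOf (runW w l) = semW w (vecOf l) := by
  induction w generalizing l with
  | nil => rfl
  | cons a w ih =>
    unfold okW at hw
    rw [List.all_cons, Bool.and_eq_true] at hw
    rw [runW_cons, ih hw.2, a.vecOf_stepL hw.1]
    rfl

theorem exists_co0_word (w : List Letter) (hw : okW w = true) :
    ∃ g : ↥Co0, ∀ v : ↥leechLattice, ((g • v : ↥leechLattice) : IVec) = semW w v.1 := by
  induction w with
  | nil => exact ⟨1, fun v => by rw [one_smul]; rfl⟩
  | cons a w ih =>
    unfold okW at hw
    rw [List.all_cons, Bool.and_eq_true] at hw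
    obtain ⟨g1, hg1⟩ := a.exists_co0 hw.1
    obtain ⟨g2, hg2⟩ := ih hw.2
    refine ⟨g2 * g1, fun v => ?_⟩
    rw [mul_smul, hg2, hg1]
    rfl

/-- the element of a valid word maps the vector of a list to the vector of the computed list -/
theorem exists_co0_runW (w : List Letter) (hw : okW w = true) :
    ∃ g : ↥Co0, ∀ (v : ↥leechLattice) (l : List ℤ), v.1 = vecOf l →
      ((g • v : ↥leechLattice) : IVec) = vecOf (runW w l) := by
  obtain ⟨g, hg⟩ := exists_co0_word w hw
  refine ⟨g, fun v l hv => ?_⟩
  rw [hg, hv, vecOf_runW w hw]

end Cfsg.Agent.Helper8
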