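import Mathlib
import Cfsg.Prelude.Def_SporadicCombinatorics
import Cfsg.Agent.Helper8.WordCalc
import Cfsg.Agent.Helper8.Co0Order
import Cfsg.Agent.Helper8.Decomp48b
import Cfsg.Agent.Helper26.PairClasses

/-!
The configuration of 275 minimal vectors attached to a vector of sum of squares 48 and one of its
summands: the standard pair, the three shapes, and the links between them.
-/

set_option autoImplicit false

namespace Cfsg.Agent.Helper8

open Cfsg Cfsg.Agent.Helper27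
open scoped Pointwise

/-! ### the standard pair -/

/-- the second base vector `(1, -3, 1, …)` -/
def wB0 : IVec := oddBase pB

theorem signedPerm_one_empty (x : IVec) : signedPerm 1 ∅ x = x := by
  ext i
  rw [signedPerm_one_apply, if_neg (Finset.notMem_empty i)]

theorem oddBase_mem (k : GolayPt) : oddBase k ∈ leechLattice :=
  (vrelC ⟨k, ∅, Cfsg.Agent.S0390.empty_mem_supports, (signedPerm_one_empty _).symm⟩).mem_right

theorem wB0_mem : wB0 ∈ leechLattice := oddBase_mem pB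

/-- the base vectors as lattice elements -/
def v0L : ↥leechLattice := ⟨vA0, vA0_mem⟩
/-- the second base vector as a lattice element -/
def w0L : ↥leechLattice := ⟨wB0, wB0_mem⟩

theorem dotInt_oddBase (k : GolayPt) (x : IVec) : dotInt (oddBase k) x = (∑ i, x i) - 4 * x k := by
  classical
  unfold dotInt oddBase
  have h : ∀ i, (if i = k then (-3 : ℤ) else 1) * x i = x i - (if i = k then 4 * x i else 0) := by
    intro i
    split_ifs <;> ring
  simp only [h]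
  rw [Finset.sum_sub_distrib, Finset.sum_ite_eq' Finset.univ k, if_pos (Finset.mem_univ k)]

/-! ### the relation -/

/-- some automorphism fixing both base vectors maps `x` to `y` -/
def FRel3 (x y : IVec) : Prop :=
  ∃ (hx : x ∈ leechLattice) (g : ↥Co0), g • v0L = v0L ∧ g • w0L = w0L ∧
    ((g • (⟨x, hx⟩ : ↥leechLattice) : ↥leechLattice) : IVec) = y

theorem FRel3.mem_right {x y : IVec} (h : FRel3 x y) : y ∈ leechLattice := by
  obtain ⟨hx, g, -, -, rfl⟩ := h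
  exact (g • (⟨x, hx⟩ : ↥leechLattice)).2

theorem FRel3.refl {x : IVec} (hx : x ∈ leechLattice) : FRel3 x x :=
  ⟨hx, 1, one_smul _ _, one_smul _ _, by rw [one_smul]⟩

theorem FRel3.trans {x y z : IVec} (h1 : FRel3 x y) (h2 : FRel3 y z) : FRel3 x z := by
  obtain ⟨hx, g, hg1, hg2, rfl⟩ := h1
  obtain ⟨hy, h, hh1, hh2, rfl⟩ := h2
  exact ⟨hx, h * g, by rw [mul_smul, hg1, hh1], by rw [mul_smul, hg2, hh2], by rw [mul_smul]⟩

theorem FRel3.symm {x y : IVec} (h : FRel3 x y) : FRel3 y x := by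
  have hy := h.mem_right
  obtain ⟨hx, g, hg1, hg2, rfl⟩ := h
  refine ⟨hy, g⁻¹, ?_, ?_, ?_⟩
  · rw [inv_smul_eq_iff, hg1]
  · rw [inv_smul_eq_iff, hg2]
  · have : (⟨((g • (⟨x, hx⟩ : ↥leechLattice) : ↥leechLattice) : IVec), hy⟩ : ↥leechLattice) =
        g • (⟨x, hx⟩ : ↥leechLattice) := Subtype.ext rfl
    rw [this, inv_smul_smul]

/-- a permutation of the code's group fixing the two distinguished points -/
theorem frel3_perm {x : IVec} (hx : x ∈ leechLattice) {σ : Equiv.Perm GolayPt} (hσ : σ ∈ M24)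
    (hA : σ pA = pA) (hB : σ pB = pB) : FRel3 x (signedPerm σ ∅ x) := by
  refine ⟨hx, monoCo0 hσ Cfsg.Agent.S0390.empty_mem_supports, ?_, ?_, rfl⟩
  · apply Subtype.ext
    rw [monoCo0_smul]
    exact signedPerm_empty_vA0 hA hB
  · apply Subtype.ext
    rw [monoCo0_smul]
    show signedPerm σ ∅ (oddBase pB) = oddBase pB
    rw [signedPerm_empty_oddBase, hB]

/-! ### the three shapes -/

/-- shape A -/
def xA (j : GolayPt) : IVec := Pi.single pA 4 + Pi.single j 4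

theorem xA_mem (j : GolayPt) : xA j ∈ leechLattice :=
  four_pair_mem pA j (Or.inl rfl) (Or.inl rfl)

/-- shape C -/
def xC (O : Finset GolayPt) : IVec := signedPerm 1 O (oddBase pA)

theorem xC_mem {O : Finset GolayPt} (hO : O ∈ supports (golayCode : Set (GolayPt → ZMod 2))) :
    xC O ∈ leechLattice :=
  (vrelC ⟨pA, O, hO, rfl⟩).mem_right

theorem signedPerm_empty_twoInd (σ : Equiv.Perm GolayPt) (O : Finset GolayPt) :
    signedPerm σ ∅ (twoInd O) = twoInd (σ • O) := by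
  ext i
  rw [signedPerm_empty_apply]
  unfold twoInd
  by_cases h : σ.symm i ∈ O
  · rw [if_pos h, if_pos ((mem_smul_iff_symm σ O i).mpr h)]
  · rw [if_neg h, if_neg (fun h' => h ((mem_smul_iff_symm σ O i).mp h'))]

theorem frel3_A {j j' : GolayPt} (hj : j ≠ pA ∧ j ≠ pB) (hj' : j' ≠ pA ∧ j' ≠ pB) :
    FRel3 (xA j) (xA j') := by
  obtain ⟨σ, hσ, hA, hB, hjj⟩ := Cfsg.Agent.Helper26.exists_fix2_map pA_ne_pB hj hj'
  have h := frel3_perm (xA_mem j) hσ hA hB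
  unfold xA at h ⊢
  rw [signedPerm_add, signedPerm_empty_single, signedPerm_empty_single, hA, hjj] at h
  exact h

theorem frel3_B {O O' : Finset GolayPt} (hO : O ∈ octads) (hO' : O' ∈ octads) (hA : pA ∈ O)
    (hB : pB ∈ O) (hA' : pA ∈ O') (hB' : pB ∈ O') : FRel3 (twoInd O) (twoInd O') := by
  obtain ⟨σ, hσ, hσA, hσB, hOO⟩ :=
    Cfsg.Agent.Helper26.exists_fix2_map_octad pA_ne_pB hO hO' hA hB hA' hB'
  have h := frel3_perm (twoInd_mem hO.1) hσ hσA hσB
  rw [signedPerm_empty_twoInd, hOO] at h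
  exact h

theorem frel3_C {O O' : Finset GolayPt} (hO : O ∈ octads) (hO' : O' ∈ octads) (hA : pA ∈ O)
    (hB : pB ∉ O) (hA' : pA ∈ O') (hB' : pB ∉ O') : FRel3 (xC O) (xC O') := by
  obtain ⟨σ, hσ, hσA, hσB, hOO⟩ :=
    Cfsg.Agent.Helper26.exists_fix2_map_octad' pA_ne_pB hO hO' hA hB hA' hB'
  have h := frel3_perm (xC_mem hO.1) hσ hσA hσB
  unfold xC at h ⊢
  rw [signedPerm_empty_signedPerm_one, signedPerm_empty_oddBase, hσA, hOO] at h
  exact h

/-! ### the links -/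

/-- a word fixing both base vectors and linking the shapes -/
def wLink : List Letter := [.P [1, 4, 10, 22, 11, 15, 3, 2, 17, 23, 18, 5, 20, 8, 6, 21, 16, 19, 13, 12, 14, 7, 9, 0] [23, 0, 7, 6, 1, 11, 14, 21, 13, 22, 2, 4, 19, 18, 20, 5, 16, 8, 10, 17, 12, 15, 3, 9],
  .S 3819356,
  .X,
  .P [16, 8, 2, 20, 0, 19, 12, 9, 5, 1, 18, 13, 22, 23, 17, 21, 14, 6, 15, 3, 4, 11, 10, 7] [4, 9, 2, 19, 20, 8, 17, 23, 1, 7, 22, 21, 6, 11, 16, 18, 0, 14, 10, 5, 3, 15, 12, 13],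
  .S 16483664,
  .X,
  .P [2, 21, 9, 20, 5, 14, 3, 0, 7, 10, 6, 12, 17, 11, 15, 13, 16, 18, 19, 23, 1, 8, 22, 4] [7, 20, 0, 6, 23, 4, 10, 8, 21, 2, 9, 13, 11, 15, 5, 14, 16, 12, 17, 18, 3, 1, 22, 19],
  .S 1661185,
  .X,
  .P [19, 7, 23, 14, 16, 2, 15, 12, 0, 3, 6, 10, 9, 8, 22, 18, 11, 17, 4, 5, 20, 21, 1, 13] [8, 22, 5, 9, 18, 19, 10, 1, 13, 12, 11, 16, 7, 23, 3, 6, 4, 17, 15, 0, 20, 21, 14, 2],
  .S 6965927,
  .X,
  .P [10, 8, 15, 14, 2, 16, 23, 20, 12, 9, 19, 6, 22, 18, 3, 1, 0, 11, 21, 17, 5, 7, 4, 13] [16, 15, 4, 14, 22, 20, 11, 21, 1, 9, 0, 17, 8, 23, 3, 2, 5, 19, 13, 10, 7, 18, 12, 6],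
  .S 1577201,
  .X,
  .P [8, 22, 14, 9, 10, 19, 4, 16, 13, 20, 5, 3, 12, 6, 1, 17, 18, 23, 2, 15, 7, 21, 11, 0] [23, 14, 18, 11, 6, 10, 13, 20, 0, 3, 4, 22, 12, 8, 2, 19, 7, 15, 16, 5, 9, 21, 1, 17],
  .S 11797828,
  .X,
  .P [0, 14, 2, 22, 8, 4, 16, 13, 23, 6, 12, 5, 3, 18, 10, 11, 21, 9, 1, 20, 7, 15, 19, 17] [0, 18, 2, 12, 5, 11, 9, 20, 4, 17, 14, 15, 10, 7, 1, 21, 6, 23, 13, 22, 19, 16, 3, 8],
  .S 11888010,
  .X,
  .P [2, 19, 14, 11, 7, 8, 22, 16, 17, 12, 21, 9, 15, 10, 23, 20, 4, 3, 1, 5, 13, 0, 18, 6] [21, 18, 0, 17, 16, 19, 23, 4, 5, 11, 13, 3, 9, 20, 2, 12, 7, 8, 22, 1, 15, 10, 6, 14],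
  .S 4394981]

set_option maxRecDepth 100000 in
theorem wLink_ok : okW wLink = true := by decide +kernel

/-- the lists of the vectors involved -/
def lU : List ℤ := [4, 4, 0, 0, 0, 0, 0, 0, 0, 0, 0, 0, 0, 0, 0, 0, 0, 0, 0, 0, 0, 0, 0, 0]
def lW : List ℤ := [1, -3, 1, 1, 1, 1, 1, 1, 1, 1, 1, 1, 1, 1, 1, 1, 1, 1, 1, 1, 1, 1, 1, 1]
def lA7 : List ℤ := [4, 0, 0, 0, 0, 0, 0, 4, 0, 0, 0, 0, 0, 0, 0, 0, 0, 0, 0, 0, 0, 0, 0, 0]
def lA2 : List ℤ := [4, 0, 4, 0, 0, 0, 0, 0, 0, 0, 0, 0, 0, 0, 0, 0, 0, 0, 0, 0, 0, 0, 0, 0]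
def lB1 : List ℤ := [2, 2, 2, 0, 0, 0, 0, 0, 2, 0, 0, 2, 2, 0, 0, 0, 0, 0, 2, 0, 0, 0, 0, 2]
def lC1 : List ℤ :=
  [3, 1, -1, 1, -1, 1, -1, -1, 1, -1, 1, 1, 1, 1, 1, -1, -1, 1, 1, 1, 1, 1, 1, 1]

set_option maxRecDepth 100000 in
theorem wLink_U : runW wLink lU = lU := by decide +kernel
set_option maxRecDepth 100000 in
theorem wLink_W : runW wLink lW = lW := by decide +kernel
set_option maxRecDepth 100000 in
theorem wLink_AB : runW wLink lA7 = lB1 := by decide +kernel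
set_option maxRecDepth 100000 in
theorem wLink_AC : runW wLink lA2 = lC1 := by decide +kernel

/-- the two octads of the links -/
def octL1 : Finset GolayPt := setOf 8657159
/-- the second octad -/
def octL2 : Finset GolayPt := setOf 99029

theorem octL1_mem : octL1 ∈ octads := by
  unfold octL1
  rw [setOf_mem_octads_iff (by norm_num)]
  decide +kernel

theorem octL2_mem : octL2 ∈ octads := by
  unfold octL2
  rw [setOf_mem_octads_iff (by norm_num)]
  decide +kernel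

set_option maxRecDepth 100000 in
theorem octL_facts : pA ∈ octL1 ∧ pB ∈ octL1 ∧ pA ∈ octL2 ∧ pB ∉ octL2 ∧
    gPt 7 ≠ pA ∧ gPt 7 ≠ pB ∧ gPt 2 ≠ pA ∧ gPt 2 ≠ pB := by decide +kernel

set_option maxRecDepth 100000 in
theorem listOf_vA0 : listOf vA0 = lU := by decide +kernel
set_option maxRecDepth 100000 in
theorem listOf_wB0 : listOf wB0 = lW := by decide +kernel
set_option maxRecDepth 100000 in
theorem listOf_xA7 : listOf (xA (gPt 7)) = lA7 := by decide +kernel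
set_option maxRecDepth 100000 in
theorem listOf_xA2 : listOf (xA (gPt 2)) = lA2 := by decide +kernel
set_option maxRecDepth 100000 in
theorem listOf_B1 : listOf (twoInd octL1) = lB1 := by decide +kernel
set_option maxRecDepth 100000 in
theorem listOf_C1 : listOf (xC octL2) = lC1 := by decide +kernel

theorem eq_vecOf_of_listOf {x : IVec} {l : List ℤ} (h : listOf x = l) : x = vecOf l := by
  rw [← h, vecOf_listOf]

theorem frel3_links : FRel3 (xA (gPt 7)) (twoInd octL1) ∧ FRel3 (xA (gPt 2)) (xC octL2) := by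
  obtain ⟨g, hg⟩ := exists_co0_runW wLink wLink_ok
  have h1 : g • v0L = v0L := by
    apply Subtype.ext
    rw [hg v0L lU (eq_vecOf_of_listOf listOf_vA0), wLink_U]
    exact (eq_vecOf_of_listOf listOf_vA0).symm
  have h2 : g • w0L = w0L := by
    apply Subtype.ext
    rw [hg w0L lW (eq_vecOf_of_listOf listOf_wB0), wLink_W]
    exact (eq_vecOf_of_listOf listOf_wB0).symm
  refine ⟨⟨xA_mem _, g, h1, h2, ?_⟩, ⟨xA_mem _, g, h1, h2, ?_⟩⟩
  · rw [hg _ lA7 (eq_vecOf_of_listOf listOf_xA7), wLink_AB]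
    exact (eq_vecOf_of_listOf listOf_B1).symm
  · rw [hg _ lA2 (eq_vecOf_of_listOf listOf_xA2), wLink_AC]
    exact (eq_vecOf_of_listOf listOf_C1).symm

end Cfsg.Agent.Helper8
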