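import Mathlib
import Cfsg.Prelude.Def_Spor_Conway

/-!
Reduction modulo an odd prime of the automorphisms of the rank-24 lattice: for an additive,
norm-preserving permutation `σ` of the lattice, the integer matrix `matZ σ` has as columns the images
of the vectors `8 e_i`; `matZ σ * matZ τ = 8 • matZ (σ * τ)`, so that `8⁻¹ • matZ σ` is multiplicative
over any ring in which `8` is invertible.  (Only Mathlib and the definitions are imported.)
-/

set_option autoImplicit false

namespace Cfsg.Agent.Helper8.Co2Rep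

open Cfsg Cfsg.Spor Matrix

/-- the lattice vector `8 e_i` -/
def vec8 (i : GolayPt) : ↥leechLattice :=
  ⟨Pi.single i 8, AddSubgroup.subset_closure
    (mem_leechSet_of_const_mod_four (Pi.single i 8) 0 0 (by decide)
      (fun j => by
        by_cases h : j = i
        · subst h; rw [Pi.single_eq_same]; decide
        · rw [Pi.single_eq_of_ne h])
      (by rw [Finset.sum_pi_single']; simp))⟩

theorem vec8_val (i : GolayPt) : ((vec8 i : ↥leechLattice) : GolayPt → ℤ) = Pi.single i 8 := rfl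

/-- the integer matrix whose columns are the images of the vectors `8 e_i` -/
def matZ (σ : Equiv.Perm ↥leechLattice) : Matrix GolayPt GolayPt ℤ :=
  fun j i => ((σ (vec8 i) : ↥leechLattice) : GolayPt → ℤ) j

theorem eight_smul_eq (y : ↥leechLattice) :
    (8 : ℤ) • y = ∑ i, ((y : GolayPt → ℤ) i) • vec8 i := by
  apply Subtype.ext
  funext j
  rw [AddSubgroup.coe_zsmul, AddSubgroup.val_finsetSum]
  simp only [Pi.smul_apply, Finset.sum_apply, AddSubgroup.coe_zsmul, vec8_val, smul_eq_mul]
  rw [Finset.sum_eq_single j]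
  · rw [Pi.single_eq_same]; ring
  · intro b _ hb
    rw [Pi.single_eq_of_ne (Ne.symm hb)]; ring
  · intro h; exact absurd (Finset.mem_univ j) h

theorem matZ_mulVec {σ : Equiv.Perm ↥leechLattice} (hσ : σ ∈ Co0) (y : ↥leechLattice) :
    (matZ σ).mulVec (y : GolayPt → ℤ) = (8 : ℤ) • ((σ y : ↥leechLattice) : GolayPt → ℤ) := by
  let φ : ↥leechLattice →+ ↥leechLattice := AddMonoidHom.mk' σ hσ.1
  have h1 : φ ((8 : ℤ) • y) = (8 : ℤ) • σ y := by rw [map_zsmul]; rfl
  have h2 : φ ((8 : ℤ) • y) = ∑ i, ((y : GolayPt → ℤ) i) • σ (vec8 i) := by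
    rw [eight_smul_eq, map_sum]
    apply Finset.sum_congr rfl
    intro i _
    rw [map_zsmul]; rfl
  funext j
  have h3 := congrArg (fun v : ↥leechLattice => (v : GolayPt → ℤ) j) (h1.symm.trans h2)
  simp only [AddSubgroup.coe_zsmul, Pi.smul_apply, AddSubgroup.val_finsetSum, Finset.sum_apply,
    smul_eq_mul] at h3
  rw [Pi.smul_apply, smul_eq_mul, h3]
  simp only [Matrix.mulVec, dotProduct, matZ]
  apply Finset.sum_congr rfl
  intro i _
  ring

theorem matZ_mul {σ τ : Equiv.Perm ↥leechLattice} (hσ : σ ∈ Co0) :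
    matZ σ * matZ τ = (8 : ℤ) • matZ (σ * τ) := by
  ext j i
  have h := congrFun (matZ_mulVec hσ (τ (vec8 i))) j
  rw [Matrix.smul_apply, smul_eq_mul]
  rw [Pi.smul_apply, smul_eq_mul] at h
  rw [Matrix.mul_apply]
  simpa [Matrix.mulVec, dotProduct, matZ] using h

theorem matZ_one : matZ 1 = (8 : ℤ) • (1 : Matrix GolayPt GolayPt ℤ) := by
  ext j i
  simp only [matZ, Equiv.Perm.coe_one, id_eq, vec8_val, Matrix.smul_apply, smul_eq_mul,
    Matrix.one_apply]
  by_cases h : j = i
  · subst h; simp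
  · rw [Pi.single_eq_of_ne h, if_neg h]; ring


/-! ### dot products -/

theorem sqNorm_add (a b : GolayPt → ℤ) :
    sqNorm (a + b) = sqNorm a + sqNorm b + 2 * dotInt a b := by
  simp only [sqNorm, dotInt, Pi.add_apply, Finset.mul_sum, ← Finset.sum_add_distrib]
  apply Finset.sum_congr rfl
  intro i _
  ring

theorem dot_pres {σ : Equiv.Perm ↥leechLattice} (hσ : σ ∈ Co0) (a b : ↥leechLattice) :
    dotInt ((σ a : ↥leechLattice) : GolayPt → ℤ) ((σ b : ↥leechLattice) : GolayPt → ℤ) =
      dotInt (a : GolayPt → ℤ) (b : GolayPt → ℤ) := by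
  have h1 := hσ.2 (a + b)
  rw [hσ.1, AddSubgroup.coe_add, AddSubgroup.coe_add, sqNorm_add, sqNorm_add, hσ.2 a, hσ.2 b] at h1
  linarith

theorem matZ_transpose_mul {σ : Equiv.Perm ↥leechLattice} (hσ : σ ∈ Co0) :
    (matZ σ)ᵀ * matZ σ = (64 : ℤ) • (1 : Matrix GolayPt GolayPt ℤ) := by
  ext i k
  have h := dot_pres hσ (vec8 i) (vec8 k)
  rw [Matrix.mul_apply, Matrix.smul_apply, smul_eq_mul, Matrix.one_apply]
  simp only [Matrix.transpose_apply, matZ]
  simp only [dotInt] at h
  rw [h, vec8_val, vec8_val]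
  by_cases hik : i = k
  · subst hik
    rw [if_pos rfl, Finset.sum_eq_single i]
    · simp
    · intro b _ hb
      rw [Pi.single_eq_of_ne hb]; ring
    · intro h; exact absurd (Finset.mem_univ i) h
  · rw [if_neg hik]
    rw [Finset.sum_eq_zero]
    · ring
    · intro b _
      by_cases hb : b = i
      · subst hb
        rw [Pi.single_eq_of_ne hik]; ring
      · rw [Pi.single_eq_of_ne hb]; ring


/-! ### reduction to a field in which `8` is invertible -/

section field

variable (F : Type*) [Field F]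

/-- the reduced matrix `8⁻¹ • matZ σ` -/
noncomputable def rho (σ : Equiv.Perm ↥leechLattice) : Matrix GolayPt GolayPt F :=
  (8 : F)⁻¹ • (matZ σ).map (Int.castRingHom F)

variable {F}

theorem rho_mul (h8 : (8 : F) ≠ 0) {σ τ : Equiv.Perm ↥leechLattice} (hσ : σ ∈ Co0) :
    rho F σ * rho F τ = rho F (σ * τ) := by
  unfold rho
  rw [Matrix.smul_mul, Matrix.mul_smul, ← Matrix.map_mul, matZ_mul hσ, smul_smul]
  have : ((8 : ℤ) • matZ (σ * τ)).map (Int.castRingHom F) =
      (8 : F) • (matZ (σ * τ)).map (Int.castRingHom F) := by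
    ext j i
    rw [Matrix.map_apply, Matrix.smul_apply, Matrix.smul_apply, Matrix.map_apply, smul_eq_mul,
      smul_eq_mul, map_mul]
    simp
  rw [this, smul_smul]
  congr 1
  field_simp

theorem rho_one (h8 : (8 : F) ≠ 0) : rho F 1 = 1 := by
  unfold rho
  rw [matZ_one]
  ext j i
  simp only [Matrix.smul_apply, Matrix.map_apply, smul_eq_mul, Matrix.one_apply]
  by_cases h : j = i
  · subst h; simp; field_simp
  · simp [h]

theorem rho_transpose_mul (h8 : (8 : F) ≠ 0) {σ : Equiv.Perm ↥leechLattice} (hσ : σ ∈ Co0) :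
    (rho F σ)ᵀ * rho F σ = 1 := by
  unfold rho
  rw [Matrix.transpose_smul, Matrix.smul_mul, Matrix.mul_smul, ← Matrix.transpose_map,
    ← Matrix.map_mul, matZ_transpose_mul hσ, smul_smul]
  ext j i
  simp only [Matrix.smul_apply, Matrix.map_apply, smul_eq_mul, Matrix.one_apply]
  by_cases h : j = i
  · subst h; simp; field_simp; norm_num
  · simp [h]

theorem rho_mulVec (h8 : (8 : F) ≠ 0) {σ : Equiv.Perm ↥leechLattice} (hσ : σ ∈ Co0)
    (y : ↥leechLattice) :
    (rho F σ).mulVec (fun i => (((y : GolayPt → ℤ) i : ℤ) : F)) =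
      fun i => ((((σ y : ↥leechLattice) : GolayPt → ℤ) i : ℤ) : F) := by
  funext j
  have h := congrFun (matZ_mulVec hσ y) j
  have h2 := RingHom.map_mulVec (Int.castRingHom F) (matZ σ) (y : GolayPt → ℤ) j
  rw [h] at h2
  unfold rho
  rw [Matrix.smul_mulVec, Pi.smul_apply, smul_eq_mul]
  have h3 : (Int.castRingHom F) ∘ (y : GolayPt → ℤ) = fun i => (((y : GolayPt → ℤ) i : ℤ) : F) := rfl
  rw [← h3, ← h2]
  simp only [Pi.smul_apply, smul_eq_mul, map_mul, eq_intCast, Int.cast_ofNat]
  field_simp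

end field

end Cfsg.Agent.Helper8.Co2Rep
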