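import Cfsg.Agent.Helper8.Sims3Defs

/-!
# Basic API for `E`, `U`, `Tower`, `IsLam` (Sims3)
-/

set_option autoImplicit false

namespace Cfsg.Agent.Helper8.Sims3

open Pointwise

variable {G : Type*} [Group G]

/-! ### generic -/

theorem conj_smul_smul (a b : G) (H : Subgroup G) :
    MulAut.conj a • MulAut.conj b • H = MulAut.conj (a * b) • H := by
  rw [smul_smul, ← map_mul]

theorem conj_one_smul (H : Subgroup G) : MulAut.conj (1 : G) • H = H := by
  rw [map_one, one_smul]

theorem mem_conj_smul {a x : G} {H : Subgroup G} :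
    x ∈ MulAut.conj a • H ↔ a⁻¹ * x * a ∈ H := by
  rw [Subgroup.mem_pointwise_smul_iff_inv_smul_mem, ← map_inv, MulAut.smul_def,
    MulAut.conj_apply, inv_inv]

theorem card_conj_smul (a : G) (H : Subgroup G) :
    Nat.card ↥(MulAut.conj a • H) = Nat.card ↥H :=
  (Nat.card_congr (Subgroup.equivSMul (MulAut.conj a) H).toEquiv).symm

theorem card_mul_relIndex (K H : Subgroup G) (hKH : K ≤ H) :
    Nat.card ↥K * K.relIndex H = Nat.card ↥H := by
  have h1 := Subgroup.card_mul_index (K.subgroupOf H)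
  rw [Nat.card_congr (Subgroup.subgroupOfEquivOfLe hKH).toEquiv] at h1
  exact h1

theorem eq_of_le_of_card_le' {K H : Subgroup G} (hKH : K ≤ H) (hH : Nat.card ↥H ≠ 0)
    (hc : Nat.card ↥H ≤ Nat.card ↥K) : K = H := by
  have hfin : Finite ↥H := Nat.finite_of_card_ne_zero hH
  apply le_antisymm hKH
  intro x hx
  have hinj : Function.Injective (Subgroup.inclusion hKH) := Subgroup.inclusion_injective hKH
  have hfinK : Finite ↥K := Finite.of_injective _ hinj
  have hbij : Function.Bijective (Subgroup.inclusion hKH) := by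
    rw [Nat.bijective_iff_injective_and_card]
    exact ⟨hinj, le_antisymm (Nat.card_le_card_of_injective _ hinj) hc⟩
  obtain ⟨⟨z, hz⟩, hzx⟩ := hbij.2 ⟨x, hx⟩
  have : z = x := congrArg Subtype.val hzx
  rwa [← this]

theorem eq_of_le_of_card_le [Finite G] {K H : Subgroup G} (hKH : K ≤ H)
    (hc : Nat.card ↥H ≤ Nat.card ↥K) : K = H := by
  apply le_antisymm hKH
  intro x hx
  have hinj : Function.Injective (Subgroup.inclusion hKH) := Subgroup.inclusion_injective hKH
  have hbij : Function.Bijective (Subgroup.inclusion hKH) := by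
    rw [Nat.bijective_iff_injective_and_card]
    exact ⟨hinj, le_antisymm (Nat.card_le_card_of_injective _ hinj) hc⟩
  obtain ⟨⟨z, hz⟩, hzx⟩ := hbij.2 ⟨x, hx⟩
  have : z = x := congrArg Subtype.val hzx
  rwa [← this]

/-- two distinct subgroups of the same order and of prime index in `C` generate `C`. -/
theorem sup_eq_of_prime_index [Finite G] {A B C : Subgroup G} {p : ℕ} (hp : p.Prime)
    (hA : A ≤ C) (hB : B ≤ C) (hAB : A ≠ B) (hcard : Nat.card ↥A = Nat.card ↥B)
    (hidx : Nat.card ↥C = p * Nat.card ↥A) : A ⊔ B = C := by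
  have hle : A ⊔ B ≤ C := sup_le hA hB
  have h1 := card_mul_relIndex A (A ⊔ B) le_sup_left
  have h2 := card_mul_relIndex (A ⊔ B) C hle
  have hApos : 0 < Nat.card ↥A := Nat.card_pos
  have hne1 : A.relIndex (A ⊔ B) ≠ 1 := by
    intro h
    rw [h, mul_one] at h1
    have hAeq : A = A ⊔ B := eq_of_le_of_card_le le_sup_left h1.symm.le
    have hBA : B ≤ A := by rw [hAeq]; exact le_sup_right
    exact hAB (eq_of_le_of_card_le hBA hcard.le).symm
  have hmul : A.relIndex (A ⊔ B) * (A ⊔ B).relIndex C = p := by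
    have : Nat.card ↥A * (A.relIndex (A ⊔ B) * (A ⊔ B).relIndex C) = Nat.card ↥A * p := by
      rw [← mul_assoc, h1, h2, hidx, mul_comm]
    exact Nat.eq_of_mul_eq_mul_left hApos this
  have hdvd : A.relIndex (A ⊔ B) ∣ p := ⟨_, hmul.symm⟩
  rcases (Nat.dvd_prime hp).1 hdvd with h | h
  · exact absurd h hne1
  · rw [h] at hmul
    have h3 : (A ⊔ B).relIndex C = 1 := by
      have hp0 : 0 < p := hp.pos
      have : p * (A ⊔ B).relIndex C = p * 1 := by rw [hmul, mul_one]
      exact Nat.eq_of_mul_eq_mul_left hp0 this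
    rw [h3, mul_one] at h2
    exact eq_of_le_of_card_le hle h2.symm.le

/-! ### `E` -/

section E

variable {P : Subgroup G} {g : G}

theorem E_le_conj {i k : ℤ} {m : ℕ} (h1 : i ≤ k) (h2 : k ≤ i + m) :
    E P g i m ≤ MulAut.conj (g ^ k) • P := fun _ hx => mem_E.1 hx k h1 h2

theorem E_anti {i i' : ℤ} {m m' : ℕ} (h1 : i ≤ i') (h2 : i' + m' ≤ i + m) :
    E P g i m ≤ E P g i' m' := by
  intro x hx
  rw [mem_E] at hx ⊢
  intro k hk1 hk2
  exact hx k (by omega) (by omega)

theorem E_zero (i : ℤ) : E P g i 0 = MulAut.conj (g ^ i) • P := by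
  ext x
  rw [mem_E]
  constructor
  · intro h
    exact h i le_rfl (by simp)
  · intro h k hk1 hk2
    have : k = i := by push_cast at hk2; omega
    rwa [this]

theorem E_succ (i : ℤ) (m : ℕ) :
    E P g i (m + 1) = E P g i m ⊓ MulAut.conj (g ^ (i + m + 1)) • P := by
  ext x
  rw [Subgroup.mem_inf, mem_E, mem_E]
  constructor
  · intro h
    refine ⟨fun k hk1 hk2 => h k hk1 (by push_cast; omega), h _ (by omega) (by push_cast; omega)⟩
  · rintro ⟨h1, h2⟩ k hk1 hk2
    by_cases hk : k ≤ i + m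
    · exact h1 k hk1 hk
    · have : k = i + m + 1 := by push_cast at hk2; omega
      rwa [this]

theorem E_succ_left (i : ℤ) (m : ℕ) :
    E P g i (m + 1) = MulAut.conj (g ^ i) • P ⊓ E P g (i + 1) m := by
  ext x
  rw [Subgroup.mem_inf, mem_E, mem_E]
  constructor
  · intro h
    refine ⟨h i le_rfl (by omega), fun k hk1 hk2 => h k (by omega) (by push_cast; omega)⟩
  · rintro ⟨h1, h2⟩ k hk1 hk2
    by_cases hk : k = i
    · rwa [hk]
    · exact h2 k (by omega) (by push_cast at hk2; omega)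

theorem E_inf (i : ℤ) (m : ℕ) : E P g i m ⊓ E P g (i + 1) m = E P g i (m + 1) := by
  ext x
  rw [Subgroup.mem_inf, mem_E, mem_E, mem_E]
  constructor
  · rintro ⟨h1, h2⟩ k hk1 hk2
    by_cases hk : k ≤ i + m
    · exact h1 k hk1 hk
    · exact h2 k (by omega) (by push_cast at hk2; omega)
  · intro h
    exact ⟨fun k hk1 hk2 => h k hk1 (by push_cast; omega),
      fun k hk1 hk2 => h k (by omega) (by push_cast; omega)⟩

theorem smul_E (t i : ℤ) (m : ℕ) : MulAut.conj (g ^ t) • E P g i m = E P g (i + t) m := by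
  ext x
  rw [mem_conj_smul, mem_E, mem_E]
  constructor
  · intro h k hk1 hk2
    have := h (k - t) (by omega) (by omega)
    rw [mem_conj_smul] at this ⊢
    have e : (g ^ k)⁻¹ * x * g ^ k = (g ^ (k - t))⁻¹ * ((g ^ t)⁻¹ * x * g ^ t) * g ^ (k - t) := by
      rw [zpow_sub]
      group
    rwa [e]
  · intro h k hk1 hk2
    have := h (k + t) (by omega) (by omega)
    rw [mem_conj_smul] at this ⊢
    have e : (g ^ (k + t))⁻¹ * x * g ^ (k + t) = (g ^ k)⁻¹ * ((g ^ t)⁻¹ * x * g ^ t) * g ^ k := by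
      rw [zpow_add]
      group
    rwa [← e]

theorem smul_E_one (i : ℤ) (m : ℕ) : MulAut.conj g • E P g i m = E P g (i + 1) m := by
  have := smul_E (P := P) (g := g) 1 i m
  rwa [zpow_one] at this

theorem card_E (i : ℤ) (m : ℕ) : Nat.card ↥(E P g i m) = Nat.card ↥(E P g 0 m) := by
  have := smul_E (P := P) (g := g) i 0 m
  rw [zero_add] at this
  rw [← this, card_conj_smul]

theorem E_zero_zero : E P g 0 0 = P := by
  rw [E_zero, zpow_zero, conj_one_smul]

theorem E_zero_one : E P g 0 1 = P ⊓ MulAut.conj g • P := by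
  rw [E_succ, E_zero_zero]
  norm_num

theorem E_one_zero : E P g 1 0 = MulAut.conj g • P := by
  rw [E_zero, zpow_one]

end E

/-! ### `U` -/

section U

variable {y : ℤ → G}

theorem mem_U_self (y : ℤ → G) {a k : ℤ} {m : ℕ} (h1 : a ≤ k) (h2 : k < a + m) :
    y k ∈ U y a m :=
  Subgroup.subset_closure ⟨k, ⟨h1, h2⟩, rfl⟩

theorem U_le_iff {a : ℤ} {m : ℕ} {H : Subgroup G} :
    U y a m ≤ H ↔ ∀ k : ℤ, a ≤ k → k < a + m → y k ∈ H := by
  unfold U
  rw [Subgroup.closure_le]
  constructor
  · intro h k hk1 hk2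
    exact h ⟨k, ⟨hk1, hk2⟩, rfl⟩
  · rintro h x ⟨k, ⟨hk1, hk2⟩, rfl⟩
    exact h k hk1 hk2

theorem U_mono {a a' : ℤ} {m m' : ℕ} (h1 : a ≤ a') (h2 : a' + m' ≤ a + m) :
    U y a' m' ≤ U y a m := by
  rw [U_le_iff]
  intro k hk1 hk2
  exact mem_U_self y (by omega) (by omega)

theorem U_zero (a : ℤ) : U y a 0 = ⊥ := by
  rw [eq_bot_iff, U_le_iff]
  intro k hk1 hk2
  push_cast at hk2
  omega

theorem U_one (a : ℤ) : U y a 1 = Subgroup.zpowers (y a) := by
  apply le_antisymm
  · rw [U_le_iff]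
    intro k hk1 hk2
    have : k = a := by push_cast at hk2; omega
    rw [this]
    exact Subgroup.mem_zpowers _
  · rw [Subgroup.zpowers_le]
    exact mem_U_self y le_rfl (by push_cast; omega)

theorem U_add (a : ℤ) (m n : ℕ) : U y a (m + n) = U y a m ⊔ U y (a + m) n := by
  apply le_antisymm
  · rw [U_le_iff]
    intro k hk1 hk2
    by_cases hk : k < a + m
    · exact (le_sup_left : U y a m ≤ _) (mem_U_self y hk1 hk)
    · exact (le_sup_right : U y (a + m) n ≤ _) (mem_U_self y (by omega) (by push_cast at hk2; omega))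
  · exact sup_le (U_mono le_rfl (by push_cast; omega)) (U_mono (by omega) (by push_cast; omega))

theorem U_succ (a : ℤ) (m : ℕ) : U y a (m + 1) = U y a m ⊔ Subgroup.zpowers (y (a + m)) := by
  rw [U_add, U_one]

theorem U_succ_left (a : ℤ) (m : ℕ) :
    U y a (m + 1) = Subgroup.zpowers (y a) ⊔ U y (a + 1) m := by
  rw [add_comm m 1, U_add, U_one]
  norm_num

theorem U_comp_add (y : ℤ → G) (t a : ℤ) (m : ℕ) : U (fun i => y (i + t)) a m = U y (a + t) m := by
  apply le_antisymm
  · rw [U_le_iff]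
    intro k hk1 hk2
    exact mem_U_self y (by omega) (by omega)
  · rw [U_le_iff]
    intro k hk1 hk2
    have := mem_U_self (fun i => y (i + t)) (a := a) (k := k - t) (m := m) (by omega) (by omega)
    simpa using this

theorem U_comp_neg (y : ℤ → G) (a : ℤ) (m : ℕ) : U (fun i => y (-i)) a m = U y (1 - a - m) m := by
  apply le_antisymm
  · rw [U_le_iff]
    intro k hk1 hk2
    exact mem_U_self y (by omega) (by omega)
  · rw [U_le_iff]
    intro k hk1 hk2
    have := mem_U_self (fun i => y (-i)) (a := a) (k := -k) (m := m) (by omega) (by omega)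
    simpa using this

theorem y_shift_zpow {g : G} (hg : ∀ i : ℤ, y (i + 1) = g * y i * g⁻¹) (t i : ℤ) :
    y (i + t) = g ^ t * y i * (g ^ t)⁻¹ := by
  induction t using Int.induction_on with
  | zero => simp
  | succ n ih =>
    rw [← add_assoc, hg, ih, zpow_add_one]
    group
  | pred n ih =>
    have h1 : y (i + (-(n : ℤ) - 1) + 1) = g * y (i + (-(n : ℤ) - 1)) * g⁻¹ := hg _
    have h2 : i + (-(n : ℤ) - 1) + 1 = i + -(n : ℤ) := by ring
    rw [h2, ih] at h1
    have h3 : y (i + (-(n : ℤ) - 1)) = g⁻¹ * (g ^ (-(n : ℤ)) * y i * (g ^ (-(n : ℤ)))⁻¹) * g := by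
      rw [h1]; group
    rw [h3, zpow_sub_one]
    group

theorem smul_U {g : G} (hg : ∀ i : ℤ, y (i + 1) = g * y i * g⁻¹) (t a : ℤ) (m : ℕ) :
    MulAut.conj (g ^ t) • U y a m = U y (a + t) m := by
  apply le_antisymm
  · rw [Subgroup.pointwise_smul_subset_iff, U_le_iff]
    intro k hk1 hk2
    rw [Subgroup.mem_inv_pointwise_smul_iff, MulAut.smul_def, MulAut.conj_apply,
      ← y_shift_zpow hg]
    exact mem_U_self y (by omega) (by omega)
  · rw [U_le_iff]
    intro k hk1 hk2
    rw [mem_conj_smul]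
    have h1 := y_shift_zpow hg t (k - t)
    rw [sub_add_cancel] at h1
    rw [h1]
    have : (g ^ t)⁻¹ * (g ^ t * y (k - t) * (g ^ t)⁻¹) * g ^ t = y (k - t) := by group
    rw [this]
    exact mem_U_self y (by omega) (by omega)

end U

/-! ### `Tower`, `IsLam` -/

theorem Tower.comp_add {s : ℕ} {y : ℤ → G} (h : Tower s y) (t : ℤ) :
    Tower s (fun i => y (i + t)) where
  sq i := h.sq _
  card_lt a m hm := by rw [U_comp_add]; exact h.card_lt _ m hm
  card_top a := by rw [U_comp_add]; exact h.card_top _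
  gen a := by rw [U_comp_add]; exact h.gen _
  core a N hN hle := by
    rw [U_comp_add] at hle
    exact h.core _ N hN hle
  shift := by
    obtain ⟨g, hg⟩ := h.shift
    refine ⟨g, fun i => ?_⟩
    have := hg (i + t)
    rw [show i + t + 1 = i + 1 + t by ring] at this
    exact this

theorem Tower.comp_neg {s : ℕ} {y : ℤ → G} (h : Tower s y) : Tower s (fun i => y (-i)) where
  sq i := h.sq _
  card_lt a m hm := by rw [U_comp_neg]; exact h.card_lt _ m hm
  card_top a := by rw [U_comp_neg]; exact h.card_top _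
  gen a := by rw [U_comp_neg]; exact h.gen _
  core a N hN hle := by
    rw [U_comp_neg] at hle
    exact h.core _ N hN hle
  shift := by
    obtain ⟨g, hg⟩ := h.shift
    refine ⟨g⁻¹, fun i => ?_⟩
    have := hg (-(i + 1))
    rw [show -(i + 1) + 1 = -i by ring] at this
    show y (-(i + 1)) = g⁻¹ * y (-i) * g⁻¹⁻¹
    rw [this]
    group

theorem IsLam.comp_add {y : ℤ → G} {l : ℕ} (h : IsLam y l) (t : ℤ) :
    IsLam (fun i => y (i + t)) l where
  comm i d hd := by
    have := h.comm (i + t) d hd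
    rw [show i + t + (d : ℤ) = i + d + t by ring] at this
    exact this
  ncomm i := by
    have := h.ncomm (i + t)
    rw [show i + t + (l : ℤ) = i + l + t by ring] at this
    exact this

theorem IsLam.comp_neg {y : ℤ → G} {l : ℕ} (h : IsLam y l) : IsLam (fun i => y (-i)) l where
  comm i d hd := by
    have := h.comm (-(i + d)) d hd
    rw [show -(i + (d : ℤ)) + d = -i by ring] at this
    exact this.symm
  ncomm i := by
    have := h.ncomm (-(i + l))
    rw [show -(i + (l : ℤ)) + l = -i by ring] at this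
    exact fun hc => this hc.symm

theorem IsLam.commute {y : ℤ → G} {l : ℕ} (h : IsLam y l) {i j : ℤ} (hij : |i - j| < l) :
    Commute (y i) (y j) := by
  rcases le_total i j with hle | hle
  · have := h.comm i (j - i).toNat (by rw [abs_lt] at hij; omega)
    rwa [show i + ((j - i).toNat : ℤ) = j by omega] at this
  · have := h.comm j (i - j).toNat (by rw [abs_lt] at hij; omega)
    rw [show j + ((i - j).toNat : ℤ) = i by omega] at this
    exact this.symm

theorem Tower.y_inv {s : ℕ} {y : ℤ → G} (h : Tower s y) (i : ℤ) : (y i)⁻¹ = y i :=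
  inv_eq_of_mul_eq_one_left (h.sq i)

theorem Tower.y_ne_one {s : ℕ} {y : ℤ → G} (h : Tower s y) (hs : 2 ≤ s) (i : ℤ) : y i ≠ 1 := by
  intro hi
  have hc := h.card_lt i 1 (by omega)
  rw [U_one, hi, Subgroup.zpowers_one_eq_bot, Subgroup.card_bot] at hc
  norm_num at hc

theorem Tower.y_shift {s : ℕ} {y : ℤ → G} (h : Tower s y) :
    ∃ g : G, ∀ t i : ℤ, y (i + t) = g ^ t * y i * (g ^ t)⁻¹ := by
  obtain ⟨g, hg⟩ := h.shift
  exact ⟨g, y_shift_zpow hg⟩

/-! ### (P1) -/

/-- (P1a) -/
theorem tower_inter {s : ℕ} {y : ℤ → G} (h : Tower s y) (a : ℤ) (m : ℕ) (hm : m + 2 < s) :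
    U y a (m + 1) ⊓ U y (a + 1) (m + 1) = U y (a + 1) m := by
  have hV := h.card_lt a (m + 2) hm
  have hA := h.card_lt a (m + 1) (by omega)
  have hB := h.card_lt (a + 1) (m + 1) (by omega)
  have hC := h.card_lt (a + 1) m (by omega)
  have hCle : U y (a + 1) m ≤ U y a (m + 1) ⊓ U y (a + 1) (m + 1) :=
    le_inf (U_mono (by omega) (by push_cast; omega)) (U_mono le_rfl (by push_cast; omega))
  have hA0 : Nat.card ↥(U y a (m + 1)) ≠ 0 := by rw [hA]; positivity
  have hfinA : Finite ↥(U y a (m + 1)) := Nat.finite_of_card_ne_zero hA0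
  -- the intersection is a proper subgroup of `A`
  have hne : U y a (m + 1) ⊓ U y (a + 1) (m + 1) ≠ U y a (m + 1) := by
    intro heq
    have hAB : U y a (m + 1) ≤ U y (a + 1) (m + 1) := by
      rw [← heq]; exact inf_le_right
    have hVB : U y a (m + 2) ≤ U y (a + 1) (m + 1) := by
      rw [show m + 2 = (m + 1) + 1 from rfl, U_succ_left]
      refine sup_le ?_ le_rfl
      rw [Subgroup.zpowers_le]
      exact hAB (mem_U_self y le_rfl (by push_cast; omega))
    have hB0 : Nat.card ↥(U y (a + 1) (m + 1)) ≠ 0 := by rw [hB]; positivity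
    have hfinB : Finite ↥(U y (a + 1) (m + 1)) := Nat.finite_of_card_ne_zero hB0
    have := Nat.card_le_card_of_injective _ (Subgroup.inclusion_injective hVB)
    rw [hV, hB] at this
    have h2 : 2 ^ (m + 1) < 2 ^ (m + 2) := Nat.pow_lt_pow_right (by norm_num) (by omega)
    omega
  have hdvd : Nat.card ↥(U y a (m + 1) ⊓ U y (a + 1) (m + 1)) ∣ 2 ^ (m + 1) := by
    rw [← hA]
    exact Subgroup.card_dvd_of_le inf_le_left
  obtain ⟨k, hk, hkc⟩ := (Nat.dvd_prime_pow Nat.prime_two).1 hdvd
  have hk' : k ≤ m := by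
    by_contra hcon
    have hkm : k = m + 1 := by omega
    apply hne
    apply eq_of_le_of_card_le' inf_le_left hA0
    rw [hA, hkc, hkm]
  symm
  apply eq_of_le_of_card_le' hCle
  · rw [hkc]; positivity
  · rw [hC, hkc]
    exact Nat.pow_le_pow_right (by norm_num) hk'

/-- a subgroup of index 2 (by cardinality) is normalized by the big group -/
theorem conj_mem_of_card_two_mul {A V : Subgroup G} (hAV : A ≤ V) (hV0 : Nat.card ↥V ≠ 0)
    (hc : Nat.card ↥V = 2 * Nat.card ↥A) {v x : G} (hv : v ∈ V) (hx : x ∈ A) :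
    v * x * v⁻¹ ∈ A := by
  have hfin : Finite ↥V := Nat.finite_of_card_ne_zero hV0
  have hidx : (A.subgroupOf V).index = 2 := by
    have h1 := card_mul_relIndex A V hAV
    have hApos : 0 < Nat.card ↥A := by
      rcases Nat.eq_zero_or_pos (Nat.card ↥A) with h0 | h0
      · rw [h0] at hc; omega
      · exact h0
    rw [hc, mul_comm 2] at h1
    exact Nat.eq_of_mul_eq_mul_left hApos h1
  have hn : (A.subgroupOf V).Normal := Subgroup.normal_of_index_eq_two hidx
  have := hn.conj_mem ⟨x, hAV hx⟩ (by rw [Subgroup.mem_subgroupOf]; exact hx) ⟨v, hv⟩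
  rw [Subgroup.mem_subgroupOf] at this
  simpa using this

/-- (P1b) -/
theorem tower_comm_mem {s : ℕ} {y : ℤ → G} (h : Tower s y) (a : ℤ) (d : ℕ) (hd : d + 2 < s) :
    y a * y (a + (d + 1 : ℕ)) * y a * y (a + (d + 1 : ℕ)) ∈ U y (a + 1) d := by
  have hV := h.card_lt a (d + 2) hd
  have hA := h.card_lt a (d + 1) (by omega)
  have hB := h.card_lt (a + 1) (d + 1) (by omega)
  have hV0 : Nat.card ↥(U y a (d + 2)) ≠ 0 := by rw [hV]; positivity
  have hcA : Nat.card ↥(U y a (d + 2)) = 2 * Nat.card ↥(U y a (d + 1)) := by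
    rw [hV, hA, pow_succ]; ring
  have hcB : Nat.card ↥(U y a (d + 2)) = 2 * Nat.card ↥(U y (a + 1) (d + 1)) := by
    rw [hV, hB, pow_succ]; ring
  have hAV : U y a (d + 1) ≤ U y a (d + 2) := U_mono le_rfl (by push_cast; omega)
  have hBV : U y (a + 1) (d + 1) ≤ U y a (d + 2) := U_mono (by omega) (by push_cast; omega)
  set u := y a with hu
  set w := y (a + (d + 1 : ℕ)) with hw
  have huV : u ∈ U y a (d + 2) := mem_U_self y le_rfl (by push_cast; omega)
  have hwV : w ∈ U y a (d + 2) := mem_U_self y (by push_cast; omega) (by push_cast; omega)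
  have huA : u ∈ U y a (d + 1) := mem_U_self y le_rfl (by push_cast; omega)
  have hwB : w ∈ U y (a + 1) (d + 1) :=
    mem_U_self y (by push_cast; omega) (by push_cast; omega)
  have hwinv : w⁻¹ = w := h.y_inv _
  have huinv : u⁻¹ = u := h.y_inv _
  rw [← tower_inter h a d hd, Subgroup.mem_inf]
  constructor
  · -- `u * (w u w⁻¹)`
    have h1 : w * u * w⁻¹ ∈ U y a (d + 1) := conj_mem_of_card_two_mul hAV hV0 hcA hwV huA
    rw [hwinv] at h1
    have : u * w * u * w = u * (w * u * w) := by group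
    rw [this]
    exact mul_mem huA h1
  · have h1 : u * w * u⁻¹ ∈ U y (a + 1) (d + 1) := conj_mem_of_card_two_mul hBV hV0 hcB huV hwB
    rw [huinv] at h1
    exact mul_mem h1 hwB

end Cfsg.Agent.Helper8.Sims3
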