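import Cfsg.Agent.Helper8.Sims3Basic

/-!
# A lemma of Glauberman type (S4359): definitions

`h = g⁻¹`, `P_k = h^k P h^-k`, `E P h i m = P_i ⊓ … ⊓ P_(i+m)` (from `Sims3Defs`),
`U y a m = ⟨y a, …, y (a+m-1)⟩` (from `Sims3Defs`).

* `Chain p P h`: `P ⊓ P_1` is normal of index `p` in `P_1`, and no nontrivial normal subgroup of
  `P` is normalized by `h`.
* `PTower p t y`: `y (i+1) = h (y i) h⁻¹` and `m ≤ t` consecutive `y`'s generate a group of
  order `p^m`.
-/

set_option autoImplicit false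

namespace Cfsg.Agent.Helper8.Glaub

open Pointwise Cfsg.Agent.Helper8.Sims3

variable {G : Type*} [Group G]

structure Chain (p : ℕ) (P : Subgroup G) (h : G) : Prop where
  normal : ((P ⊓ MulAut.conj h • P).subgroupOf (MulAut.conj h • P)).Normal
  idx : (P ⊓ MulAut.conj h • P).relIndex (MulAut.conj h • P) = p
  noinv : ∀ Q : Subgroup G, Q ≤ P → (Q.subgroupOf P).Normal → MulAut.conj h • Q = Q → Q = ⊥

structure PTower (p t : ℕ) (y : ℤ → G) : Prop where
  card : ∀ (a : ℤ) (m : ℕ), m ≤ t → Nat.card ↥(U y a m) = p ^ m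
  shift : ∃ h : G, ∀ i : ℤ, y (i + 1) = h * y i * h⁻¹

end Cfsg.Agent.Helper8.Glaub
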