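import Cfsg.Agent.Helper8.GlaubDefs
import Cfsg.Agent.Helper2.Glaub_GA1
import Cfsg.Agent.Helper93.Glaub_GA2
import Cfsg.Agent.Helper90.Glaub_GA3
import Cfsg.Agent.Helper10.Glaub_GA4
import Cfsg.Agent.Helper34.Glaub_GA5
import Cfsg.Agent.Helper2.Glaub_GB2
import Cfsg.Agent.Helper90.Glaub_GB3
import Cfsg.Agent.Helper70.Glaub_GB4

/-!
# A lemma of Glauberman type (S4359): assembly
-/

set_option autoImplicit false

namespace Cfsg.Agent.Helper8.Glaub

open Pointwise Cfsg.Agent.Helper8.Sims3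

variable {G : Type*} [Group G]

/-- the pure bound. -/
theorem ptower_bound {p t : ℕ} (hp : p.Prime) {y : ℤ → G} (h : PTower p t y) (ht : 1 ≤ t)
    (n : ℕ) (hn : 1 ≤ n)
    (hZ : ∀ x ∈ U y 0 t, (∀ k : ℤ, 0 ≤ k → k < t + n → Commute x (y k)) → x = 1) :
    t ≤ 3 * n ∧ t ≠ 3 * n - 1 := by
  obtain ⟨l, hl1, hlt, hl⟩ := Cfsg.Agent.Helper2.Glaub.ptower_exists_lam hp h ht n hZ
  have hup := Cfsg.Agent.Helper90.Glaub.ptower_lam_upper hp h ht n hn hZ hl hl1 hlt
  by_cases hcase : l + 1 ≤ t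
  · have hlow := Cfsg.Agent.Helper70.Glaub.ptower_lam_lower hp h hl hl1 hcase
    omega
  · omega

/-- The lemma for `Chain p P h`. -/
theorem chain_main [Finite G] {p : ℕ} (hp : p.Prime) {P : Subgroup G} {h : G}
    (hc : Chain p P h) (n : ℕ) (hn : 1 ≤ n) (K : Subgroup G)
    (hK : K = ⨆ i ∈ Finset.range (n + 1), MulAut.conj (h ^ i) • P)
    (hcen : P ⊓ (Subgroup.center ↥K).map K.subtype = ⊥) :
    ∃ t : ℕ, Nat.card ↥P = p ^ t ∧ 1 ≤ t ∧ t ≤ 3 * n ∧ t ≠ 3 * n - 1 := by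
  have hstep := Cfsg.Agent.Helper2.Glaub.chain_step hp hc
  obtain ⟨t, ht, hE⟩ := Cfsg.Agent.Helper90.Glaub.chain_exists hp hc hstep (Cfsg.Agent.Helper93.Glaub.chain_stable hp hc hstep)
  have hcard : Nat.card ↥(E P h 0 (t - 1)) = p := by
    rw [hE (t - 1) (by omega)]
    have : t - (t - 1) = 1 := by omega
    rw [this, pow_one]
  have hnt : Nontrivial ↥(E P h 0 (t - 1)) := by
    rw [← Finite.one_lt_card_iff_nontrivial, hcard]
    exact hp.one_lt
  obtain ⟨⟨y0, hy0E⟩, hy0⟩ := exists_ne (1 : ↥(E P h 0 (t - 1)))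
  have hy0' : y0 ≠ 1 := fun hh => hy0 (Subtype.ext hh)
  set y : ℤ → G := fun k => h ^ (k + 1 - t) * y0 * (h ^ (k + 1 - t))⁻¹ with hy
  have hG1 := Cfsg.Agent.Helper10.Glaub.ptower_G1 hp t ht hE y0 hy0' hy0E y (fun _ => rfl)
  obtain ⟨hT, hU⟩ := Cfsg.Agent.Helper34.Glaub.ptower_of_G1 hp t ht hE y0 hy0' hy0E y (fun _ => rfl) hG1
  have hP : U y 0 t = P := by
    rw [hU 0, zpow_zero, conj_one_smul]
  have hPK : P ≤ K := by
    rw [hK]
    have : P = MulAut.conj (h ^ 0) • P := by rw [pow_zero, conj_one_smul]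
    calc P = MulAut.conj (h ^ 0) • P := this
      _ ≤ _ := le_iSup₂ (f := fun i (_ : i ∈ Finset.range (n + 1)) => MulAut.conj (h ^ i) • P) 0
          (Finset.mem_range.2 (by omega))
  have hZ : ∀ x ∈ U y 0 t, (∀ k : ℤ, 0 ≤ k → k < t + n → Commute x (y k)) → x = 1 := by
    intro x hx hcomm
    rw [hP] at hx
    -- `x` centralizes `K`
    have hKle : K ≤ Subgroup.centralizer {x} := by
      rw [hK]
      refine iSup₂_le (fun i hi => ?_)
      have hi' : i < n + 1 := Finset.mem_range.1 hi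
      have : MulAut.conj (h ^ i) • P = U y i t := by
        rw [hU i, zpow_natCast]
      rw [this, U_le_iff]
      intro k hk1 hk2
      rw [Subgroup.mem_centralizer_iff]
      intro z hz
      rw [Set.mem_singleton_iff] at hz
      subst hz
      exact (hcomm k (by omega) (by omega)).eq
    have hxc : x ∈ P ⊓ (Subgroup.center ↥K).map K.subtype := by
      refine ⟨hx, ⟨⟨x, hPK hx⟩, ?_, rfl⟩⟩
      rw [SetLike.mem_coe, Subgroup.mem_center_iff]
      rintro ⟨z, hz⟩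
      apply Subtype.ext
      have := hKle hz
      rw [Subgroup.mem_centralizer_iff] at this
      exact (this x rfl).symm
    rw [hcen, Subgroup.mem_bot] at hxc
    exact hxc
  obtain ⟨h1, h2⟩ := ptower_bound hp hT ht n hn hZ
  refine ⟨t, ?_, ht, h1, h2⟩
  have := hE 0 (by omega)
  rwa [E_zero_zero, Nat.sub_zero] at this

end Cfsg.Agent.Helper8.Glaub
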