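import Mathlib

namespace Cfsg.Agent.Helper8.SSEigen

open Polynomial

section Lin
variable {K : Type*} [Field K] {V : Type*} [AddCommGroup V] [Module K V]

lemma exists_eigen_of_prod (f : Module.End K V) (U : Submodule K V) (hU : ∀ u ∈ U, f u ∈ U)
    (s : Finset K) (w : V) (hwU : w ∈ U) (hw : w ≠ 0)
    (h : aeval f (∏ c ∈ s, (X - C c)) w = 0) :
    ∃ c ∈ s, ∃ v ∈ U, v ≠ 0 ∧ f v = c • v := by
  classical
  induction s using Finset.induction_on with
  | empty => simp at h; exact absurd h hw
  | insert c s hc ih =>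
    rw [Finset.prod_insert hc, map_mul, Module.End.mul_apply] at h
    by_cases hv0 : aeval f (∏ c ∈ s, (X - C c)) w = 0
    · obtain ⟨c', hc', r⟩ := ih hv0
      exact ⟨c', Finset.mem_insert_of_mem hc', r⟩
    · refine ⟨c, Finset.mem_insert_self _ _, _, ?_, hv0, ?_⟩
      · exact aeval_apply_smul_mem_of_le_comap hwU _ f (fun u hu => hU u hu)
      · simpa [sub_eq_zero] using h

lemma prod_X_sub_C_eq [Fintype K] : (∏ c : K, (X - C c) : K[X]) = X ^ Fintype.card K - X := by
  have hm : (X ^ Fintype.card K - X : K[X]).Monic := by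
    apply monic_X_pow_sub
    rw [degree_X]
    exact_mod_cast Fintype.one_lt_card
  have := prod_multiset_X_sub_C_of_monic_of_roots_card_eq hm (by
    rw [FiniteField.roots_X_pow_card_sub_X, FiniteField.X_pow_card_sub_X_natDegree_eq K Fintype.one_lt_card]
    simp)
  rw [FiniteField.roots_X_pow_card_sub_X] at this
  rw [← this]
  rfl

lemma exists_common_eigen_submodule [Fintype K] [Finite V] (S : Set (Module.End K V))
    (hcomm : ∀ f ∈ S, ∀ g ∈ S, f * g = g * f)
    (hpow : ∀ f ∈ S, f ^ Fintype.card K = f)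
    (U : Submodule K V) (hU : ∀ f ∈ S, ∀ u ∈ U, f u ∈ U) (hne : U ≠ ⊥) :
    ∃ v ∈ U, v ≠ 0 ∧ ∀ f ∈ S, ∃ c : K, f v = c • v := by
  induction U using WellFoundedLT.induction with
  | ind U ih =>
    by_cases hall : ∀ f ∈ S, ∀ u ∈ U, ∃ c : K, f u = c • u
    · obtain ⟨v, hvU, hv0⟩ := (Submodule.ne_bot_iff U).1 hne
      exact ⟨v, hvU, hv0, fun f hf => hall f hf v hvU⟩
    · push Not at hall
      obtain ⟨f, hfS, u₀, hu₀U, hu₀⟩ := hall
      have hu₀0 : u₀ ≠ 0 := by rintro rfl; exact hu₀ 0 (by simp)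
      have hkill : aeval f (∏ c : K, (X - C c)) u₀ = 0 := by
        rw [prod_X_sub_C_eq]; simp [hpow f hfS]
      obtain ⟨c, -, v, hvU, hv0, hfv⟩ :=
        exists_eigen_of_prod f U (hU f hfS) Finset.univ u₀ hu₀U hu₀0 hkill
      have hlt : U ⊓ LinearMap.ker (f - c • (1 : Module.End K V)) < U := by
        refine lt_of_le_of_ne inf_le_left (fun h => hu₀ c ?_)
        have : u₀ ∈ U ⊓ LinearMap.ker (f - c • (1 : Module.End K V)) := by rw [h]; exact hu₀U
        simpa [sub_eq_zero] using this.2
      have hU' : ∀ g ∈ S, ∀ u ∈ U ⊓ LinearMap.ker (f - c • (1 : Module.End K V)),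
          g u ∈ U ⊓ LinearMap.ker (f - c • (1 : Module.End K V)) := by
        intro g hg u hu
        refine ⟨hU g hg u hu.1, ?_⟩
        have h1 : f u = c • u := by simpa [sub_eq_zero] using hu.2
        have h2 : f (g u) = g (f u) := by
          have := congrArg (fun φ : Module.End K V => φ u) (hcomm f hfS g hg)
          simpa using this
        simp [h2, h1]
      have hne' : U ⊓ LinearMap.ker (f - c • (1 : Module.End K V)) ≠ ⊥ := by
        intro h
        have : v ∈ U ⊓ LinearMap.ker (f - c • (1 : Module.End K V)) :=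
          ⟨hvU, by simp [hfv]⟩
        rw [h] at this
        exact hv0 (by simpa using this)
      obtain ⟨v', hv'U, hv'0, hv'⟩ := ih _ hlt hU' hne'
      exact ⟨v', hv'U.1, hv'0, hv'⟩

end Lin

theorem exists_common_eigen {W : Type*} [CommGroup W] [Finite W] [Nontrivial W] {p : ℕ} [Fact p.Prime]
    (hW : ∀ w : W, w ^ p = 1) (H : Subgroup (MulAut W)) (hab : ∀ a ∈ H, ∀ b ∈ H, a * b = b * a)
    (hexp : ∀ a ∈ H, a ^ (p - 1) = 1) :
    ∃ w : W, w ≠ 1 ∧ ∀ a ∈ H, a w ∈ Subgroup.zpowers w := by
  classical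
  have hp : p.Prime := Fact.out
  have hW' : ∀ x : Additive W, p • x = 0 := fun x => by
    have := hW (Additive.toMul x)
    exact congrArg Additive.ofMul this
  let _ : Module (ZMod p) (Additive W) := AddCommGroup.zmodModule (n := p) hW'
  let L : MulAut W → Module.End (ZMod p) (Additive W) := fun a =>
    AddMonoidHom.toZModLinearMap p (MonoidHom.toAdditive (a : W →* W))
  have hL : ∀ a (v : Additive W), L a v = Additive.ofMul (a (Additive.toMul v)) := fun _ _ => rfl
  have hLmul : ∀ a b, L (a * b) = L a * L b := by intro a b; ext w; rfl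
  have hLone : L 1 = 1 := by ext; rfl
  have hLpow : ∀ a (n : ℕ), L (a ^ n) = L a ^ n := by
    intro a n
    induction n with
    | zero => simpa using hLone
    | succ n ih => rw [pow_succ, pow_succ, hLmul, ih]
  obtain ⟨v, -, hv0, hv⟩ := exists_common_eigen_submodule (K := ZMod p) (S := L '' (H : Set (MulAut W)))
    (by
      rintro _ ⟨a, ha, rfl⟩ _ ⟨b, hb, rfl⟩
      rw [← hLmul, ← hLmul, hab a ha b hb])
    (by
      rintro _ ⟨a, ha, rfl⟩
      rw [ZMod.card p]
      have h1 : L a ^ ((p - 1) + 1) = L a := by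
        rw [pow_succ, ← hLpow, hexp a ha, hLone, one_mul]
      have h2 : (p - 1) + 1 = p := Nat.succ_pred_eq_of_pos hp.pos
      rw [h2] at h1
      exact h1)
    ⊤ (fun _ _ _ _ => Submodule.mem_top) (by
      intro h
      have : Subsingleton (Additive W) := by
        have := (Submodule.subsingleton_iff (ZMod p)).1 (subsingleton_of_bot_eq_top h.symm)
        exact this
      exact not_subsingleton (Additive W) this)
  refine ⟨Additive.toMul v, fun h => hv0 ?_, fun a ha => ?_⟩
  · exact congrArg Additive.ofMul h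
  · obtain ⟨c, hc⟩ := hv (L a) ⟨a, ha, rfl⟩
    have h1 : c • v = c.val • v := by
      rw [← Nat.cast_smul_eq_nsmul (ZMod p), ZMod.natCast_zmod_val]
    rw [h1, hL] at hc
    have h2 : a (Additive.toMul v) = (Additive.toMul v) ^ c.val := congrArg Additive.toMul hc
    rw [h2]
    exact Subgroup.npow_mem_zpowers _ _

end Cfsg.Agent.Helper8.SSEigen
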