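import Mathlib

set_option autoImplicit false

namespace Cfsg.Agent.Helper8

/-- squares of involutions -/
theorem mul_self_of_orderOf_two {G : Type*} [Group G] {a : G} (h : orderOf a = 2) : a * a = 1 := by
  have := pow_orderOf_eq_one a
  rw [h, pow_two] at this
  exact this

/-- the cyclic group generated by an element of order `p` is a `p`-group -/
theorem isPGroup_zpowers_of_orderOf {G : Type*} [Group G] {p : ℕ} [Fact p.Prime] {t : G}
    (ht : orderOf t = p) : IsPGroup p (Subgroup.zpowers t) := by
  apply IsPGroup.of_card (n := 1)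
  rw [Nat.card_zpowers, ht, pow_one]

/-- A `p`-element centralising (more generally a `p`-subgroup normalising) a Sylow `p`-subgroup lies in it. -/
theorem le_sylow_of_le_normalizer {G : Type*} [Group G] {p : ℕ} [Fact p.Prime] (P : Sylow p G)
    {H : Subgroup G} (hH : IsPGroup p H) (hn : H ≤ Subgroup.normalizer ((P : Subgroup G) : Set G)) :
    H ≤ (P : Subgroup G) := by
  have h1 : IsPGroup p (H ⊔ (P : Subgroup G) : Subgroup G) :=
    IsPGroup.to_sup_of_normal_right' hH P.isPGroup' hn
  have h2 : (H ⊔ (P : Subgroup G) : Subgroup G) = P := P.is_maximal' h1 le_sup_right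
  calc H ≤ H ⊔ (P : Subgroup G) := le_sup_left
    _ = P := h2

/-- An element of order `p` centralising a Sylow `p`-subgroup lies in it. -/
theorem mem_sylow_of_le_centralizer {G : Type*} [Group G] {p : ℕ} [Fact p.Prime] (P : Sylow p G)
    {t : G} (ht : orderOf t = p) (hc : (P : Subgroup G) ≤ Subgroup.centralizer ({t} : Set G)) :
    t ∈ (P : Subgroup G) := by
  have h1 : Subgroup.zpowers t ≤ Subgroup.normalizer ((P : Subgroup G) : Set G) := by
    rw [Subgroup.zpowers_le]
    rw [Subgroup.mem_normalizer_iff]
    intro x
    have key : ∀ y ∈ (P : Subgroup G), t * y * t⁻¹ = y := by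
      intro y hy
      have := Subgroup.mem_centralizer_iff.mp (hc hy) t (Set.mem_singleton t)
      rw [this, mul_assoc, mul_inv_cancel, mul_one]
    constructor
    · intro hx
      rw [key x hx]; exact hx
    · intro hx
      have := key _ hx
      have h3 : x = t * x * t⁻¹ := by
        have h5 : t * x * t⁻¹ = t * (t * x * t⁻¹) * t⁻¹ := this.symm
        have h6 : t * x = t * (t * x * t⁻¹) := mul_right_cancel h5
        exact mul_left_cancel h6
      rw [h3]; exact hx
  exact le_sylow_of_le_normalizer P (isPGroup_zpowers_of_orderOf ht) h1 (Subgroup.mem_zpowers t)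

/-- conjugation preserves the order -/
theorem orderOf_conj_eq {G : Type*} [Group G] (g u : G) : orderOf (g * u * g⁻¹) = orderOf u := by
  have := MulEquiv.orderOf_eq (MulAut.conj g) u
  rwa [MulAut.conj_apply] at this

/-- membership in a conjugate Sylow subgroup -/
theorem mem_smul_sylow_iff {G : Type*} [Group G] {p : ℕ} (g x : G) (P : Sylow p G) :
    x ∈ ((g • P : Sylow p G) : Subgroup G) ↔ g⁻¹ * x * g ∈ (P : Subgroup G) := by
  rw [Sylow.coe_subgroup_smul, Subgroup.mem_pointwise_smul_iff_inv_smul_mem]
  simp [MulAut.smul_def]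

end Cfsg.Agent.Helper8
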