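import Mathlib

/-!
Blocks of a transitive action from the orbits of a point stabiliser, and a criterion for simplicity
from two primitive actions.
-/

set_option autoImplicit false

namespace Cfsg.Agent.Helper8

open MulAction
open scoped Pointwise

/-- a set on which the stabiliser of a point of a block is transitive is inside or outside of it -/
theorem block_class {G X : Type*} [Group G] [MulAction G X] {B : Set X} (hB : IsBlock G B) {a : X}
    (ha : a ∈ B) {C : Set X} (hC : ∀ y ∈ C, ∀ y' ∈ C, ∃ g ∈ stabilizer G a, g • y = y') :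
    C ⊆ B ∨ Disjoint C B := by
  by_cases h : ∃ y ∈ C, y ∈ B
  · left
    obtain ⟨y, hyC, hyB⟩ := h
    intro y' hy'
    obtain ⟨g, hg, rfl⟩ := hC y hyC y' hy'
    have hgB : g • B = B := hB.stabilizer_le ha hg
    rw [← hgB]
    exact Set.smul_mem_smul_set hyB
  · right
    rw [Set.disjoint_left]
    intro y hyC hyB
    exact h ⟨y, hyC, hyB⟩

/-- the size of a finite disjoint union -/
theorem ncard_biUnion_eq {X ι : Type*} [DecidableEq ι] (C : ι → Set X) (n : ι → ℕ)
    (hfin : ∀ i, (C i).Finite) (hn : ∀ i, (C i).ncard = n i)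
    (hdisj : ∀ i j, i ≠ j → Disjoint (C i) (C j)) (I : Finset ι) :
    (⋃ i ∈ I, C i).Finite ∧ (⋃ i ∈ I, C i).ncard = ∑ i ∈ I, n i := by
  induction I using Finset.induction_on with
  | empty => simp
  | insert j I hj ih =>
    rw [Finset.set_biUnion_insert, Finset.sum_insert hj]
    have hd : Disjoint (C j) (⋃ i ∈ I, C i) := by
      rw [Set.disjoint_iUnion₂_right]
      intro i hi
      exact hdisj j i (fun h => hj (h ▸ hi))
    exact ⟨(hfin j).union ih.1, by rw [Set.ncard_union_eq hd (hfin j) ih.1, hn, ih.2]⟩

/-- a transitive action is primitive if no proper union of orbits of a point stabiliser, together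
with the point, has a size dividing the degree -/
theorem isPreprimitive_of_classes {G X ι : Type*} [Group G] [MulAction G X] [IsPretransitive G X]
    [Finite X] [Fintype ι] [DecidableEq ι] (a : X) (C : ι → Set X) (n : ι → ℕ)
    (hcov : ∀ y, y ≠ a → ∃ i, y ∈ C i) (ha : ∀ i, a ∉ C i)
    (hdisj : ∀ i j, i ≠ j → Disjoint (C i) (C j))
    (htrans : ∀ i, ∀ y ∈ C i, ∀ y' ∈ C i, ∃ g ∈ stabilizer G a, g • y = y')
    (hn : ∀ i, (C i).ncard = n i)
    (harith : ∀ I : Finset ι, (1 + ∑ i ∈ I, n i) ∣ Nat.card X → I = ∅ ∨ I = Finset.univ) :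
    IsPreprimitive G X := by
  classical
  apply IsPreprimitive.of_isTrivialBlock_base a
  intro B haB hB
  let I : Finset ι := Finset.univ.filter fun i => C i ⊆ B
  have hBeq : B = {a} ∪ ⋃ i ∈ I, C i := by
    ext y
    constructor
    · intro hy
      by_cases hya : y = a
      · left
        exact hya
      · right
        obtain ⟨i, hi⟩ := hcov y hya
        rcases block_class hB haB (htrans i) with h | h
        · exact Set.mem_biUnion (Finset.mem_filter.2 ⟨Finset.mem_univ i, h⟩) hi
        · exact absurd hy (Set.disjoint_left.1 h hi)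
    · rintro (hy | hy)
      · rw [Set.mem_singleton_iff] at hy
        rw [hy]
        exact haB
      · obtain ⟨i, hi, hyi⟩ := Set.mem_iUnion₂.1 hy
        exact (Finset.mem_filter.1 hi).2 hyi
  obtain ⟨hfinU, hcardU⟩ := ncard_biUnion_eq C n (fun i => Set.toFinite _) hn hdisj I
  have hda : Disjoint ({a} : Set X) (⋃ i ∈ I, C i) := by
    rw [Set.disjoint_singleton_left]
    intro h
    obtain ⟨i, -, hi⟩ := Set.mem_iUnion₂.1 h
    exact ha i hi
  have hcard : B.ncard = 1 + ∑ i ∈ I, n i := by
    rw [hBeq, Set.ncard_union_eq hda (Set.finite_singleton a) hfinU, Set.ncard_singleton, hcardU]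
  have hdvd := hB.ncard_dvd_card ⟨a, haB⟩
  rw [hcard] at hdvd
  rcases harith I hdvd with h | h
  · left
    rw [hBeq, h]
    simp
  · right
    rw [hBeq, h]
    ext y
    simp only [Set.mem_univ, iff_true]
    by_cases hya : y = a
    · left
      exact hya
    · right
      obtain ⟨i, hi⟩ := hcov y hya
      exact Set.mem_biUnion (Finset.mem_univ i) hi

/-- a group with two primitive actions, the first faithful of degree divisible by a prime not
dividing the second degree, and with a simple point stabiliser in the second action, is simple -/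
theorem isSimpleGroup_of_two_actions {G X₁ X₂ : Type*} [Group G] [Finite G] [Nontrivial G]
    [MulAction G X₁] [MulAction G X₂] [IsPreprimitive G X₁] [IsPreprimitive G X₂] [Nontrivial X₂]
    (hfaith : ∀ g : G, (∀ y : X₁, g • y = y) → g = 1)
    (p : ℕ) (hp1 : p ∣ Nat.card X₁) (hp2 : ¬ p ∣ Nat.card X₂)
    (x : X₂) (hH : IsSimpleGroup (stabilizer G x))
    (hmove : ∃ h ∈ stabilizer G x, ∃ y : X₂, h • y ≠ y) : IsSimpleGroup G := by
  refine ⟨fun N hN => ?_⟩
  by_cases hbot : N = ⊥
  · exact Or.inl hbot
  right
  have := hN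
  -- the first action
  have hpN : p ∣ Nat.card N := by
    have hfix : fixedPoints N X₁ ≠ Set.univ := by
      intro hfix
      apply hbot
      rw [eq_bot_iff]
      intro n hn
      rw [Subgroup.mem_bot]
      apply hfaith
      intro y
      have hy : y ∈ fixedPoints N X₁ := by
        rw [hfix]
        exact Set.mem_univ y
      exact hy ⟨n, hn⟩
    have : IsPretransitive N X₁ := IsQuasiPreprimitive.isPretransitive_of_normal hfix
    obtain ⟨y0, -⟩ := (Set.ne_univ_iff_exists_notMem _).1 hfix
    have h1 : Nat.card X₁ ∣ Nat.card N := by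
      rw [← MulAction.index_stabilizer_of_transitive N y0]
      exact Subgroup.index_dvd_card _
    exact hp1.trans h1
  -- the second action
  have hco : IsCoatom (stabilizer G x) := IsPreprimitive.isCoatom_stabilizer_of_isPreprimitive G x
  have hnor : (N.subgroupOf (stabilizer G x)).Normal := hN.subgroupOf _
  rcases hH.eq_bot_or_eq_top_of_normal _ hnor with h | h
  · -- the subgroup meets the stabiliser trivially
    exfalso
    rw [Subgroup.subgroupOf_eq_bot] at h
    have hstab : stabilizer N x = ⊥ := by
      rw [eq_bot_iff]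
      rintro ⟨n, hn⟩ hnx
      rw [Subgroup.mem_bot]
      apply Subtype.ext
      have : n ∈ N ⊓ stabilizer G x := ⟨hn, hnx⟩
      rw [h.eq_bot] at this
      exact this
    have hB : IsBlock G (orbit N x) := IsBlock.orbit_of_normal x
    have hdvd := hB.ncard_dvd_card ⟨x, mem_orbit_self x⟩
    have hcard : (orbit N x).ncard = Nat.card N := by
      rw [← MulAction.index_stabilizer, hstab, Subgroup.index_bot]
    rw [hcard] at hdvd
    exact hp2 (hpN.trans hdvd)
  · rw [Subgroup.subgroupOf_eq_top] at h
    rcases hco.le_iff.1 h with h' | h'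
    · exact h'
    · exfalso
      obtain ⟨k, hk, y, hy⟩ := hmove
      obtain ⟨g, rfl⟩ := exists_smul_eq G x y
      apply hy
      have hk' : k ∈ N := h' ▸ hk
      have hc : g⁻¹ * k * g ∈ N := hN.conj_mem' k hk' g
      rw [h'] at hc
      rw [mem_stabilizer_iff, mul_smul, mul_smul, inv_smul_eq_iff] at hc
      exact hc

end Cfsg.Agent.Helper8
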