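import Mathlib
import Cfsg.Prelude.Def_Spor_Conway
import Cfsg.Agent.Helper8.Co2Rep

/-!
The stabiliser of `(4, 4, 0, …, 0)` acts faithfully on the 23-dimensional orthogonal complement of
that vector modulo 13.
-/

set_option autoImplicit false

namespace Cfsg.Agent.Helper8.Co2Rep

open Cfsg Cfsg.Spor Matrix

/-- the fixed vector modulo 13 -/
def uVec : GolayPt → ZMod 13 := fun p => if p = none ∨ p = some 0 then 4 else 0

/-- the functional dual to `uVec` -/
def lVec : GolayPt → ZMod 13 := fun p => if p = none ∨ p = some 0 then 5 else 0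

/-- the point with a given residue -/
def pt (j : Fin 23) : GolayPt := some (show ZMod 23 from j)

/-- a basis of the complement, as columns -/
def jMat : Matrix GolayPt (Fin 23) (ZMod 13) := fun p j =>
  if j = 0 then (if p = none then 1 else if p = some 0 then -1 else 0)
  else (if p = pt j then 1 else 0)

/-- the coordinates with respect to that basis -/
def qMat : Matrix (Fin 23) GolayPt (ZMod 13) := fun j p =>
  if j = 0 then (if p = none then 7 else if p = some 0 then -7 else 0)
  else (if p = pt j then 1 else 0)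

set_option maxRecDepth 100000 in
theorem qMat_mul_jMat : qMat * jMat = 1 := by decide +kernel

set_option maxRecDepth 100000 in
theorem jMat_mul_qMat : jMat * qMat + vecMulVec uVec lVec = 1 := by decide +kernel

set_option maxRecDepth 100000 in
theorem qMat_mulVec_uVec : qMat.mulVec uVec = 0 := by decide +kernel

set_option maxRecDepth 100000 in
theorem uVec_vecMul_jMat : Matrix.vecMul uVec jMat = 0 := by decide +kernel

set_option maxRecDepth 100000 in
theorem uVec_dot_uVec : uVec ⬝ᵥ uVec = 6 := by decide +kernel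


instance fact_prime_13 : Fact (Nat.Prime 13) := ⟨by norm_num⟩

theorem h8 : (8 : ZMod 13) ≠ 0 := by decide

theorem co2_mem_co0 (g : ↥Spor.Co2) : (g : Equiv.Perm ↥leechLattice) ∈ Co0 :=
  (Subgroup.mem_inf.mp g.2).1

theorem co2_fix (g : ↥Spor.Co2) : (g : Equiv.Perm ↥leechLattice) leechU = leechU :=
  MulAction.mem_stabilizer_iff.mp (Subgroup.mem_inf.mp g.2).2

theorem uVec_eq : (fun i => (((leechU : ↥leechLattice) : GolayPt → ℤ) i : ZMod 13)) = uVec := by
  funext p
  show ((vecU p : ℤ) : ZMod 13) = uVec p
  unfold vecU uVec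
  split_ifs <;> simp

theorem rho_uVec (g : ↥Spor.Co2) :
    (rho (ZMod 13) (g : Equiv.Perm ↥leechLattice)).mulVec uVec = uVec := by
  have h := rho_mulVec h8 (co2_mem_co0 g) leechU
  rw [co2_fix g, uVec_eq] at h
  exact h

/-- the matrix of an element of the stabiliser on the complement -/
noncomputable def repMat (g : ↥Spor.Co2) : Matrix (Fin 23) (Fin 23) (ZMod 13) :=
  qMat * rho (ZMod 13) (g : Equiv.Perm ↥leechLattice) * jMat

theorem jq_eq : jMat * qMat = 1 - vecMulVec uVec lVec := by
  rw [← jMat_mul_qMat]; abel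

theorem repMat_mul (g h : ↥Spor.Co2) : repMat (g * h) = repMat g * repMat h := by
  unfold repMat
  have e1 : qMat * rho (ZMod 13) (g : Equiv.Perm ↥leechLattice) * jMat *
      (qMat * rho (ZMod 13) (h : Equiv.Perm ↥leechLattice) * jMat) =
      qMat * rho (ZMod 13) (g : Equiv.Perm ↥leechLattice) * (jMat * qMat) *
        rho (ZMod 13) (h : Equiv.Perm ↥leechLattice) * jMat := by
    simp only [Matrix.mul_assoc]
  rw [e1, jq_eq, Matrix.mul_sub, Matrix.mul_one, Matrix.sub_mul, Matrix.sub_mul]
  have e2 : qMat * rho (ZMod 13) (g : Equiv.Perm ↥leechLattice) * vecMulVec uVec lVec = 0 := by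
    rw [Matrix.mul_assoc, Matrix.mul_vecMulVec, rho_uVec, Matrix.mul_vecMulVec,
      qMat_mulVec_uVec]
    ext i j
    simp [vecMulVec_apply]
  rw [e2, Matrix.zero_mul, Matrix.zero_mul, sub_zero, Matrix.mul_assoc qMat _ (rho _ _),
    rho_mul h8 (co2_mem_co0 g)]
  rfl

theorem repMat_one : repMat 1 = 1 := by
  unfold repMat
  have : ((1 : ↥Spor.Co2) : Equiv.Perm ↥leechLattice) = 1 := rfl
  rw [this, rho_one h8, Matrix.mul_one, qMat_mul_jMat]

/-- the representation on the complement, as a monoid homomorphism to matrices -/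
noncomputable def repHom : ↥Spor.Co2 →* Matrix (Fin 23) (Fin 23) (ZMod 13) where
  toFun := repMat
  map_one' := repMat_one
  map_mul' := repMat_mul

end Cfsg.Agent.Helper8.Co2Rep
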