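import Mathlib
import Cfsg.Prelude.Def_Spor_Conway
import Cfsg.Agent.Helper8.Co2RepB

/-!
Faithfulness of the representation of the stabiliser of `(4, 4, 0, …, 0)` on the complement modulo 13.
-/

set_option autoImplicit false

namespace Cfsg.Agent.Helper8.Co2Rep

open Cfsg Cfsg.Spor Matrix

/-- an element acting trivially on the complement acts trivially modulo 13 -/
theorem rho_eq_one_of_repMat (g : ↥Spor.Co2) (hg : repMat g = 1) :
    rho (ZMod 13) (g : Equiv.Perm ↥leechLattice) = 1 := by
  set R := rho (ZMod 13) (g : Equiv.Perm ↥leechLattice) with hR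
  have hRu : R.mulVec uVec = uVec := rho_uVec g
  have hRt : Rᵀ * R = 1 := rho_transpose_mul h8 (co2_mem_co0 g)
  have huR : Matrix.vecMul uVec R = uVec := by
    rw [← Matrix.mulVec_transpose]
    conv_lhs => rw [← hRu]
    rw [Matrix.mulVec_mulVec, hRt, Matrix.one_mulVec]
  have hq : qMat * R * jMat = 1 := hg
  -- the image of the complement
  have hRJ : R * jMat = jMat + vecMulVec uVec (Matrix.vecMul lVec (R * jMat)) := by
    conv_lhs => rw [← Matrix.one_mul (R * jMat), ← jMat_mul_qMat]
    rw [Matrix.add_mul, Matrix.mul_assoc, ← Matrix.mul_assoc qMat, hq, Matrix.mul_one,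
      Matrix.vecMulVec_mul]
  have h0 : Matrix.vecMul uVec (R * jMat) = 0 := by
    rw [← Matrix.vecMul_vecMul, huR, uVec_vecMul_jMat]
  have hm : Matrix.vecMul lVec (R * jMat) = 0 := by
    have h1 := h0
    rw [hRJ, Matrix.vecMul_add, uVec_vecMul_jMat, zero_add] at h1
    have h2 : Matrix.vecMul uVec (vecMulVec uVec (Matrix.vecMul lVec (R * jMat))) =
        (uVec ⬝ᵥ uVec) • Matrix.vecMul lVec (R * jMat) := by
      funext j
      simp only [Matrix.vecMul, dotProduct, vecMulVec_apply, Pi.smul_apply, smul_eq_mul,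
        Finset.sum_mul]
      apply Finset.sum_congr rfl
      intro i _
      ring
    rw [h2, uVec_dot_uVec] at h1
    funext j
    have h3 := congrFun h1 j
    rw [Pi.smul_apply, smul_eq_mul, Pi.zero_apply] at h3
    rcases mul_eq_zero.mp h3 with h4 | h4
    · exact absurd h4 (by decide)
    · exact h4
  have hRJ' : R * jMat = jMat := by
    rw [hRJ, hm]
    ext i j
    simp [vecMulVec_apply]
  calc R = R * (jMat * qMat + vecMulVec uVec lVec) := by rw [jMat_mul_qMat, Matrix.mul_one]
    _ = jMat * qMat + vecMulVec uVec lVec := by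
        rw [Matrix.mul_add, ← Matrix.mul_assoc, hRJ', Matrix.mul_vecMulVec, hRu]
    _ = 1 := jMat_mul_qMat


theorem sqNorm_vec8 (i : GolayPt) : sqNorm ((vec8 i : ↥leechLattice) : GolayPt → ℤ) = 64 := by
  rw [vec8_val]
  unfold sqNorm
  rw [Finset.sum_eq_single i]
  · simp
  · intro b _ hb
    rw [Pi.single_eq_of_ne hb]; ring
  · intro h; exact absurd (Finset.mem_univ i) h

/-- a vector of sum of squares 64 congruent to `8 e_i` modulo 13 is `8 e_i` -/
theorem eq_single_of_mod (x : GolayPt → ℤ) (i : GolayPt) (hx : sqNorm x = 64)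
    (h1 : (13 : ℤ) ∣ x i - 8) (h2 : ∀ j, j ≠ i → (13 : ℤ) ∣ x j) : x = Pi.single i 8 := by
  have hle : ∀ j, x j ^ 2 ≤ 64 := by
    intro j
    rw [← hx]
    unfold sqNorm
    exact Finset.single_le_sum (f := fun k => x k ^ 2) (fun k _ => sq_nonneg (x k))
      (Finset.mem_univ j)
  have hb : ∀ j, -8 ≤ x j ∧ x j ≤ 8 := by
    intro j
    have := hle j
    constructor <;> nlinarith
  have hz : ∀ j, j ≠ i → x j = 0 := by
    intro j hj
    have := hb j
    have := h2 j hj
    omega
  have hi : x i ^ 2 = 64 := by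
    rw [← hx]
    unfold sqNorm
    rw [Finset.sum_eq_single i]
    · intro b _ hbi
      rw [hz b hbi]; ring
    · intro h; exact absurd (Finset.mem_univ i) h
  have hi8 : x i = 8 := by
    have := hb i
    have h3 : x i = 8 ∨ x i = -5 := by omega
    rcases h3 with h3 | h3
    · exact h3
    · rw [h3] at hi; norm_num at hi
  funext j
  by_cases hj : j = i
  · subst hj; rw [Pi.single_eq_same, hi8]
  · rw [Pi.single_eq_of_ne hj, hz j hj]

theorem eq_one_of_rho (g : ↥Spor.Co2)
    (hg : rho (ZMod 13) (g : Equiv.Perm ↥leechLattice) = 1) : g = 1 := by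
  have hmem := co2_mem_co0 g
  -- the entries of the integer matrix modulo 13
  have hent : ∀ j i, ((matZ (g : Equiv.Perm ↥leechLattice) j i : ℤ) : ZMod 13) =
      if j = i then 8 else 0 := by
    intro j i
    have h := congrFun (congrFun hg j) i
    unfold rho at h
    rw [Matrix.smul_apply, Matrix.map_apply, smul_eq_mul, Matrix.one_apply] at h
    have h' : ((matZ (g : Equiv.Perm ↥leechLattice) j i : ℤ) : ZMod 13) =
        8 * ((8 : ZMod 13)⁻¹ * (Int.castRingHom (ZMod 13)) (matZ (g : Equiv.Perm ↥leechLattice) j i)) := by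
      rw [← mul_assoc, mul_inv_cancel₀ h8, one_mul]; rfl
    rw [h', h]
    split_ifs <;> simp
  have hfix : ∀ i, (g : Equiv.Perm ↥leechLattice) (vec8 i) = vec8 i := by
    intro i
    apply Subtype.ext
    rw [vec8_val]
    apply eq_single_of_mod
    · rw [hmem.2, sqNorm_vec8]
    · have h := hent i i
      rw [if_pos rfl] at h
      have h2 : (((matZ (g : Equiv.Perm ↥leechLattice) i i - 8 : ℤ)) : ZMod 13) = 0 := by
        rw [Int.cast_sub, h]; simp
      exact (ZMod.intCast_zmod_eq_zero_iff_dvd _ 13).mp h2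
    · intro j hj
      have h := hent j i
      rw [if_neg hj] at h
      exact (ZMod.intCast_zmod_eq_zero_iff_dvd _ 13).mp h
  have hmat : matZ (g : Equiv.Perm ↥leechLattice) = matZ 1 := by
    ext j i
    unfold matZ
    rw [hfix i]
    rfl
  apply Subtype.ext
  apply Equiv.ext
  intro y
  have h1 := matZ_mulVec hmem y
  have h2 := matZ_mulVec (Subgroup.one_mem Co0) y
  rw [hmat, h2] at h1
  apply Subtype.ext
  funext j
  have h3 := congrFun h1 j
  simp only [Pi.smul_apply, smul_eq_mul, Equiv.Perm.coe_one, id_eq] at h3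
  have : ((((g : Equiv.Perm ↥leechLattice) y : ↥leechLattice) : GolayPt → ℤ) j) =
      ((y : GolayPt → ℤ) j) := by omega
  rw [this]
  rfl

theorem repHom_injective : Function.Injective repHom := by
  rw [injective_iff_map_eq_one]
  intro g hg
  exact eq_one_of_rho g (rho_eq_one_of_repMat g hg)

/-- the embedding into the general linear group -/
theorem exists_embedding :
    ∃ f : ↥Spor.Co2 →* GL (Fin 23) (ZMod 13), Function.Injective f := by
  refine ⟨repHom.toHomUnits, ?_⟩
  intro a b hab
  apply repHom_injective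
  have := congrArg (fun u : GL (Fin 23) (ZMod 13) => (u : Matrix (Fin 23) (Fin 23) (ZMod 13))) hab
  simpa using this

end Cfsg.Agent.Helper8.Co2Rep
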