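import Mathlib
import Cfsg.Prelude.Def_Sporadic_a
import Cfsg.Agent.Helper8.Dodecad

/-!
Dodecads against a dodecad: two distinct dodecads meet in 0, 4, 6 or 8 points, and a fixed
dodecad meets 495, 1584, 495 dodecads in 4, 6, 8 points.
-/

set_option autoImplicit false

namespace Cfsg.Agent.Helper8

open Cfsg Cfsg.Agent.Helper26

section

variable {α : Type*} [Fintype α] [DecidableEq α]

/-- the meet counts of a family against a point set add up to the size of the family -/
theorem sum_meetCount (B : Set (Finset α)) (Y : Finset α) :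
    ∑ j ∈ Finset.range (Y.card + 1), meetCount B Y j = B.ncard := by
  classical
  set Bf : Finset (Finset α) := Finset.univ.filter (· ∈ B) with hBf
  have h := sum_fiber_inter' Bf Y (fun _ => 1)
  simp only [mul_one, Finset.sum_const, smul_eq_mul] at h
  have h2 : B.ncard = Bf.card := by
    rw [← Set.ncard_coe_finset]
    congr 1
    ext c
    simp [hBf]
  rw [h2, h]
  refine Finset.sum_congr rfl fun j _ => ?_
  rw [meetCount_eq_card_filter]

/-- size of the part of `x ∆ d` inside `d` -/
theorem card_symmDiff_inter (d x : Finset α) :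
    2 * ((symmDiff d x) ∩ d).card + x.card = (symmDiff d x).card + d.card := by
  have h := Cfsg.Agent.Helper27.card_symmDiff_add (symmDiff d x) d
  have h2 : symmDiff (symmDiff d x) d = x := by
    rw [symmDiff_comm, symmDiff_symmDiff_cancel_left]
  rw [h2] at h
  omega

end

theorem compl_mem_dodecads {d : Finset GolayPt} (hd : d ∈ dodecads) : dᶜ ∈ dodecads := by
  refine ⟨golay_compl hd.1, ?_⟩
  rw [Finset.card_compl, card_golayPt, hd.2]

/-- two dodecads meet in 0, 4, 6, 8 points or are equal -/
theorem dodecad_inter_dodecad {d d' : Finset GolayPt} (hd : d ∈ dodecads) (hd' : d' ∈ dodecads) :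
    (d' ∩ d).card = 0 ∨ (d' ∩ d).card = 4 ∨ (d' ∩ d).card = 6 ∨ (d' ∩ d).card = 8 ∨ d' = d := by
  have h1 := card_mem_supports (golay_symmDiff hd'.1 hd.1)
  have h2 := Cfsg.Agent.Helper27.card_symmDiff_add d' d
  rw [hd.2, hd'.2] at h2
  by_cases h : d' = d
  · right; right; right; right; exact h
  · have h3 : (symmDiff d' d).card ≠ 0 := by
      rw [Ne, Finset.card_eq_zero]
      intro h4
      exact h (symmDiff_eq_bot.mp h4)
    omega

theorem meetCount_dodecads_eight {d : Finset GolayPt} (hd : d ∈ dodecads) :
    meetCount dodecads d 8 = 495 := by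
  rw [← (meetCount_octads_dodecad hd).2.2]
  unfold meetCount
  rw [← Set.ncard_image_of_injective {c | c ∈ octads ∧ (c ∩ d).card = 4}
    (symmDiff_right_injective d)]
  congr 1
  ext d'
  constructor
  · rintro ⟨hd', h8⟩
    refine ⟨symmDiff d d', ⟨⟨golay_symmDiff hd.1 hd'.1, ?_⟩, ?_⟩, symmDiff_symmDiff_cancel_left d d'⟩
    · have h := Cfsg.Agent.Helper27.card_symmDiff_add d d'
      rw [Finset.inter_comm, h8, hd.2, hd'.2] at h
      omega
    · have h := card_symmDiff_inter d d'
      have h' := Cfsg.Agent.Helper27.card_symmDiff_add d d'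
      rw [Finset.inter_comm, h8, hd.2, hd'.2] at h'
      rw [hd.2, hd'.2] at h
      omega
  · rintro ⟨o, ⟨ho, h4⟩, rfl⟩
    change symmDiff d o ∈ dodecads ∧ (symmDiff d o ∩ d).card = 8
    have h' := Cfsg.Agent.Helper27.card_symmDiff_add d o
    rw [Finset.inter_comm, h4, hd.2, ho.2] at h'
    refine ⟨⟨golay_symmDiff hd.1 ho.1, by omega⟩, ?_⟩
    have h := card_symmDiff_inter d o
    rw [hd.2, ho.2] at h
    omega

theorem meetCount_dodecads_four {d : Finset GolayPt} (hd : d ∈ dodecads) :
    meetCount dodecads d 4 = 495 := by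
  rw [← meetCount_dodecads_eight hd]
  unfold meetCount
  rw [← Set.ncard_image_of_injective {c | c ∈ dodecads ∧ (c ∩ d).card = 8}
    (compl_injective (α := Finset GolayPt))]
  congr 1
  have key : ∀ x : Finset GolayPt, (xᶜ ∩ d).card + (x ∩ d).card = 12 := by
    intro x
    have h := Finset.card_sdiff_add_card_inter d x
    rw [hd.2] at h
    have e1 : xᶜ ∩ d = d \ x := by
      ext a
      simp only [Finset.mem_inter, Finset.mem_compl, Finset.mem_sdiff]
      tauto
    rw [e1, Finset.inter_comm x d]
    exact h
  ext d'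
  constructor
  · rintro ⟨hd', h4⟩
    refine ⟨d'ᶜ, ⟨compl_mem_dodecads hd', ?_⟩, compl_compl d'⟩
    have := key d'
    omega
  · rintro ⟨x, ⟨hx, h8⟩, rfl⟩
    refine ⟨compl_mem_dodecads hx, ?_⟩
    have := key x
    omega

theorem meetCount_dodecads_twelve {d : Finset GolayPt} (hd : d ∈ dodecads) :
    meetCount dodecads d 12 = 1 := by
  unfold meetCount
  rw [Set.ncard_eq_one]
  refine ⟨d, ?_⟩
  ext d'
  simp only [Set.mem_ofPred_eq, Set.mem_singleton_iff]
  constructor
  · rintro ⟨hd', h12⟩
    rcases dodecad_inter_dodecad hd hd' with h | h | h | h | h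
    · omega
    · omega
    · omega
    · omega
    · exact h
  · rintro rfl
    refine ⟨hd, ?_⟩
    rw [Finset.inter_self, hd.2]

theorem meetCount_dodecads_zero {d : Finset GolayPt} (hd : d ∈ dodecads) :
    meetCount dodecads d 0 = 1 := by
  unfold meetCount
  rw [Set.ncard_eq_one]
  refine ⟨dᶜ, ?_⟩
  ext d'
  simp only [Set.mem_ofPred_eq, Set.mem_singleton_iff]
  constructor
  · rintro ⟨hd', h0⟩
    rw [Finset.card_eq_zero] at h0
    have hsub : d' ⊆ dᶜ := by
      intro a ha
      rw [Finset.mem_compl]
      intro had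
      have : a ∈ d' ∩ d := Finset.mem_inter.mpr ⟨ha, had⟩
      rw [h0] at this
      exact absurd this (Finset.notMem_empty a)
    apply Finset.eq_of_subset_of_card_le hsub
    rw [(compl_mem_dodecads hd).2, hd'.2]
  · rintro rfl
    refine ⟨compl_mem_dodecads hd, ?_⟩
    rw [Finset.card_eq_zero]
    ext a
    simp

theorem meetCount_dodecads_six {d : Finset GolayPt} (hd : d ∈ dodecads) :
    meetCount dodecads d 6 = 1584 := by
  have hz : ∀ j, j ≠ 0 → j ≠ 4 → j ≠ 6 → j ≠ 8 → j ≠ 12 → meetCount dodecads d j = 0 := by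
    intro j h0 h4 h6 h8 h12
    rw [meetCount_eq_zero_iff]
    intro c hc hj
    rcases dodecad_inter_dodecad hd hc with h | h | h | h | h
    · omega
    · omega
    · omega
    · omega
    · rw [h, Finset.inter_self, hd.2] at hj
      omega
  have e := sum_meetCount dodecads d
  rw [hd.2, Cfsg.Agent.Helper27.dodecads_ncard] at e
  simp only [Finset.sum_range_succ, Finset.sum_range_zero] at e
  rw [hz 1 (by norm_num) (by norm_num) (by norm_num) (by norm_num) (by norm_num),
    hz 2 (by norm_num) (by norm_num) (by norm_num) (by norm_num) (by norm_num),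
    hz 3 (by norm_num) (by norm_num) (by norm_num) (by norm_num) (by norm_num),
    hz 5 (by norm_num) (by norm_num) (by norm_num) (by norm_num) (by norm_num),
    hz 7 (by norm_num) (by norm_num) (by norm_num) (by norm_num) (by norm_num),
    hz 9 (by norm_num) (by norm_num) (by norm_num) (by norm_num) (by norm_num),
    hz 10 (by norm_num) (by norm_num) (by norm_num) (by norm_num) (by norm_num),
    hz 11 (by norm_num) (by norm_num) (by norm_num) (by norm_num) (by norm_num),
    meetCount_dodecads_zero hd, meetCount_dodecads_four hd, meetCount_dodecads_eight hd,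
    meetCount_dodecads_twelve hd] at e
  omega

end Cfsg.Agent.Helper8
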