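import Mathlib
import Cfsg.Agent.Helper27.FusCount
import Cfsg.Agent.Lib.Nilpotent

/-!
The two elementwise hypotheses of the simplicity criterion for the `2`-fusion system of a group
(no proper nontrivial strongly closed subgroup; self-normalising Sylow subgroup), their transport along
isomorphisms, their lifting from a subgroup `M` to an overgroup `H` in which every element normalising the
Sylow subgroup lies in `M`, and their derivation from a counting certificate (after `Helper27.FusRel`).
-/

set_option autoImplicit false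

namespace Cfsg.Agent.Helper8.FusMcL

/-- no proper nontrivial subgroup of `S₀` is closed under conjugation into `S₀`, and every element
normalising `S₀` lies in `S₀` -/
def FusGood {G : Type*} [Group G] (S₀ : Subgroup G) : Prop :=
  (∀ T : Subgroup G, T ≤ S₀ → (∀ x ∈ T, ∀ g : G, g * x * g⁻¹ ∈ S₀ → g * x * g⁻¹ ∈ T) →
    T = ⊥ ∨ T = S₀) ∧
  (∀ n : G, (∀ x : G, x ∈ S₀ ↔ n * x * n⁻¹ ∈ S₀) → n ∈ S₀)

theorem FusGood.map_equiv {G G' : Type*} [Group G] [Group G'] (e : G ≃* G') {S₀ : Subgroup G}
    (h : FusGood S₀) : FusGood (S₀.map e.toMonoidHom) := by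
  have hmem : ∀ (K : Subgroup G) (y : G'), y ∈ K.map e.toMonoidHom ↔ e.symm y ∈ K :=
    fun K y => Subgroup.mem_map_equiv
  refine ⟨fun T hT hcl => ?_, fun n hn => ?_⟩
  · have hT' : T.map e.symm.toMonoidHom ≤ S₀ := by
      intro x hx
      have h1 : e x ∈ T := by
        have := (Subgroup.mem_map_equiv (f := e.symm) (K := T) (x := x)).mp hx
        simpa using this
      have h2 := (hmem S₀ (e x)).mp (hT h1)
      simpa using h2
    have hcl' : ∀ x ∈ T.map e.symm.toMonoidHom, ∀ g : G, g * x * g⁻¹ ∈ S₀ →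
        g * x * g⁻¹ ∈ T.map e.symm.toMonoidHom := by
      intro x hx g hg
      have h1 : e x ∈ T := by
        have := (Subgroup.mem_map_equiv (f := e.symm) (K := T) (x := x)).mp hx
        simpa using this
      have h2 : e g * e x * (e g)⁻¹ ∈ S₀.map e.toMonoidHom := by
        rw [hmem]
        simpa using hg
      have h3 := hcl (e x) h1 (e g) h2
      rw [Subgroup.mem_map_equiv]
      simpa using h3
    rcases h.1 _ hT' hcl' with h0 | h0
    · left
      rw [eq_bot_iff]
      intro y hy
      have : e.symm y ∈ T.map e.symm.toMonoidHom := ⟨y, hy, rfl⟩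
      rw [h0, Subgroup.mem_bot] at this
      rw [Subgroup.mem_bot]
      have h5 := congrArg e this
      simpa using h5
    · right
      apply le_antisymm hT
      intro y hy
      have h4 := (hmem S₀ y).mp hy
      rw [← h0] at h4
      obtain ⟨t, ht, hty⟩ := h4
      have : t = y := e.symm.injective hty
      rw [← this]
      exact ht
  · rw [hmem]
    apply h.2
    intro x
    have h1 := hn (e x)
    rw [hmem, hmem] at h1
    have h2 : e.symm (n * e x * n⁻¹) = e.symm n * x * (e.symm n)⁻¹ := by simp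
    rw [h2] at h1
    simpa using h1

theorem FusGood.lift {H : Type*} [Group H] (M S₀ : Subgroup H) (hSM : S₀ ≤ M)
    (hM : FusGood (S₀.subgroupOf M))
    (hNM : ∀ n : H, (∀ x : H, x ∈ S₀ ↔ n * x * n⁻¹ ∈ S₀) → n ∈ M) : FusGood S₀ := by
  refine ⟨fun T hT hcl => ?_, fun n hn => ?_⟩
  · have h1 : T.subgroupOf M ≤ S₀.subgroupOf M := by
      intro x hx
      exact Subgroup.mem_subgroupOf.mpr (hT (Subgroup.mem_subgroupOf.mp hx))
    have h2 : ∀ x ∈ T.subgroupOf M, ∀ g : ↥M, g * x * g⁻¹ ∈ S₀.subgroupOf M →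
        g * x * g⁻¹ ∈ T.subgroupOf M := by
      intro x hx g hg
      rw [Subgroup.mem_subgroupOf] at hx hg ⊢
      exact hcl _ hx _ hg
    rcases hM.1 _ h1 h2 with h0 | h0
    · left
      rw [eq_bot_iff]
      intro y hy
      have : (⟨y, hSM (hT hy)⟩ : ↥M) ∈ T.subgroupOf M := Subgroup.mem_subgroupOf.mpr hy
      rw [h0, Subgroup.mem_bot] at this
      rw [Subgroup.mem_bot]
      exact congrArg Subtype.val this
    · right
      apply le_antisymm hT
      intro y hy
      have : (⟨y, hSM hy⟩ : ↥M) ∈ S₀.subgroupOf M := Subgroup.mem_subgroupOf.mpr hy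
      rw [← h0] at this
      exact Subgroup.mem_subgroupOf.mp this
  · have hnM : n ∈ M := hNM n hn
    have : (⟨n, hnM⟩ : ↥M) ∈ S₀.subgroupOf M := by
      apply hM.2
      intro x
      rw [Subgroup.mem_subgroupOf, Subgroup.mem_subgroupOf]
      exact hn x
    exact Subgroup.mem_subgroupOf.mp this

variable {P : Type*} [Group P]

/-- the counting certificate of `Helper27.FusRel.isSimple_of_cert` gives the two hypotheses -/
theorem fusGood_of_cert (H : Subgroup P) [Finite H] (S0 : Subgroup P) (hS0 : S0 ≤ H)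
    (z : P) (n k K : ℕ)
    (hcard : Nat.card S0 = 2 ^ n) (hsyl : ¬ 2 ^ (n + 1) ∣ Nat.card H)
    (hz : z ∈ S0) (hz1 : z ≠ 1) (hzc : ∀ s ∈ S0, s * z = z * s)
    (hcen : ∀ x ∈ S0, (∀ s ∈ S0, s * x = x * s) → x = 1 ∨ x = z)
    (cl : Fin K → P) (hinj : Function.Injective cl) (hcl : ∀ i, ∃ g ∈ H, cl i = g * z * g⁻¹)
    (c : Fin k → P) (hcH : ∀ i, c i ∈ H) (hc : ∀ i, c i * z = z * c i)
    (hdist : ∀ i j, i ≠ j → ∃ s ∈ S0, (c j)⁻¹ * c i * s * ((c j)⁻¹ * c i)⁻¹ ∉ S0)
    (hbound : Nat.card H < 3 * k * 2 ^ n * K)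
    (gens : Set P) (hgS : ∀ s ∈ gens, s ∈ S0) (hgen : S0 ≤ Subgroup.closure gens)
    (hconj : ∀ s ∈ gens, ∃ g ∈ H, s = g * z * g⁻¹) :
    FusGood (S0.subgroupOf H) ∧ Nat.card (S0.subgroupOf H) = 2 ^ n := by
  set S0' : Subgroup H := S0.subgroupOf H with hS0'
  have hmem : ∀ x : H, x ∈ S0' ↔ (x : P) ∈ S0 := fun x => Subgroup.mem_subgroupOf
  have hcard' : Nat.card S0' = 2 ^ n := by
    rw [← hcard]
    exact Nat.card_congr (Subgroup.subgroupOfEquivOfLe hS0).toEquiv
  have hzH : z ∈ H := hS0 hz
  set z' : H := ⟨z, hzH⟩ with hz'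
  have hz'mem : z' ∈ S0' := (hmem z').mpr hz
  have hz'1 : z' ≠ 1 := fun h => hz1 (congrArg Subtype.val h)
  have hclH : ∀ i, cl i ∈ H := by
    intro i
    obtain ⟨g, hg, h⟩ := hcl i
    rw [h]
    exact H.mul_mem (H.mul_mem hg hzH) (H.inv_mem hg)
  have hnorm : Subgroup.normalizer (S0' : Set H) = S0' := by
    refine Helper27.FusCount.normalizer_eq_of_count S0' z' n k K hcard' hsyl hz'mem hz'1 ?_ ?_
      (fun i => ⟨cl i, hclH i⟩) ?_ ?_ (fun i => ⟨c i, hcH i⟩) ?_ ?_ hbound
    · intro s hs
      apply Subtype.ext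
      exact hzc s.1 ((hmem s).mp hs)
    · intro x hx hxc
      rcases hcen x.1 ((hmem x).mp hx) (fun s hs => by
          have := hxc ⟨s, hS0 hs⟩ ((hmem _).mpr hs)
          exact congrArg Subtype.val this) with h | h
      · left
        exact Subtype.ext h
      · right
        exact Subtype.ext h
    · intro i j hij
      have := congrArg Subtype.val hij
      exact hinj this
    · intro i
      obtain ⟨g, hg, h⟩ := hcl i
      refine ⟨⟨g, hg⟩, ?_⟩
      apply Subtype.ext
      exact h
    · intro i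
      apply Subtype.ext
      exact hc i
    · intro i j hij
      obtain ⟨s, hs, hns⟩ := hdist i j hij
      refine ⟨⟨s, hS0 hs⟩, (hmem _).mpr hs, ?_⟩
      intro hcon
      apply hns
      have := (hmem _).mp hcon
      exact this
  refine ⟨⟨?_, ?_⟩, hcard'⟩
  · intro T hT hclT
    by_cases hTbot : T = ⊥
    · exact Or.inl hTbot
    right
    have hzT : z' ∈ T := by
      let T' : Subgroup S0' := T.subgroupOf S0'
      have : T'.Normal := by
        constructor
        intro t ht s
        have ht' : (t : H) ∈ T := Subgroup.mem_subgroupOf.mp ht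
        have h1 : (s : H) * (t : H) * (s : H)⁻¹ ∈ S0' :=
          S0'.mul_mem (S0'.mul_mem s.2 t.2) (S0'.inv_mem s.2)
        have h2 := hclT _ ht' (s : H) h1
        exact Subgroup.mem_subgroupOf.mpr h2
      have hT'ne : T' ≠ ⊥ := by
        intro h
        apply hTbot
        rw [eq_bot_iff]
        intro t ht
        have : (⟨t, hT ht⟩ : S0') ∈ T' := Subgroup.mem_subgroupOf.mpr ht
        rw [h, Subgroup.mem_bot] at this
        rw [Subgroup.mem_bot]
        exact congrArg Subtype.val this
      have : Fact (Nat.Prime 2) := ⟨Nat.prime_two⟩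
      have hpg : IsPGroup 2 S0' := IsPGroup.of_card hcard'
      have : Finite S0' := Nat.finite_of_card_ne_zero (by rw [hcard']; positivity)
      have : Group.IsNilpotent S0' := hpg.isNilpotent
      have hne := Cfsg.Agent.Lib.normal_inf_center_ne_bot T' hT'ne
      obtain ⟨x, hx1⟩ := (Subgroup.ne_bot_iff_exists_ne_one).mp hne
      have hxT : (x : S0') ∈ T' := (Subgroup.mem_inf.mp x.2).1
      have hxZ : (x : S0') ∈ Subgroup.center S0' := (Subgroup.mem_inf.mp x.2).2
      have hxT' : ((x : S0') : H) ∈ T := Subgroup.mem_subgroupOf.mp hxT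
      have hxS : (((x : S0') : H) : P) ∈ S0 := (hmem _).mp (x : S0').2
      rcases hcen _ hxS (fun s hs => by
          have h1 := (Subgroup.mem_center_iff.mp hxZ) ⟨⟨s, hS0 hs⟩, (hmem _).mpr hs⟩
          have h2 := congrArg (fun y : S0' => ((y : H) : P)) h1
          exact h2) with h | h
      · exfalso
        apply hx1
        apply Subtype.ext
        apply Subtype.ext
        apply Subtype.ext
        exact h
      · have : ((x : S0') : H) = z' := Subtype.ext h
        rw [← this]
        exact hxT'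
    have hgT : gens ⊆ ((T.map H.subtype : Subgroup P) : Set P) := by
      intro s hs
      obtain ⟨g, hg, h⟩ := hconj s hs
      have hsS : s ∈ S0 := hgS s hs
      have h1 : (⟨g, hg⟩ : H) * z' * (⟨g, hg⟩ : H)⁻¹ ∈ S0' := by
        rw [hmem]
        show g * z * g⁻¹ ∈ S0
        rw [← h]
        exact hsS
      have h2 := hclT z' hzT ⟨g, hg⟩ h1
      refine ⟨_, h2, ?_⟩
      show g * z * g⁻¹ = s
      exact h.symm
    have hle : Subgroup.closure gens ≤ T.map H.subtype := (Subgroup.closure_le _).mpr hgT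
    apply le_antisymm hT
    intro x hx
    have hx' : (x : P) ∈ T.map H.subtype := hle (hgen ((hmem x).mp hx))
    obtain ⟨y, hy, hyx⟩ := hx'
    have : y = x := Subtype.ext hyx
    rw [← this]
    exact hy
  · intro g hg
    have : g ∈ Subgroup.normalizer (S0' : Set H) := Subgroup.mem_normalizer_iff.mpr hg
    rw [hnorm] at this
    exact this

end Cfsg.Agent.Helper8.FusMcL
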