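import Cfsg.Agent.Helper27.FusCodeMain
import Cfsg.Agent.Helper8.FusMcLA

/-!
The coded certificate of `Helper27.FusCode.fusion_simple_of_codes`, with the two elementwise hypotheses
of the simplicity criterion as conclusion (same proof, other ending).
-/

set_option autoImplicit false

namespace Cfsg.Agent.Helper8.FusMcL

open Cfsg Cfsg.Agent.Helper7 Cfsg.Agent.Helper27 Cfsg.Agent.Helper27.FusTab Cfsg.Agent.Helper27.FusCode

theorem facts_of_codes (F : List ℕ) (hF : ∀ i ∈ F, i < 24)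
    (N n : ℕ) (hN : Nat.card (fixG M24 F) = N)
    (zC : ℕ) (GP : List (ℕ × ℕ)) (gensC : List ℕ) (prog : List (ℕ × ℕ)) (L : List ℕ)
    (CP AP BP : List (ℕ × ℕ)) (W : List ℕ) (pairs : List (ℕ × ℕ))
    (hz : chkT F (dec zC) = true)
    (hGP : ∀ p ∈ GP, chkT F (dec p.1) = true ∧ dec (compU p.2 p.1) = dec (compU p.1 zC))
    (hgens : GP.map Prod.snd = gensC)
    (hinv : ∀ s ∈ gensC, dec (compU s s) = idT)
    (hL : build gensC prog [idC] = L)
    (hclosed : L.all (fun l => gensC.all (fun s => memN (compU l s) L)) = true)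
    (hnodup : nodupB L = true)
    (hlen : L.length = 2 ^ n)
    (hzL : memN zC L = true) (hz1 : dec zC ≠ idT)
    (hzc : ∀ s ∈ gensC, compU s zC = compU zC s)
    (hcen : L.all (fun x => Nat.beq x idC || (Nat.beq x zC ||
      gensC.any (fun s => !(Nat.beq (compU s x) (compU x s))))) = true)
    (HP progA progB : List (ℕ × ℕ))
    (hHP : ∀ p ∈ HP, chkT F (dec p.1) = true ∧ dec (compU p.1 p.2) = idT ∧ ∀ j ∈ dec p.2, j < 24)
    (hAPb : buildP HP progA [(idC, idC)] = AP) (hBPb : buildP HP progB [(idC, idC)] = BP)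
    (hW : BP.map (fun p => compU (compU p.1 zC) p.2) = W)
    (hincr : isIncr (pairs.map (tcode zC AP W)) = true)
    (hCP : ∀ p ∈ CP, chkT F (dec p.1) = true ∧ dec (compU p.1 p.2) = idT ∧ (∀ j ∈ dec p.2, j < 24) ∧
      compU p.1 zC = compU zC p.1)
    (hdist : ∀ i < CP.length, ∀ j < CP.length, i ≠ j →
      ∃ s ∈ gensC, memN (dcode CP i j s) L = false)
    (hsyl : ¬ 2 ^ (n + 1) ∣ N) (hbound : N < 3 * CP.length * 2 ^ n * pairs.length)
 :
    FusGood ((Subgroup.closure {x : Equiv.Perm GolayPt | ∃ l ∈ gensC, IsCode l x}).subgroupOf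
      (fixG M24 F)) ∧
    Nat.card ((Subgroup.closure {x : Equiv.Perm GolayPt | ∃ l ∈ gensC, IsCode l x}).subgroupOf
      (fixG M24 F)) = 2 ^ n ∧
    Subgroup.closure {x : Equiv.Perm GolayPt | ∃ l ∈ gensC, IsCode l x} ≤ fixG M24 F ∧
    (∀ l ∈ gensC, ∃ x : Equiv.Perm GolayPt, x * x = 1 ∧ IsCode l x) := by
  classical
  obtain ⟨z, hzH, hzT⟩ := tabled_of_chkT hF hz
  have hzT' : IsCode zC z := hzT
  have hgen_ex : ∀ s ∈ gensC, ∃ g ∈ fixG M24 F, IsCode s (g * z * g⁻¹) := by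
    intro s hs
    rw [← hgens, List.mem_map] at hs
    obtain ⟨p, hp, rfl⟩ := hs
    obtain ⟨h1, h2⟩ := hGP p hp
    obtain ⟨g, hg, hgt⟩ := tabled_of_chkT hF h1
    exact ⟨g, hg, isCode_conj_of_eq hgt hzT' h2⟩
  let gens : Set (Equiv.Perm GolayPt) := {x | ∃ l ∈ gensC, IsCode l x}
  let S0 : Subgroup (Equiv.Perm GolayPt) := Subgroup.closure gens
  have hgensH : ∀ x ∈ gens, x ∈ fixG M24 F := by
    rintro x ⟨l, hl, hx⟩
    obtain ⟨g, hg, hgt⟩ := hgen_ex l hl
    rw [isCode_inj hx hgt]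
    exact (fixG M24 F).mul_mem ((fixG M24 F).mul_mem hg hzH) ((fixG M24 F).inv_mem hg)
  have hS0H : S0 ≤ fixG M24 F := (Subgroup.closure_le _).mpr hgensH
  have hginv : ∀ x ∈ gens, x⁻¹ = x := by
    rintro x ⟨l, hl, hx⟩
    have h2 : x * x = 1 := eq_one_of_dec_eq (isCode_mul hx hx) (hinv l hl)
    exact inv_eq_of_mul_eq_one_left h2
  have hLnorm : ∀ l ∈ L, encL (dec l) = l := by
    rw [← hL]
    apply build_ind (fun c => encL (dec c) = c) gensC norm_idC (fun a b _ _ => norm_compU a b)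
    intro x hx
    rw [List.mem_singleton] at hx
    rw [hx]
    exact norm_idC
  have hLtab : ∀ l ∈ L, ∃ g ∈ S0, IsCode l g := by
    rw [← hL]
    apply build_ind (fun c => ∃ g ∈ S0, IsCode c g) gensC ⟨1, S0.one_mem, isCode_one⟩
    · rintro a b ⟨g, hg, hga⟩ hb
      rcases hb with hb | rfl
      · obtain ⟨y, _, hy⟩ := hgen_ex b hb
        exact ⟨g * (y * z * y⁻¹), S0.mul_mem hg (Subgroup.subset_closure ⟨b, hb, hy⟩), isCode_mul hga hy⟩
      · exact ⟨g * 1, S0.mul_mem hg S0.one_mem, isCode_mul hga isCode_one⟩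
    · intro x hx
      rw [List.mem_singleton] at hx
      rw [hx]
      exact ⟨1, S0.one_mem, isCode_one⟩
  have hidL : idC ∈ L := by
    rw [← hL]
    exact subset_build gensC prog [idC] idC (List.mem_singleton_self _)
  have hclosed' : ∀ l ∈ L, ∀ s ∈ gensC, compU l s ∈ L := by
    intro l hl s hs
    rw [List.all_eq_true] at hclosed
    have h1 := hclosed l hl
    rw [List.all_eq_true] at h1
    exact (memN_iff _ _).mp (h1 s hs)
  have hS0L : ∀ x ∈ S0, ∃ l ∈ L, IsCode l x := by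
    intro x hx
    induction hx using Subgroup.closure_induction_right with
    | one => exact ⟨idC, hidL, isCode_one⟩
    | mul_right x _ y hy ih =>
      obtain ⟨l, hl, hlx⟩ := ih
      obtain ⟨s, hs, hsy⟩ := hy
      exact ⟨compU l s, hclosed' l hl s hs, isCode_mul hlx hsy⟩
    | mul_inv_cancel x _ y hy ih =>
      rw [hginv y hy]
      obtain ⟨l, hl, hlx⟩ := ih
      obtain ⟨s, hs, hsy⟩ := hy
      exact ⟨compU l s, hclosed' l hl s hs, isCode_mul hlx hsy⟩
  have hLnd : L.Nodup := nodup_of_nodupB L hnodup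
  have hcard : Nat.card S0 = 2 ^ n := by
    rw [← hlen, ← card_subtype_mem L hLnd]
    have hex : ∀ x : S0, ∃ l, l ∈ L ∧ IsCode l x.1 := fun x => hS0L x.1 x.2
    choose f hf using hex
    apply Nat.card_congr
    refine Equiv.ofBijective (fun x => ⟨f x, (hf x).1⟩) ⟨?_, ?_⟩
    · intro x y hxy
      have h1 : f x = f y := congrArg Subtype.val hxy
      apply Subtype.ext
      have h2 := (hf x).2
      rw [h1] at h2
      exact isCode_inj h2 (hf y).2
    · rintro ⟨l, hl⟩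
      obtain ⟨g, hg, hgt⟩ := hLtab l hl
      refine ⟨⟨g, hg⟩, ?_⟩
      apply Subtype.ext
      exact isCode_unique (hf ⟨g, hg⟩).2 hgt (hLnorm _ (hf ⟨g, hg⟩).1) (hLnorm l hl)
  have hzLm : zC ∈ L := (memN_iff _ _).mp hzL
  have hzS0 : z ∈ S0 := by
    obtain ⟨g, hg, hgt⟩ := hLtab zC hzLm
    rw [isCode_inj hzT' hgt]
    exact hg
  have hzne : z ≠ 1 := by
    intro h
    rw [h] at hzT
    exact hz1 (tab_unique hzT isTable_one)
  have hcomm : ∀ {a b : ℕ} {x y : Equiv.Perm GolayPt}, IsCode a x → IsCode b y →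
      compU a b = compU b a → x * y = y * x := by
    intro a b x y hx hy h
    have h1 := isCode_mul hx hy
    rw [h] at h1
    exact isCode_inj h1 (isCode_mul hy hx)
  have hzcen : ∀ s ∈ S0, s * z = z * s := by
    have hle : S0 ≤ Subgroup.centralizer ({z} : Set (Equiv.Perm GolayPt)) := by
      apply (Subgroup.closure_le _).mpr
      rintro x ⟨l, hl, hx⟩
      rw [SetLike.mem_coe, Subgroup.mem_centralizer_singleton_iff]
      exact hcomm hx hzT' (hzc l hl)
    intro s hs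
    exact (Subgroup.mem_centralizer_singleton_iff).mp (hle hs)
  have hcenter : ∀ x ∈ S0, (∀ s ∈ S0, s * x = x * s) → x = 1 ∨ x = z := by
    intro x hx hxc
    obtain ⟨l, hl, hlx⟩ := hS0L x hx
    rw [List.all_eq_true] at hcen
    have h0 := hcen l hl
    rw [Bool.or_eq_true, Bool.or_eq_true, List.any_eq_true] at h0
    rcases h0 with h | h | ⟨s, hs, hne⟩
    · left
      rw [Nat.eq_of_beq_eq_true h] at hlx
      exact isCode_inj hlx isCode_one
    · right
      rw [Nat.eq_of_beq_eq_true h] at hlx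
      exact isCode_inj hlx hzT'
    · exfalso
      obtain ⟨g, _, hgt⟩ := hgen_ex s hs
      have hgS : g * z * g⁻¹ ∈ S0 := Subgroup.subset_closure ⟨s, hs, hgt⟩
      have h1 := hxc _ hgS
      have h2 := isCode_mul hgt hlx
      rw [h1] at h2
      have h3 := isCode_unique h2 (isCode_mul hlx hgt) (norm_compU _ _) (norm_compU _ _)
      rw [h3] at hne
      simp at hne
  -- the conjugates
  have hPid : ∃ x ∈ fixG M24 F, IsCode ((idC, idC) : ℕ × ℕ).1 x ∧ IsCode ((idC, idC) : ℕ × ℕ).2 x⁻¹ := by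
    refine ⟨1, (fixG M24 F).one_mem, isCode_one, ?_⟩
    rw [inv_one]
    exact isCode_one
  have hPstep : ∀ a b : ℕ × ℕ, (∃ x ∈ fixG M24 F, IsCode a.1 x ∧ IsCode a.2 x⁻¹) →
      (b ∈ HP ∨ b = (idC, idC)) →
      ∃ x ∈ fixG M24 F, IsCode (compU a.1 b.1, compU b.2 a.2).1 x ∧
        IsCode (compU a.1 b.1, compU b.2 a.2).2 x⁻¹ := by
    rintro a b ⟨x, hx, hx1, hx2⟩ hb
    have hb' : ∃ y ∈ fixG M24 F, IsCode b.1 y ∧ IsCode b.2 y⁻¹ := by
      rcases hb with hb | rfl
      · obtain ⟨h1, h2, h3⟩ := hHP b hb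
        obtain ⟨y, hy, hyt⟩ := tabled_of_chkT hF h1
        exact ⟨y, hy, hyt, isCode_inv_of hyt h2 h3⟩
      · exact hPid
    obtain ⟨y, hy, hy1, hy2⟩ := hb'
    refine ⟨x * y, (fixG M24 F).mul_mem hx hy, isCode_mul hx1 hy1, ?_⟩
    rw [mul_inv_rev]
    exact isCode_mul hy2 hx2
  have hPall : ∀ (prg : List (ℕ × ℕ)) (Q : List (ℕ × ℕ)), buildP HP prg [(idC, idC)] = Q →
      ∀ p ∈ Q, ∃ x ∈ fixG M24 F, IsCode p.1 x ∧ IsCode p.2 x⁻¹ := by
    intro prg Q hQ
    rw [← hQ]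
    apply buildP_ind (fun p => ∃ x ∈ fixG M24 F, IsCode p.1 x ∧ IsCode p.2 x⁻¹) HP hPid hPstep
    intro x hx
    rw [List.mem_singleton] at hx
    rw [hx]
    exact hPid
  have hAPs : ∀ i, ∃ x ∈ fixG M24 F, IsCode (nthD AP i (idC, idC)).1 x ∧
      IsCode (nthD AP i (idC, idC)).2 x⁻¹ := by
    intro i
    rcases nthD_mem_or AP i (idC, idC) with h | h
    · exact hPall progA AP hAPb _ h
    · rw [h]
      exact hPid
  have hWs : ∀ j, ∃ y ∈ fixG M24 F, IsCode (nthD W j zC) (y * z * y⁻¹) := by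
    intro j
    rcases nthD_mem_or W j zC with h | h
    · have h' : nthD W j zC ∈ BP.map (fun p => compU (compU p.1 zC) p.2) := by
        rw [hW]
        exact h
      rw [List.mem_map] at h'
      obtain ⟨p, hp, hpe⟩ := h'
      obtain ⟨y, hy, hyt, hyi⟩ := hPall progB BP hBPb p hp
      refine ⟨y, hy, ?_⟩
      rw [← hpe]
      exact isCode_mul (isCode_mul hyt hzT') hyi
    · rw [h]
      refine ⟨1, (fixG M24 F).one_mem, ?_⟩
      rw [one_mul, inv_one, mul_one]
      exact hzT'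
  have hclex : ∀ p : ℕ × ℕ, ∃ g ∈ fixG M24 F, IsCode (tcode zC AP W p) (g * z * g⁻¹) := by
    intro p
    obtain ⟨x, hx, hx1, hx2⟩ := hAPs p.1
    obtain ⟨y, hy, hy1⟩ := hWs p.2
    refine ⟨x * y, (fixG M24 F).mul_mem hx hy, ?_⟩
    have h1 := isCode_mul (isCode_mul hx1 hy1) hx2
    have h2 : x * (y * z * y⁻¹) * x⁻¹ = x * y * z * (x * y)⁻¹ := by group
    rw [h2] at h1
    exact h1
  choose cg hcgH hcgT using hclex
  have hclinj : Function.Injective
      (fun i : Fin pairs.length => cg (pairs.get i) * z * (cg (pairs.get i))⁻¹) := by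
    intro i j hij
    have hi := hcgT (pairs.get i)
    have hj := hcgT (pairs.get j)
    have hij' : cg (pairs.get i) * z * (cg (pairs.get i))⁻¹ =
        cg (pairs.get j) * z * (cg (pairs.get j))⁻¹ := hij
    rw [hij'] at hi
    have h1 : tcode zC AP W (pairs.get i) = tcode zC AP W (pairs.get j) :=
      isCode_unique hi hj (norm_compU _ _) (norm_compU _ _)
    have hnd := nodup_of_isIncr _ hincr
    have h2 : (pairs.map (tcode zC AP W)).get ⟨i.1, by simp⟩ =
        (pairs.map (tcode zC AP W)).get ⟨j.1, by simp⟩ := by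
      simp only [List.get_eq_getElem, List.getElem_map]
      simpa [List.get_eq_getElem] using h1
    have h3 := (List.Nodup.get_inj_iff hnd).mp h2
    apply Fin.ext
    simpa using h3
  -- the centraliser elements
  have hctex : ∀ i : Fin CP.length, ∃ g ∈ fixG M24 F, IsCode (CP.get i).1 g ∧ IsCode (CP.get i).2 g⁻¹ := by
    intro i
    obtain ⟨h1, h2, h3, _⟩ := hCP _ (List.get_mem CP i)
    obtain ⟨x, hx, hxt⟩ := tabled_of_chkT hF h1
    exact ⟨x, hx, hxt, isCode_inv_of hxt h2 h3⟩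
  choose ct hctH hctT hctTi using hctex
  have hE1 : ∀ i, ct i * z = z * ct i := by
    intro i
    exact hcomm (hctT i) hzT' (hCP _ (List.get_mem CP i)).2.2.2
  have hE2 : ∀ i j : Fin CP.length, i ≠ j →
      ∃ s ∈ S0, (ct j)⁻¹ * ct i * s * ((ct j)⁻¹ * ct i)⁻¹ ∉ S0 := by
    intro i j hij
    obtain ⟨s, hs, hns⟩ := hdist i.1 i.2 j.1 j.2 (fun h => hij (Fin.ext h))
    obtain ⟨g, _, hgt⟩ := hgen_ex s hs
    refine ⟨g * z * g⁻¹, Subgroup.subset_closure ⟨s, hs, hgt⟩, ?_⟩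
    intro hmem
    obtain ⟨l, hl, hlx⟩ := hS0L _ hmem
    have h1 : IsCode (dcode CP i.1 j.1 s)
        ((ct j)⁻¹ * ct i * (g * z * g⁻¹) * ((ct j)⁻¹ * ct i)⁻¹) := by
      unfold dcode
      rw [nthD_eq_get CP i.1 _ i.2, nthD_eq_get CP j.1 _ j.2]
      have h2 := isCode_mul (isCode_mul (isCode_mul (hctTi j) (hctT i)) hgt)
        (isCode_mul (hctTi i) (hctT j))
      have h3 : ((ct j)⁻¹ * ct i)⁻¹ = (ct i)⁻¹ * ct j := by group
      rw [h3]
      exact h2
    have h4 : dcode CP i.1 j.1 s = l := isCode_unique h1 hlx (norm_compU _ _) (hLnorm l hl)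
    rw [h4, (memN_iff l L).mpr hl] at hns
    exact Bool.noConfusion hns
  have hE3 : ∀ s ∈ gens, ∃ g ∈ fixG M24 F, s = g * z * g⁻¹ := by
    rintro x ⟨l, hl, hx⟩
    obtain ⟨g, hg, hgt⟩ := hgen_ex l hl
    exact ⟨g, hg, isCode_inj hx hgt⟩
  obtain ⟨hgood, hcard2⟩ := fusGood_of_cert (fixG M24 F) S0 hS0H z n CP.length pairs.length hcard
    (by rw [hN]; exact hsyl) hzS0 hzne hzcen hcenter
    (fun i => cg (pairs.get i) * z * (cg (pairs.get i))⁻¹) hclinj
    (fun i => ⟨cg (pairs.get i), hcgH _, rfl⟩)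
    ct hctH hE1 hE2 (by rw [hN]; exact hbound) gens (fun s hs => Subgroup.subset_closure hs) le_rfl hE3
  refine ⟨hgood, hcard2, hS0H, ?_⟩
  intro l hl
  obtain ⟨g, _, hgt⟩ := hgen_ex l hl
  refine ⟨g * z * g⁻¹, ?_, hgt⟩
  exact eq_one_of_dec_eq (isCode_mul hgt hgt) (hinv l hl)

end Cfsg.Agent.Helper8.FusMcL
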