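import Mathlib
import Cfsg.Prelude.Def_SporadicCombinatorics
import Cfsg.Agent.Helper8.McL275a

/-!
The configuration of 275 minimal vectors: classification into the three shapes and transitivity
for the standard pair.
-/

set_option autoImplicit false

namespace Cfsg.Agent.Helper8

open Cfsg Cfsg.Agent.Helper27
open scoped Pointwise

theorem sum_single (i : GolayPt) (s : ℤ) : ∑ k, (Pi.single i s : IVec) k = s := by
  classical
  rw [Finset.sum_pi_single' i s Finset.univ, if_pos (Finset.mem_univ i)]

theorem classifyA {i j : GolayPt} {s t : ℤ} (hij : i ≠ j) (hs : s = 4 ∨ s = -4)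
    (ht : t = 4 ∨ t = -4)
    (h1 : (Pi.single i s + Pi.single j t : IVec) pA + (Pi.single i s + Pi.single j t : IVec) pB = 4)
    (h2 : (∑ k, (Pi.single i s + Pi.single j t : IVec) k) -
      4 * (Pi.single i s + Pi.single j t : IVec) pB = 8) :
    ∃ l, (l ≠ pA ∧ l ≠ pB) ∧ (Pi.single i s + Pi.single j t : IVec) = xA l := by
  classical
  have hsum : ∑ k, (Pi.single i s + Pi.single j t : IVec) k = s + t := by
    simp only [Pi.add_apply]
    rw [Finset.sum_add_distrib, sum_single, sum_single]
  rw [hsum] at h2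
  simp only [Pi.add_apply, Pi.single_apply] at h1 h2
  by_cases hAi : pA = i
  · have hAj : pA ≠ j := fun h => hij (hAi.symm.trans h)
    have hBi : pB ≠ i := fun h => pA_ne_pB (hAi.trans h.symm)
    rw [if_pos hAi, if_neg hAj, if_neg hBi] at h1
    rw [if_neg hBi] at h2
    by_cases hBj : pB = j
    · rw [if_pos hBj] at h1 h2
      rcases hs with rfl | rfl <;> rcases ht with rfl | rfl <;> omega
    · rw [if_neg hBj] at h1 h2
      have hs4 : s = 4 := by omega
      have ht4 : t = 4 := by omega
      refine ⟨j, ⟨fun h => hAj h.symm, fun h => hBj h.symm⟩, ?_⟩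
      unfold xA
      rw [hs4, ht4, ← hAi]
  · by_cases hAj : pA = j
    · have hBj : pB ≠ j := fun h => pA_ne_pB (hAj.trans h.symm)
      rw [if_neg hAi, if_pos hAj, if_neg hBj] at h1
      rw [if_neg hBj] at h2
      by_cases hBi : pB = i
      · rw [if_pos hBi] at h1 h2
        rcases hs with rfl | rfl <;> rcases ht with rfl | rfl <;> omega
      · rw [if_neg hBi] at h1 h2
        have hs4 : s = 4 := by omega
        have ht4 : t = 4 := by omega
        refine ⟨i, ⟨fun h => hAi h.symm, fun h => hBi h.symm⟩, ?_⟩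
        unfold xA
        rw [hs4, ht4, ← hAj, add_comm]
    · rw [if_neg hAi, if_neg hAj] at h1
      exfalso
      by_cases hBi : pB = i
      · have hBj : pB ≠ j := fun h => hij (hBi.symm.trans h)
        rw [if_pos hBi, if_neg hBj] at h1 h2
        rcases hs with rfl | rfl <;> rcases ht with rfl | rfl <;> omega
      · by_cases hBj : pB = j
        · rw [if_neg hBi, if_pos hBj] at h1 h2
          rcases hs with rfl | rfl <;> rcases ht with rfl | rfl <;> omega
        · rw [if_neg hBi, if_neg hBj] at h1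
          omega

theorem classifyB {x : IVec} {O : Finset GolayPt} (hO : O ∈ octads)
    (hO2 : ∀ i ∈ O, x i = 2 ∨ x i = -2) (hO0 : ∀ i ∉ O, x i = 0)
    (h1 : x pA + x pB = 4) (h2 : (∑ k, x k) - 4 * x pB = 8) :
    pA ∈ O ∧ pB ∈ O ∧ x = twoInd O := by
  classical
  have hA : pA ∈ O := by
    by_contra h
    have h0 := hO0 pA h
    by_cases hB : pB ∈ O
    · rcases hO2 pB hB with h' | h' <;> omega
    · have := hO0 pB hB
      omega
  have hB : pB ∈ O := by
    by_contra h
    have h0 := hO0 pB h
    rcases hO2 pA hA with h' | h' <;> omega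
  have hxB : x pB = 2 := by
    rcases hO2 pA hA with h' | h' <;> rcases hO2 pB hB with h'' | h'' <;> omega
  have hsum : ∑ k ∈ O, x k = 16 := by
    have : ∑ k ∈ O, x k = ∑ k, x k := by
      apply Finset.sum_subset (Finset.subset_univ O)
      intro i _ hi
      exact hO0 i hi
    rw [this]
    omega
  have hall : ∀ i ∈ O, x i = 2 := by
    have hs2 : ∑ k ∈ O, (2 - x k) = 0 := by
      rw [Finset.sum_sub_distrib, hsum, Finset.sum_const, hO.2]
      norm_num
    have hnn : ∀ i ∈ O, 0 ≤ 2 - x i := by
      intro i hi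
      rcases hO2 i hi with h' | h' <;> omega
    intro i hi
    have := (Finset.sum_eq_zero_iff_of_nonneg hnn).mp hs2 i hi
    omega
  refine ⟨hA, hB, ?_⟩
  ext i
  unfold twoInd
  by_cases hi : i ∈ O
  · rw [if_pos hi, hall i hi]
  · rw [if_neg hi, hO0 i hi]

theorem sum_signedPerm_oddBase (C : Finset GolayPt) (k : GolayPt) :
    ∑ i, signedPerm 1 C (oddBase k) i =
      24 - 2 * (C.card : ℤ) - 4 * (if k ∈ C then -1 else 1) := by
  classical
  have h : ∀ i, signedPerm 1 C (oddBase k) i =
      (if i ∈ C then (-1 : ℤ) else 1) - (if i = k then 4 * (if k ∈ C then -1 else 1) else 0) := by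
    intro i
    rw [signedPerm_one_apply]
    unfold oddBase
    by_cases hik : i = k
    · subst hik
      by_cases hiC : i ∈ C <;> simp [hiC]
    · by_cases hiC : i ∈ C <;> simp [hiC, hik]
  simp only [h]
  rw [Finset.sum_sub_distrib, Finset.sum_ite_eq' Finset.univ k, if_pos (Finset.mem_univ k),
    Finset.sum_ite, Finset.sum_const, Finset.sum_const, Finset.filter_mem_eq_inter,
    Finset.univ_inter]
  have hnot : (Finset.univ.filter fun i => i ∉ C).card = 24 - C.card := by
    have h1 := Finset.card_filter_add_card_filter_not (s := (Finset.univ : Finset GolayPt))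
      (fun i => i ∈ C)
    rw [Finset.filter_mem_eq_inter, Finset.univ_inter, Finset.card_univ,
      Cfsg.Agent.Helper26.card_golayPt] at h1
    omega
  rw [hnot]
  have hle : C.card ≤ 24 := by
    have := Finset.card_le_univ C
    rwa [Cfsg.Agent.Helper26.card_golayPt] at this
  simp only [nsmul_eq_mul]
  push_cast [hle]
  ring

theorem classifyC {C : Finset GolayPt} {k : GolayPt}
    (hC : C ∈ supports (golayCode : Set (GolayPt → ZMod 2)))
    (h1 : signedPerm 1 C (oddBase k) pA + signedPerm 1 C (oddBase k) pB = 4)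
    (h2 : (∑ i, signedPerm 1 C (oddBase k) i) - 4 * signedPerm 1 C (oddBase k) pB = 8) :
    C ∈ octads ∧ pA ∈ C ∧ pB ∉ C ∧ signedPerm 1 C (oddBase k) = xC C := by
  classical
  rw [sum_signedPerm_oddBase] at h2
  have hcard := card_mem_supports hC
  have hvA : signedPerm 1 C (oddBase k) pA =
      (if pA ∈ C then -1 else 1) * (if pA = k then (-3 : ℤ) else 1) := by
    rw [signedPerm_one_apply]
    unfold oddBase
    split_ifs <;> ring
  have hvB : signedPerm 1 C (oddBase k) pB =
      (if pB ∈ C then -1 else 1) * (if pB = k then (-3 : ℤ) else 1) := by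
    rw [signedPerm_one_apply]
    unfold oddBase
    split_ifs <;> ring
  rw [hvA, hvB] at h1
  rw [hvB] at h2
  by_cases hAk : pA = k
  · subst hAk
    have hBk : pB ≠ pA := fun h => pA_ne_pB h.symm
    rw [if_pos rfl, if_neg hBk] at h1
    rw [if_neg hBk] at h2
    by_cases hAC : pA ∈ C
    · by_cases hBC : pB ∈ C
      · rw [if_pos hAC, if_pos hBC] at h1
        omega
      · rw [if_pos hAC, if_neg hBC] at h2
        refine ⟨⟨hC, ?_⟩, hAC, hBC, rfl⟩
        have : (C.card : ℤ) = 8 := by omega
        exact_mod_cast this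
    · by_cases hBC : pB ∈ C
      · rw [if_neg hAC, if_pos hBC] at h1
        omega
      · rw [if_neg hAC, if_neg hBC] at h1
        omega
  · exfalso
    rw [if_neg hAk] at h1
    by_cases hBk : pB = k
    · subst hBk
      rw [if_pos rfl] at h1 h2
      by_cases hAC : pA ∈ C <;> by_cases hBC : pB ∈ C
      · rw [if_pos hAC, if_pos hBC] at h1; omega
      · rw [if_pos hAC, if_neg hBC] at h1; omega
      · rw [if_pos hBC] at h2
        have : (C.card : ℤ) = 4 := by omega
        have h4 : C.card = 4 := by exact_mod_cast this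
        omega
      · rw [if_neg hAC, if_neg hBC] at h1; omega
    · rw [if_neg hBk] at h1
      by_cases hAC : pA ∈ C <;> by_cases hBC : pB ∈ C
      · rw [if_pos hAC, if_pos hBC] at h1; omega
      · rw [if_pos hAC, if_neg hBC] at h1; omega
      · rw [if_neg hAC, if_pos hBC] at h1; omega
      · rw [if_neg hAC, if_neg hBC] at h1; omega

/-- the members of the standard configuration are all equivalent -/
theorem frel3_all {x : IVec} (hx : x ∈ leechLattice) (hn : sqNorm x = 32)
    (h1 : dotInt vA0 x = 16) (h2 : dotInt wB0 x = 8) : FRel3 (xA (gPt 2)) x := by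
  have h1' : x pA + x pB = 4 := by
    rw [dotInt_vA0] at h1
    omega
  have h2' : (∑ i, x i) - 4 * x pB = 8 := by
    unfold wB0 at h2
    rw [dotInt_oddBase] at h2
    exact h2
  obtain ⟨f1, f2, f3, f4, f5, f6, f7, f8⟩ := octL_facts
  rcases min_cases hx hn with hA | hB | hC
  · obtain ⟨i, j, s, t, hij, hs, ht, rfl⟩ := hA
    obtain ⟨l, hl, hxl⟩ := classifyA hij hs ht h1' h2'
    rw [hxl]
    exact frel3_A ⟨f7, f8⟩ hl
  · obtain ⟨O, hO, hO2, hO0⟩ := hB
    obtain ⟨hA, hB, rfl⟩ := classifyB hO hO2 hO0 h1' h2'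
    exact ((frel3_A ⟨f7, f8⟩ ⟨f5, f6⟩).trans frel3_links.1).trans
      (frel3_B octL1_mem hO f1 f2 hA hB)
  · obtain ⟨k, C, hC, rfl⟩ := hC
    obtain ⟨hO, hA, hB, hxC⟩ := classifyC hC h1' h2'
    rw [hxC]
    exact frel3_links.2.trans (frel3_C octL2_mem hO f3 f4 hA hB)

end Cfsg.Agent.Helper8
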