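import Mathlib
import Cfsg.Prelude.Def_SporadicCombinatorics
import Cfsg.Agent.Helper8.McL275b
import Cfsg.Agent.S1575

/-!
The configuration of 275 minimal vectors: the count and the transitivity for an arbitrary pair.
-/

set_option autoImplicit false

namespace Cfsg.Agent.Helper8

open Cfsg Cfsg.Agent.Helper27
open scoped Pointwise

theorem sub_mem_summands {u a : IVec} (hu : u ∈ leechLattice) (ha : a ∈ summands u) :
    u - a ∈ summands u := by
  rw [mem_summands] at ha ⊢
  refine ⟨leechLattice.sub_mem hu ha.1, ha.2.2, ?_⟩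
  rw [sub_sub_cancel]
  exact ha.2.1

theorem dot_cases_summands {u a b : IVec} (hu : u ∈ leechLattice) (hun : sqNorm u = 48)
    (ha : a ∈ summands u) (hb : b ∈ summands u) (hba : b ≠ a) (hbua : b ≠ u - a) :
    dotInt b a = 8 ∨ dotInt b a = 16 := by
  have hda := dot_of_mem_summands hun ha
  have ha' := (mem_summands u a).mp ha
  have hb' := (mem_summands u b).mp hb
  have hub' := (mem_summands u (u - b)).mp (sub_mem_summands hu hb)
  have h8 := eight_dvd_dotInt hb'.1 ha'.1
  have hle := dot_le_16 hb'.1 ha'.1 hb'.2.1 ha'.2.1 hba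
  have hge : dotInt (u - b) a ≤ 16 := by
    apply dot_le_16 hub'.1 ha'.1 hub'.2.1 ha'.2.1
    intro h
    apply hbua
    rw [← h, sub_sub_cancel]
  rw [dotInt_sub_left, hda] at hge
  obtain ⟨k, hk⟩ := h8
  have hk' : k = 1 ∨ k = 2 := by omega
  rcases hk' with rfl | rfl
  · left; rw [hk]; norm_num
  · right; rw [hk]; norm_num

/-- the count of the summands with inner product 16 with a given one -/
theorem card_summands_16 {u v : IVec} (hu : u ∈ leechLattice) (hun : sqNorm u = 48)
    (hv : v ∈ summands u) :
    ((summands u).filter fun x => dotInt v x = 16).card = 275 := by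
  classical
  have hv' := (mem_summands u v).mp hv
  have hdv := dot_of_mem_summands hun hv
  have huv := sub_mem_summands hu hv
  have hvv : dotInt v v = 32 := by rw [dotInt_self, hv'.2.1]
  have hvuv : dotInt v (u - v) = -8 := by
    rw [dotInt_sub_right, hvv, dotInt_comm, hdv]
    norm_num
  have hne : u - v ≠ v := by
    intro h
    rw [h, hvv] at hvuv
    omega
  set S16 := (summands u).filter fun x => dotInt v x = 16 with hS16
  set S8 := (summands u).filter fun x => dotInt v x = 8 with hS8
  -- the two classes have the same size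
  have hsame : S16.card = S8.card := by
    apply Finset.card_nbij' (fun x => u - x) (fun x => u - x)
    · intro x hx
      rw [hS16, Finset.coe_filter, Set.mem_ofPred_eq] at hx
      rw [hS8, Finset.coe_filter, Set.mem_ofPred_eq]
      refine ⟨sub_mem_summands hu hx.1, ?_⟩
      rw [dotInt_sub_right, dotInt_comm v u, hdv, hx.2]
      norm_num
    · intro x hx
      rw [hS8, Finset.coe_filter, Set.mem_ofPred_eq] at hx
      rw [hS16, Finset.coe_filter, Set.mem_ofPred_eq]
      refine ⟨sub_mem_summands hu hx.1, ?_⟩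
      rw [dotInt_sub_right, dotInt_comm v u, hdv, hx.2]
      norm_num
    · intro x _
      exact sub_sub_cancel u x
    · intro x _
      exact sub_sub_cancel u x
  -- the decomposition of the set of summands
  have hdec : summands u = insert v (insert (u - v) (S16 ∪ S8)) := by
    ext x
    rw [Finset.mem_insert, Finset.mem_insert, Finset.mem_union, hS16, hS8, Finset.mem_filter,
      Finset.mem_filter]
    constructor
    · intro hx
      by_cases h1 : x = v
      · exact Or.inl h1
      · by_cases h2 : x = u - v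
        · exact Or.inr (Or.inl h2)
        · right; right
          rcases dot_cases_summands hu hun hv hx h1 h2 with h | h
          · right
            exact ⟨hx, by rw [dotInt_comm]; exact h⟩
          · left
            exact ⟨hx, by rw [dotInt_comm]; exact h⟩
    · rintro (rfl | rfl | ⟨h, -⟩ | ⟨h, -⟩)
      · exact hv
      · exact huv
      · exact h
      · exact h
  have hv16 : v ∉ S16 := by
    rw [hS16, Finset.mem_filter]
    rintro ⟨-, h⟩
    omega
  have hv8 : v ∉ S8 := by
    rw [hS8, Finset.mem_filter]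
    rintro ⟨-, h⟩
    omega
  have huv16 : u - v ∉ S16 := by
    rw [hS16, Finset.mem_filter]
    rintro ⟨-, h⟩
    omega
  have huv8 : u - v ∉ S8 := by
    rw [hS8, Finset.mem_filter]
    rintro ⟨-, h⟩
    omega
  have hdisj : Disjoint S16 S8 := by
    rw [Finset.disjoint_left]
    intro x h16 h8
    rw [hS16, Finset.mem_filter] at h16
    rw [hS8, Finset.mem_filter] at h8
    omega
  have hcard := card_summands hu hun
  rw [hdec, Finset.card_insert_of_notMem, Finset.card_insert_of_notMem,
    Finset.card_union_of_disjoint hdisj] at hcard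
  · omega
  · rw [Finset.mem_union]
    rintro (h | h)
    · exact huv16 h
    · exact huv8 h
  · rw [Finset.mem_insert, Finset.mem_union]
    rintro (h | h | h)
    · exact hne h.symm
    · exact hv16 h
    · exact hv8 h

/-- pairs of minimal vectors with inner product `-8` form one orbit -/
theorem pair8_trans (a b a' b' : ↥leechLattice) (ha : sqNorm (a : IVec) = 32)
    (hb : sqNorm (b : IVec) = 32) (hab : dotInt (a : IVec) (b : IVec) = -8)
    (ha' : sqNorm (a' : IVec) = 32) (hb' : sqNorm (b' : IVec) = 32)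
    (hab' : dotInt (a' : IVec) (b' : IVec) = -8) : ∃ g : ↥Co0, g • a = a' ∧ g • b = b' := by
  obtain ⟨g1, hg1⟩ := co0_transitive_min32 a a' ha ha'
  obtain ⟨g2, hg2a, hg2b⟩ := Cfsg.Agent.S1575.result a' (g1 • b) b' ha'
    (by rw [co0_sqNorm]; exact hb) hb' (by rw [← hg1, co0_dotInt]; exact hab) hab'
  exact ⟨g2 * g1, by rw [mul_smul, hg1, hg2a], by rw [mul_smul, hg2b]⟩

theorem dot_vA0_wB0 : dotInt vA0 wB0 = -8 := by decide +kernel

theorem sqNorm_wB0 : sqNorm wB0 = 32 := by decide +kernel

theorem sqNorm_vA0 : sqNorm vA0 = 32 := by decide +kernel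

/-- the configuration for an arbitrary pair -/
theorem mcl_config (u v : ↥leechLattice) (hu : sqNorm (u : IVec) = 48)
    (hv : sqNorm (v : IVec) = 32 ∧ sqNorm ((u : IVec) - (v : IVec)) = 32) :
    {x : ↥leechLattice | sqNorm (x : IVec) = 32 ∧ sqNorm ((u : IVec) - (x : IVec)) = 32 ∧
      dotInt (v : IVec) (x : IVec) = 16}.ncard = 275 ∧
    ∀ x ∈ {x : ↥leechLattice | sqNorm (x : IVec) = 32 ∧ sqNorm ((u : IVec) - (x : IVec)) = 32 ∧
      dotInt (v : IVec) (x : IVec) = 16},
    ∀ x' ∈ {x : ↥leechLattice | sqNorm (x : IVec) = 32 ∧ sqNorm ((u : IVec) - (x : IVec)) = 32 ∧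
      dotInt (v : IVec) (x : IVec) = 16}, ∃ g : ↥Co0, g • u = u ∧ g • v = v ∧ g • x = x' := by
  classical
  have hvS : (v : IVec) ∈ summands (u : IVec) := (mem_summands _ _).mpr ⟨v.2, hv.1, hv.2⟩
  constructor
  · rw [← card_summands_16 u.2 hu hvS, ← Set.ncard_coe_finset]
    apply Set.ncard_congr (fun (x : ↥leechLattice) _ => (x : IVec))
    · intro x hx
      rw [Finset.mem_coe, Finset.mem_filter, mem_summands]
      exact ⟨⟨x.2, hx.1, hx.2.1⟩, hx.2.2⟩
    · intro a b _ _ hab
      exact Subtype.ext hab
    · intro x hx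
      rw [Finset.mem_coe, Finset.mem_filter, mem_summands] at hx
      exact ⟨⟨x, hx.1.1⟩, ⟨hx.1.2.1, hx.1.2.2, hx.2⟩, rfl⟩
  · -- move the pair to the standard pair
    have hduv : dotInt (u : IVec) (v : IVec) = 24 := dot_of_mem_summands hu hvS
    have hw32 : sqNorm ((u - v : ↥leechLattice) : IVec) = 32 := by
      rw [AddSubgroup.coe_sub]
      exact hv.2
    have hvw : dotInt (v : IVec) ((u - v : ↥leechLattice) : IVec) = -8 := by
      rw [AddSubgroup.coe_sub, dotInt_sub_right, dotInt_self, hv.1, dotInt_comm, hduv]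
      norm_num
    obtain ⟨g0, hg0v, hg0w⟩ := pair8_trans v (u - v) v0L w0L hv.1 hw32 hvw sqNorm_vA0 sqNorm_wB0
      dot_vA0_wB0
    have hg0u : g0 • u = v0L + w0L := by
      have : u = v + (u - v) := by abel
      calc g0 • u = g0 • (v + (u - v)) := by rw [← this]
        _ = g0 • v + g0 • (u - v) := g0.2.1 _ _
        _ = v0L + w0L := by rw [hg0v, hg0w]
    have key : ∀ x : ↥leechLattice, sqNorm (x : IVec) = 32 →
        sqNorm ((u : IVec) - (x : IVec)) = 32 → dotInt (v : IVec) (x : IVec) = 16 →
        FRel3 (xA (gPt 2)) ((g0 • x : ↥leechLattice) : IVec) := by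
      intro x hx1 hx2 hx3
      have hxS : (x : IVec) ∈ summands (u : IVec) := (mem_summands _ _).mpr ⟨x.2, hx1, hx2⟩
      have hdux : dotInt (u : IVec) (x : IVec) = 24 := dot_of_mem_summands hu hxS
      have e1 : dotInt vA0 ((g0 • x : ↥leechLattice) : IVec) = 16 := by
        have := co0_dotInt g0 v x
        rw [hg0v] at this
        rw [← hx3, ← this]
        rfl
      have e2 : dotInt (vA0 + wB0) ((g0 • x : ↥leechLattice) : IVec) = 24 := by
        have := co0_dotInt g0 u x
        rw [hg0u] at this
        rw [← hdux, ← this]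
        rfl
      apply frel3_all (g0 • x).2 (by rw [co0_sqNorm]; exact hx1) e1
      rw [dotInt_add_left, e1] at e2
      omega
    intro x hx x' hx'
    have r1 := key x hx.1 hx.2.1 hx.2.2
    have r2 := key x' hx'.1 hx'.2.1 hx'.2.2
    obtain ⟨hmem, h, hh1, hh2, hh3⟩ := r1.symm.trans r2
    have hh3' : h • (g0 • x) = g0 • x' := Subtype.ext hh3
    refine ⟨g0⁻¹ * h * g0, ?_, ?_, ?_⟩
    · rw [mul_smul, mul_smul, hg0u]
      have : h • (v0L + w0L) = v0L + w0L := by
        calc h • (v0L + w0L) = h • v0L + h • w0L := h.2.1 _ _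
          _ = v0L + w0L := by rw [hh1, hh2]
      rw [this, ← hg0u, inv_smul_smul]
    · rw [mul_smul, mul_smul, hg0v, hh1, ← hg0v, inv_smul_smul]
    · rw [mul_smul, mul_smul, hh3', inv_smul_smul]

end Cfsg.Agent.Helper8
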