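import Mathlib
import Cfsg.Prelude.Def_SporadicCombinatorics
import Cfsg.Agent.Helper8.McL275c
import Cfsg.Agent.Helper26.FivePt

/-!
The stabiliser of a third vector in the configuration of 275 minimal vectors: the relation, the
monomial maps fixing three points, and the orbits of these on the points and on the octads.
-/

set_option autoImplicit false

namespace Cfsg.Agent.Helper8

open Cfsg Cfsg.Agent.Helper27
open scoped Pointwise

/-! ### the third base vector and the relation -/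

/-- the third distinguished point -/
abbrev pT : GolayPt := gPt 2

theorem pT_facts : pA ≠ pT ∧ pB ≠ pT ∧ pT ≠ pA ∧ pT ≠ pB := by decide

/-- the third base vector `(4, 0, 4, 0, …)` as a lattice element -/
def x0L : ↥leechLattice := ⟨xA pT, xA_mem pT⟩

/-- some automorphism fixing the three base vectors maps `x` to `y` -/
def FRel4 (x y : IVec) : Prop :=
  ∃ (hx : x ∈ leechLattice) (g : ↥Co0), g • v0L = v0L ∧ g • w0L = w0L ∧ g • x0L = x0L ∧
    ((g • (⟨x, hx⟩ : ↥leechLattice) : ↥leechLattice) : IVec) = y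

theorem FRel4.mem_right {x y : IVec} (h : FRel4 x y) : y ∈ leechLattice := by
  obtain ⟨hx, g, -, -, -, rfl⟩ := h
  exact (g • (⟨x, hx⟩ : ↥leechLattice)).2

theorem FRel4.refl {x : IVec} (hx : x ∈ leechLattice) : FRel4 x x :=
  ⟨hx, 1, one_smul _ _, one_smul _ _, one_smul _ _, by rw [one_smul]⟩

theorem FRel4.trans {x y z : IVec} (h1 : FRel4 x y) (h2 : FRel4 y z) : FRel4 x z := by
  obtain ⟨hx, g, hg1, hg2, hg3, rfl⟩ := h1
  obtain ⟨hy, h, hh1, hh2, hh3, rfl⟩ := h2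
  exact ⟨hx, h * g, by rw [mul_smul, hg1, hh1], by rw [mul_smul, hg2, hh2],
    by rw [mul_smul, hg3, hh3], by rw [mul_smul]⟩

theorem FRel4.symm {x y : IVec} (h : FRel4 x y) : FRel4 y x := by
  have hy := h.mem_right
  obtain ⟨hx, g, hg1, hg2, hg3, rfl⟩ := h
  refine ⟨hy, g⁻¹, ?_, ?_, ?_, ?_⟩
  · rw [inv_smul_eq_iff, hg1]
  · rw [inv_smul_eq_iff, hg2]
  · rw [inv_smul_eq_iff, hg3]
  · have : (⟨((g • (⟨x, hx⟩ : ↥leechLattice) : ↥leechLattice) : IVec), hy⟩ : ↥leechLattice) =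
        g • (⟨x, hx⟩ : ↥leechLattice) := Subtype.ext rfl
    rw [this, inv_smul_smul]

/-- a permutation of the code's group fixing the three distinguished points -/
theorem frel4_perm {x : IVec} (hx : x ∈ leechLattice) {σ : Equiv.Perm GolayPt} (hσ : σ ∈ M24)
    (hA : σ pA = pA) (hB : σ pB = pB) (hT : σ pT = pT) : FRel4 x (signedPerm σ ∅ x) := by
  refine ⟨hx, monoCo0 hσ Cfsg.Agent.S0390.empty_mem_supports, ?_, ?_, ?_, rfl⟩
  · apply Subtype.ext
    rw [monoCo0_smul]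
    exact signedPerm_empty_vA0 hA hB
  · apply Subtype.ext
    rw [monoCo0_smul]
    show signedPerm σ ∅ (oddBase pB) = oddBase pB
    rw [signedPerm_empty_oddBase, hB]
  · apply Subtype.ext
    rw [monoCo0_smul]
    show signedPerm σ ∅ (xA pT) = xA pT
    unfold xA
    rw [signedPerm_add, signedPerm_empty_single, signedPerm_empty_single, hA, hT]

/-! ### maps of the code's group fixing three points -/

/-- a map of the code's group moves an octad to the octad through the images of five points -/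
theorem smul_octad_eq {σ : Equiv.Perm GolayPt} (hσ : σ ∈ M24) {O O' : Finset GolayPt}
    (hO : O ∈ octads) (hO' : O' ∈ octads) (F : List GolayPt) (hF : F.Nodup) (hlen : F.length = 5)
    (hFO : ∀ p ∈ F, p ∈ O) (hFO' : ∀ p ∈ F, σ p ∈ O') : σ • O = O' := by
  classical
  have hσO : σ • O ∈ octads := Helper7.smul_mem_octads hσ hO
  have hnd : (F.map (⇑σ)).Nodup := hF.map σ.injective
  apply Helper7.octad_eq_of_five hO' hσO (F.map (⇑σ)).toFinset
  · rw [List.toFinset_card_of_nodup hnd, List.length_map, hlen]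
  · intro a ha
    rw [List.mem_toFinset, List.mem_map] at ha
    obtain ⟨b, hb, rfl⟩ := ha
    exact hFO' b hb
  · intro a ha
    rw [List.mem_toFinset, List.mem_map] at ha
    obtain ⟨b, hb, rfl⟩ := ha
    exact Finset.smul_mem_smul_finset (hFO b hb)

variable {p q r : GolayPt}

/-- transitivity on the remaining points -/
theorem exists_fix3_map (hpq : p ≠ q) (hpr : p ≠ r) (hqr : q ≠ r) {l l' : GolayPt}
    (hl : l ≠ p ∧ l ≠ q ∧ l ≠ r) (hl' : l' ≠ p ∧ l' ≠ q ∧ l' ≠ r) :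
    ∃ σ ∈ M24, σ p = p ∧ σ q = q ∧ σ r = r ∧ σ l = l' := by
  obtain ⟨σ, hσ, hmap⟩ := Helper26.exists_map_list [p, q, r, l] [p, q, r, l']
    (by simp [hpq, hpr, hqr, Ne.symm hl.1, Ne.symm hl.2.1, Ne.symm hl.2.2])
    (by simp [hpq, hpr, hqr, Ne.symm hl'.1, Ne.symm hl'.2.1, Ne.symm hl'.2.2])
    rfl (by norm_num)
  simp only [List.map_cons, List.map_nil, List.cons.injEq, and_true] at hmap
  exact ⟨σ, hσ, hmap.1, hmap.2.1, hmap.2.2.1, hmap.2.2.2⟩

/-- two further points of an octad -/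
theorem exists_two_more {U : Finset GolayPt} (hU : U ∈ octads) (T : Finset GolayPt)
    (hT : T.card ≤ 6) : ∃ x y, x ∈ U ∧ y ∈ U ∧ x ∉ T ∧ y ∉ T ∧ x ≠ y := by
  classical
  have h2 : 2 ≤ (U \ T).card := by
    have := Finset.le_card_sdiff T U
    rw [hU.2] at this
    omega
  obtain ⟨t, ht, ht2⟩ := Finset.exists_subset_card_eq h2
  obtain ⟨x, y, hxy, rfl⟩ := Finset.card_eq_two.1 ht2
  have hx := ht (by simp : x ∈ ({x, y} : Finset GolayPt))
  have hy := ht (by simp : y ∈ ({x, y} : Finset GolayPt))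
  rw [Finset.mem_sdiff] at hx hy
  exact ⟨x, y, hx.1, hy.1, hx.2, hy.2, hxy⟩

/-- transitivity on the octads through the three points -/
theorem exists_fix3_map_octad3 (hpq : p ≠ q) (hpr : p ≠ r) (hqr : q ≠ r)
    {O O' : Finset GolayPt} (hO : O ∈ octads) (hO' : O' ∈ octads) (hp : p ∈ O) (hq : q ∈ O)
    (hr : r ∈ O) (hp' : p ∈ O') (hq' : q ∈ O') (hr' : r ∈ O') :
    ∃ σ ∈ M24, σ p = p ∧ σ q = q ∧ σ r = r ∧ σ • O = O' := by
  classical
  obtain ⟨x, y, hx, hy, hxT, hyT, hxy⟩ := exists_two_more hO {p, q, r}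
    (Finset.card_le_three.trans (by norm_num))
  obtain ⟨x', y', hx', hy', hxT', hyT', hxy'⟩ := exists_two_more hO' {p, q, r}
    (Finset.card_le_three.trans (by norm_num))
  simp only [Finset.mem_insert, Finset.mem_singleton, not_or] at hxT hyT hxT' hyT'
  have hnd : [p, q, r, x, y].Nodup := by
    simp only [List.nodup_cons, List.mem_cons, List.not_mem_nil, or_false, not_or,
      List.nodup_nil, and_true, not_false_eq_true]
    exact ⟨⟨hpq, hpr, Ne.symm hxT.1, Ne.symm hyT.1⟩, ⟨hqr, Ne.symm hxT.2.1, Ne.symm hyT.2.1⟩,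
      ⟨Ne.symm hxT.2.2, Ne.symm hyT.2.2⟩, hxy⟩
  have hnd' : [p, q, r, x', y'].Nodup := by
    simp only [List.nodup_cons, List.mem_cons, List.not_mem_nil, or_false, not_or,
      List.nodup_nil, and_true, not_false_eq_true]
    exact ⟨⟨hpq, hpr, Ne.symm hxT'.1, Ne.symm hyT'.1⟩, ⟨hqr, Ne.symm hxT'.2.1, Ne.symm hyT'.2.1⟩,
      ⟨Ne.symm hxT'.2.2, Ne.symm hyT'.2.2⟩, hxy'⟩
  obtain ⟨σ, hσ, hmap⟩ := Helper26.exists_map_list _ _ hnd hnd' rfl (by norm_num)
  simp only [List.map_cons, List.map_nil, List.cons.injEq, and_true] at hmap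
  obtain ⟨e1, e2, e3, e4, e5⟩ := hmap
  refine ⟨σ, hσ, e1, e2, e3, ?_⟩
  apply smul_octad_eq hσ hO hO' [p, q, r, x, y] hnd rfl
  · intro a ha
    simp only [List.mem_cons, List.not_mem_nil, or_false] at ha
    rcases ha with rfl | rfl | rfl | rfl | rfl
    exacts [hp, hq, hr, hx, hy]
  · intro a ha
    simp only [List.mem_cons, List.not_mem_nil, or_false] at ha
    rcases ha with rfl | rfl | rfl | rfl | rfl
    · rw [e1]; exact hp'
    · rw [e2]; exact hq'
    · rw [e3]; exact hr'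
    · rw [e4]; exact hx'
    · rw [e5]; exact hy'

/-- an octad is determined by a list of five of its points -/
theorem octad_eq_of_list {O o : Finset GolayPt} (hO : O ∈ octads) (ho : o ∈ octads)
    (F : List GolayPt) (hF : F.Nodup) (hlen : F.length = 5) (hFO : ∀ a ∈ F, a ∈ O)
    (hFo : ∀ a ∈ F, a ∈ o) : o = O := by
  classical
  apply Helper7.octad_eq_of_five hO ho F.toFinset
  · rw [List.toFinset_card_of_nodup hF, hlen]
  · intro a ha
    exact hFO a (List.mem_toFinset.1 ha)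
  · intro a ha
    exact hFo a (List.mem_toFinset.1 ha)

/-- three further points of an octad -/
theorem exists_three_more {U : Finset GolayPt} (hU : U ∈ octads) (T : Finset GolayPt)
    (hT : T.card ≤ 5) :
    ∃ x y z, x ∈ U ∧ y ∈ U ∧ z ∈ U ∧ x ∉ T ∧ y ∉ T ∧ z ∉ T ∧ x ≠ y ∧ x ≠ z ∧ y ≠ z := by
  classical
  have h3 : 3 ≤ (U \ T).card := by
    have := Finset.le_card_sdiff T U
    rw [hU.2] at this
    omega
  obtain ⟨t, ht, ht3⟩ := Finset.exists_subset_card_eq h3
  obtain ⟨x, y, z, hxy, hxz, hyz, rfl⟩ := Finset.card_eq_three.1 ht3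
  have hx := ht (by simp : x ∈ ({x, y, z} : Finset GolayPt))
  have hy := ht (by simp : y ∈ ({x, y, z} : Finset GolayPt))
  have hz := ht (by simp : z ∈ ({x, y, z} : Finset GolayPt))
  rw [Finset.mem_sdiff] at hx hy hz
  exact ⟨x, y, z, hx.1, hy.1, hz.1, hx.2, hy.2, hz.2, hxy, hxz, hyz⟩

/-- transitivity on the octads through two of the points and off the third -/
theorem exists_fix3_map_octad2 (hpq : p ≠ q) {O O' : Finset GolayPt} (hO : O ∈ octads)
    (hO' : O' ∈ octads) (hp : p ∈ O) (hq : q ∈ O) (hr : r ∉ O) (hp' : p ∈ O') (hq' : q ∈ O')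
    (hr' : r ∉ O') : ∃ σ ∈ M24, σ p = p ∧ σ q = q ∧ σ r = r ∧ σ • O = O' := by
  classical
  have key : ∀ {U : Finset GolayPt}, U ∈ octads → p ∈ U → q ∈ U → r ∉ U →
      ∃ x y z, x ∈ U ∧ y ∈ U ∧ z ∈ U ∧ [p, q, x, y, z].Nodup ∧ r ∉ [p, q, x, y, z] ∧
        ¬ ∃ o ∈ octads, (∀ a ∈ [p, q, x, y, z], a ∈ o) ∧ r ∈ o := by
    intro U hU hpU hqU hrU
    obtain ⟨x, y, z, hx, hy, hz, hxT, hyT, hzT, hxy, hxz, hyz⟩ := exists_three_more hU {p, q}
      (Finset.card_le_two.trans (by norm_num))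
    simp only [Finset.mem_insert, Finset.mem_singleton, not_or] at hxT hyT hzT
    have hnd : [p, q, x, y, z].Nodup := by
      simp only [List.nodup_cons, List.mem_cons, List.not_mem_nil, or_false, not_or,
        List.nodup_nil, and_true, not_false_eq_true]
      exact ⟨⟨hpq, Ne.symm hxT.1, Ne.symm hyT.1, Ne.symm hzT.1⟩,
        ⟨Ne.symm hxT.2, Ne.symm hyT.2, Ne.symm hzT.2⟩, ⟨hxy, hxz⟩, hyz⟩
    have hsub : ∀ a ∈ [p, q, x, y, z], a ∈ U := by
      intro a ha
      simp only [List.mem_cons, List.not_mem_nil, or_false] at ha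
      rcases ha with rfl | rfl | rfl | rfl | rfl
      exacts [hpU, hqU, hx, hy, hz]
    refine ⟨x, y, z, hx, hy, hz, hnd, fun h => hrU (hsub r h), ?_⟩
    rintro ⟨o, ho, hFo, hro⟩
    rw [octad_eq_of_list hU ho _ hnd rfl hsub hFo] at hro
    exact hrU hro
  obtain ⟨x, y, z, hx, hy, hz, hnd, hrF, hno⟩ := key hO hp hq hr
  obtain ⟨x', y', z', hx', hy', hz', hnd', hrF', hno'⟩ := key hO' hp' hq' hr'
  obtain ⟨σ, hσ, hmap, hσr⟩ := Helper26.exists_map_six _ _ hnd hnd' rfl rfl r r hrF hrF'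
    ⟨fun h => absurd h hno, fun h => absurd h hno'⟩
  simp only [List.map_cons, List.map_nil, List.cons.injEq, and_true] at hmap
  obtain ⟨e1, e2, e3, e4, e5⟩ := hmap
  refine ⟨σ, hσ, e1, e2, hσr, ?_⟩
  apply smul_octad_eq hσ hO hO' [p, q, x, y, z] hnd rfl
  · intro a ha
    simp only [List.mem_cons, List.not_mem_nil, or_false] at ha
    rcases ha with rfl | rfl | rfl | rfl | rfl
    exacts [hp, hq, hx, hy, hz]
  · intro a ha
    simp only [List.mem_cons, List.not_mem_nil, or_false] at ha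
    rcases ha with rfl | rfl | rfl | rfl | rfl
    · rw [e1]; exact hp'
    · rw [e2]; exact hq'
    · rw [e3]; exact hx'
    · rw [e4]; exact hy'
    · rw [e5]; exact hz'

/-! ### the orbits of the monomial maps -/

theorem frel4_A {l l' : GolayPt} (hl : l ≠ pA ∧ l ≠ pB ∧ l ≠ pT)
    (hl' : l' ≠ pA ∧ l' ≠ pB ∧ l' ≠ pT) : FRel4 (xA l) (xA l') := by
  obtain ⟨σ, hσ, hA, hB, hT, hll⟩ := exists_fix3_map pA_ne_pB pT_facts.1 pT_facts.2.1 hl hl'
  have h := frel4_perm (xA_mem l) hσ hA hB hT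
  unfold xA at h ⊢
  rw [signedPerm_add, signedPerm_empty_single, signedPerm_empty_single, hA, hll] at h
  exact h

theorem frel4_B16 {O O' : Finset GolayPt} (hO : O ∈ octads) (hO' : O' ∈ octads) (hA : pA ∈ O)
    (hB : pB ∈ O) (hT : pT ∈ O) (hA' : pA ∈ O') (hB' : pB ∈ O') (hT' : pT ∈ O') :
    FRel4 (twoInd O) (twoInd O') := by
  obtain ⟨σ, hσ, hσA, hσB, hσT, hOO⟩ := exists_fix3_map_octad3 pA_ne_pB pT_facts.1 pT_facts.2.1
    hO hO' hA hB hT hA' hB' hT'
  have h := frel4_perm (twoInd_mem hO.1) hσ hσA hσB hσT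
  rw [signedPerm_empty_twoInd, hOO] at h
  exact h

theorem frel4_B8 {O O' : Finset GolayPt} (hO : O ∈ octads) (hO' : O' ∈ octads) (hA : pA ∈ O)
    (hB : pB ∈ O) (hT : pT ∉ O) (hA' : pA ∈ O') (hB' : pB ∈ O') (hT' : pT ∉ O') :
    FRel4 (twoInd O) (twoInd O') := by
  obtain ⟨σ, hσ, hσA, hσB, hσT, hOO⟩ := exists_fix3_map_octad2 pA_ne_pB
    hO hO' hA hB hT hA' hB' hT'
  have h := frel4_perm (twoInd_mem hO.1) hσ hσA hσB hσT
  rw [signedPerm_empty_twoInd, hOO] at h
  exact h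

theorem frel4_C8 {O O' : Finset GolayPt} (hO : O ∈ octads) (hO' : O' ∈ octads) (hA : pA ∈ O)
    (hB : pB ∉ O) (hT : pT ∈ O) (hA' : pA ∈ O') (hB' : pB ∉ O') (hT' : pT ∈ O') :
    FRel4 (xC O) (xC O') := by
  obtain ⟨σ, hσ, hσA, hσT, hσB, hOO⟩ := exists_fix3_map_octad2 pT_facts.1
    hO hO' hA hT hB hA' hT' hB'
  have h := frel4_perm (xC_mem hO.1) hσ hσA hσB hσT
  unfold xC at h ⊢
  rw [signedPerm_empty_signedPerm_one, signedPerm_empty_oddBase, hσA, hOO] at h
  exact h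

end Cfsg.Agent.Helper8
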