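import Mathlib
import Cfsg.Prelude.Def_SporadicCombinatorics
import Cfsg.Agent.Helper8.McL162a

/-!
Data for the stabiliser of three vectors: a monomial map of order three, a linking word, and the
lists of the vectors involved, with the checked evaluations.
-/

set_option autoImplicit false

namespace Cfsg.Agent.Helper8

open Cfsg Cfsg.Agent.Helper27

/-- a permutation of order three fixing the first six points -/
def wRho : List Letter := [.P [0, 1, 2, 3, 4, 5, 21, 12, 11, 18, 7, 13, 10, 8, 17, 22, 6, 23, 19, 9, 15, 16, 20, 14] [0, 1, 2, 3, 4, 5, 16, 10, 13, 19, 12, 8, 7, 11, 23, 20, 21, 14, 9, 18, 22, 6, 15, 17]]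

set_option maxRecDepth 100000 in
theorem wRho_ok : okW wRho = true := by decide +kernel

/-- a word fixing the three base vectors and linking the shapes -/
def wLink2 : List Letter := [.P [4, 19, 7, 23, 5, 8, 11, 3, 10, 17, 16, 6, 2, 22, 21, 0, 9, 20, 18, 13, 1, 12, 15, 14] [15, 20, 12, 7, 0, 4, 11, 2, 5, 16, 8, 6, 21, 19, 23, 22, 10, 9, 18, 1, 17, 14, 13, 3],
  .S 3495006,
  .X,
  .P [0, 23, 6, 20, 8, 12, 4, 7, 19, 21, 11, 15, 9, 1, 16, 17, 10, 2, 5, 14, 18, 22, 13, 3] [0, 13, 17, 23, 6, 18, 2, 7, 4, 12, 16, 10, 5, 22, 19, 11, 14, 15, 20, 8, 3, 9, 21, 1],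
  .S 7259788,
  .X,
  .P [12, 6, 17, 5, 4, 20, 0, 11, 23, 10, 21, 3, 13, 8, 1, 18, 19, 16, 15, 2, 9, 7, 22, 14] [6, 14, 19, 11, 4, 3, 1, 21, 13, 20, 9, 7, 0, 12, 23, 18, 17, 2, 15, 16, 5, 10, 22, 8],
  .S 817525,
  .X,
  .P [7, 23, 5, 9, 18, 17, 13, 21, 10, 3, 4, 8, 6, 0, 1, 16, 11, 20, 22, 15, 2, 12, 14, 19] [13, 14, 20, 9, 10, 2, 12, 0, 11, 3, 8, 16, 21, 6, 22, 19, 15, 5, 4, 23, 17, 7, 18, 1],
  .S 4444255,
  .X,
  .P [18, 21, 0, 3, 9, 7, 17, 14, 13, 11, 22, 6, 5, 12, 4, 1, 20, 15, 10, 2, 16, 8, 23, 19] [2, 15, 19, 3, 14, 12, 11, 5, 21, 4, 18, 9, 13, 8, 7, 17, 20, 6, 0, 23, 16, 1, 10, 22],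
  .S 14330901,
  .X,
  .P [13, 8, 9, 12, 18, 6, 17, 2, 22, 10, 5, 3, 21, 23, 14, 19, 20, 11, 16, 7, 15, 0, 4, 1] [21, 23, 7, 11, 22, 10, 5, 19, 1, 2, 9, 17, 3, 0, 14, 20, 18, 6, 4, 15, 16, 12, 8, 13],
  .S 14526546]

set_option maxRecDepth 100000 in
theorem wLink2_ok : okW wLink2 = true := by decide +kernel

/-- the octads through the points 0, 3, 4, 5 -/
def octD1 : Finset GolayPt := setOf 5275709
/-- the second of them -/
def octD2 : Finset GolayPt := setOf 2162811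
/-- the third -/
def octE1 : Finset GolayPt := setOf 542009
/-- the fourth -/
def octE2 : Finset GolayPt := setOf 133817
/-- the fifth -/
def octE3 : Finset GolayPt := setOf 8663097
/-- the octads of the links -/
def octM1 : Finset GolayPt := setOf 45159
/-- the second -/
def octM2 : Finset GolayPt := setOf 3246601
/-- the third -/
def octM3 : Finset GolayPt := setOf 3719203
/-- the fourth -/
def octM4 : Finset GolayPt := setOf 8675909

def lE1 : List ℤ := [3, 1, 1, -1, -1, -1, 1, 1, -1, 1, -1, 1, 1, 1, -1, 1, 1, 1, 1, -1, 1, 1, 1, 1]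
def lE2 : List ℤ := [3, 1, 1, -1, -1, -1, 1, -1, 1, -1, 1, -1, 1, 1, 1, 1, 1, -1, 1, 1, 1, 1, 1, 1]
def lE3 : List ℤ := [3, 1, 1, -1, -1, -1, 1, 1, 1, 1, 1, 1, -1, -1, 1, 1, 1, 1, -1, 1, 1, 1, 1, -1]
def lA3 : List ℤ := [4, 0, 0, 4, 0, 0, 0, 0, 0, 0, 0, 0, 0, 0, 0, 0, 0, 0, 0, 0, 0, 0, 0, 0]
def lA4 : List ℤ := [4, 0, 0, 0, 4, 0, 0, 0, 0, 0, 0, 0, 0, 0, 0, 0, 0, 0, 0, 0, 0, 0, 0, 0]
def lM1 : List ℤ := [2, 2, 2, 0, 0, 2, 2, 0, 0, 0, 0, 0, 2, 2, 0, 2, 0, 0, 0, 0, 0, 0, 0, 0]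
def lM2 : List ℤ := [3, 1, 1, -1, 1, 1, 1, 1, 1, -1, 1, -1, 1, 1, 1, -1, -1, 1, 1, 1, -1, -1, 1, 1]
def lM3 : List ℤ := [2, 2, 0, 0, 0, 2, 0, 0, 0, 0, 0, 0, 0, 0, 2, 2, 0, 0, 0, 2, 2, 2, 0, 0]
def lM4 : List ℤ := [3, 1, -1, 1, 1, 1, -1, 1, 1, -1, 1, 1, 1, -1, -1, 1, 1, 1, -1, 1, 1, 1, 1, -1]

set_option maxRecDepth 100000 in
theorem wRho_U : runW wRho lU = lU := by decide +kernel
set_option maxRecDepth 100000 in
theorem wRho_W : runW wRho lW = lW := by decide +kernel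
set_option maxRecDepth 100000 in
theorem wRho_X : runW wRho lA2 = lA2 := by decide +kernel
set_option maxRecDepth 100000 in
theorem wRho_E12 : runW wRho lE1 = lE2 := by decide +kernel
set_option maxRecDepth 100000 in
theorem wRho_E23 : runW wRho lE2 = lE3 := by decide +kernel

set_option maxRecDepth 100000 in
theorem wLink2_U : runW wLink2 lU = lU := by decide +kernel
set_option maxRecDepth 100000 in
theorem wLink2_W : runW wLink2 lW = lW := by decide +kernel
set_option maxRecDepth 100000 in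
theorem wLink2_X : runW wLink2 lA2 = lA2 := by decide +kernel
set_option maxRecDepth 100000 in
theorem wLink2_AB : runW wLink2 lA4 = lM1 := by decide +kernel
set_option maxRecDepth 100000 in
theorem wLink2_AC : runW wLink2 lA3 = lM2 := by decide +kernel
set_option maxRecDepth 100000 in
theorem wLink2_BC : runW wLink2 lM3 = lM4 := by decide +kernel

set_option maxRecDepth 100000 in
theorem listOf_E1 : listOf (xC octE1) = lE1 := by decide +kernel
set_option maxRecDepth 100000 in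
theorem listOf_E2 : listOf (xC octE2) = lE2 := by decide +kernel
set_option maxRecDepth 100000 in
theorem listOf_E3 : listOf (xC octE3) = lE3 := by decide +kernel
set_option maxRecDepth 100000 in
theorem listOf_xA3 : listOf (xA (gPt 3)) = lA3 := by decide +kernel
set_option maxRecDepth 100000 in
theorem listOf_xA4 : listOf (xA (gPt 4)) = lA4 := by decide +kernel
set_option maxRecDepth 100000 in
theorem listOf_M1 : listOf (twoInd octM1) = lM1 := by decide +kernel
set_option maxRecDepth 100000 in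
theorem listOf_M2 : listOf (xC octM2) = lM2 := by decide +kernel
set_option maxRecDepth 100000 in
theorem listOf_M3 : listOf (twoInd octM3) = lM3 := by decide +kernel
set_option maxRecDepth 100000 in
theorem listOf_M4 : listOf (xC octM4) = lM4 := by decide +kernel

end Cfsg.Agent.Helper8
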