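import Mathlib
import Cfsg.Prelude.Def_SporadicCombinatorics
import Cfsg.Agent.Helper8.McL162b

/-!
The stabiliser of three vectors in the configuration of 275: the orbit of the octads through the
first point only, and the links between the shapes.
-/

set_option autoImplicit false

namespace Cfsg.Agent.Helper8

open Cfsg Cfsg.Agent.Helper27
open scoped Pointwise

/-- a valid word fixing the three base vectors relates the vectors of its input and output -/
theorem frel4_of_word (w : List Letter) (hw : okW w = true) (hU : runW w lU = lU)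
    (hW : runW w lW = lW) (hX : runW w lA2 = lA2) {y z : IVec} (hy : y ∈ leechLattice)
    {ly lz : List ℤ} (hly : listOf y = ly) (hlz : listOf z = lz) (h : runW w ly = lz) :
    FRel4 y z := by
  obtain ⟨g, hg⟩ := exists_co0_runW w hw
  refine ⟨hy, g, ?_, ?_, ?_, ?_⟩
  · apply Subtype.ext
    rw [hg v0L lU (eq_vecOf_of_listOf listOf_vA0), hU]
    exact (eq_vecOf_of_listOf listOf_vA0).symm
  · apply Subtype.ext
    rw [hg w0L lW (eq_vecOf_of_listOf listOf_wB0), hW]
    exact (eq_vecOf_of_listOf listOf_wB0).symm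
  · apply Subtype.ext
    rw [hg x0L lA2 (eq_vecOf_of_listOf listOf_xA2), hX]
    exact (eq_vecOf_of_listOf listOf_xA2).symm
  · rw [hg _ ly (eq_vecOf_of_listOf hly), h]
    exact (eq_vecOf_of_listOf hlz).symm

/-! ### the octads of the data -/

theorem octD1_mem : octD1 ∈ octads := by
  unfold octD1
  rw [setOf_mem_octads_iff (by norm_num)]
  decide +kernel

theorem octD2_mem : octD2 ∈ octads := by
  unfold octD2
  rw [setOf_mem_octads_iff (by norm_num)]
  decide +kernel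

theorem octE1_mem : octE1 ∈ octads := by
  unfold octE1
  rw [setOf_mem_octads_iff (by norm_num)]
  decide +kernel

theorem octE2_mem : octE2 ∈ octads := by
  unfold octE2
  rw [setOf_mem_octads_iff (by norm_num)]
  decide +kernel

theorem octE3_mem : octE3 ∈ octads := by
  unfold octE3
  rw [setOf_mem_octads_iff (by norm_num)]
  decide +kernel

theorem octM1_mem : octM1 ∈ octads := by
  unfold octM1
  rw [setOf_mem_octads_iff (by norm_num)]
  decide +kernel

theorem octM2_mem : octM2 ∈ octads := by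
  unfold octM2
  rw [setOf_mem_octads_iff (by norm_num)]
  decide +kernel

theorem octM3_mem : octM3 ∈ octads := by
  unfold octM3
  rw [setOf_mem_octads_iff (by norm_num)]
  decide +kernel

theorem octM4_mem : octM4 ∈ octads := by
  unfold octM4
  rw [setOf_mem_octads_iff (by norm_num)]
  decide +kernel

set_option maxRecDepth 100000 in
theorem octD_cover : ∀ e : GolayPt,
    e ∈ octD1 ∨ e ∈ octD2 ∨ e ∈ octE1 ∨ e ∈ octE2 ∨ e ∈ octE3 := by decide +kernel

set_option maxRecDepth 100000 in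
theorem octD_facts_aux : pT ∈ octD1 ∧ pB ∈ octD2 ∧
    [pA, gPt 3, gPt 4, gPt 5].toFinset ⊆ octD1 ∧ [pA, gPt 3, gPt 4, gPt 5].toFinset ⊆ octD2 ∧
    [pA, gPt 3, gPt 4, gPt 5].toFinset ⊆ octE1 ∧ [pA, gPt 3, gPt 4, gPt 5].toFinset ⊆ octE2 ∧
    [pA, gPt 3, gPt 4, gPt 5].toFinset ⊆ octE3 := by decide +kernel

theorem octD_facts : pT ∈ octD1 ∧ pB ∈ octD2 ∧
    (∀ a ∈ [pA, gPt 3, gPt 4, gPt 5], a ∈ octD1) ∧ (∀ a ∈ [pA, gPt 3, gPt 4, gPt 5], a ∈ octD2) ∧
    (∀ a ∈ [pA, gPt 3, gPt 4, gPt 5], a ∈ octE1) ∧ (∀ a ∈ [pA, gPt 3, gPt 4, gPt 5], a ∈ octE2) ∧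
    (∀ a ∈ [pA, gPt 3, gPt 4, gPt 5], a ∈ octE3) := by
  obtain ⟨f1, f2, g1, g2, g3, g4, g5⟩ := octD_facts_aux
  exact ⟨f1, f2, fun a ha => g1 (List.mem_toFinset.2 ha), fun a ha => g2 (List.mem_toFinset.2 ha),
    fun a ha => g3 (List.mem_toFinset.2 ha), fun a ha => g4 (List.mem_toFinset.2 ha),
    fun a ha => g5 (List.mem_toFinset.2 ha)⟩

set_option maxRecDepth 100000 in
theorem octE_facts : pA ∈ octE1 ∧ pB ∉ octE1 ∧ pT ∉ octE1 ∧ pA ∈ octE2 ∧ pB ∉ octE2 ∧ pT ∉ octE2 ∧
    pA ∈ octE3 ∧ pB ∉ octE3 ∧ pT ∉ octE3 := by decide +kernel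

set_option maxRecDepth 100000 in
theorem octM_facts : pA ∈ octM1 ∧ pB ∈ octM1 ∧ pT ∈ octM1 ∧ pA ∈ octM2 ∧ pB ∉ octM2 ∧ pT ∉ octM2 ∧
    pA ∈ octM3 ∧ pB ∈ octM3 ∧ pT ∉ octM3 ∧ pA ∈ octM4 ∧ pB ∉ octM4 ∧ pT ∈ octM4 := by
  decide +kernel

set_option maxRecDepth 100000 in
theorem pt_facts : [pA, gPt 3, gPt 4, gPt 5].Nodup ∧
    (gPt 3 ≠ pA ∧ gPt 3 ≠ pB ∧ gPt 3 ≠ pT) ∧ (gPt 4 ≠ pA ∧ gPt 4 ≠ pB ∧ gPt 4 ≠ pT) ∧
    Helper26.base5 = [pA, pB, pT, gPt 3, gPt 4] ∧ Helper7.pt 5 = gPt 5 ∧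
    gPt 5 ∉ Helper26.base5 ∧ ¬ ((5279 : ℕ).testBit (Helper7.idx (gPt 5)) = true) := by
  decide +kernel

/-- the octads through the points 0, 3, 4, 5 and off the points 1, 2 -/
theorem octad_0345 {O : Finset GolayPt} (hO : O ∈ octads)
    (h4 : ∀ a ∈ [pA, gPt 3, gPt 4, gPt 5], a ∈ O) (hB : pB ∉ O) (hT : pT ∉ O) :
    O = octE1 ∨ O = octE2 ∨ O = octE3 := by
  classical
  obtain ⟨hnd, -, -, -, -, -, -⟩ := pt_facts
  obtain ⟨f1, f2, g1, g2, g3, g4, g5⟩ := octD_facts
  -- a fifth point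
  have hcard : ([pA, gPt 3, gPt 4, gPt 5].toFinset).card < O.card := by
    rw [List.toFinset_card_of_nodup hnd, hO.2]
    norm_num
  obtain ⟨e, heO, he⟩ := Finset.exists_mem_notMem_of_card_lt_card hcard
  rw [List.mem_toFinset] at he
  have hnd5 : (e :: [pA, gPt 3, gPt 4, gPt 5]).Nodup := List.nodup_cons.2 ⟨he, hnd⟩
  have key : ∀ D ∈ octads, (∀ a ∈ [pA, gPt 3, gPt 4, gPt 5], a ∈ D) → e ∈ D → O = D := by
    intro D hD hD4 heD
    apply octad_eq_of_list hD hO _ hnd5 rfl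
    · intro a ha
      rcases List.mem_cons.1 ha with rfl | ha
      · exact heD
      · exact hD4 a ha
    · intro a ha
      rcases List.mem_cons.1 ha with rfl | ha
      · exact heO
      · exact h4 a ha
  rcases octD_cover e with h | h | h | h | h
  · exact absurd ((key _ octD1_mem g1 h) ▸ f1) hT
  · exact absurd ((key _ octD2_mem g2 h) ▸ f2) hB
  · exact Or.inl (key _ octE1_mem g3 h)
  · exact Or.inr (Or.inl (key _ octE2_mem g4 h))
  · exact Or.inr (Or.inr (key _ octE3_mem g5 h))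

theorem frel4_E : FRel4 (xC octE2) (xC octE1) ∧ FRel4 (xC octE3) (xC octE1) := by
  have h12 : FRel4 (xC octE1) (xC octE2) :=
    frel4_of_word wRho wRho_ok wRho_U wRho_W wRho_X (xC_mem octE1_mem.1) listOf_E1 listOf_E2
      wRho_E12
  have h23 : FRel4 (xC octE2) (xC octE3) :=
    frel4_of_word wRho wRho_ok wRho_U wRho_W wRho_X (xC_mem octE2_mem.1) listOf_E2 listOf_E3
      wRho_E23
  exact ⟨h12.symm, (h12.trans h23).symm⟩

/-- the octads through the first point and off the other two form one orbit -/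
theorem frel4_C16_base {O : Finset GolayPt} (hO : O ∈ octads) (hA : pA ∈ O) (hB : pB ∉ O)
    (hT : pT ∉ O) : FRel4 (xC O) (xC octE1) := by
  classical
  obtain ⟨-, -, -, hbase, h5, h5b, h5t⟩ := pt_facts
  -- two more points of the octad
  obtain ⟨a, b, ha, hb, haT, hbT, hab⟩ := exists_two_more hO {pA}
    (by rw [Finset.card_singleton]; norm_num)
  rw [Finset.mem_singleton] at haT hbT
  have haB : a ≠ pB := fun h => hB (h ▸ ha)
  have hbB : b ≠ pB := fun h => hB (h ▸ hb)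
  have haT' : a ≠ pT := fun h => hT (h ▸ ha)
  have hbT' : b ≠ pT := fun h => hT (h ▸ hb)
  have hnd : [pA, pB, pT, a, b].Nodup := by
    simp only [List.nodup_cons, List.mem_cons, List.not_mem_nil, or_false, not_or,
      List.nodup_nil, and_true, not_false_eq_true]
    exact ⟨⟨pA_ne_pB, pT_facts.1, Ne.symm haT, Ne.symm hbT⟩,
      ⟨pT_facts.2.1, Ne.symm haB, Ne.symm hbB⟩, ⟨Ne.symm haT', Ne.symm hbT'⟩, hab⟩
  -- the octad through the five points
  obtain ⟨Q, hQ, hFQ⟩ := Helper26.exists_octad_through [pA, pB, pT, a, b].toFinset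
    (by rw [List.toFinset_card_of_nodup hnd]; rfl)
  have hFQ' : ∀ x ∈ [pA, pB, pT, a, b], x ∈ Q := fun x hx => hFQ (List.mem_toFinset.2 hx)
  have hQO : O ≠ Q := by
    intro h
    exact hB (h ▸ hFQ' pB (by simp))
  have hle := octad_inter_le hO hQ hQO
  have hlt : (O ∩ Q).card < O.card := by
    rw [hO.2]
    omega
  obtain ⟨c, hcO, hcQ⟩ := Finset.exists_mem_notMem_of_card_lt_card hlt
  have hcQ' : c ∉ Q := fun h => hcQ (Finset.mem_inter.2 ⟨hcO, h⟩)
  have hcF : c ∉ [pA, pB, pT, a, b] := fun h => hcQ' (hFQ' c h)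
  obtain ⟨σ, hσ, hmap, hσc⟩ := Helper26.exists_map_six [pA, pB, pT, a, b] Helper26.base5 hnd
    Helper26.base5_nodup rfl rfl c (gPt 5) hcF h5b (by
      constructor
      · rintro ⟨o, ho, hFo, hco⟩
        rw [octad_eq_of_list hQ ho _ hnd rfl hFQ' hFo] at hco
        exact absurd hco hcQ'
      · intro h
        exact absurd ((Helper26.base5_special_iff (gPt 5)).1 h) h5t)
  rw [hbase] at hmap
  simp only [List.map_cons, List.map_nil, List.cons.injEq, and_true] at hmap
  obtain ⟨e1, e2, e3, e4, e5⟩ := hmap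
  have hσO : σ • O ∈ octads := Helper7.smul_mem_octads hσ hO
  have hin : ∀ {x : GolayPt}, x ∈ O → σ x ∈ σ • O := fun hx => Finset.smul_mem_smul_finset hx
  have hout : ∀ {x : GolayPt}, x ∉ O → σ x ∉ σ • O := by
    intro x hx h
    rw [mem_smul_iff_symm] at h
    have : σ.symm (σ x) = x := σ.symm_apply_apply x
    rw [this] at h
    exact hx h
  have h4 : ∀ x ∈ [pA, gPt 3, gPt 4, gPt 5], x ∈ σ • O := by
    intro x hx
    simp only [List.mem_cons, List.not_mem_nil, or_false] at hx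
    rcases hx with rfl | rfl | rfl | rfl
    · have := hin hA
      rwa [e1] at this
    · have := hin ha
      rwa [e4] at this
    · have := hin hb
      rwa [e5] at this
    · have := hin hcO
      rwa [hσc] at this
  have hB' : pB ∉ σ • O := by
    have := hout hB
    rwa [e2] at this
  have hT' : pT ∉ σ • O := by
    have := hout hT
    rwa [e3] at this
  have hrel := frel4_perm (xC_mem hO.1) hσ e1 e2 e3
  unfold xC at hrel
  rw [signedPerm_empty_signedPerm_one, signedPerm_empty_oddBase, e1] at hrel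
  change FRel4 (xC O) (xC (σ • O)) at hrel
  rcases octad_0345 hσO h4 hB' hT' with h | h | h
  · rw [h] at hrel
    exact hrel
  · rw [h] at hrel
    exact hrel.trans frel4_E.1
  · rw [h] at hrel
    exact hrel.trans frel4_E.2

theorem frel4_C16 {O O' : Finset GolayPt} (hO : O ∈ octads) (hO' : O' ∈ octads) (hA : pA ∈ O)
    (hB : pB ∉ O) (hT : pT ∉ O) (hA' : pA ∈ O') (hB' : pB ∉ O') (hT' : pT ∉ O') :
    FRel4 (xC O) (xC O') :=
  (frel4_C16_base hO hA hB hT).trans (frel4_C16_base hO' hA' hB' hT').symm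

/-- the links between the shapes -/
theorem frel4_links : FRel4 (xA (gPt 4)) (twoInd octM1) ∧ FRel4 (xA (gPt 3)) (xC octM2) ∧
    FRel4 (twoInd octM3) (xC octM4) :=
  ⟨frel4_of_word wLink2 wLink2_ok wLink2_U wLink2_W wLink2_X (xA_mem _) listOf_xA4 listOf_M1
      wLink2_AB,
    frel4_of_word wLink2 wLink2_ok wLink2_U wLink2_W wLink2_X (xA_mem _) listOf_xA3 listOf_M2
      wLink2_AC,
    frel4_of_word wLink2 wLink2_ok wLink2_U wLink2_W wLink2_X (twoInd_mem octM3_mem.1) listOf_M3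
      listOf_M4 wLink2_BC⟩

end Cfsg.Agent.Helper8
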