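import Mathlib
import Cfsg.Prelude.Def_SporadicCombinatorics
import Cfsg.Agent.Helper8.McL162c
import Cfsg.Agent.Helper26.OctadMeet

/-!
The stabiliser of three vectors in the configuration of 275: the members of the configuration, their
inner products with the third vector, the two orbits, and the count of the smaller one.
-/

set_option autoImplicit false

namespace Cfsg.Agent.Helper8

open Cfsg Cfsg.Agent.Helper27
open scoped Pointwise

/-! ### inner products with the third vector -/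

theorem dotInt_xA (j : GolayPt) (w : IVec) : dotInt (xA j) w = 4 * w pA + 4 * w j := by
  unfold xA
  rw [dotInt_add_left, Helper26.dotInt_single, Helper26.dotInt_single]

theorem xA_apply_of_ne {l k : GolayPt} (hA : k ≠ pA) (hl : k ≠ l) : xA l k = 0 := by
  unfold xA
  rw [Pi.add_apply, Pi.single_eq_of_ne hA, Pi.single_eq_of_ne hl, add_zero]

theorem xA_apply_pA {l : GolayPt} (hl : l ≠ pA) : xA l pA = 4 := by
  unfold xA
  rw [Pi.add_apply, Pi.single_eq_same, Pi.single_eq_of_ne (Ne.symm hl), add_zero]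

theorem xA_apply_self {l : GolayPt} (hl : l ≠ pA) : xA l l = 4 := by
  unfold xA
  rw [Pi.add_apply, Pi.single_eq_same, Pi.single_eq_of_ne hl, zero_add]

theorem xC_apply_pA {O : Finset GolayPt} (hA : pA ∈ O) : xC O pA = 3 := by
  unfold xC
  rw [signedPerm_one_apply, if_pos hA]
  unfold oddBase
  rw [if_pos rfl]
  norm_num

theorem xC_apply_mem {O : Finset GolayPt} {k : GolayPt} (hk : k ≠ pA) (hO : k ∈ O) :
    xC O k = -1 := by
  unfold xC
  rw [signedPerm_one_apply, if_pos hO]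
  unfold oddBase
  rw [if_neg hk]

theorem xC_apply_notMem {O : Finset GolayPt} {k : GolayPt} (hk : k ≠ pA) (hO : k ∉ O) :
    xC O k = 1 := by
  unfold xC
  rw [signedPerm_one_apply, if_neg hO]
  unfold oddBase
  rw [if_neg hk]

/-! ### the members of the configuration -/

/-- the members of the standard configuration, by shape -/
theorem std_classify {y : IVec} (hy : y ∈ leechLattice) (hn : sqNorm y = 32)
    (h1 : dotInt vA0 y = 16) (h2 : dotInt wB0 y = 8) :
    (∃ l, (l ≠ pA ∧ l ≠ pB) ∧ y = xA l) ∨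
    (∃ O ∈ octads, pA ∈ O ∧ pB ∈ O ∧ y = twoInd O) ∨
    (∃ O ∈ octads, pA ∈ O ∧ pB ∉ O ∧ y = xC O) := by
  have h1' : y pA + y pB = 4 := by
    rw [dotInt_vA0] at h1
    omega
  have h2' : (∑ i, y i) - 4 * y pB = 8 := by
    unfold wB0 at h2
    rw [dotInt_oddBase] at h2
    exact h2
  rcases min_cases hy hn with hA | hB | hC
  · obtain ⟨i, j, s, t, hij, hs, ht, rfl⟩ := hA
    obtain ⟨l, hl, hxl⟩ := classifyA hij hs ht h1' h2'
    exact Or.inl ⟨l, hl, hxl⟩
  · obtain ⟨O, hO, hO2, hO0⟩ := hB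
    obtain ⟨hA, hB, hy⟩ := classifyB hO hO2 hO0 h1' h2'
    exact Or.inr (Or.inl ⟨O, hO, hA, hB, hy⟩)
  · obtain ⟨k, C, hC, rfl⟩ := hC
    obtain ⟨hO, hA, hB, hxC⟩ := classifyC hC h1' h2'
    exact Or.inr (Or.inr ⟨C, hO, hA, hB, hxC⟩)

/-- the two orbits of the stabiliser of the three base vectors on the configuration -/
theorem std_orbits {y : IVec} (hy : y ∈ leechLattice) (hn : sqNorm y = 32)
    (h1 : dotInt vA0 y = 16) (h2 : dotInt wB0 y = 8) (hne : y ≠ xA pT) :
    (dotInt (xA pT) y = 16 ∧ FRel4 (xA (gPt 3)) y) ∨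
    (dotInt (xA pT) y = 8 ∧ FRel4 (twoInd octM3) y) := by
  obtain ⟨-, p3, p4, -, -, -, -⟩ := pt_facts
  obtain ⟨m1, m2, m3, m4, m5, m6, m7, m8, m9, m10, m11, m12⟩ := octM_facts
  obtain ⟨l1, l2, l3⟩ := frel4_links
  rcases std_classify hy hn h1 h2 with ⟨l, hl, rfl⟩ | ⟨O, hO, hA, hB, rfl⟩ | ⟨O, hO, hA, hB, rfl⟩
  · have hlT : l ≠ pT := by
      rintro rfl
      exact hne rfl
    left
    refine ⟨?_, frel4_A p3 ⟨hl.1, hl.2, hlT⟩⟩
    rw [dotInt_xA, xA_apply_pA hl.1, xA_apply_of_ne pT_facts.2.2.1 (Ne.symm hlT)]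
    norm_num
  · by_cases hT : pT ∈ O
    · left
      refine ⟨?_, ((frel4_A p3 p4).trans l1).trans (frel4_B16 octM1_mem hO m1 m2 m3 hA hB hT)⟩
      rw [dotInt_xA]
      unfold twoInd
      rw [if_pos hA, if_pos hT]
      norm_num
    · right
      refine ⟨?_, frel4_B8 octM3_mem hO m7 m8 m9 hA hB hT⟩
      rw [dotInt_xA]
      unfold twoInd
      rw [if_pos hA, if_neg hT]
      norm_num
  · by_cases hT : pT ∈ O
    · right
      refine ⟨?_, l3.trans (frel4_C8 octM4_mem hO m10 m11 m12 hA hB hT)⟩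
      rw [dotInt_xA, xC_apply_pA hA, xC_apply_mem pT_facts.2.2.1 hT]
      norm_num
    · left
      refine ⟨?_, l2.trans (frel4_C16 octM2_mem hO m4 m5 m6 hA hB hT)⟩
      rw [dotInt_xA, xC_apply_pA hA, xC_apply_notMem pT_facts.2.2.1 hT]
      norm_num

end Cfsg.Agent.Helper8
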