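import Mathlib
import Cfsg.Prelude.Def_SporadicCombinatorics
import Cfsg.Agent.Helper8.McL162d

/-!
The count of the members of the configuration of 275 having the smaller inner product with the third
vector: 56 + 56 = 112.
-/

set_option autoImplicit false

namespace Cfsg.Agent.Helper8

open Cfsg Cfsg.Agent.Helper27
open scoped Pointwise

/-! ### octads through two points and off a third -/

theorem ncard_octads_two_not {p q r : GolayPt} (hpq : p ≠ q) (hpr : p ≠ r) (hqr : q ≠ r) :
    {O : Finset GolayPt | O ∈ octads ∧ p ∈ O ∧ q ∈ O ∧ r ∉ O}.ncard = 56 := by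
  classical
  have h2 : ({p, q} : Finset GolayPt).card = 2 := Finset.card_pair hpq
  have h3 : ({p, q, r} : Finset GolayPt).card = 3 := by
    rw [Finset.card_insert_of_notMem, Finset.card_pair hqr]
    simp only [Finset.mem_insert, Finset.mem_singleton, not_or]
    exact ⟨hpq, hpr⟩
  have c2 := Helper26.card_octads_through_two octads_steiner h2
  have c3 : {o' : Finset GolayPt | o' ∈ octads ∧ ({p, q, r} : Finset GolayPt) ⊆ o'}.ncard = 21 := by
    have h := Helper26.card_blocks_through octads_steiner ({p, q, r} : Finset GolayPt)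
      (by rw [h3]; norm_num)
    rw [Helper26.card_golayPt, h3] at h
    have e1 : Nat.choose (8 - 3) (5 - 3) = 10 := by decide
    have e2 : Nat.choose (24 - 3) (5 - 3) = 210 := by decide
    rw [e1, e2] at h
    omega
  have hsub : {o' : Finset GolayPt | o' ∈ octads ∧ ({p, q, r} : Finset GolayPt) ⊆ o'} ⊆
      {o' : Finset GolayPt | o' ∈ octads ∧ ({p, q} : Finset GolayPt) ⊆ o'} := by
    rintro o ⟨ho, hs⟩
    refine ⟨ho, fun a ha => hs ?_⟩
    simp only [Finset.mem_insert, Finset.mem_singleton] at ha ⊢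
    rcases ha with rfl | rfl
    · exact Or.inl rfl
    · exact Or.inr (Or.inl rfl)
  have hdiff : {O : Finset GolayPt | O ∈ octads ∧ p ∈ O ∧ q ∈ O ∧ r ∉ O} =
      {o' : Finset GolayPt | o' ∈ octads ∧ ({p, q} : Finset GolayPt) ⊆ o'} \
        {o' : Finset GolayPt | o' ∈ octads ∧ ({p, q, r} : Finset GolayPt) ⊆ o'} := by
    ext O
    simp only [Set.mem_ofPred_eq, Set.mem_sdiff, Finset.insert_subset_iff,
      Finset.singleton_subset_iff]
    tauto
  rw [hdiff, Set.ncard_sdiff hsub (Set.toFinite _), c2, c3]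

/-! ### sums and sums of squares of the shapes -/

theorem sum_twoInd (O : Finset GolayPt) : ∑ i, twoInd O i = 2 * (O.card : ℤ) := by
  classical
  unfold twoInd
  rw [Finset.sum_ite_mem Finset.univ O (fun _ => (2 : ℤ)), Finset.univ_inter, Finset.sum_const,
    nsmul_eq_mul]
  ring

theorem sqNorm_twoInd (O : Finset GolayPt) : sqNorm (twoInd O) = 4 * (O.card : ℤ) := by
  classical
  unfold sqNorm twoInd
  have h : ∀ i : GolayPt, (if i ∈ O then (2 : ℤ) else 0) ^ 2 = if i ∈ O then 4 else 0 := by
    intro i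
    split_ifs <;> norm_num
  simp only [h]
  rw [Finset.sum_ite_mem Finset.univ O (fun _ => (4 : ℤ)), Finset.univ_inter, Finset.sum_const,
    nsmul_eq_mul]
  ring

theorem sqNorm_oddBase (k : GolayPt) : sqNorm (oddBase k) = 32 := by
  classical
  unfold sqNorm oddBase
  have h : ∀ i : GolayPt, (if i = k then (-3 : ℤ) else 1) ^ 2 = 1 + if i = k then 8 else 0 := by
    intro i
    split_ifs <;> norm_num
  simp only [h]
  rw [Finset.sum_add_distrib, Finset.sum_ite_eq' Finset.univ k, if_pos (Finset.mem_univ k),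
    Finset.sum_const, Finset.card_univ, Helper26.card_golayPt]
  norm_num

/-- the octads with a member of shape B in the smaller orbit -/
def famB8 : Set (Finset GolayPt) := {O | O ∈ octads ∧ pA ∈ O ∧ pB ∈ O ∧ pT ∉ O}

/-- the octads with a member of shape C in the smaller orbit -/
def famC8 : Set (Finset GolayPt) := {O | O ∈ octads ∧ pA ∈ O ∧ pT ∈ O ∧ pB ∉ O}

theorem twoInd_injective : Function.Injective twoInd := by
  intro O O' h
  ext i
  have := congrFun h i
  unfold twoInd at this
  by_cases h1 : i ∈ O <;> by_cases h2 : i ∈ O'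
  · exact ⟨fun _ => h2, fun _ => h1⟩
  · rw [if_pos h1, if_neg h2] at this
    norm_num at this
  · rw [if_neg h1, if_pos h2] at this
    norm_num at this
  · exact ⟨fun h' => absurd h' h1, fun h' => absurd h' h2⟩

theorem xC_injective : Function.Injective xC := by
  intro O O' h
  ext i
  have := congrFun h i
  unfold xC at this
  rw [signedPerm_one_apply, signedPerm_one_apply] at this
  have hne : oddBase pA i ≠ 0 := by
    unfold oddBase
    split_ifs <;> norm_num
  by_cases h1 : i ∈ O <;> by_cases h2 : i ∈ O'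
  · exact ⟨fun _ => h2, fun _ => h1⟩
  · rw [if_pos h1, if_neg h2] at this
    exfalso
    apply hne
    omega
  · rw [if_neg h1, if_pos h2] at this
    exfalso
    apply hne
    omega
  · exact ⟨fun h' => absurd h' h1, fun h' => absurd h' h2⟩

/-- the smaller orbit -/
def orb8 : Set IVec := {y | y ∈ leechLattice ∧ sqNorm y = 32 ∧ dotInt vA0 y = 16 ∧
  dotInt wB0 y = 8 ∧ dotInt (xA pT) y = 8}

theorem orb8_eq : orb8 = twoInd '' famB8 ∪ xC '' famC8 := by
  ext y
  constructor
  · rintro ⟨hy, hn, h1, h2, h3⟩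
    rcases std_classify hy hn h1 h2 with ⟨l, hl, rfl⟩ | ⟨O, hO, hA, hB, rfl⟩ | ⟨O, hO, hA, hB, rfl⟩
    · exfalso
      rw [dotInt_xA, xA_apply_pA hl.1] at h3
      by_cases hlT : l = pT
      · rw [hlT, xA_apply_self pT_facts.2.2.1] at h3
        omega
      · rw [xA_apply_of_ne pT_facts.2.2.1 (Ne.symm hlT)] at h3
        omega
    · left
      refine ⟨O, ⟨hO, hA, hB, ?_⟩, rfl⟩
      intro hT
      rw [dotInt_xA] at h3
      unfold twoInd at h3
      rw [if_pos hA, if_pos hT] at h3
      omega
    · right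
      refine ⟨O, ⟨hO, hA, ?_, hB⟩, rfl⟩
      by_contra hT
      rw [dotInt_xA, xC_apply_pA hA, xC_apply_notMem pT_facts.2.2.1 hT] at h3
      omega
  · rintro (⟨O, ⟨hO, hA, hB, hT⟩, rfl⟩ | ⟨O, ⟨hO, hA, hT, hB⟩, rfl⟩)
    · refine ⟨twoInd_mem hO.1, ?_, ?_, ?_, ?_⟩
      · rw [sqNorm_twoInd, hO.2]
        norm_num
      · rw [dotInt_vA0]
        unfold twoInd
        rw [if_pos hA, if_pos hB]
        norm_num
      · unfold wB0
        rw [dotInt_oddBase, sum_twoInd, hO.2]
        unfold twoInd
        rw [if_pos hB]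
        norm_num
      · rw [dotInt_xA]
        unfold twoInd
        rw [if_pos hA, if_neg hT]
        norm_num
    · refine ⟨xC_mem hO.1, ?_, ?_, ?_, ?_⟩
      · unfold xC
        rw [sqNorm_signedPerm, sqNorm_oddBase]
      · rw [dotInt_vA0, xC_apply_pA hA, xC_apply_notMem (Ne.symm pA_ne_pB) hB]
        norm_num
      · unfold wB0
        rw [dotInt_oddBase, xC_apply_notMem (Ne.symm pA_ne_pB) hB]
        unfold xC
        rw [sum_signedPerm_oddBase, if_pos hA, hO.2]
        norm_num
      · rw [dotInt_xA, xC_apply_pA hA, xC_apply_mem pT_facts.2.2.1 hT]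
        norm_num

theorem ncard_orb8 : orb8.ncard = 112 := by
  have hB : famB8.ncard = 56 := ncard_octads_two_not pA_ne_pB pT_facts.1 pT_facts.2.1
  have hC : famC8.ncard = 56 := ncard_octads_two_not pT_facts.1 pA_ne_pB pT_facts.2.2.2
  rw [orb8_eq, Set.ncard_union_eq ?_ (Set.toFinite _) (Set.toFinite _),
    Set.ncard_image_of_injective _ twoInd_injective, Set.ncard_image_of_injective _ xC_injective,
    hB, hC]
  rw [Set.disjoint_left]
  rintro y ⟨O, ⟨-, hA, -, -⟩, rfl⟩ ⟨O', ⟨-, hA', -, -⟩, h⟩
  have := congrFun h pA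
  rw [xC_apply_pA hA'] at this
  unfold twoInd at this
  rw [if_pos hA] at this
  omega

end Cfsg.Agent.Helper8
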