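import Mathlib
import Cfsg.Prelude.Def_SporadicCombinatorics
import Cfsg.Agent.Helper8.McL162e

/-!
The stabiliser of three vectors in the configuration of 275: the statement for the standard triple
and its transport to an arbitrary triple.
-/

set_option autoImplicit false

namespace Cfsg.Agent.Helper8

open Cfsg Cfsg.Agent.Helper27
open scoped Pointwise

/-- the configuration attached to a pair -/
def cfg (u v : ↥leechLattice) : Set ↥leechLattice :=
  {x : ↥leechLattice | sqNorm (x : IVec) = 32 ∧ sqNorm ((u : IVec) - (x : IVec)) = 32 ∧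
    dotInt (v : IVec) (x : IVec) = 16}

/-- the statement on the orbits of the stabiliser of a triple -/
def Rank3 (u v x : ↥leechLattice) : Prop :=
  {y : ↥leechLattice | y ∈ cfg u v ∧ dotInt (x : IVec) (y : IVec) = 8}.ncard = 112 ∧
  {y : ↥leechLattice | y ∈ cfg u v ∧ y ≠ x ∧ dotInt (x : IVec) (y : IVec) = 16}.ncard = 162 ∧
  ∀ y ∈ cfg u v, ∀ y' ∈ cfg u v, y ≠ x → y' ≠ x →
    dotInt (x : IVec) (y : IVec) = dotInt (x : IVec) (y' : IVec) →
    ∃ g : ↥Co0, g • u = u ∧ g • v = v ∧ g • x = x ∧ g • y = y'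

/-! ### transport -/

theorem mem_cfg_smul (g : ↥Co0) (u v y : ↥leechLattice) : g • y ∈ cfg (g • u) (g • v) ↔ y ∈ cfg u v := by
  unfold cfg
  simp only [Set.mem_ofPred_eq]
  rw [co0_sqNorm, co0_dotInt, ← AddSubgroup.coe_sub, ← co0_smul_sub, co0_sqNorm,
    AddSubgroup.coe_sub]

theorem ncard_eq_of_smul (g : ↥Co0) (A B : Set ↥leechLattice) (h : ∀ y, g • y ∈ B ↔ y ∈ A) :
    A.ncard = B.ncard := by
  have hB : B = (fun y => g • y) '' A := by
    ext b
    constructor
    · intro hb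
      refine ⟨g⁻¹ • b, (h _).1 (by rw [smul_inv_smul]; exact hb), smul_inv_smul g b⟩
    · rintro ⟨a, ha, rfl⟩
      exact (h a).2 ha
  rw [hB, Set.ncard_image_of_injective _ (MulAction.injective g)]

theorem rank3_transport (g : ↥Co0) (u v x : ↥leechLattice) (h : Rank3 (g • u) (g • v) (g • x)) :
    Rank3 u v x := by
  obtain ⟨h1, h2, h3⟩ := h
  refine ⟨?_, ?_, ?_⟩
  · rw [← h1]
    apply ncard_eq_of_smul g
    intro y
    simp only [Set.mem_ofPred_eq]
    rw [mem_cfg_smul, co0_dotInt]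
  · rw [← h2]
    apply ncard_eq_of_smul g
    intro y
    simp only [Set.mem_ofPred_eq]
    rw [mem_cfg_smul, co0_dotInt, Ne, Ne, smul_left_cancel_iff]
  · intro y hy y' hy' hyx hyx' hd
    obtain ⟨k, k1, k2, k3, k4⟩ := h3 (g • y) ((mem_cfg_smul g u v y).2 hy) (g • y')
      ((mem_cfg_smul g u v y').2 hy') (fun h => hyx (smul_left_cancel g h))
      (fun h => hyx' (smul_left_cancel g h)) (by rw [co0_dotInt, co0_dotInt]; exact hd)
    refine ⟨g⁻¹ * k * g, ?_, ?_, ?_, ?_⟩
    · rw [mul_smul, mul_smul, k1, inv_smul_smul]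
    · rw [mul_smul, mul_smul, k2, inv_smul_smul]
    · rw [mul_smul, mul_smul, k3, inv_smul_smul]
    · rw [mul_smul, mul_smul, k4, inv_smul_smul]

/-! ### the standard triple -/

/-- the standard vector of sum of squares 48 -/
def u0L : ↥leechLattice := v0L + w0L

theorem sqNorm_u0L : sqNorm (u0L : IVec) = 48 := by
  show sqNorm (vA0 + wB0) = 48
  rw [sqNorm_add, sqNorm_vA0, sqNorm_wB0, dot_vA0_wB0]
  norm_num

theorem mem_cfg_std (y : ↥leechLattice) : y ∈ cfg u0L v0L ↔
    sqNorm (y : IVec) = 32 ∧ dotInt vA0 (y : IVec) = 16 ∧ dotInt wB0 (y : IVec) = 8 := by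
  unfold cfg
  simp only [Set.mem_ofPred_eq]
  have e1 : sqNorm ((u0L : IVec) - (y : IVec)) =
      48 + sqNorm (y : IVec) - 2 * (dotInt vA0 (y : IVec) + dotInt wB0 (y : IVec)) := by
    rw [sqNorm_sub, sqNorm_u0L]
    show 48 + sqNorm (y : IVec) - 2 * dotInt (vA0 + wB0) (y : IVec) = _
    rw [dotInt_add_left]
  rw [e1]
  show _ ∧ _ ∧ dotInt vA0 (y : IVec) = 16 ↔ _
  constructor
  · rintro ⟨a, b, c⟩
    exact ⟨a, c, by omega⟩
  · rintro ⟨a, b, c⟩
    exact ⟨a, by omega, b⟩

theorem x0L_mem_cfg : x0L ∈ cfg u0L v0L := by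
  rw [mem_cfg_std]
  have h1 := listOf_xA2
  refine ⟨?_, ?_, ?_⟩
  · show sqNorm (xA pT) = 32
    unfold xA
    rw [sqNorm_add, Helper26.sqNorm_single, Helper26.sqNorm_single, Helper26.dotInt_single,
      Pi.single_eq_of_ne pT_facts.1]
    norm_num
  · show dotInt vA0 (xA pT) = 16
    rw [dotInt_vA0, xA_apply_pA pT_facts.2.2.1, xA_apply_of_ne (Ne.symm pA_ne_pB) pT_facts.2.1]
    norm_num
  · show dotInt wB0 (xA pT) = 8
    unfold wB0
    rw [dotInt_oddBase, xA_apply_of_ne (Ne.symm pA_ne_pB) pT_facts.2.1]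
    unfold xA
    simp only [Pi.add_apply]
    rw [Finset.sum_add_distrib, sum_single, sum_single]
    norm_num

theorem rank3_std : Rank3 u0L v0L x0L := by
  have hcfg : (cfg u0L v0L).ncard = 275 :=
    (mcl_config u0L v0L sqNorm_u0L ⟨sqNorm_vA0, by
      show sqNorm ((vA0 + wB0) - vA0) = 32
      rw [add_sub_cancel_left]
      exact sqNorm_wB0⟩).1
  -- the smaller orbit
  have h8 : {y : ↥leechLattice | y ∈ cfg u0L v0L ∧ dotInt (x0L : IVec) (y : IVec) = 8}.ncard =
      112 := by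
    rw [← ncard_orb8]
    apply Set.ncard_congr (fun (y : ↥leechLattice) _ => (y : IVec))
    · rintro y ⟨hy, hd⟩
      rw [mem_cfg_std] at hy
      exact ⟨y.2, hy.1, hy.2.1, hy.2.2, hd⟩
    · intro a b _ _ hab
      exact Subtype.ext hab
    · rintro y ⟨hy, hn, h1, h2, h3⟩
      exact ⟨⟨y, hy⟩, ⟨(mem_cfg_std _).2 ⟨hn, h1, h2⟩, h3⟩, rfl⟩
  -- every other member has one of the two inner products
  have hcases : ∀ y ∈ cfg u0L v0L, y ≠ x0L →
      (dotInt (x0L : IVec) (y : IVec) = 16 ∧ FRel4 (xA (gPt 3)) (y : IVec)) ∨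
      (dotInt (x0L : IVec) (y : IVec) = 8 ∧ FRel4 (twoInd octM3) (y : IVec)) := by
    intro y hy hne
    rw [mem_cfg_std] at hy
    exact std_orbits y.2 hy.1 hy.2.1 hy.2.2 (fun h => hne (Subtype.ext h))
  refine ⟨h8, ?_, ?_⟩
  · -- the larger orbit by subtraction
    have hx8 : dotInt (x0L : IVec) (x0L : IVec) = 32 := by
      rw [dotInt_self]
      exact ((mem_cfg_std x0L).1 x0L_mem_cfg).1
    have hunion : cfg u0L v0L = {x0L} ∪
        ({y : ↥leechLattice | y ∈ cfg u0L v0L ∧ dotInt (x0L : IVec) (y : IVec) = 8} ∪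
          {y : ↥leechLattice | y ∈ cfg u0L v0L ∧ y ≠ x0L ∧
            dotInt (x0L : IVec) (y : IVec) = 16}) := by
      ext y
      simp only [Set.mem_union, Set.mem_singleton_iff, Set.mem_ofPred_eq]
      constructor
      · intro hy
        by_cases hne : y = x0L
        · exact Or.inl hne
        · rcases hcases y hy hne with h | h
          · exact Or.inr (Or.inr ⟨hy, hne, h.1⟩)
          · exact Or.inr (Or.inl ⟨hy, h.1⟩)
      · rintro (rfl | ⟨hy, -⟩ | ⟨hy, -, -⟩)
        · exact x0L_mem_cfg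
        · exact hy
        · exact hy
    have hd1 : Disjoint ({x0L} : Set ↥leechLattice)
        ({y : ↥leechLattice | y ∈ cfg u0L v0L ∧ dotInt (x0L : IVec) (y : IVec) = 8} ∪
          {y : ↥leechLattice | y ∈ cfg u0L v0L ∧ y ≠ x0L ∧
            dotInt (x0L : IVec) (y : IVec) = 16}) := by
      rw [Set.disjoint_left]
      intro y hy hy'
      rw [Set.mem_singleton_iff] at hy
      subst hy
      rcases hy' with ⟨-, h⟩ | ⟨-, h, -⟩
      · rw [hx8] at h
        omega
      · exact h rfl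
    have hd2 : Disjoint
        {y : ↥leechLattice | y ∈ cfg u0L v0L ∧ dotInt (x0L : IVec) (y : IVec) = 8}
        {y : ↥leechLattice | y ∈ cfg u0L v0L ∧ y ≠ x0L ∧
          dotInt (x0L : IVec) (y : IVec) = 16} := by
      rw [Set.disjoint_left]
      rintro y ⟨-, h⟩ ⟨-, -, h'⟩
      rw [h] at h'
      omega
    have hfin : (cfg u0L v0L).Finite := Set.finite_of_ncard_ne_zero (by rw [hcfg]; norm_num)
    have hf8 : {y : ↥leechLattice | y ∈ cfg u0L v0L ∧
        dotInt (x0L : IVec) (y : IVec) = 8}.Finite := hfin.subset (fun y hy => hy.1)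
    have hf16 : {y : ↥leechLattice | y ∈ cfg u0L v0L ∧ y ≠ x0L ∧
        dotInt (x0L : IVec) (y : IVec) = 16}.Finite := hfin.subset (fun y hy => hy.1)
    have := hcfg
    rw [hunion, Set.ncard_union_eq hd1 (Set.finite_singleton _) (hf8.union hf16),
      Set.ncard_union_eq hd2 hf8 hf16, h8, Set.ncard_singleton] at this
    omega
  · intro y hy y' hy' hne hne' hd
    have hrel : FRel4 (y : IVec) (y' : IVec) := by
      rcases hcases y hy hne with ⟨e, r⟩ | ⟨e, r⟩ <;> rcases hcases y' hy' hne' with ⟨e', r'⟩ | ⟨e', r'⟩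
      · exact r.symm.trans r'
      · rw [e, e'] at hd
        omega
      · rw [e, e'] at hd
        omega
      · exact r.symm.trans r'
    obtain ⟨hmem, g, g1, g2, g3, g4⟩ := hrel
    refine ⟨g, ?_, g1, g3, Subtype.ext g4⟩
    calc g • u0L = g • v0L + g • w0L := g.2.1 _ _
      _ = u0L := by rw [g1, g2]; rfl

/-- the statement for an arbitrary triple -/
theorem rank3_general (u v x : ↥leechLattice) (hu : sqNorm (u : IVec) = 48)
    (hv : sqNorm (v : IVec) = 32 ∧ sqNorm ((u : IVec) - (v : IVec)) = 32) (hx : x ∈ cfg u v) :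
    Rank3 u v x := by
  have hvS : (v : IVec) ∈ summands (u : IVec) := (mem_summands _ _).mpr ⟨v.2, hv.1, hv.2⟩
  have hduv : dotInt (u : IVec) (v : IVec) = 24 := dot_of_mem_summands hu hvS
  have hw32 : sqNorm ((u - v : ↥leechLattice) : IVec) = 32 := by
    rw [AddSubgroup.coe_sub]
    exact hv.2
  have hvw : dotInt (v : IVec) ((u - v : ↥leechLattice) : IVec) = -8 := by
    rw [AddSubgroup.coe_sub, dotInt_sub_right, dotInt_self, hv.1, dotInt_comm, hduv]
    norm_num
  obtain ⟨g0, hg0v, hg0w⟩ := pair8_trans v (u - v) v0L w0L hv.1 hw32 hvw sqNorm_vA0 sqNorm_wB0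
    dot_vA0_wB0
  have hg0u : g0 • u = u0L := by
    have : u = v + (u - v) := by abel
    calc g0 • u = g0 • (v + (u - v)) := by rw [← this]
      _ = g0 • v + g0 • (u - v) := g0.2.1 _ _
      _ = u0L := by rw [hg0v, hg0w]; rfl
  have hx' : g0 • x ∈ cfg u0L v0L := by
    rw [← hg0u, ← hg0v, mem_cfg_smul]
    exact hx
  obtain ⟨h, hh1, hh2, hh3⟩ := (mcl_config u0L v0L sqNorm_u0L ⟨sqNorm_vA0, by
      show sqNorm ((vA0 + wB0) - vA0) = 32
      rw [add_sub_cancel_left]
      exact sqNorm_wB0⟩).2 (g0 • x) hx' x0L x0L_mem_cfg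
  apply rank3_transport (h * g0)
  rw [mul_smul, mul_smul, mul_smul, hg0u, hg0v, hh1, hh2, hh3]
  exact rank3_std

end Cfsg.Agent.Helper8
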