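import Mathlib
import Cfsg.Prelude.Def_SporadicCombinatorics
import Cfsg.Agent.Helper8.McL162f

/-!
The 2025 minimal vectors orthogonal to the first base vector and of inner product 16 with the second:
the four shapes and the classification.
-/

set_option autoImplicit false

namespace Cfsg.Agent.Helper8

open Cfsg Cfsg.Agent.Helper27
open scoped Pointwise

/-! ### the shapes -/

/-- the vector `(4, -4, 0, …)` -/
def xN : IVec := Helper26.vPQ pA pB

theorem xN_mem : xN ∈ leechLattice := Helper26.vPQ_mem pA_ne_pB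

/-- shape B with two minus signs, at the second point and at `j` -/
def yB (O : Finset GolayPt) (j : GolayPt) : IVec :=
  fun i => if i ∈ O then (if i = pB ∨ i = j then -2 else 2) else 0

/-- shape C with the entry of absolute value 3 at `k` -/
def yC (O : Finset GolayPt) (k : GolayPt) : IVec := signedPerm 1 O (oddBase k)

theorem yC_mem {O : Finset GolayPt} (hO : O ∈ supports (golayCode : Set (GolayPt → ZMod 2)))
    (k : GolayPt) : yC O k ∈ leechLattice :=
  (vrelC ⟨k, O, hO, rfl⟩).mem_right

theorem yB_eq_signedPerm {O D : Finset GolayPt} {j : GolayPt} (hD : D ∩ O = {pB, j}) :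
    yB O j = signedPerm 1 D (twoInd O) := by
  ext i
  rw [signedPerm_one_apply]
  unfold yB twoInd
  by_cases hi : i ∈ O
  · have hmem : i ∈ D ↔ i = pB ∨ i = j := by
      have : i ∈ D ∩ O ↔ i ∈ ({pB, j} : Finset GolayPt) := by rw [hD]
      rw [Finset.mem_inter, Finset.mem_insert, Finset.mem_singleton] at this
      exact ⟨fun h => this.1 ⟨h, hi⟩, fun h => (this.2 h).1⟩
    rw [if_pos hi, if_pos hi]
    by_cases h : i = pB ∨ i = j
    · rw [if_pos h, if_pos (hmem.2 h)]
    · rw [if_neg h, if_neg (fun h' => h (hmem.1 h'))]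
  · rw [if_neg hi, if_neg hi]
    split_ifs <;> rfl

theorem yB_mem {O : Finset GolayPt} (hO : O ∈ octads) {j : GolayPt} (hB : pB ∈ O) (hj : j ∈ O)
    (hjB : j ≠ pB) : yB O j ∈ leechLattice := by
  classical
  have hS : ({pB, j} : Finset GolayPt) ⊆ O := by
    intro x hx
    simp only [Finset.mem_insert, Finset.mem_singleton] at hx
    rcases hx with rfl | rfl
    · exact hB
    · exact hj
  have hev : Even ({pB, j} : Finset GolayPt).card := by
    rw [Finset.card_pair (Ne.symm hjB)]
    exact ⟨1, rfl⟩
  obtain ⟨D, hD, hDO⟩ := exists_code_inter_octad hO hS hev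
  rw [yB_eq_signedPerm hDO]
  exact (vrel_sign (twoInd_mem hO.1) hD).mem_right

/-! ### the classification -/

theorem classA2 {i j : GolayPt} {s t : ℤ} (hij : i ≠ j) (hs : s = 4 ∨ s = -4)
    (ht : t = 4 ∨ t = -4)
    (h1 : (Pi.single i s + Pi.single j t : IVec) pA + (Pi.single i s + Pi.single j t : IVec) pB = 0)
    (h2 : (∑ k, (Pi.single i s + Pi.single j t : IVec) k) -
      4 * (Pi.single i s + Pi.single j t : IVec) pB = 16) :
    (Pi.single i s + Pi.single j t : IVec) = xN := by
  classical
  have hsum : ∑ k, (Pi.single i s + Pi.single j t : IVec) k = s + t := by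
    simp only [Pi.add_apply]
    rw [Finset.sum_add_distrib, sum_single, sum_single]
  rw [hsum] at h2
  simp only [Pi.add_apply, Pi.single_apply] at h1 h2
  unfold xN Helper26.vPQ
  by_cases hAi : pA = i
  · have hAj : pA ≠ j := fun h => hij (hAi.symm.trans h)
    have hBi : pB ≠ i := fun h => pA_ne_pB (hAi.trans h.symm)
    rw [if_pos hAi, if_neg hAj, if_neg hBi] at h1
    rw [if_neg hBi] at h2
    by_cases hBj : pB = j
    · rw [if_pos hBj] at h1 h2
      have hs4 : s = 4 := by rcases hs with rfl | rfl <;> rcases ht with rfl | rfl <;> omega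
      have ht4 : t = -4 := by omega
      rw [hs4, ht4, ← hAi, ← hBj]
    · rw [if_neg hBj] at h1 h2
      exfalso
      rcases hs with rfl | rfl <;> rcases ht with rfl | rfl <;> omega
  · by_cases hAj : pA = j
    · have hBj : pB ≠ j := fun h => pA_ne_pB (hAj.trans h.symm)
      rw [if_neg hAi, if_pos hAj, if_neg hBj] at h1
      rw [if_neg hBj] at h2
      by_cases hBi : pB = i
      · rw [if_pos hBi] at h1 h2
        have ht4 : t = 4 := by rcases hs with rfl | rfl <;> rcases ht with rfl | rfl <;> omega
        have hs4 : s = -4 := by omega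
        rw [hs4, ht4, ← hAj, ← hBi, add_comm]
      · rw [if_neg hBi] at h1 h2
        exfalso
        rcases hs with rfl | rfl <;> rcases ht with rfl | rfl <;> omega
    · rw [if_neg hAi, if_neg hAj] at h1
      exfalso
      by_cases hBi : pB = i
      · have hBj : pB ≠ j := fun h => hij (hBi.symm.trans h)
        rw [if_pos hBi, if_neg hBj] at h1 h2
        rcases hs with rfl | rfl <;> rcases ht with rfl | rfl <;> omega
      · by_cases hBj : pB = j
        · rw [if_neg hBi, if_pos hBj] at h1 h2
          rcases hs with rfl | rfl <;> rcases ht with rfl | rfl <;> omega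
        · rw [if_neg hBi, if_neg hBj] at h1 h2
          rcases hs with rfl | rfl <;> rcases ht with rfl | rfl <;> omega

theorem classB2 {x : IVec} {O : Finset GolayPt} (hO : O ∈ octads)
    (hO2 : ∀ i ∈ O, x i = 2 ∨ x i = -2) (hO0 : ∀ i ∉ O, x i = 0)
    (h1 : x pA + x pB = 0) (h2 : (∑ k, x k) - 4 * x pB = 16) :
    (pA ∉ O ∧ pB ∉ O ∧ x = twoInd O) ∨
    (pA ∈ O ∧ pB ∈ O ∧ ∃ j, j ∈ O ∧ j ≠ pA ∧ j ≠ pB ∧ x = yB O j) := by
  classical
  have hsumO : ∑ k ∈ O, x k = ∑ k, x k := by
    apply Finset.sum_subset (Finset.subset_univ O)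
    intro i _ hi
    exact hO0 i hi
  -- the sum in terms of the set of minus signs
  have hsplit : ∑ k ∈ O, x k = 16 - 4 * ((O.filter fun i => x i = -2).card : ℤ) := by
    have hterm : ∀ i ∈ O, x i = 2 - (if x i = -2 then 4 else 0) := by
      intro i hi
      rcases hO2 i hi with h | h
      · rw [h, if_neg (by norm_num)]
        norm_num
      · rw [h, if_pos rfl]
        norm_num
    rw [Finset.sum_congr rfl hterm, Finset.sum_sub_distrib, Finset.sum_const, hO.2,
      ← Finset.sum_filter, Finset.sum_const]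
    simp only [nsmul_eq_mul]
    push_cast
    ring
  by_cases hA : pA ∈ O
  · by_cases hB : pB ∈ O
    · right
      have hxB : x pB = -2 := by
        have hcard : (0 : ℤ) ≤ ((O.filter fun i => x i = -2).card : ℤ) := Int.natCast_nonneg _
        rcases hO2 pB hB with h | h
        · exfalso
          rw [h] at h2
          omega
        · exact h
      have hxA : x pA = 2 := by omega
      have hcard : (O.filter fun i => x i = -2).card = 2 := by
        have : ((O.filter fun i => x i = -2).card : ℤ) = 2 := by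
          rw [hxB] at h2
          omega
        exact_mod_cast this
      obtain ⟨a, b, hab, hM⟩ := Finset.card_eq_two.1 hcard
      have hBM : pB ∈ O.filter fun i => x i = -2 := Finset.mem_filter.2 ⟨hB, hxB⟩
      -- the other minus sign
      obtain ⟨j, hjB, hMj⟩ : ∃ j, j ≠ pB ∧ (O.filter fun i => x i = -2) = {pB, j} := by
        rw [hM, Finset.mem_insert, Finset.mem_singleton] at hBM
        rcases hBM with h | h
        · exact ⟨b, fun h' => hab (h.symm.trans h'.symm), by rw [hM, h]⟩
        · refine ⟨a, fun h' => hab (h'.trans h), ?_⟩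
          rw [hM, h, Finset.pair_comm]
      have hjM : j ∈ O.filter fun i => x i = -2 := by
        rw [hMj]
        simp
      rw [Finset.mem_filter] at hjM
      have hjA : j ≠ pA := by
        rintro rfl
        omega
      refine ⟨hA, hB, j, hjM.1, hjA, hjB, ?_⟩
      ext i
      unfold yB
      by_cases hi : i ∈ O
      · rw [if_pos hi]
        have hmem : x i = -2 ↔ i = pB ∨ i = j := by
          have : i ∈ (O.filter fun i => x i = -2) ↔ i ∈ ({pB, j} : Finset GolayPt) := by rw [hMj]
          rw [Finset.mem_filter, Finset.mem_insert, Finset.mem_singleton] at this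
          exact ⟨fun h => this.1 ⟨hi, h⟩, fun h => (this.2 h).2⟩
        by_cases h : i = pB ∨ i = j
        · rw [if_pos h, hmem.2 h]
        · rw [if_neg h]
          rcases hO2 i hi with h' | h'
          · exact h'
          · exact absurd (hmem.1 h') h
      · rw [if_neg hi, hO0 i hi]
    · exfalso
      have h0 := hO0 pB hB
      rcases hO2 pA hA with h | h <;> omega
  · by_cases hB : pB ∈ O
    · exfalso
      have h0 := hO0 pA hA
      rcases hO2 pB hB with h | h <;> omega
    · left
      have hxB := hO0 pB hB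
      have hcard : (O.filter fun i => x i = -2).card = 0 := by
        have : ((O.filter fun i => x i = -2).card : ℤ) = 0 := by
          rw [hxB] at h2
          omega
        exact_mod_cast this
      rw [Finset.card_eq_zero, Finset.filter_eq_empty_iff] at hcard
      refine ⟨hA, hB, ?_⟩
      ext i
      unfold twoInd
      by_cases hi : i ∈ O
      · rw [if_pos hi]
        rcases hO2 i hi with h | h
        · exact h
        · exact absurd h (hcard hi)
      · rw [if_neg hi, hO0 i hi]

theorem classC2 {C : Finset GolayPt} {k : GolayPt}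
    (hC : C ∈ supports (golayCode : Set (GolayPt → ZMod 2)))
    (h1 : signedPerm 1 C (oddBase k) pA + signedPerm 1 C (oddBase k) pB = 0)
    (h2 : (∑ i, signedPerm 1 C (oddBase k) i) - 4 * signedPerm 1 C (oddBase k) pB = 16) :
    C ∈ octads ∧ pA ∉ C ∧ pB ∈ C ∧ k ∈ C ∧ k ≠ pB := by
  classical
  rw [sum_signedPerm_oddBase] at h2
  have hcard := card_mem_supports hC
  have hvA : signedPerm 1 C (oddBase k) pA =
      (if pA ∈ C then -1 else 1) * (if pA = k then (-3 : ℤ) else 1) := by
    rw [signedPerm_one_apply]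
    unfold oddBase
    split_ifs <;> ring
  have hvB : signedPerm 1 C (oddBase k) pB =
      (if pB ∈ C then -1 else 1) * (if pB = k then (-3 : ℤ) else 1) := by
    rw [signedPerm_one_apply]
    unfold oddBase
    split_ifs <;> ring
  rw [hvA, hvB] at h1
  rw [hvB] at h2
  by_cases hAk : pA = k
  · exfalso
    have hBk : pB ≠ k := fun h => pA_ne_pB (hAk.trans h.symm)
    rw [if_pos hAk, if_neg hBk] at h1
    by_cases hAC : pA ∈ C <;> by_cases hBC : pB ∈ C
    · rw [if_pos hAC, if_pos hBC] at h1; omega
    · rw [if_pos hAC, if_neg hBC] at h1; omega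
    · rw [if_neg hAC, if_pos hBC] at h1; omega
    · rw [if_neg hAC, if_neg hBC] at h1; omega
  · rw [if_neg hAk] at h1
    by_cases hBk : pB = k
    · exfalso
      rw [if_pos hBk] at h1
      by_cases hAC : pA ∈ C <;> by_cases hBC : pB ∈ C
      · rw [if_pos hAC, if_pos hBC] at h1; omega
      · rw [if_pos hAC, if_neg hBC] at h1; omega
      · rw [if_neg hAC, if_pos hBC] at h1; omega
      · rw [if_neg hAC, if_neg hBC] at h1; omega
    · rw [if_neg hBk] at h1 h2
      by_cases hAC : pA ∈ C <;> by_cases hBC : pB ∈ C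
      · rw [if_pos hAC, if_pos hBC] at h1; omega
      · exfalso
        rw [if_neg hBC] at h2
        have hne : C.card ≠ 0 := Finset.card_ne_zero.2 ⟨pA, hAC⟩
        by_cases hkC : k ∈ C
        · rw [if_pos hkC] at h2
          have : (C.card : ℤ) = 4 := by omega
          have h4 : C.card = 4 := by exact_mod_cast this
          omega
        · rw [if_neg hkC] at h2
          have : (C.card : ℤ) = 0 := by omega
          have h0 : C.card = 0 := by exact_mod_cast this
          exact hne h0
      · rw [if_pos hBC] at h2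
        by_cases hkC : k ∈ C
        · rw [if_pos hkC] at h2
          have : (C.card : ℤ) = 8 := by omega
          exact ⟨⟨hC, by exact_mod_cast this⟩, hAC, hBC, hkC, fun h => hBk h.symm⟩
        · exfalso
          rw [if_neg hkC] at h2
          have : (C.card : ℤ) = 4 := by omega
          have h4 : C.card = 4 := by exact_mod_cast this
          omega
      · rw [if_neg hAC, if_neg hBC] at h1; omega

/-- the members of the second standard configuration, by shape -/
theorem std_classify2 {y : IVec} (hy : y ∈ leechLattice) (hn : sqNorm y = 32)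
    (h1 : dotInt vA0 y = 0) (h2 : dotInt wB0 y = 16) :
    y = xN ∨
    (∃ O ∈ octads, pA ∉ O ∧ pB ∉ O ∧ y = twoInd O) ∨
    (∃ O ∈ octads, pA ∈ O ∧ pB ∈ O ∧ ∃ j, j ∈ O ∧ j ≠ pA ∧ j ≠ pB ∧ y = yB O j) ∨
    (∃ O ∈ octads, pA ∉ O ∧ pB ∈ O ∧ ∃ k, k ∈ O ∧ k ≠ pB ∧ y = yC O k) := by
  have h1' : y pA + y pB = 0 := by
    rw [dotInt_vA0] at h1
    omega
  have h2' : (∑ i, y i) - 4 * y pB = 16 := by
    unfold wB0 at h2
    rw [dotInt_oddBase] at h2
    exact h2
  rcases min_cases hy hn with hA | hB | hC
  · obtain ⟨i, j, s, t, hij, hs, ht, rfl⟩ := hA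
    exact Or.inl (classA2 hij hs ht h1' h2')
  · obtain ⟨O, hO, hO2, hO0⟩ := hB
    rcases classB2 hO hO2 hO0 h1' h2' with ⟨hA, hB, hy⟩ | ⟨hA, hB, j, hj, hjA, hjB, hy⟩
    · exact Or.inr (Or.inl ⟨O, hO, hA, hB, hy⟩)
    · exact Or.inr (Or.inr (Or.inl ⟨O, hO, hA, hB, j, hj, hjA, hjB, hy⟩))
  · obtain ⟨k, C, hC, rfl⟩ := hC
    obtain ⟨hO, hA, hB, hk, hkB⟩ := classC2 hC h1' h2'
    exact Or.inr (Or.inr (Or.inr ⟨C, hO, hA, hB, k, hk, hkB, rfl⟩))

/-! ### inner products with the vector `(4, -4, 0, …)` -/

theorem dotInt_xN (w : IVec) : dotInt xN w = 4 * w pA - 4 * w pB := Helper26.dotInt_vPQ pA pB w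

theorem yB_apply_pA {O : Finset GolayPt} {j : GolayPt} (hA : pA ∈ O) (hj : j ≠ pA) :
    yB O j pA = 2 := by
  unfold yB
  rw [if_pos hA, if_neg]
  rintro (h | h)
  · exact pA_ne_pB h
  · exact hj h.symm

theorem yB_apply_pB {O : Finset GolayPt} {j : GolayPt} (hB : pB ∈ O) : yB O j pB = -2 := by
  unfold yB
  rw [if_pos hB, if_pos (Or.inl rfl)]

theorem yC_apply_mem {O : Finset GolayPt} {k i : GolayPt} (hi : i ∈ O) (hik : i ≠ k) :
    yC O k i = -1 := by
  unfold yC
  rw [signedPerm_one_apply, if_pos hi]
  unfold oddBase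
  rw [if_neg hik]

theorem yC_apply_notMem {O : Finset GolayPt} {k i : GolayPt} (hi : i ∉ O) (hik : i ≠ k) :
    yC O k i = 1 := by
  unfold yC
  rw [signedPerm_one_apply, if_neg hi]
  unfold oddBase
  rw [if_neg hik]

theorem yC_apply_self {O : Finset GolayPt} {k : GolayPt} (hk : k ∈ O) : yC O k k = 3 := by
  unfold yC
  rw [signedPerm_one_apply, if_pos hk]
  unfold oddBase
  rw [if_pos rfl]
  norm_num

end Cfsg.Agent.Helper8
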