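import Mathlib
import Cfsg.Prelude.Def_SporadicCombinatorics
import Cfsg.Agent.Helper8.McL2025a

/-!
The 2025 minimal vectors: the relation of being moved by an automorphism fixing the two base vectors
and the vector `(4, -4, 0, …)`, the data of the links, and their checked evaluations.
-/

set_option autoImplicit false

namespace Cfsg.Agent.Helper8

open Cfsg Cfsg.Agent.Helper27
open scoped Pointwise

/-- the vector `(4, -4, 0, …)` as a lattice element -/
def xNL : ↥leechLattice := ⟨xN, xN_mem⟩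

/-- some automorphism fixing the two base vectors and `(4, -4, 0, …)` maps `x` to `y` -/
def FRel5 (x y : IVec) : Prop :=
  ∃ (hx : x ∈ leechLattice) (g : ↥Co0), g • v0L = v0L ∧ g • w0L = w0L ∧ g • xNL = xNL ∧
    ((g • (⟨x, hx⟩ : ↥leechLattice) : ↥leechLattice) : IVec) = y

theorem FRel5.mem_right {x y : IVec} (h : FRel5 x y) : y ∈ leechLattice := by
  obtain ⟨hx, g, -, -, -, rfl⟩ := h
  exact (g • (⟨x, hx⟩ : ↥leechLattice)).2

theorem FRel5.refl {x : IVec} (hx : x ∈ leechLattice) : FRel5 x x :=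
  ⟨hx, 1, one_smul _ _, one_smul _ _, one_smul _ _, by rw [one_smul]⟩

theorem FRel5.trans {x y z : IVec} (h1 : FRel5 x y) (h2 : FRel5 y z) : FRel5 x z := by
  obtain ⟨hx, g, hg1, hg2, hg3, rfl⟩ := h1
  obtain ⟨hy, h, hh1, hh2, hh3, rfl⟩ := h2
  exact ⟨hx, h * g, by rw [mul_smul, hg1, hh1], by rw [mul_smul, hg2, hh2],
    by rw [mul_smul, hg3, hh3], by rw [mul_smul]⟩

theorem FRel5.symm {x y : IVec} (h : FRel5 x y) : FRel5 y x := by
  have hy := h.mem_right
  obtain ⟨hx, g, hg1, hg2, hg3, rfl⟩ := h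
  refine ⟨hy, g⁻¹, ?_, ?_, ?_, ?_⟩
  · rw [inv_smul_eq_iff, hg1]
  · rw [inv_smul_eq_iff, hg2]
  · rw [inv_smul_eq_iff, hg3]
  · have : (⟨((g • (⟨x, hx⟩ : ↥leechLattice) : ↥leechLattice) : IVec), hy⟩ : ↥leechLattice) =
        g • (⟨x, hx⟩ : ↥leechLattice) := Subtype.ext rfl
    rw [this, inv_smul_smul]

theorem FRel5.toFRel3 {x y : IVec} (h : FRel5 x y) : FRel3 x y := by
  obtain ⟨hx, g, hg1, hg2, -, hg4⟩ := h
  exact ⟨hx, g, hg1, hg2, hg4⟩

/-- a permutation of the code's group fixing the two distinguished points -/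
theorem frel5_perm {x : IVec} (hx : x ∈ leechLattice) {σ : Equiv.Perm GolayPt} (hσ : σ ∈ M24)
    (hA : σ pA = pA) (hB : σ pB = pB) : FRel5 x (signedPerm σ ∅ x) := by
  refine ⟨hx, monoCo0 hσ Cfsg.Agent.S0390.empty_mem_supports, ?_, ?_, ?_, rfl⟩
  · apply Subtype.ext
    rw [monoCo0_smul]
    exact signedPerm_empty_vA0 hA hB
  · apply Subtype.ext
    rw [monoCo0_smul]
    show signedPerm σ ∅ (oddBase pB) = oddBase pB
    rw [signedPerm_empty_oddBase, hB]
  · apply Subtype.ext
    rw [monoCo0_smul]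
    show signedPerm σ ∅ (Helper26.vPQ pA pB) = Helper26.vPQ pA pB
    unfold Helper26.vPQ
    rw [signedPerm_add, signedPerm_empty_single, signedPerm_empty_single, hA, hB]

/-! ### the data -/

def lXN : List ℤ := [4, -4, 0, 0, 0, 0, 0, 0, 0, 0, 0, 0, 0, 0, 0, 0, 0, 0, 0, 0, 0, 0, 0, 0]

/-- the octads through the points 2, 3, 4, 5 -/
def octH1 : Finset GolayPt := setOf 5275709
/-- the second of them -/
def octH2 : Finset GolayPt := setOf 10558
/-- the third -/
def octG1 : Finset GolayPt := setOf 8978620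
/-- the fourth -/
def octG2 : Finset GolayPt := setOf 21116
/-- the fifth -/
def octG3 : Finset GolayPt := setOf 2491452
/-- the octads of the links -/
def octN1 : Finset GolayPt := setOf 10554382
/-- the second -/
def octN2 : Finset GolayPt := setOf 9347075
/-- the third -/
def octN3 : Finset GolayPt := setOf 8989058
/-- the fourth -/
def octN4 : Finset GolayPt := setOf 12222476
/-- the fifth -/
def octN5 : Finset GolayPt := setOf 1369154

def lG1 : List ℤ := [0, 0, 2, 2, 2, 2, 0, 2, 0, 0, 0, 0, 0, 0, 0, 0, 2, 0, 0, 2, 0, 0, 0, 2]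
def lG2 : List ℤ := [0, 0, 2, 2, 2, 2, 2, 0, 0, 2, 0, 0, 2, 0, 2, 0, 0, 0, 0, 0, 0, 0, 0, 0]
def lG3 : List ℤ := [0, 0, 2, 2, 2, 2, 0, 0, 0, 0, 2, 0, 0, 0, 0, 0, 0, 2, 2, 0, 0, 2, 0, 0]
def lN1 : List ℤ := [1, -1, 3, -1, 1, 1, 1, 1, 1, 1, -1, -1, 1, 1, 1, 1, -1, 1, 1, 1, 1, -1, 1, -1]
def lN2 : List ℤ := [2, -2, 0, 0, 0, 0, 0, 0, 0, 0, 0, 0, 0, 2, 0, 2, 0, -2, 2, 2, 0, 0, 0, 2]
def lN3 : List ℤ := [1, -1, 1, 1, 1, 1, 1, -1, -1, 1, 1, -1, 1, -1, 1, 1, -1, 1, 1, 3, 1, 1, 1, -1]
def lN4 : List ℤ := [0, 0, 2, 2, 0, 0, 0, 0, 0, 0, 0, 0, 0, 0, 0, 2, 0, 2, 0, 2, 2, 2, 0, 2]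
def lN5 : List ℤ := [1, -1, 1, 1, 1, 1, -1, 1, 1, 1, 3, 1, 1, -1, -1, -1, 1, 1, -1, 1, -1, 1, 1, 1]

set_option maxRecDepth 100000 in
theorem wRho_XN : runW wRho lXN = lXN := by decide +kernel
set_option maxRecDepth 100000 in
theorem wRho_G12 : runW wRho lG1 = lG2 := by decide +kernel
set_option maxRecDepth 100000 in
theorem wRho_G23 : runW wRho lG2 = lG3 := by decide +kernel
set_option maxRecDepth 100000 in
theorem wLink2_N1 : runW wLink2 lXN = lN1 := by decide +kernel
set_option maxRecDepth 100000 in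
theorem wLink2_N23 : runW wLink2 lN2 = lN3 := by decide +kernel
set_option maxRecDepth 100000 in
theorem wLink2_N45 : runW wLink2 lN4 = lN5 := by decide +kernel

set_option maxRecDepth 100000 in
theorem listOf_xN : listOf xN = lXN := by decide +kernel
set_option maxRecDepth 100000 in
theorem listOf_G1 : listOf (twoInd octG1) = lG1 := by decide +kernel
set_option maxRecDepth 100000 in
theorem listOf_G2 : listOf (twoInd octG2) = lG2 := by decide +kernel
set_option maxRecDepth 100000 in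
theorem listOf_G3 : listOf (twoInd octG3) = lG3 := by decide +kernel
set_option maxRecDepth 100000 in
theorem listOf_N1 : listOf (yC octN1 (gPt 2)) = lN1 := by decide +kernel
set_option maxRecDepth 100000 in
theorem listOf_N2 : listOf (yB octN2 (gPt 17)) = lN2 := by decide +kernel
set_option maxRecDepth 100000 in
theorem listOf_N3 : listOf (yC octN3 (gPt 19)) = lN3 := by decide +kernel
set_option maxRecDepth 100000 in
theorem listOf_N4 : listOf (twoInd octN4) = lN4 := by decide +kernel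
set_option maxRecDepth 100000 in
theorem listOf_N5 : listOf (yC octN5 (gPt 10)) = lN5 := by decide +kernel

/-- a valid word fixing the two base vectors relates the vectors of its input and output -/
theorem frel3_of_word (w : List Letter) (hw : okW w = true) (hU : runW w lU = lU)
    (hW : runW w lW = lW) {y z : IVec} (hy : y ∈ leechLattice)
    {ly lz : List ℤ} (hly : listOf y = ly) (hlz : listOf z = lz) (h : runW w ly = lz) :
    FRel3 y z := by
  obtain ⟨g, hg⟩ := exists_co0_runW w hw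
  refine ⟨hy, g, ?_, ?_, ?_⟩
  · apply Subtype.ext
    rw [hg v0L lU (eq_vecOf_of_listOf listOf_vA0), hU]
    exact (eq_vecOf_of_listOf listOf_vA0).symm
  · apply Subtype.ext
    rw [hg w0L lW (eq_vecOf_of_listOf listOf_wB0), hW]
    exact (eq_vecOf_of_listOf listOf_wB0).symm
  · rw [hg _ ly (eq_vecOf_of_listOf hly), h]
    exact (eq_vecOf_of_listOf hlz).symm

/-- a valid word fixing the two base vectors and `(4, -4, 0, …)` -/
theorem frel5_of_word (w : List Letter) (hw : okW w = true) (hU : runW w lU = lU)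
    (hW : runW w lW = lW) (hX : runW w lXN = lXN) {y z : IVec} (hy : y ∈ leechLattice)
    {ly lz : List ℤ} (hly : listOf y = ly) (hlz : listOf z = lz) (h : runW w ly = lz) :
    FRel5 y z := by
  obtain ⟨g, hg⟩ := exists_co0_runW w hw
  refine ⟨hy, g, ?_, ?_, ?_, ?_⟩
  · apply Subtype.ext
    rw [hg v0L lU (eq_vecOf_of_listOf listOf_vA0), hU]
    exact (eq_vecOf_of_listOf listOf_vA0).symm
  · apply Subtype.ext
    rw [hg w0L lW (eq_vecOf_of_listOf listOf_wB0), hW]
    exact (eq_vecOf_of_listOf listOf_wB0).symm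
  · apply Subtype.ext
    rw [hg xNL lXN (eq_vecOf_of_listOf listOf_xN), hX]
    exact (eq_vecOf_of_listOf listOf_xN).symm
  · rw [hg _ ly (eq_vecOf_of_listOf hly), h]
    exact (eq_vecOf_of_listOf hlz).symm

end Cfsg.Agent.Helper8
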