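import Mathlib
import Cfsg.Prelude.Def_SporadicCombinatorics
import Cfsg.Agent.Helper8.McL2025b

/-!
The 2025 minimal vectors: the orbits of the permutations fixing the two distinguished points on the
three shapes, and the links.
-/

set_option autoImplicit false

namespace Cfsg.Agent.Helper8

open Cfsg Cfsg.Agent.Helper27
open scoped Pointwise

/-! ### the octads of the data -/

theorem octH1_mem : octH1 ∈ octads := by
  unfold octH1
  rw [setOf_mem_octads_iff (by norm_num)]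
  decide +kernel

theorem octH2_mem : octH2 ∈ octads := by
  unfold octH2
  rw [setOf_mem_octads_iff (by norm_num)]
  decide +kernel

theorem octG1_mem : octG1 ∈ octads := by
  unfold octG1
  rw [setOf_mem_octads_iff (by norm_num)]
  decide +kernel

theorem octG2_mem : octG2 ∈ octads := by
  unfold octG2
  rw [setOf_mem_octads_iff (by norm_num)]
  decide +kernel

theorem octG3_mem : octG3 ∈ octads := by
  unfold octG3
  rw [setOf_mem_octads_iff (by norm_num)]
  decide +kernel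

theorem octN1_mem : octN1 ∈ octads := by
  unfold octN1
  rw [setOf_mem_octads_iff (by norm_num)]
  decide +kernel

theorem octN2_mem : octN2 ∈ octads := by
  unfold octN2
  rw [setOf_mem_octads_iff (by norm_num)]
  decide +kernel

theorem octN3_mem : octN3 ∈ octads := by
  unfold octN3
  rw [setOf_mem_octads_iff (by norm_num)]
  decide +kernel

theorem octN4_mem : octN4 ∈ octads := by
  unfold octN4
  rw [setOf_mem_octads_iff (by norm_num)]
  decide +kernel

theorem octN5_mem : octN5 ∈ octads := by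
  unfold octN5
  rw [setOf_mem_octads_iff (by norm_num)]
  decide +kernel

set_option maxRecDepth 100000 in
theorem octH_cover : ∀ e : GolayPt,
    e ∈ octH1 ∨ e ∈ octH2 ∨ e ∈ octG1 ∨ e ∈ octG2 ∨ e ∈ octG3 := by decide +kernel

set_option maxRecDepth 100000 in
theorem octH_facts_aux : pA ∈ octH1 ∧ pB ∈ octH2 ∧
    [pT, gPt 3, gPt 4, gPt 5].toFinset ⊆ octH1 ∧ [pT, gPt 3, gPt 4, gPt 5].toFinset ⊆ octH2 ∧
    [pT, gPt 3, gPt 4, gPt 5].toFinset ⊆ octG1 ∧ [pT, gPt 3, gPt 4, gPt 5].toFinset ⊆ octG2 ∧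
    [pT, gPt 3, gPt 4, gPt 5].toFinset ⊆ octG3 := by decide +kernel

theorem octH_facts : pA ∈ octH1 ∧ pB ∈ octH2 ∧
    (∀ a ∈ [pT, gPt 3, gPt 4, gPt 5], a ∈ octH1) ∧ (∀ a ∈ [pT, gPt 3, gPt 4, gPt 5], a ∈ octH2) ∧
    (∀ a ∈ [pT, gPt 3, gPt 4, gPt 5], a ∈ octG1) ∧ (∀ a ∈ [pT, gPt 3, gPt 4, gPt 5], a ∈ octG2) ∧
    (∀ a ∈ [pT, gPt 3, gPt 4, gPt 5], a ∈ octG3) := by
  obtain ⟨f1, f2, g1, g2, g3, g4, g5⟩ := octH_facts_aux
  exact ⟨f1, f2, fun a ha => g1 (List.mem_toFinset.2 ha), fun a ha => g2 (List.mem_toFinset.2 ha),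
    fun a ha => g3 (List.mem_toFinset.2 ha), fun a ha => g4 (List.mem_toFinset.2 ha),
    fun a ha => g5 (List.mem_toFinset.2 ha)⟩

set_option maxRecDepth 100000 in
theorem octG_facts : pA ∉ octG1 ∧ pB ∉ octG1 ∧ pA ∉ octG2 ∧ pB ∉ octG2 ∧ pA ∉ octG3 ∧ pB ∉ octG3 :=
  by decide +kernel

set_option maxRecDepth 100000 in
theorem octN_facts : (pA ∉ octN1 ∧ pB ∈ octN1 ∧ gPt 2 ∈ octN1 ∧ gPt 2 ≠ pB) ∧
    (pA ∈ octN2 ∧ pB ∈ octN2 ∧ gPt 17 ∈ octN2 ∧ gPt 17 ≠ pA ∧ gPt 17 ≠ pB) ∧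
    (pA ∉ octN3 ∧ pB ∈ octN3 ∧ gPt 19 ∈ octN3 ∧ gPt 19 ≠ pB) ∧
    (pA ∉ octN4 ∧ pB ∉ octN4) ∧
    (pA ∉ octN5 ∧ pB ∈ octN5 ∧ gPt 10 ∈ octN5 ∧ gPt 10 ≠ pB) := by decide +kernel

set_option maxRecDepth 100000 in
theorem pt_facts2 : [pT, gPt 3, gPt 4, gPt 5].Nodup := by decide +kernel

/-- the octads through the points 2, 3, 4, 5 and off the points 0, 1 -/
theorem octad_2345 {O : Finset GolayPt} (hO : O ∈ octads)
    (h4 : ∀ a ∈ [pT, gPt 3, gPt 4, gPt 5], a ∈ O) (hA : pA ∉ O) (hB : pB ∉ O) :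
    O = octG1 ∨ O = octG2 ∨ O = octG3 := by
  classical
  have hnd := pt_facts2
  obtain ⟨f1, f2, g1, g2, g3, g4, g5⟩ := octH_facts
  have hcard : ([pT, gPt 3, gPt 4, gPt 5].toFinset).card < O.card := by
    rw [List.toFinset_card_of_nodup hnd, hO.2]
    norm_num
  obtain ⟨e, heO, he⟩ := Finset.exists_mem_notMem_of_card_lt_card hcard
  rw [List.mem_toFinset] at he
  have hnd5 : (e :: [pT, gPt 3, gPt 4, gPt 5]).Nodup := List.nodup_cons.2 ⟨he, hnd⟩
  have key : ∀ D ∈ octads, (∀ a ∈ [pT, gPt 3, gPt 4, gPt 5], a ∈ D) → e ∈ D → O = D := by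
    intro D hD hD4 heD
    apply octad_eq_of_list hD hO _ hnd5 rfl
    · intro a ha
      rcases List.mem_cons.1 ha with rfl | ha
      · exact heD
      · exact hD4 a ha
    · intro a ha
      rcases List.mem_cons.1 ha with rfl | ha
      · exact heO
      · exact h4 a ha
  rcases octH_cover e with h | h | h | h | h
  · exact absurd ((key _ octH1_mem g1 h) ▸ f1) hA
  · exact absurd ((key _ octH2_mem g2 h) ▸ f2) hB
  · exact Or.inl (key _ octG1_mem g3 h)
  · exact Or.inr (Or.inl (key _ octG2_mem g4 h))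
  · exact Or.inr (Or.inr (key _ octG3_mem g5 h))

theorem frel5_G : FRel5 (twoInd octG2) (twoInd octG1) ∧ FRel5 (twoInd octG3) (twoInd octG1) := by
  have h12 : FRel5 (twoInd octG1) (twoInd octG2) :=
    frel5_of_word wRho wRho_ok wRho_U wRho_W wRho_XN (twoInd_mem octG1_mem.1) listOf_G1 listOf_G2
      wRho_G12
  have h23 : FRel5 (twoInd octG2) (twoInd octG3) :=
    frel5_of_word wRho wRho_ok wRho_U wRho_W wRho_XN (twoInd_mem octG2_mem.1) listOf_G2 listOf_G3
      wRho_G23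
  exact ⟨h12.symm, (h12.trans h23).symm⟩

/-- the octads off the two distinguished points form one orbit -/
theorem frel5_B0_base {O : Finset GolayPt} (hO : O ∈ octads) (hA : pA ∉ O) (hB : pB ∉ O) :
    FRel5 (twoInd O) (twoInd octG1) := by
  classical
  obtain ⟨-, -, -, hbase, h5, h5b, h5t⟩ := pt_facts
  -- three points of the octad
  obtain ⟨a, b, c, ha, hb, hc, -, -, -, hab, hac, hbc⟩ := exists_three_more hO ∅ (by simp)
  have haA : a ≠ pA := fun h => hA (h ▸ ha)
  have hbA : b ≠ pA := fun h => hA (h ▸ hb)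
  have hcA : c ≠ pA := fun h => hA (h ▸ hc)
  have haB : a ≠ pB := fun h => hB (h ▸ ha)
  have hbB : b ≠ pB := fun h => hB (h ▸ hb)
  have hcB : c ≠ pB := fun h => hB (h ▸ hc)
  have hnd : [pA, pB, a, b, c].Nodup := by
    simp only [List.nodup_cons, List.mem_cons, List.not_mem_nil, or_false, not_or,
      List.nodup_nil, and_true, not_false_eq_true]
    exact ⟨⟨pA_ne_pB, Ne.symm haA, Ne.symm hbA, Ne.symm hcA⟩,
      ⟨Ne.symm haB, Ne.symm hbB, Ne.symm hcB⟩, ⟨hab, hac⟩, hbc⟩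
  obtain ⟨Q, hQ, hFQ⟩ := Helper26.exists_octad_through [pA, pB, a, b, c].toFinset
    (by rw [List.toFinset_card_of_nodup hnd]; rfl)
  have hFQ' : ∀ x ∈ [pA, pB, a, b, c], x ∈ Q := fun x hx => hFQ (List.mem_toFinset.2 hx)
  have hQO : O ≠ Q := by
    intro h
    exact hA (h ▸ hFQ' pA (by simp))
  have hle := octad_inter_le hO hQ hQO
  have hlt : (O ∩ Q).card < O.card := by
    rw [hO.2]
    omega
  obtain ⟨e, heO, heQ⟩ := Finset.exists_mem_notMem_of_card_lt_card hlt
  have heQ' : e ∉ Q := fun h => heQ (Finset.mem_inter.2 ⟨heO, h⟩)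
  have heF : e ∉ [pA, pB, a, b, c] := fun h => heQ' (hFQ' e h)
  obtain ⟨σ, hσ, hmap, hσe⟩ := Helper26.exists_map_six [pA, pB, a, b, c] Helper26.base5 hnd
    Helper26.base5_nodup rfl rfl e (gPt 5) heF h5b (by
      constructor
      · rintro ⟨o, ho, hFo, heo⟩
        rw [octad_eq_of_list hQ ho _ hnd rfl hFQ' hFo] at heo
        exact absurd heo heQ'
      · intro h
        exact absurd ((Helper26.base5_special_iff (gPt 5)).1 h) h5t)
  rw [hbase] at hmap
  simp only [List.map_cons, List.map_nil, List.cons.injEq, and_true] at hmap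
  obtain ⟨e1, e2, e3, e4, e5⟩ := hmap
  have hσO : σ • O ∈ octads := Helper7.smul_mem_octads hσ hO
  have hin : ∀ {x : GolayPt}, x ∈ O → σ x ∈ σ • O := fun hx => Finset.smul_mem_smul_finset hx
  have hout : ∀ {x : GolayPt}, x ∉ O → σ x ∉ σ • O := by
    intro x hx h
    rw [mem_smul_iff_symm] at h
    have : σ.symm (σ x) = x := σ.symm_apply_apply x
    rw [this] at h
    exact hx h
  have h4 : ∀ x ∈ [pT, gPt 3, gPt 4, gPt 5], x ∈ σ • O := by
    intro x hx
    simp only [List.mem_cons, List.not_mem_nil, or_false] at hx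
    rcases hx with rfl | rfl | rfl | rfl
    · have := hin ha
      rwa [e3] at this
    · have := hin hb
      rwa [e4] at this
    · have := hin hc
      rwa [e5] at this
    · have := hin heO
      rwa [hσe] at this
  have hA' : pA ∉ σ • O := by
    have := hout hA
    rwa [e1] at this
  have hB' : pB ∉ σ • O := by
    have := hout hB
    rwa [e2] at this
  have hrel := frel5_perm (twoInd_mem hO.1) hσ e1 e2
  rw [signedPerm_empty_twoInd] at hrel
  rcases octad_2345 hσO h4 hA' hB' with h | h | h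
  · rw [h] at hrel
    exact hrel
  · rw [h] at hrel
    exact hrel.trans frel5_G.1
  · rw [h] at hrel
    exact hrel.trans frel5_G.2

theorem frel5_B0 {O O' : Finset GolayPt} (hO : O ∈ octads) (hO' : O' ∈ octads) (hA : pA ∉ O)
    (hB : pB ∉ O) (hA' : pA ∉ O') (hB' : pB ∉ O') : FRel5 (twoInd O) (twoInd O') :=
  (frel5_B0_base hO hA hB).trans (frel5_B0_base hO' hA' hB').symm

/-! ### the shape with two minus signs -/

theorem signedPerm_empty_yB {σ : Equiv.Perm GolayPt} (hB : σ pB = pB) (O : Finset GolayPt)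
    (j : GolayPt) : signedPerm σ ∅ (yB O j) = yB (σ • O) (σ j) := by
  ext i
  rw [signedPerm_empty_apply]
  unfold yB
  have e1 : σ.symm i = pB ↔ i = pB := by
    rw [Equiv.symm_apply_eq, hB]
  have e2 : σ.symm i = j ↔ i = σ j := Equiv.symm_apply_eq σ
  by_cases h : σ.symm i ∈ O
  · rw [if_pos h, if_pos ((mem_smul_iff_symm σ O i).mpr h)]
    by_cases h' : σ.symm i = pB ∨ σ.symm i = j
    · rw [if_pos h', if_pos (by rw [← e1, ← e2]; exact h')]
    · rw [if_neg h', if_neg (by rw [← e1, ← e2]; exact h')]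
  · rw [if_neg h, if_neg (fun h' => h ((mem_smul_iff_symm σ O i).mp h'))]

theorem frel5_B2 {O O' : Finset GolayPt} {j j' : GolayPt} (hO : O ∈ octads) (hO' : O' ∈ octads)
    (hA : pA ∈ O) (hB : pB ∈ O) (hj : j ∈ O) (hjA : j ≠ pA) (hjB : j ≠ pB)
    (hA' : pA ∈ O') (hB' : pB ∈ O') (hj' : j' ∈ O') (hjA' : j' ≠ pA) (hjB' : j' ≠ pB) :
    FRel5 (yB O j) (yB O' j') := by
  classical
  have key : ∀ {U : Finset GolayPt} {l : GolayPt}, U ∈ octads → pA ∈ U → pB ∈ U → l ∈ U →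
      l ≠ pA → l ≠ pB → ∃ x y, x ∈ U ∧ y ∈ U ∧ [pA, pB, l, x, y].Nodup := by
    intro U l hU hAU hBU hlU hlA hlB
    obtain ⟨x, y, hx, hy, hxT, hyT, hxy⟩ := exists_two_more hU {pA, pB, l}
      (Finset.card_le_three.trans (by norm_num))
    simp only [Finset.mem_insert, Finset.mem_singleton, not_or] at hxT hyT
    refine ⟨x, y, hx, hy, ?_⟩
    simp only [List.nodup_cons, List.mem_cons, List.not_mem_nil, or_false, not_or,
      List.nodup_nil, and_true, not_false_eq_true]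
    exact ⟨⟨pA_ne_pB, Ne.symm hlA, Ne.symm hxT.1, Ne.symm hyT.1⟩,
      ⟨Ne.symm hlB, Ne.symm hxT.2.1, Ne.symm hyT.2.1⟩, ⟨Ne.symm hxT.2.2, Ne.symm hyT.2.2⟩, hxy⟩
  obtain ⟨x, y, hx, hy, hnd⟩ := key hO hA hB hj hjA hjB
  obtain ⟨x', y', hx', hy', hnd'⟩ := key hO' hA' hB' hj' hjA' hjB'
  obtain ⟨σ, hσ, hmap⟩ := Helper26.exists_map_list _ _ hnd hnd' rfl (by norm_num)
  simp only [List.map_cons, List.map_nil, List.cons.injEq, and_true] at hmap
  obtain ⟨e1, e2, e3, e4, e5⟩ := hmap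
  have hOO : σ • O = O' := by
    apply smul_octad_eq hσ hO hO' [pA, pB, j, x, y] hnd rfl
    · intro a ha
      simp only [List.mem_cons, List.not_mem_nil, or_false] at ha
      rcases ha with rfl | rfl | rfl | rfl | rfl
      exacts [hA, hB, hj, hx, hy]
    · intro a ha
      simp only [List.mem_cons, List.not_mem_nil, or_false] at ha
      rcases ha with rfl | rfl | rfl | rfl | rfl
      · rw [e1]; exact hA'
      · rw [e2]; exact hB'
      · rw [e3]; exact hj'
      · rw [e4]; exact hx'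
      · rw [e5]; exact hy'
  have hrel := frel5_perm (yB_mem hO hB hj hjB) hσ e1 e2
  rw [signedPerm_empty_yB e2, hOO, e3] at hrel
  exact hrel

/-! ### the odd shape -/

theorem frel5_C {O O' : Finset GolayPt} {k k' : GolayPt} (hO : O ∈ octads) (hO' : O' ∈ octads)
    (hA : pA ∉ O) (hB : pB ∈ O) (hk : k ∈ O) (hkB : k ≠ pB)
    (hA' : pA ∉ O') (hB' : pB ∈ O') (hk' : k' ∈ O') (hkB' : k' ≠ pB) :
    FRel5 (yC O k) (yC O' k') := by
  classical
  have key : ∀ {U : Finset GolayPt} {l : GolayPt}, U ∈ octads → pA ∉ U → pB ∈ U → l ∈ U →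
      l ≠ pB → ∃ x y z, x ∈ U ∧ y ∈ U ∧ z ∈ U ∧ [pB, l, x, y, z].Nodup ∧
        pA ∉ [pB, l, x, y, z] ∧
        ¬ ∃ o ∈ octads, (∀ a ∈ [pB, l, x, y, z], a ∈ o) ∧ pA ∈ o := by
    intro U l hU hAU hBU hlU hlB
    obtain ⟨x, y, z, hx, hy, hz, hxT, hyT, hzT, hxy, hxz, hyz⟩ := exists_three_more hU {pB, l}
      (Finset.card_le_two.trans (by norm_num))
    simp only [Finset.mem_insert, Finset.mem_singleton, not_or] at hxT hyT hzT
    have hnd : [pB, l, x, y, z].Nodup := by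
      simp only [List.nodup_cons, List.mem_cons, List.not_mem_nil, or_false, not_or,
        List.nodup_nil, and_true, not_false_eq_true]
      exact ⟨⟨Ne.symm hlB, Ne.symm hxT.1, Ne.symm hyT.1, Ne.symm hzT.1⟩,
        ⟨Ne.symm hxT.2, Ne.symm hyT.2, Ne.symm hzT.2⟩, ⟨hxy, hxz⟩, hyz⟩
    have hsub : ∀ a ∈ [pB, l, x, y, z], a ∈ U := by
      intro a ha
      simp only [List.mem_cons, List.not_mem_nil, or_false] at ha
      rcases ha with rfl | rfl | rfl | rfl | rfl
      exacts [hBU, hlU, hx, hy, hz]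
    refine ⟨x, y, z, hx, hy, hz, hnd, fun h => hAU (hsub pA h), ?_⟩
    rintro ⟨o, ho, hFo, hro⟩
    rw [octad_eq_of_list hU ho _ hnd rfl hsub hFo] at hro
    exact hAU hro
  obtain ⟨x, y, z, hx, hy, hz, hnd, hAF, hno⟩ := key hO hA hB hk hkB
  obtain ⟨x', y', z', hx', hy', hz', hnd', hAF', hno'⟩ := key hO' hA' hB' hk' hkB'
  obtain ⟨σ, hσ, hmap, hσA⟩ := Helper26.exists_map_six _ _ hnd hnd' rfl rfl pA pA hAF hAF'
    ⟨fun h => absurd h hno, fun h => absurd h hno'⟩
  simp only [List.map_cons, List.map_nil, List.cons.injEq, and_true] at hmap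
  obtain ⟨e1, e2, e3, e4, e5⟩ := hmap
  have hOO : σ • O = O' := by
    apply smul_octad_eq hσ hO hO' [pB, k, x, y, z] hnd rfl
    · intro a ha
      simp only [List.mem_cons, List.not_mem_nil, or_false] at ha
      rcases ha with rfl | rfl | rfl | rfl | rfl
      exacts [hB, hk, hx, hy, hz]
    · intro a ha
      simp only [List.mem_cons, List.not_mem_nil, or_false] at ha
      rcases ha with rfl | rfl | rfl | rfl | rfl
      · rw [e1]; exact hB'
      · rw [e2]; exact hk'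
      · rw [e3]; exact hx'
      · rw [e4]; exact hy'
      · rw [e5]; exact hz'
  have hrel := frel5_perm (yC_mem hO.1 k) hσ hσA e1
  unfold yC at hrel ⊢
  rw [signedPerm_empty_signedPerm_one, signedPerm_empty_oddBase, hOO, e2] at hrel
  exact hrel

/-! ### the links -/

theorem frel3_links2 : FRel3 xN (yC octN1 (gPt 2)) ∧
    FRel3 (yB octN2 (gPt 17)) (yC octN3 (gPt 19)) ∧ FRel3 (twoInd octN4) (yC octN5 (gPt 10)) := by
  obtain ⟨-, ⟨-, n2, n3, -, n5⟩, -, -, -⟩ := octN_facts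
  exact ⟨frel3_of_word wLink2 wLink2_ok wLink2_U wLink2_W xN_mem listOf_xN listOf_N1 wLink2_N1,
    frel3_of_word wLink2 wLink2_ok wLink2_U wLink2_W (yB_mem octN2_mem n2 n3 n5) listOf_N2
      listOf_N3 wLink2_N23,
    frel3_of_word wLink2 wLink2_ok wLink2_U wLink2_W (twoInd_mem octN4_mem.1) listOf_N4 listOf_N5
      wLink2_N45⟩

end Cfsg.Agent.Helper8
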