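import Mathlib
import Cfsg.Prelude.Def_SporadicCombinatorics
import Cfsg.Agent.Helper8.McL2025c

/-!
The 2025 minimal vectors: the orbits of the stabiliser of `(4, -4, 0, …)` and the counts.
-/

set_option autoImplicit false

namespace Cfsg.Agent.Helper8

open Cfsg Cfsg.Agent.Helper27
open scoped Pointwise

/-! ### the orbits -/

/-- the three orbits of the stabiliser of the vector `(4, -4, 0, …)` on the other members -/
theorem std_orbits2 {y : IVec} (hy : y ∈ leechLattice) (hn : sqNorm y = 32)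
    (h1 : dotInt vA0 y = 0) (h2 : dotInt wB0 y = 16) :
    y = xN ∨ (dotInt xN y = 0 ∧ FRel5 (twoInd octN4) y) ∨
    (dotInt xN y = 16 ∧ FRel5 (yB octN2 (gPt 17)) y) ∨
    (dotInt xN y = 8 ∧ FRel5 (yC octN1 (gPt 2)) y) := by
  obtain ⟨⟨a1, a2, a3, a4⟩, ⟨b1, b2, b3, b4, b5⟩, -, ⟨d1, d2⟩, -⟩ := octN_facts
  rcases std_classify2 hy hn h1 h2 with rfl | ⟨O, hO, hA, hB, rfl⟩ |
    ⟨O, hO, hA, hB, j, hj, hjA, hjB, rfl⟩ | ⟨O, hO, hA, hB, k, hk, hkB, rfl⟩
  · exact Or.inl rfl
  · right; left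
    refine ⟨?_, frel5_B0 octN4_mem hO d1 d2 hA hB⟩
    rw [dotInt_xN]
    unfold twoInd
    rw [if_neg hA, if_neg hB]
    norm_num
  · right; right; left
    refine ⟨?_, frel5_B2 octN2_mem hO b1 b2 b3 b4 b5 hA hB hj hjA hjB⟩
    rw [dotInt_xN, yB_apply_pA hA hjA, yB_apply_pB hB]
    norm_num
  · right; right; right
    have hkA : pA ≠ k := fun h => hA (h ▸ hk)
    refine ⟨?_, frel5_C octN1_mem hO a1 a2 a3 a4 hA hB hk hkB⟩
    rw [dotInt_xN, yC_apply_notMem hA hkA, yC_apply_mem hB (Ne.symm hkB)]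
    norm_num

/-- all members are equivalent under the stabiliser of the two base vectors -/
theorem frel3_all2 {y : IVec} (hy : y ∈ leechLattice) (hn : sqNorm y = 32)
    (h1 : dotInt vA0 y = 0) (h2 : dotInt wB0 y = 16) : FRel3 xN y := by
  obtain ⟨⟨a1, a2, a3, a4⟩, -, ⟨c1, c2, c3, c4⟩, -, ⟨e1, e2, e3, e4⟩⟩ := octN_facts
  obtain ⟨l1, l2, l3⟩ := frel3_links2
  have hC : ∀ {O : Finset GolayPt} {k : GolayPt}, O ∈ octads → pA ∉ O → pB ∈ O → k ∈ O →
      k ≠ pB → FRel3 xN (yC O k) := fun hO hA hB hk hkB =>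
    l1.trans (frel5_C octN1_mem hO a1 a2 a3 a4 hA hB hk hkB).toFRel3
  rcases std_orbits2 hy hn h1 h2 with rfl | ⟨-, r⟩ | ⟨-, r⟩ | ⟨-, r⟩
  · exact FRel3.refl xN_mem
  · exact ((hC octN5_mem e1 e2 e3 e4).trans l3.symm).trans r.toFRel3
  · exact ((hC octN3_mem c1 c2 c3 c4).trans l2.symm).trans r.toFRel3
  · exact l1.trans r.toFRel3

/-! ### counting octads -/

theorem ncard_octads_through_three {p q r : GolayPt} (hpq : p ≠ q) (hpr : p ≠ r) (hqr : q ≠ r) :
    {O : Finset GolayPt | O ∈ octads ∧ p ∈ O ∧ q ∈ O ∧ r ∈ O}.ncard = 21 := by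
  classical
  have h3 : ({p, q, r} : Finset GolayPt).card = 3 := by
    rw [Finset.card_insert_of_notMem, Finset.card_pair hqr]
    simp only [Finset.mem_insert, Finset.mem_singleton, not_or]
    exact ⟨hpq, hpr⟩
  have h := Helper26.card_blocks_through octads_steiner ({p, q, r} : Finset GolayPt)
    (by rw [h3]; norm_num)
  rw [Helper26.card_golayPt, h3] at h
  have e1 : Nat.choose (8 - 3) (5 - 3) = 10 := by decide
  have e2 : Nat.choose (24 - 3) (5 - 3) = 210 := by decide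
  rw [e1, e2] at h
  have hset : {O : Finset GolayPt | O ∈ octads ∧ p ∈ O ∧ q ∈ O ∧ r ∈ O} =
      {b : Finset GolayPt | b ∈ octads ∧ ({p, q, r} : Finset GolayPt) ⊆ b} := by
    ext O
    simp only [Set.mem_ofPred_eq, Finset.insert_subset_iff, Finset.singleton_subset_iff]
  rw [hset]
  omega

theorem ncard_octads_through_one (p : GolayPt) :
    {O : Finset GolayPt | O ∈ octads ∧ p ∈ O}.ncard = 253 := by
  classical
  have h := Helper26.card_blocks_through octads_steiner ({p} : Finset GolayPt)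
    (by rw [Finset.card_singleton]; norm_num)
  rw [Helper26.card_golayPt, Finset.card_singleton] at h
  have e1 : Nat.choose (8 - 1) (5 - 1) = 35 := by decide
  have e2 : Nat.choose (24 - 1) (5 - 1) = 8855 := by decide
  rw [e1, e2] at h
  have hset : {O : Finset GolayPt | O ∈ octads ∧ p ∈ O} =
      {b : Finset GolayPt | b ∈ octads ∧ ({p} : Finset GolayPt) ⊆ b} := by
    ext O
    simp only [Set.mem_ofPred_eq, Finset.singleton_subset_iff]
  rw [hset]
  omega

theorem ncard_octads_one_not {p q : GolayPt} (hpq : p ≠ q) :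
    {O : Finset GolayPt | O ∈ octads ∧ p ∈ O ∧ q ∉ O}.ncard = 176 := by
  classical
  have h2 : ({p, q} : Finset GolayPt).card = 2 := Finset.card_pair hpq
  have c2 := Helper26.card_octads_through_two octads_steiner h2
  have c1 := ncard_octads_through_one p
  have hsub : {o' : Finset GolayPt | o' ∈ octads ∧ ({p, q} : Finset GolayPt) ⊆ o'} ⊆
      {O : Finset GolayPt | O ∈ octads ∧ p ∈ O} := by
    rintro o ⟨ho, hs⟩
    exact ⟨ho, hs (by simp)⟩
  have hdiff : {O : Finset GolayPt | O ∈ octads ∧ p ∈ O ∧ q ∉ O} =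
      {O : Finset GolayPt | O ∈ octads ∧ p ∈ O} \
        {o' : Finset GolayPt | o' ∈ octads ∧ ({p, q} : Finset GolayPt) ⊆ o'} := by
    ext O
    simp only [Set.mem_ofPred_eq, Set.mem_sdiff, Finset.insert_subset_iff,
      Finset.singleton_subset_iff]
    tauto
  rw [hdiff, Set.ncard_sdiff hsub (Set.toFinite _), c1, c2]

theorem ncard_octads_none {p q : GolayPt} (hpq : p ≠ q) :
    {O : Finset GolayPt | O ∈ octads ∧ p ∉ O ∧ q ∉ O}.ncard = 330 := by
  classical
  have c0 := octads_ncard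
  have c1 := ncard_octads_through_one p
  have c2 := ncard_octads_one_not (Ne.symm hpq)
  have hsub1 : {O : Finset GolayPt | O ∈ octads ∧ p ∈ O} ⊆ octads := fun O hO => hO.1
  have hN0 : {O : Finset GolayPt | O ∈ octads ∧ p ∉ O}.ncard = 506 := by
    have : {O : Finset GolayPt | O ∈ octads ∧ p ∉ O} =
        octads \ {O : Finset GolayPt | O ∈ octads ∧ p ∈ O} := by
      ext O
      simp only [Set.mem_ofPred_eq, Set.mem_sdiff]
      tauto
    rw [this, Set.ncard_sdiff hsub1 (Set.toFinite _), c0, c1]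
  have hsub2 : {O : Finset GolayPt | O ∈ octads ∧ q ∈ O ∧ p ∉ O} ⊆
      {O : Finset GolayPt | O ∈ octads ∧ p ∉ O} := fun O hO => ⟨hO.1, hO.2.2⟩
  have : {O : Finset GolayPt | O ∈ octads ∧ p ∉ O ∧ q ∉ O} =
      {O : Finset GolayPt | O ∈ octads ∧ p ∉ O} \
        {O : Finset GolayPt | O ∈ octads ∧ q ∈ O ∧ p ∉ O} := by
    ext O
    simp only [Set.mem_ofPred_eq, Set.mem_sdiff]
    tauto
  rw [this, Set.ncard_sdiff hsub2 (Set.toFinite _), hN0, c2]

end Cfsg.Agent.Helper8
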