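import Mathlib
import Cfsg.Prelude.Def_SporadicCombinatorics
import Cfsg.Agent.Helper8.McL2025d

/-!
The 2025 minimal vectors: the counts of the three classes of inner products with `(4, -4, 0, …)`.
-/

set_option autoImplicit false

namespace Cfsg.Agent.Helper8

open Cfsg Cfsg.Agent.Helper27
open scoped Pointwise

/-- the second standard configuration -/
def cfgN : Set IVec := {y | y ∈ leechLattice ∧ sqNorm y = 32 ∧ dotInt vA0 y = 0 ∧ dotInt wB0 y = 16}

/-- the members with a given inner product with `(4, -4, 0, …)` -/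
def clsN (c : ℤ) : Set IVec := {y | y ∈ cfgN ∧ dotInt xN y = c}

/-! ### sums and sums of squares -/

theorem yB_apply_eq {O : Finset GolayPt} {j : GolayPt} (hB : pB ∈ O) (hj : j ∈ O) (hjB : j ≠ pB)
    (i : GolayPt) : yB O j i =
      twoInd O i - (if i = pB then 4 else 0) - (if i = j then 4 else 0) := by
  unfold yB twoInd
  by_cases hi : i ∈ O
  · rw [if_pos hi, if_pos hi]
    by_cases h1 : i = pB
    · have h2 : i ≠ j := fun h => hjB (h.symm.trans h1)
      rw [if_pos (Or.inl h1), if_pos h1, if_neg h2]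
      norm_num
    · by_cases h2 : i = j
      · rw [if_pos (Or.inr h2), if_neg h1, if_pos h2]
        norm_num
      · rw [if_neg (by rintro (h | h); exacts [h1 h, h2 h]), if_neg h1, if_neg h2]
        norm_num
  · have h1 : i ≠ pB := fun h => hi (h ▸ hB)
    have h2 : i ≠ j := fun h => hi (h ▸ hj)
    rw [if_neg hi, if_neg hi, if_neg h1, if_neg h2]
    norm_num

theorem sum_yB {O : Finset GolayPt} (hO : O ∈ octads) {j : GolayPt} (hB : pB ∈ O) (hj : j ∈ O)
    (hjB : j ≠ pB) : ∑ i, yB O j i = 8 := by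
  classical
  simp only [yB_apply_eq hB hj hjB]
  rw [Finset.sum_sub_distrib, Finset.sum_sub_distrib, sum_twoInd, hO.2,
    Finset.sum_ite_eq' Finset.univ pB, Finset.sum_ite_eq' Finset.univ j,
    if_pos (Finset.mem_univ _), if_pos (Finset.mem_univ _)]
  norm_num

theorem sqNorm_yB {O : Finset GolayPt} (hO : O ∈ octads) (j : GolayPt) : sqNorm (yB O j) = 32 := by
  classical
  unfold sqNorm yB
  have h : ∀ i : GolayPt, (if i ∈ O then (if i = pB ∨ i = j then (-2 : ℤ) else 2) else 0) ^ 2 =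
      if i ∈ O then 4 else 0 := by
    intro i
    split_ifs <;> norm_num
  simp only [h]
  rw [Finset.sum_ite_mem Finset.univ O (fun _ => (4 : ℤ)), Finset.univ_inter, Finset.sum_const,
    nsmul_eq_mul, hO.2]
  norm_num

/-! ### membership of the shapes -/

theorem twoInd_mem_clsN {O : Finset GolayPt} (hO : O ∈ octads) (hA : pA ∉ O) (hB : pB ∉ O) :
    twoInd O ∈ clsN 0 := by
  refine ⟨⟨twoInd_mem hO.1, ?_, ?_, ?_⟩, ?_⟩
  · rw [sqNorm_twoInd, hO.2]
    norm_num
  · rw [dotInt_vA0]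
    unfold twoInd
    rw [if_neg hA, if_neg hB]
    norm_num
  · unfold wB0
    rw [dotInt_oddBase, sum_twoInd, hO.2]
    unfold twoInd
    rw [if_neg hB]
    norm_num
  · rw [dotInt_xN]
    unfold twoInd
    rw [if_neg hA, if_neg hB]
    norm_num

theorem yB_mem_clsN {O : Finset GolayPt} (hO : O ∈ octads) {j : GolayPt} (hA : pA ∈ O) (hB : pB ∈ O)
    (hj : j ∈ O) (hjA : j ≠ pA) (hjB : j ≠ pB) : yB O j ∈ clsN 16 := by
  refine ⟨⟨yB_mem hO hB hj hjB, sqNorm_yB hO j, ?_, ?_⟩, ?_⟩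
  · rw [dotInt_vA0, yB_apply_pA hA hjA, yB_apply_pB hB]
    norm_num
  · unfold wB0
    rw [dotInt_oddBase, sum_yB hO hB hj hjB, yB_apply_pB hB]
    norm_num
  · rw [dotInt_xN, yB_apply_pA hA hjA, yB_apply_pB hB]
    norm_num

theorem yC_mem_clsN {O : Finset GolayPt} (hO : O ∈ octads) {k : GolayPt} (hA : pA ∉ O) (hB : pB ∈ O)
    (hk : k ∈ O) (hkB : k ≠ pB) : yC O k ∈ clsN 8 := by
  have hkA : pA ≠ k := fun h => hA (h ▸ hk)
  refine ⟨⟨yC_mem hO.1 k, ?_, ?_, ?_⟩, ?_⟩
  · unfold yC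
    rw [sqNorm_signedPerm, sqNorm_oddBase]
  · rw [dotInt_vA0, yC_apply_notMem hA hkA, yC_apply_mem hB (Ne.symm hkB)]
    norm_num
  · unfold wB0
    rw [dotInt_oddBase, yC_apply_mem hB (Ne.symm hkB)]
    unfold yC
    rw [sum_signedPerm_oddBase, if_pos hk, hO.2]
    norm_num
  · rw [dotInt_xN, yC_apply_notMem hA hkA, yC_apply_mem hB (Ne.symm hkB)]
    norm_num

/-! ### the classes as images -/

theorem clsN_zero_eq : clsN 0 =
    twoInd '' {O : Finset GolayPt | O ∈ octads ∧ pA ∉ O ∧ pB ∉ O} := by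
  ext y
  constructor
  · rintro ⟨⟨hy, hn, h1, h2⟩, h3⟩
    rcases std_classify2 hy hn h1 h2 with rfl | ⟨O, hO, hA, hB, rfl⟩ |
      ⟨O, hO, hA, hB, j, hj, hjA, hjB, rfl⟩ | ⟨O, hO, hA, hB, k, hk, hkB, rfl⟩
    · exfalso
      rw [dotInt_self, show xN = Helper26.vPQ pA pB from rfl, Helper26.sqNorm_vPQ pA_ne_pB] at h3
      omega
    · exact ⟨O, ⟨hO, hA, hB⟩, rfl⟩
    · exfalso
      rw [(yB_mem_clsN hO hA hB hj hjA hjB).2] at h3
      omega
    · exfalso
      rw [(yC_mem_clsN hO hA hB hk hkB).2] at h3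
      omega
  · rintro ⟨O, ⟨hO, hA, hB⟩, rfl⟩
    exact twoInd_mem_clsN hO hA hB

theorem ncard_clsN_zero : (clsN 0).ncard = 330 := by
  rw [clsN_zero_eq, Set.ncard_image_of_injective _ twoInd_injective, ncard_octads_none pA_ne_pB]

/-- the pairs of a point off the two distinguished points and an octad of a given kind -/
theorem card_sigma_rest22 (F : GolayPt → Finset (Finset GolayPt)) (n : ℕ)
    (hF : ∀ j ∈ rest22, (F j).card = n) : (rest22.sigma F).card = 22 * n := by
  rw [Finset.card_sigma, Finset.sum_congr rfl hF, Finset.sum_const, card_rest22, smul_eq_mul]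

theorem mem_rest22 (j : GolayPt) : j ∈ rest22 ↔ j ≠ pA ∧ j ≠ pB := by
  unfold rest22
  rw [Finset.mem_erase, Finset.mem_erase]
  exact ⟨fun h => ⟨h.2.1, h.1⟩, fun h => ⟨h.2, h.1, Finset.mem_univ _⟩⟩

theorem yB_injective {O O' : Finset GolayPt} {j j' : GolayPt} (hj : j ∈ O)
    (hjB : j ≠ pB) (h : yB O j = yB O' j') :
    j = j' ∧ O = O' := by
  have hO : O = O' := by
    ext i
    have := congrFun h i
    unfold yB at this
    by_cases h1 : i ∈ O <;> by_cases h2 : i ∈ O'
    · exact ⟨fun _ => h2, fun _ => h1⟩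
    · rw [if_pos h1, if_neg h2] at this
      split_ifs at this
      omega
    · rw [if_neg h1, if_pos h2] at this
      split_ifs at this
      omega
    · exact ⟨fun h' => absurd h' h1, fun h' => absurd h' h2⟩
  refine ⟨?_, hO⟩
  have := congrFun h j
  unfold yB at this
  rw [if_pos hj, if_pos (Or.inr rfl), if_pos (hO ▸ hj)] at this
  by_cases h3 : j = pB ∨ j = j'
  · rcases h3 with h3 | h3
    · exact absurd h3 hjB
    · exact h3
  · rw [if_neg h3] at this
    omega

theorem yC_injective {O O' : Finset GolayPt} {k k' : GolayPt} (h : yC O k = yC O' k') :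
    k = k' ∧ O = O' := by
  have hk : k = k' := by
    have := congrFun h k
    unfold yC at this
    rw [signedPerm_one_apply, signedPerm_one_apply] at this
    unfold oddBase at this
    rw [if_pos rfl] at this
    by_contra hne
    rw [if_neg hne] at this
    split_ifs at this <;> omega
  subst hk
  refine ⟨rfl, ?_⟩
  ext i
  have := congrFun h i
  unfold yC at this
  rw [signedPerm_one_apply, signedPerm_one_apply] at this
  have hne : oddBase k i ≠ 0 := by
    unfold oddBase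
    split_ifs <;> norm_num
  by_cases h1 : i ∈ O <;> by_cases h2 : i ∈ O'
  · exact ⟨fun _ => h2, fun _ => h1⟩
  · rw [if_pos h1, if_neg h2] at this
    exfalso
    apply hne
    omega
  · rw [if_neg h1, if_pos h2] at this
    exfalso
    apply hne
    omega
  · exact ⟨fun h' => absurd h' h1, fun h' => absurd h' h2⟩

theorem ncard_clsN_sixteen : (clsN 16).ncard = 462 := by
  classical
  let F : GolayPt → Finset (Finset GolayPt) := fun j =>
    Finset.univ.filter fun O => O ∈ octads ∧ pA ∈ O ∧ pB ∈ O ∧ j ∈ O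
  have hmemF : ∀ j O, O ∈ F j ↔ O ∈ octads ∧ pA ∈ O ∧ pB ∈ O ∧ j ∈ O := by
    intro j O
    simp only [F, Finset.mem_filter, Finset.mem_univ, true_and]
  have hF : ∀ j ∈ rest22, (F j).card = 21 := by
    intro j hj
    rw [mem_rest22] at hj
    rw [← ncard_octads_through_three pA_ne_pB (Ne.symm hj.1) (Ne.symm hj.2),
      ← Set.ncard_coe_finset]
    congr 1
    ext O
    rw [Finset.mem_coe, hmemF]
    rfl
  have hcard := card_sigma_rest22 F 21 hF
  have himg : clsN 16 = ↑((rest22.sigma F).image fun p => yB p.2 p.1) := by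
    ext y
    rw [Finset.mem_coe, Finset.mem_image]
    constructor
    · rintro ⟨⟨hy, hn, h1, h2⟩, h3⟩
      rcases std_classify2 hy hn h1 h2 with rfl | ⟨O, hO, hA, hB, rfl⟩ |
        ⟨O, hO, hA, hB, j, hj, hjA, hjB, rfl⟩ | ⟨O, hO, hA, hB, k, hk, hkB, rfl⟩
      · exfalso
        rw [dotInt_self, show xN = Helper26.vPQ pA pB from rfl, Helper26.sqNorm_vPQ pA_ne_pB] at h3
        omega
      · exfalso
        rw [(twoInd_mem_clsN hO hA hB).2] at h3
        omega
      · refine ⟨⟨j, O⟩, ?_, rfl⟩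
        rw [Finset.mem_sigma, mem_rest22, hmemF]
        exact ⟨⟨hjA, hjB⟩, hO, hA, hB, hj⟩
      · exfalso
        rw [(yC_mem_clsN hO hA hB hk hkB).2] at h3
        omega
    · rintro ⟨⟨j, O⟩, hp, rfl⟩
      rw [Finset.mem_sigma, mem_rest22, hmemF] at hp
      exact yB_mem_clsN hp.2.1 hp.2.2.1 hp.2.2.2.1 hp.2.2.2.2 hp.1.1 hp.1.2
  rw [himg, Set.ncard_coe_finset, Finset.card_image_of_injOn, hcard]
  rintro ⟨j, O⟩ hp ⟨j', O'⟩ hp' h
  rw [Finset.mem_coe, Finset.mem_sigma, mem_rest22, hmemF] at hp hp'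
  obtain ⟨e1, e2⟩ := yB_injective hp.2.2.2.2 hp.1.2 h
  subst e1
  subst e2
  rfl

theorem ncard_clsN_eight : (clsN 8).ncard = 1232 := by
  classical
  let F : GolayPt → Finset (Finset GolayPt) := fun k =>
    Finset.univ.filter fun O => O ∈ octads ∧ pB ∈ O ∧ k ∈ O ∧ pA ∉ O
  have hmemF : ∀ k O, O ∈ F k ↔ O ∈ octads ∧ pB ∈ O ∧ k ∈ O ∧ pA ∉ O := by
    intro k O
    simp only [F, Finset.mem_filter, Finset.mem_univ, true_and]
  have hF : ∀ k ∈ rest22, (F k).card = 56 := by
    intro k hk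
    rw [mem_rest22] at hk
    rw [← ncard_octads_two_not (Ne.symm hk.2) (Ne.symm pA_ne_pB) hk.1, ← Set.ncard_coe_finset]
    congr 1
    ext O
    rw [Finset.mem_coe, hmemF]
    rfl
  have hcard := card_sigma_rest22 F 56 hF
  have himg : clsN 8 = ↑((rest22.sigma F).image fun p => yC p.2 p.1) := by
    ext y
    rw [Finset.mem_coe, Finset.mem_image]
    constructor
    · rintro ⟨⟨hy, hn, h1, h2⟩, h3⟩
      rcases std_classify2 hy hn h1 h2 with rfl | ⟨O, hO, hA, hB, rfl⟩ |
        ⟨O, hO, hA, hB, j, hj, hjA, hjB, rfl⟩ | ⟨O, hO, hA, hB, k, hk, hkB, rfl⟩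
      · exfalso
        rw [dotInt_self, show xN = Helper26.vPQ pA pB from rfl, Helper26.sqNorm_vPQ pA_ne_pB] at h3
        omega
      · exfalso
        rw [(twoInd_mem_clsN hO hA hB).2] at h3
        omega
      · exfalso
        rw [(yB_mem_clsN hO hA hB hj hjA hjB).2] at h3
        omega
      · refine ⟨⟨k, O⟩, ?_, rfl⟩
        rw [Finset.mem_sigma, mem_rest22, hmemF]
        exact ⟨⟨fun h => hA (h ▸ hk), hkB⟩, hO, hB, hk, hA⟩
    · rintro ⟨⟨k, O⟩, hp, rfl⟩
      rw [Finset.mem_sigma, mem_rest22, hmemF] at hp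
      exact yC_mem_clsN hp.2.1 hp.2.2.2.2 hp.2.2.1 hp.2.2.2.1 hp.1.2
  rw [himg, Set.ncard_coe_finset, Finset.card_image_of_injOn, hcard]
  rintro ⟨k, O⟩ _ ⟨k', O'⟩ _ h
  obtain ⟨e1, e2⟩ := yC_injective h
  subst e1
  subst e2
  rfl

end Cfsg.Agent.Helper8
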