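import Mathlib
import Cfsg.Prelude.Def_SporadicCombinatorics
import Cfsg.Agent.Helper8.McL2025e

/-!
The 2025 minimal vectors: the statements for the standard pair and their transport to an arbitrary
pair of minimal vectors with inner product `-8`.
-/

set_option autoImplicit false

namespace Cfsg.Agent.Helper8

open Cfsg Cfsg.Agent.Helper27
open scoped Pointwise

/-- the second configuration attached to a pair -/
def cfg2 (v w : ↥leechLattice) : Set ↥leechLattice :=
  {x : ↥leechLattice | sqNorm (x : IVec) = 32 ∧ dotInt (v : IVec) (x : IVec) = 0 ∧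
    dotInt (w : IVec) (x : IVec) = 16}

/-- the count and the transitivity -/
def Trans2025 (v w : ↥leechLattice) : Prop :=
  (cfg2 v w).ncard = 2025 ∧
  ∀ x ∈ cfg2 v w, ∀ x' ∈ cfg2 v w, ∃ g : ↥Co0, g • v = v ∧ g • w = w ∧ g • x = x'

/-- the statement on the orbits of the stabiliser of a member -/
def Rank4 (v w x : ↥leechLattice) : Prop :=
  {y : ↥leechLattice | y ∈ cfg2 v w ∧ dotInt (x : IVec) (y : IVec) = 0}.ncard = 330 ∧
  {y : ↥leechLattice | y ∈ cfg2 v w ∧ dotInt (x : IVec) (y : IVec) = 16}.ncard = 462 ∧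
  {y : ↥leechLattice | y ∈ cfg2 v w ∧ dotInt (x : IVec) (y : IVec) = 8}.ncard = 1232 ∧
  ∀ y ∈ cfg2 v w, ∀ y' ∈ cfg2 v w, y ≠ x → y' ≠ x →
    dotInt (x : IVec) (y : IVec) = dotInt (x : IVec) (y' : IVec) →
    ∃ g : ↥Co0, g • v = v ∧ g • w = w ∧ g • x = x ∧ g • y = y'

/-! ### transport -/

theorem mem_cfg2_smul (g : ↥Co0) (v w y : ↥leechLattice) :
    g • y ∈ cfg2 (g • v) (g • w) ↔ y ∈ cfg2 v w := by
  unfold cfg2
  simp only [Set.mem_ofPred_eq]
  rw [co0_sqNorm, co0_dotInt, co0_dotInt]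

theorem trans2025_transport (g : ↥Co0) (v w : ↥leechLattice) (h : Trans2025 (g • v) (g • w)) :
    Trans2025 v w := by
  obtain ⟨h1, h2⟩ := h
  refine ⟨?_, ?_⟩
  · rw [← h1]
    apply ncard_eq_of_smul g
    intro y
    exact mem_cfg2_smul g v w y
  · intro x hx x' hx'
    obtain ⟨k, k1, k2, k3⟩ := h2 (g • x) ((mem_cfg2_smul g v w x).2 hx) (g • x')
      ((mem_cfg2_smul g v w x').2 hx')
    refine ⟨g⁻¹ * k * g, ?_, ?_, ?_⟩
    · rw [mul_smul, mul_smul, k1, inv_smul_smul]
    · rw [mul_smul, mul_smul, k2, inv_smul_smul]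
    · rw [mul_smul, mul_smul, k3, inv_smul_smul]

theorem rank4_transport (g : ↥Co0) (v w x : ↥leechLattice) (h : Rank4 (g • v) (g • w) (g • x)) :
    Rank4 v w x := by
  obtain ⟨h1, h2, h3, h4⟩ := h
  refine ⟨?_, ?_, ?_, ?_⟩
  · rw [← h1]
    apply ncard_eq_of_smul g
    intro y
    simp only [Set.mem_ofPred_eq]
    rw [mem_cfg2_smul, co0_dotInt]
  · rw [← h2]
    apply ncard_eq_of_smul g
    intro y
    simp only [Set.mem_ofPred_eq]
    rw [mem_cfg2_smul, co0_dotInt]
  · rw [← h3]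
    apply ncard_eq_of_smul g
    intro y
    simp only [Set.mem_ofPred_eq]
    rw [mem_cfg2_smul, co0_dotInt]
  · intro y hy y' hy' hyx hyx' hd
    obtain ⟨k, k1, k2, k3, k4⟩ := h4 (g • y) ((mem_cfg2_smul g v w y).2 hy) (g • y')
      ((mem_cfg2_smul g v w y').2 hy') (fun h => hyx (smul_left_cancel g h))
      (fun h => hyx' (smul_left_cancel g h)) (by rw [co0_dotInt, co0_dotInt]; exact hd)
    refine ⟨g⁻¹ * k * g, ?_, ?_, ?_, ?_⟩
    · rw [mul_smul, mul_smul, k1, inv_smul_smul]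
    · rw [mul_smul, mul_smul, k2, inv_smul_smul]
    · rw [mul_smul, mul_smul, k3, inv_smul_smul]
    · rw [mul_smul, mul_smul, k4, inv_smul_smul]

/-! ### the standard pair -/

theorem mem_cfg2_std (y : ↥leechLattice) : y ∈ cfg2 v0L w0L ↔ (y : IVec) ∈ cfgN := by
  unfold cfg2 cfgN
  simp only [Set.mem_ofPred_eq]
  exact ⟨fun h => ⟨y.2, h⟩, fun h => h.2⟩

theorem sqNorm_xN : sqNorm xN = 32 := Helper26.sqNorm_vPQ pA_ne_pB

theorem xN_mem_cfgN : xN ∈ cfgN := by
  refine ⟨xN_mem, sqNorm_xN, ?_, ?_⟩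
  · rw [dotInt_comm, dotInt_xN]
    have h := listOf_vA0
    unfold vA0
    simp only [Pi.add_apply]
    rw [Pi.single_eq_same, Pi.single_eq_of_ne pA_ne_pB, Pi.single_eq_same,
      Pi.single_eq_of_ne (Ne.symm pA_ne_pB)]
    norm_num
  · rw [dotInt_comm, dotInt_xN]
    unfold wB0 oddBase
    rw [if_neg pA_ne_pB, if_pos rfl]
    norm_num

theorem cfgN_eq : cfgN = {xN} ∪ (clsN 0 ∪ (clsN 16 ∪ clsN 8)) := by
  ext y
  simp only [Set.mem_union, Set.mem_singleton_iff]
  constructor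
  · intro hy
    rcases std_orbits2 hy.1 hy.2.1 hy.2.2.1 hy.2.2.2 with h | h | h | h
    · exact Or.inl h
    · exact Or.inr (Or.inl ⟨hy, h.1⟩)
    · exact Or.inr (Or.inr (Or.inl ⟨hy, h.1⟩))
    · exact Or.inr (Or.inr (Or.inr ⟨hy, h.1⟩))
  · rintro (rfl | h | h | h)
    · exact xN_mem_cfgN
    · exact h.1
    · exact h.1
    · exact h.1

theorem cfgN_finite : cfgN.Finite := by
  have h0 : (clsN 0).Finite := Set.finite_of_ncard_ne_zero (by rw [ncard_clsN_zero]; norm_num)
  have h16 : (clsN 16).Finite := Set.finite_of_ncard_ne_zero (by rw [ncard_clsN_sixteen]; norm_num)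
  have h8 : (clsN 8).Finite := Set.finite_of_ncard_ne_zero (by rw [ncard_clsN_eight]; norm_num)
  rw [cfgN_eq]
  exact (Set.finite_singleton _).union (h0.union (h16.union h8))

theorem ncard_cfgN : cfgN.ncard = 2025 := by
  have hfin := cfgN_finite
  have h0 : (clsN 0).Finite := hfin.subset fun y hy => hy.1
  have h16 : (clsN 16).Finite := hfin.subset fun y hy => hy.1
  have h8 : (clsN 8).Finite := hfin.subset fun y hy => hy.1
  have hx : dotInt xN xN = 32 := by rw [dotInt_self, sqNorm_xN]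
  have d1 : Disjoint ({xN} : Set IVec) (clsN 0 ∪ (clsN 16 ∪ clsN 8)) := by
    rw [Set.disjoint_left]
    intro y hy hy'
    rw [Set.mem_singleton_iff] at hy
    subst hy
    rcases hy' with h | h | h
    · have := h.2
      omega
    · have := h.2
      omega
    · have := h.2
      omega
  have d2 : Disjoint (clsN 0) (clsN 16 ∪ clsN 8) := by
    rw [Set.disjoint_left]
    rintro y h (h' | h')
    · have := h.2
      have := h'.2
      omega
    · have := h.2
      have := h'.2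
      omega
  have d3 : Disjoint (clsN 16) (clsN 8) := by
    rw [Set.disjoint_left]
    rintro y h h'
    have := h.2
    have := h'.2
    omega
  rw [cfgN_eq, Set.ncard_union_eq d1 (Set.finite_singleton _) (h0.union (h16.union h8)),
    Set.ncard_union_eq d2 h0 (h16.union h8), Set.ncard_union_eq d3 h16 h8, Set.ncard_singleton,
    ncard_clsN_zero, ncard_clsN_sixteen, ncard_clsN_eight]

theorem ncard_coe_eq (A : Set ↥leechLattice) (B : Set IVec)
    (h : ∀ y : ↥leechLattice, y ∈ A ↔ (y : IVec) ∈ B) (hB : ∀ y ∈ B, y ∈ leechLattice) :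
    A.ncard = B.ncard := by
  apply Set.ncard_congr (fun (y : ↥leechLattice) _ => (y : IVec))
  · intro y hy
    exact (h y).1 hy
  · intro a b _ _ hab
    exact Subtype.ext hab
  · intro y hy
    exact ⟨⟨y, hB y hy⟩, (h _).2 hy, rfl⟩

theorem trans2025_std : Trans2025 v0L w0L := by
  refine ⟨?_, ?_⟩
  · rw [← ncard_cfgN]
    exact ncard_coe_eq _ _ mem_cfg2_std (fun y hy => hy.1)
  · intro x hx x' hx'
    rw [mem_cfg2_std] at hx hx'
    have r1 := frel3_all2 hx.1 hx.2.1 hx.2.2.1 hx.2.2.2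
    have r2 := frel3_all2 hx'.1 hx'.2.1 hx'.2.2.1 hx'.2.2.2
    obtain ⟨hmem, g, g1, g2, g3⟩ := r1.symm.trans r2
    exact ⟨g, g1, g2, Subtype.ext g3⟩

theorem rank4_std : Rank4 v0L w0L xNL := by
  have hcls : ∀ c : ℤ, {y : ↥leechLattice | y ∈ cfg2 v0L w0L ∧
      dotInt (xNL : IVec) (y : IVec) = c}.ncard = (clsN c).ncard := by
    intro c
    apply ncard_coe_eq
    · intro y
      simp only [Set.mem_ofPred_eq]
      rw [mem_cfg2_std]
      rfl
    · intro y hy
      exact hy.1.1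
  refine ⟨?_, ?_, ?_, ?_⟩
  · rw [hcls, ncard_clsN_zero]
  · rw [hcls, ncard_clsN_sixteen]
  · rw [hcls, ncard_clsN_eight]
  · intro y hy y' hy' hne hne' hd
    rw [mem_cfg2_std] at hy hy'
    have hrel : FRel5 (y : IVec) (y' : IVec) := by
      rcases std_orbits2 hy.1 hy.2.1 hy.2.2.1 hy.2.2.2 with e | ⟨e, r⟩ | ⟨e, r⟩ | ⟨e, r⟩
      · exact absurd (Subtype.ext e) hne
      all_goals
        rcases std_orbits2 hy'.1 hy'.2.1 hy'.2.2.1 hy'.2.2.2 with e' | ⟨e', r'⟩ | ⟨e', r'⟩ | ⟨e', r'⟩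
        · exact absurd (Subtype.ext e') hne'
        all_goals
          first
          | exact r.symm.trans r'
          | (exfalso
             have hd' : dotInt xN (y : IVec) = dotInt xN (y' : IVec) := hd
             rw [e, e'] at hd'
             omega)
    obtain ⟨hmem, g, g1, g2, g3, g4⟩ := hrel
    exact ⟨g, g1, g2, g3, Subtype.ext g4⟩

/-! ### an arbitrary pair -/

theorem exists_to_std (v w : ↥leechLattice) (hv : sqNorm (v : IVec) = 32)
    (hw : sqNorm (w : IVec) = 32) (hvw : dotInt (v : IVec) (w : IVec) = -8) :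
    ∃ g : ↥Co0, g • v = v0L ∧ g • w = w0L :=
  pair8_trans v w v0L w0L hv hw hvw sqNorm_vA0 sqNorm_wB0 dot_vA0_wB0

theorem trans2025_general (v w : ↥leechLattice) (hv : sqNorm (v : IVec) = 32)
    (hw : sqNorm (w : IVec) = 32) (hvw : dotInt (v : IVec) (w : IVec) = -8) : Trans2025 v w := by
  obtain ⟨g, hgv, hgw⟩ := exists_to_std v w hv hw hvw
  apply trans2025_transport g
  rw [hgv, hgw]
  exact trans2025_std

theorem rank4_general (v w x : ↥leechLattice) (hv : sqNorm (v : IVec) = 32)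
    (hw : sqNorm (w : IVec) = 32) (hvw : dotInt (v : IVec) (w : IVec) = -8) (hx : x ∈ cfg2 v w) :
    Rank4 v w x := by
  obtain ⟨g, hgv, hgw⟩ := exists_to_std v w hv hw hvw
  have hx' : g • x ∈ cfg2 v0L w0L := by
    rw [← hgv, ← hgw, mem_cfg2_smul]
    exact hx
  have hxN : xNL ∈ cfg2 v0L w0L := (mem_cfg2_std _).2 xN_mem_cfgN
  obtain ⟨h, h1, h2, h3⟩ := trans2025_std.2 (g • x) hx' xNL hxN
  apply rank4_transport (h * g)
  rw [mul_smul, mul_smul, mul_smul, hgv, hgw, h1, h2, h3]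
  exact rank4_std

/-- the orbit of the stabiliser of the triple is the class of the inner product -/
theorem orbit_eq_class (v w x y : ↥leechLattice) (hx : x ∈ cfg2 v w) (hy : y ∈ cfg2 v w)
    (hR : Rank4 v w x) (hc : dotInt (x : IVec) (y : IVec) ≠ 32) :
    MulAction.orbit ↥(MulAction.stabilizer ↥Co0 v ⊓ MulAction.stabilizer ↥Co0 w ⊓
      MulAction.stabilizer ↥Co0 x) y =
    {y' : ↥leechLattice | y' ∈ cfg2 v w ∧ dotInt (x : IVec) (y' : IVec) =
      dotInt (x : IVec) (y : IVec)} := by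
  have hxx : dotInt (x : IVec) (x : IVec) = 32 := by rw [dotInt_self, hx.1]
  ext y'
  constructor
  · rintro ⟨⟨h, hh⟩, rfl⟩
    rw [Subgroup.mem_inf, Subgroup.mem_inf, MulAction.mem_stabilizer_iff,
      MulAction.mem_stabilizer_iff, MulAction.mem_stabilizer_iff] at hh
    obtain ⟨⟨hv, hw⟩, hx'⟩ := hh
    show h • y ∈ cfg2 v w ∧ dotInt (x : IVec) ((h • y : ↥leechLattice) : IVec) = _
    constructor
    · have := (mem_cfg2_smul h v w y).2 hy
      rwa [hv, hw] at this
    · have := co0_dotInt h x y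
      rwa [hx'] at this
  · rintro ⟨hy', hd⟩
    have hne : y ≠ x := by
      rintro rfl
      exact hc hxx
    have hne' : y' ≠ x := by
      rintro rfl
      rw [hxx] at hd
      exact hc hd.symm
    obtain ⟨g, g1, g2, g3, g4⟩ := hR.2.2.2 y hy y' hy' hne hne' hd.symm
    refine ⟨⟨g, ?_⟩, g4⟩
    rw [Subgroup.mem_inf, Subgroup.mem_inf, MulAction.mem_stabilizer_iff,
      MulAction.mem_stabilizer_iff, MulAction.mem_stabilizer_iff]
    exact ⟨⟨g1, g2⟩, g3⟩

end Cfsg.Agent.Helper8
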