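import Mathlib
import Cfsg.Prelude.Def_SporadicCombinatorics
import Cfsg.Agent.Helper8.McL2025f
import Cfsg.Agent.Helper8.BlockCrit

/-!
The stabiliser of the standard pair of minimal vectors with inner product `-8`: its order.
-/

set_option autoImplicit false

namespace Cfsg.Agent.Helper8

open Cfsg Cfsg.Agent.Helper27
open scoped Pointwise

/-- the stabiliser of the standard pair -/
abbrev GM : Subgroup ↥Co0 := MulAction.stabilizer ↥Co0 v0L ⊓ MulAction.stabilizer ↥Co0 w0L

theorem mem_GM (g : ↥Co0) : g ∈ GM ↔ g • v0L = v0L ∧ g • w0L = w0L := by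
  rw [Subgroup.mem_inf, MulAction.mem_stabilizer_iff, MulAction.mem_stabilizer_iff]

instance finite_co0 : Finite ↥Co0 :=
  Nat.finite_of_card_ne_zero (by rw [card_co0]; norm_num)

/-- the order of the stabiliser of a minimal vector -/
theorem card_stab_v0L : Nat.card ↥(MulAction.stabilizer ↥Co0 v0L) = 42305421312000 := by
  have h1 := card_fiber_set (G := ↥Co0) v0L
    {v : ↥leechLattice | v.1 ∈ leechLattice ∧ sqNorm v.1 = 32}
    (fun s hs => co0_transitive_min32 v0L s sqNorm_vA0 hs.2)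
  have e1 : Nat.card {g : ↥Co0 // g • v0L ∈
      {v : ↥leechLattice | v.1 ∈ leechLattice ∧ sqNorm v.1 = 32}} = Nat.card ↥Co0 :=
    Nat.card_congr (Equiv.subtypeUnivEquiv fun g =>
      ⟨(g • v0L).2, by rw [co0_sqNorm]; exact sqNorm_vA0⟩)
  have c1 : Nat.card ↥{v : ↥leechLattice | v.1 ∈ leechLattice ∧ sqNorm v.1 = 32} = 196560 := by
    have h := card_subtype_lattice (fun x => x ∈ leechLattice ∧ sqNorm x = 32) (fun x hx => hx.1)
    have h' := ncard_leech 32 (by norm_num)
    have e : leechCount 32 = 196560 := by decide +kernel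
    rw [e] at h'
    have h'' : {x : IVec | x ∈ leechLattice ∧ sqNorm x = 32}.ncard = 196560 := by
      exact_mod_cast h'
    rw [← h'']
    exact h
  rw [e1, c1, card_co0] at h1
  omega

/-- the order of the stabiliser of the standard pair -/
theorem card_GM : Nat.card ↥GM = 898128000 := by
  have h1 := card_fiber_set (G := ↥(MulAction.stabilizer ↥Co0 v0L)) w0L
    {y : ↥leechLattice | y.1 ∈ leechLattice ∧ sqNorm y.1 = 32 ∧ dotInt vA0 y.1 = -8}
    (by
      intro s hs
      obtain ⟨g, hg1, hg2⟩ := Cfsg.Agent.S1575.result v0L w0L s sqNorm_vA0 sqNorm_wB0 hs.2.1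
        dot_vA0_wB0 hs.2.2
      exact ⟨⟨g, hg1⟩, hg2⟩)
  have e1 : Nat.card {g : ↥(MulAction.stabilizer ↥Co0 v0L) // g • w0L ∈
      {y : ↥leechLattice | y.1 ∈ leechLattice ∧ sqNorm y.1 = 32 ∧ dotInt vA0 y.1 = -8}} =
      Nat.card ↥(MulAction.stabilizer ↥Co0 v0L) :=
    Nat.card_congr (Equiv.subtypeUnivEquiv fun g => by
      refine ⟨(g • w0L).2, ?_, ?_⟩
      · show sqNorm (((g : ↥Co0) • w0L : ↥leechLattice) : IVec) = 32
        rw [co0_sqNorm]
        exact sqNorm_wB0
      · have h := co0_dotInt (g : ↥Co0) v0L w0L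
        have hg : (g : ↥Co0) • v0L = v0L := g.2
        rw [hg] at h
        show dotInt vA0 (((g : ↥Co0) • w0L : ↥leechLattice) : IVec) = -8
        rw [← dot_vA0_wB0]
        exact h)
  have c1 : Nat.card ↥{y : ↥leechLattice | y.1 ∈ leechLattice ∧ sqNorm y.1 = 32 ∧
      dotInt vA0 y.1 = -8} = 47104 := by
    have h := card_subtype_lattice (fun x => x ∈ leechLattice ∧ sqNorm x = 32 ∧ dotInt vA0 x = -8)
      (fun x hx => hx.1)
    have h' := census_min32 vA0 vA0_mem sqNorm_vA0 (-8) (-2) (by norm_num)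
    rw [censusNum_neg2] at h'
    rw [← h']
    exact h
  have e2 : Nat.card ↥(MulAction.stabilizer ↥(MulAction.stabilizer ↥Co0 v0L) w0L) =
      Nat.card ↥GM :=
    Nat.card_congr
      { toFun := fun g => ⟨g.1.1, (mem_GM _).2 ⟨g.1.2, g.2⟩⟩
        invFun := fun g => ⟨⟨g.1, ((mem_GM _).1 g.2).1⟩, ((mem_GM _).1 g.2).2⟩
        left_inv := fun g => rfl
        right_inv := fun g => rfl }
  rw [e1, c1, card_stab_v0L, e2] at h1
  omega

end Cfsg.Agent.Helper8
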