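import Mathlib
import Cfsg.Prelude.Def_SporadicCombinatorics
import Cfsg.Agent.Helper8.McLSimpleA

/-!
The stabiliser of the standard pair: its actions on the configurations of 275 and of 2025 minimal
vectors are primitive.
-/

set_option autoImplicit false

namespace Cfsg.Agent.Helper8

open Cfsg Cfsg.Agent.Helper27 MulAction
open scoped Pointwise

theorem GM_smul_u0L (g : ↥GM) : (g : ↥Co0) • u0L = u0L := by
  obtain ⟨h1, h2⟩ := (mem_GM _).1 g.2
  calc (g : ↥Co0) • u0L = (g : ↥Co0) • v0L + (g : ↥Co0) • w0L := (g : ↥Co0).2.1 _ _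
    _ = u0L := by rw [h1, h2]; rfl

theorem mem_GM_of_u0L {g : ↥Co0} (h1 : g • u0L = u0L) (h2 : g • v0L = v0L) : g ∈ GM := by
  rw [mem_GM]
  refine ⟨h2, ?_⟩
  have hw : w0L = u0L - v0L := by
    show w0L = v0L + w0L - v0L
    abel
  rw [hw, co0_smul_sub, h1, h2]

/-- the configuration of 275 as a set with an action of the stabiliser -/
def omega1 : SubMulAction ↥GM ↥leechLattice where
  carrier := cfg u0L v0L
  smul_mem' := by
    intro g y hy
    have h := (mem_cfg_smul (g : ↥Co0) u0L v0L y).2 hy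
    rw [GM_smul_u0L, ((mem_GM _).1 g.2).1] at h
    exact h

/-- the configuration of 2025 as a set with an action of the stabiliser -/
def omega2 : SubMulAction ↥GM ↥leechLattice where
  carrier := cfg2 v0L w0L
  smul_mem' := by
    intro g y hy
    have h := (mem_cfg2_smul (g : ↥Co0) v0L w0L y).2 hy
    rw [((mem_GM _).1 g.2).1, ((mem_GM _).1 g.2).2] at h
    exact h

set_option synthInstance.maxHeartbeats 400000 in
instance mulActionOmega1 : MulAction ↥GM ↥omega1 := inferInstance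

set_option synthInstance.maxHeartbeats 400000 in
instance mulActionOmega2 : MulAction ↥GM ↥omega2 := inferInstance

theorem mem_omega1 (y : ↥leechLattice) : y ∈ omega1 ↔ y ∈ cfg u0L v0L := Iff.rfl

theorem mem_omega2 (y : ↥leechLattice) : y ∈ omega2 ↔ y ∈ cfg2 v0L w0L := Iff.rfl

theorem omega_smul_val1 (g : ↥GM) (y : ↥omega1) :
    ((g • y : ↥omega1) : ↥leechLattice) = (g : ↥Co0) • (y : ↥leechLattice) := rfl

theorem omega_smul_val2 (g : ↥GM) (y : ↥omega2) :
    ((g • y : ↥omega2) : ↥leechLattice) = (g : ↥Co0) • (y : ↥leechLattice) := rfl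

theorem sqNorm_u0L_sub : sqNorm ((u0L : IVec) - (v0L : IVec)) = 32 := by
  show sqNorm ((vA0 + wB0) - vA0) = 32
  rw [add_sub_cancel_left]
  exact sqNorm_wB0

instance omega1_trans : IsPretransitive ↥GM ↥omega1 := by
  refine ⟨fun x y => ?_⟩
  obtain ⟨g, g1, g2, g3⟩ := (mcl_config u0L v0L sqNorm_u0L ⟨sqNorm_vA0, sqNorm_u0L_sub⟩).2
    x.1 x.2 y.1 y.2
  exact ⟨⟨g, mem_GM_of_u0L g1 g2⟩, Subtype.ext g3⟩

instance omega2_trans : IsPretransitive ↥GM ↥omega2 := by
  refine ⟨fun x y => ?_⟩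
  obtain ⟨g, g1, g2, g3⟩ := trans2025_std.2 x.1 x.2 y.1 y.2
  exact ⟨⟨g, (mem_GM _).2 ⟨g1, g2⟩⟩, Subtype.ext g3⟩

/-- the size of a set of a subtype given by a condition on the values -/
theorem ncard_subtype_val {α : Type*} {p : α → Prop} (P : α → Prop) :
    {y : {x // p x} | P y.1}.ncard = {y : α | p y ∧ P y}.ncard := by
  rw [← Set.ncard_image_of_injective _ Subtype.val_injective]
  congr 1
  ext y
  constructor
  · rintro ⟨z, hz, rfl⟩
    exact ⟨z.2, hz⟩
  · rintro ⟨h1, h2⟩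
    exact ⟨⟨y, h1⟩, h2, rfl⟩

theorem card_omega1 : Nat.card ↥omega1 = 275 := by
  have h := (mcl_config u0L v0L sqNorm_u0L ⟨sqNorm_vA0, sqNorm_u0L_sub⟩).1
  rw [← h, ← Nat.card_coe_set_eq]
  rfl

theorem card_omega2 : Nat.card ↥omega2 = 2025 := by
  rw [← trans2025_std.1, ← Nat.card_coe_set_eq]
  rfl

instance finite_omega1 : Finite ↥omega1 :=
  Nat.finite_of_card_ne_zero (by rw [card_omega1]; norm_num)

instance finite_omega2 : Finite ↥omega2 :=
  Nat.finite_of_card_ne_zero (by rw [card_omega2]; norm_num)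

/-- the base point of the first action -/
def a1 : ↥omega1 := ⟨x0L, x0L_mem_cfg⟩

/-- the base point of the second action -/
def a2 : ↥omega2 := ⟨xNL, (mem_cfg2_std _).2 xN_mem_cfgN⟩

theorem mem_stab_a1 (g : ↥GM) : g ∈ stabilizer ↥GM a1 ↔ (g : ↥Co0) • x0L = x0L := by
  rw [mem_stabilizer_iff]
  constructor
  · intro h
    exact congrArg Subtype.val h
  · intro h
    exact Subtype.ext h

theorem mem_stab_a2 (g : ↥GM) : g ∈ stabilizer ↥GM a2 ↔ (g : ↥Co0) • xNL = xNL := by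
  rw [mem_stabilizer_iff]
  constructor
  · intro h
    exact congrArg Subtype.val h
  · intro h
    exact Subtype.ext h

/-- the classes of the first action -/
def cls1 (i : Fin 2) : Set ↥omega1 :=
  {y | y ≠ a1 ∧ dotInt (x0L : IVec) ((y : ↥leechLattice) : IVec) = ![8, 16] i}

/-- the classes of the second action -/
def cls2 (i : Fin 3) : Set ↥omega2 :=
  {y | y ≠ a2 ∧ dotInt (xNL : IVec) ((y : ↥leechLattice) : IVec) = ![0, 16, 8] i}

theorem x0L_dot_self : dotInt (x0L : IVec) (x0L : IVec) = 32 := by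
  rw [dotInt_self]
  exact ((mem_cfg_std x0L).1 x0L_mem_cfg).1

theorem ncard_cls1 (i : Fin 2) : (cls1 i).ncard = ![112, 162] i := by
  obtain ⟨h1, h2, -⟩ := rank3_std
  have key : ∀ c : ℤ, c ≠ 32 → {y : ↥omega1 | y ≠ a1 ∧
      dotInt (x0L : IVec) ((y : ↥leechLattice) : IVec) = c} =
      {y : ↥omega1 | dotInt (x0L : IVec) ((y : ↥leechLattice) : IVec) = c} := by
    intro c hc
    ext y
    constructor
    · exact fun h => h.2
    · intro h
      refine ⟨?_, h⟩
      rintro rfl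
      exact hc (h.symm.trans x0L_dot_self)
  fin_cases i
  · show {y : ↥omega1 | y ≠ a1 ∧ dotInt (x0L : IVec) ((y : ↥leechLattice) : IVec) = 8}.ncard = 112
    rw [key 8 (by norm_num), ← h1]
    exact ncard_subtype_val (p := fun y => y ∈ cfg u0L v0L)
      (fun y => dotInt (x0L : IVec) (y : IVec) = 8)
  · show {y : ↥omega1 | y ≠ a1 ∧ dotInt (x0L : IVec) ((y : ↥leechLattice) : IVec) = 16}.ncard = 162
    rw [← h2]
    have := ncard_subtype_val (p := fun y => y ∈ cfg u0L v0L)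
      (fun y => y ≠ x0L ∧ dotInt (x0L : IVec) (y : IVec) = 16)
    rw [← this]
    congr 1
    ext y
    constructor
    · rintro ⟨hy, hd⟩
      exact ⟨fun h => hy (Subtype.ext h), hd⟩
    · rintro ⟨hy, hd⟩
      exact ⟨fun h => hy (congrArg Subtype.val h), hd⟩

theorem xNL_dot_self : dotInt (xNL : IVec) (xNL : IVec) = 32 := by
  rw [dotInt_self]
  exact sqNorm_xN

theorem ncard_cls2 (i : Fin 3) : (cls2 i).ncard = ![330, 462, 1232] i := by
  obtain ⟨h1, h2, h3, -⟩ := rank4_std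
  have key : ∀ c : ℤ, c ≠ 32 → {y : ↥omega2 | y ≠ a2 ∧
      dotInt (xNL : IVec) ((y : ↥leechLattice) : IVec) = c}.ncard =
      {y : ↥leechLattice | y ∈ cfg2 v0L w0L ∧ dotInt (xNL : IVec) (y : IVec) = c}.ncard := by
    intro c hc
    rw [← ncard_subtype_val (p := fun y => y ∈ cfg2 v0L w0L)
      (fun y => dotInt (xNL : IVec) (y : IVec) = c)]
    congr 1
    ext y
    constructor
    · exact fun h => h.2
    · intro h
      refine ⟨?_, h⟩
      rintro rfl
      exact hc (h.symm.trans xNL_dot_self)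
  fin_cases i
  · exact (key 0 (by norm_num)).trans h1
  · exact (key 16 (by norm_num)).trans h2
  · exact (key 8 (by norm_num)).trans h3

theorem cls1_trans (i : Fin 2) : ∀ y ∈ cls1 i, ∀ y' ∈ cls1 i,
    ∃ g ∈ stabilizer ↥GM a1, g • y = y' := by
  intro y hy y' hy'
  obtain ⟨g, g1, g2, g3, g4⟩ := rank3_std.2.2 y.1 y.2 y'.1 y'.2
    (fun h => hy.1 (Subtype.ext h)) (fun h => hy'.1 (Subtype.ext h)) (hy.2.trans hy'.2.symm)
  exact ⟨⟨g, mem_GM_of_u0L g1 g2⟩, (mem_stab_a1 _).2 g3, Subtype.ext g4⟩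

theorem cls2_trans (i : Fin 3) : ∀ y ∈ cls2 i, ∀ y' ∈ cls2 i,
    ∃ g ∈ stabilizer ↥GM a2, g • y = y' := by
  intro y hy y' hy'
  obtain ⟨g, g1, g2, g3, g4⟩ := rank4_std.2.2.2 y.1 y.2 y'.1 y'.2
    (fun h => hy.1 (Subtype.ext h)) (fun h => hy'.1 (Subtype.ext h)) (hy.2.trans hy'.2.symm)
  exact ⟨⟨g, (mem_GM _).2 ⟨g1, g2⟩⟩, (mem_stab_a2 _).2 g3, Subtype.ext g4⟩

theorem cls1_cover (y : ↥omega1) (hy : y ≠ a1) : ∃ i, y ∈ cls1 i := by
  have hmem := (mem_cfg_std y.1).1 y.2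
  rcases std_orbits y.1.2 hmem.1 hmem.2.1 hmem.2.2
    (fun h => hy (Subtype.ext (Subtype.ext h))) with h | h
  · exact ⟨1, hy, h.1⟩
  · exact ⟨0, hy, h.1⟩

theorem cls2_cover (y : ↥omega2) (hy : y ≠ a2) : ∃ i, y ∈ cls2 i := by
  have hmem := (mem_cfg2_std y.1).1 y.2
  rcases std_orbits2 hmem.1 hmem.2.1 hmem.2.2.1 hmem.2.2.2 with h | h | h | h
  · exact absurd (Subtype.ext (Subtype.ext h)) hy
  · exact ⟨0, hy, h.1⟩
  · exact ⟨1, hy, h.1⟩
  · exact ⟨2, hy, h.1⟩

theorem cls1_disj (i j : Fin 2) (hij : i ≠ j) : Disjoint (cls1 i) (cls1 j) := by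
  rw [Set.disjoint_left]
  rintro y ⟨-, h1⟩ ⟨-, h2⟩
  rw [h1] at h2
  fin_cases i <;> fin_cases j <;> simp at hij h2

theorem cls2_disj (i j : Fin 3) (hij : i ≠ j) : Disjoint (cls2 i) (cls2 j) := by
  rw [Set.disjoint_left]
  rintro y ⟨-, h1⟩ ⟨-, h2⟩
  rw [h1] at h2
  fin_cases i <;> fin_cases j <;> simp at hij h2

instance omega1_prim : IsPreprimitive ↥GM ↥omega1 := by
  apply isPreprimitive_of_classes a1 cls1 ![112, 162] cls1_cover (fun i h => h.1 rfl) cls1_disj
    cls1_trans ncard_cls1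
  rw [card_omega1]
  decide

instance omega2_prim : IsPreprimitive ↥GM ↥omega2 := by
  apply isPreprimitive_of_classes a2 cls2 ![330, 462, 1232] cls2_cover (fun i h => h.1 rfl)
    cls2_disj cls2_trans ncard_cls2
  rw [card_omega2]
  decide

end Cfsg.Agent.Helper8
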