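import Mathlib
import Cfsg.Prelude.Def_SporadicCombinatorics
import Cfsg.Agent.Helper8.McLSimpleB
import Cfsg.Agent.Helper7.M22Simple

/-!
The stabiliser of the standard pair: the first action is faithful, and the stabiliser of a point of
the second action is the group of the permutations of the code fixing two points.
-/

set_option autoImplicit false

namespace Cfsg.Agent.Helper8

open Cfsg Cfsg.Agent.Helper27 MulAction
open scoped Pointwise

/-! ### the first action is faithful -/

theorem xA_mem_cfg {l : GolayPt} (hA : l ≠ pA) (hB : l ≠ pB) :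
    (⟨xA l, xA_mem l⟩ : ↥leechLattice) ∈ cfg u0L v0L := by
  rw [mem_cfg_std]
  refine ⟨?_, ?_, ?_⟩
  · show sqNorm (xA l) = 32
    unfold xA
    rw [sqNorm_add, Helper26.sqNorm_single, Helper26.sqNorm_single, Helper26.dotInt_single,
      Pi.single_eq_of_ne (Ne.symm hA)]
    norm_num
  · show dotInt vA0 (xA l) = 16
    rw [dotInt_vA0, xA_apply_pA hA, xA_apply_of_ne (Ne.symm pA_ne_pB) (Ne.symm hB)]
    norm_num
  · show dotInt wB0 (xA l) = 8
    unfold wB0
    rw [dotInt_oddBase, xA_apply_of_ne (Ne.symm pA_ne_pB) (Ne.symm hB)]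
    unfold xA
    simp only [Pi.add_apply]
    rw [Finset.sum_add_distrib, sum_single, sum_single]
    norm_num

theorem eq_zero_of_dots (z : IVec) (h1 : dotInt vA0 z = 0) (h2 : dotInt wB0 z = 0)
    (h3 : ∀ l, l ≠ pA → l ≠ pB → dotInt (xA l) z = 0) : z = 0 := by
  classical
  have hB : z pB = -z pA := by
    rw [dotInt_vA0] at h1
    omega
  have hl : ∀ i, i ≠ pA → z i = -z pA := by
    intro i hi
    by_cases hiB : i = pB
    · rw [hiB]
      exact hB
    · have := h3 i hi hiB
      rw [dotInt_xA] at this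
      omega
  have hform : ∀ i, z i = -z pA + if i = pA then 2 * z pA else 0 := by
    intro i
    by_cases hi : i = pA
    · rw [if_pos hi, hi]
      ring
    · rw [if_neg hi, hl i hi, add_zero]
  have hsum : ∑ i, z i = -22 * z pA := by
    rw [Finset.sum_congr rfl (fun i _ => hform i), Finset.sum_add_distrib, Finset.sum_const,
      Finset.sum_ite_eq' Finset.univ pA, if_pos (Finset.mem_univ _), Finset.card_univ,
      Helper26.card_golayPt]
    simp only [nsmul_eq_mul]
    push_cast
    ring
  unfold wB0 at h2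
  rw [dotInt_oddBase, hsum, hB] at h2
  have hA : z pA = 0 := by omega
  ext i
  by_cases hi : i = pA
  · rw [hi, hA]
    rfl
  · rw [hl i hi, hA]
    rfl

theorem GM_faithful (g : ↥GM) (h : ∀ y : ↥omega1, g • y = y) : g = 1 := by
  obtain ⟨hv, hw⟩ := (mem_GM _).1 g.2
  have hfix : ∀ l, l ≠ pA → l ≠ pB →
      (g : ↥Co0) • (⟨xA l, xA_mem l⟩ : ↥leechLattice) = ⟨xA l, xA_mem l⟩ := by
    intro l hA hB
    have := h ⟨⟨xA l, xA_mem l⟩, xA_mem_cfg hA hB⟩
    exact congrArg Subtype.val this
  have key : ∀ y : ↥leechLattice, (g : ↥Co0) • y = y := by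
    intro y
    apply Subtype.ext
    have hz : (((g : ↥Co0) • y : ↥leechLattice) : IVec) - (y : IVec) = 0 := by
      apply eq_zero_of_dots
      · have := co0_dotInt (g : ↥Co0) v0L y
        rw [hv] at this
        rw [dotInt_sub_right]
        have e : dotInt vA0 (((g : ↥Co0) • y : ↥leechLattice) : IVec) = dotInt vA0 (y : IVec) := this
        rw [e, sub_self]
      · have := co0_dotInt (g : ↥Co0) w0L y
        rw [hw] at this
        rw [dotInt_sub_right]
        have e : dotInt wB0 (((g : ↥Co0) • y : ↥leechLattice) : IVec) = dotInt wB0 (y : IVec) := this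
        rw [e, sub_self]
      · intro l hA hB
        have := co0_dotInt (g : ↥Co0) ⟨xA l, xA_mem l⟩ y
        rw [hfix l hA hB] at this
        rw [dotInt_sub_right]
        have e : dotInt (xA l) (((g : ↥Co0) • y : ↥leechLattice) : IVec) =
            dotInt (xA l) (y : IVec) := this
        rw [e, sub_self]
    exact sub_eq_zero.1 hz
  apply Subtype.ext
  apply Subtype.ext
  apply Equiv.ext
  intro y
  exact key y

/-! ### the stabiliser of the point `(4, -4, 0, …)` -/

theorem monoCo0_mul {σ τ : Equiv.Perm GolayPt} (hσ : σ ∈ M24) (hτ : τ ∈ M24) :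
    monoCo0 (M24.mul_mem hσ hτ) Cfsg.Agent.S0390.empty_mem_supports =
      monoCo0 hσ Cfsg.Agent.S0390.empty_mem_supports *
        monoCo0 hτ Cfsg.Agent.S0390.empty_mem_supports := by
  apply co0_ext
  intro y
  apply Subtype.ext
  rw [mul_smul, monoCo0_smul, monoCo0_smul, monoCo0_smul]
  ext i
  rw [signedPerm_empty_apply, signedPerm_empty_apply, signedPerm_empty_apply]
  rfl

theorem monoCo0_fix {σ : Equiv.Perm GolayPt} (hσ : σ ∈ M24) (hA : σ pA = pA) (hB : σ pB = pB) :
    monoCo0 hσ Cfsg.Agent.S0390.empty_mem_supports • v0L = v0L ∧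
    monoCo0 hσ Cfsg.Agent.S0390.empty_mem_supports • w0L = w0L ∧
    monoCo0 hσ Cfsg.Agent.S0390.empty_mem_supports • xNL = xNL := by
  refine ⟨?_, ?_, ?_⟩
  · apply Subtype.ext
    rw [monoCo0_smul]
    exact signedPerm_empty_vA0 hA hB
  · apply Subtype.ext
    rw [monoCo0_smul]
    show signedPerm σ ∅ (oddBase pB) = oddBase pB
    rw [signedPerm_empty_oddBase, hB]
  · apply Subtype.ext
    rw [monoCo0_smul]
    show signedPerm σ ∅ (Helper26.vPQ pA pB) = Helper26.vPQ pA pB
    unfold Helper26.vPQ
    rw [signedPerm_add, signedPerm_empty_single, signedPerm_empty_single, hA, hB]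

theorem fixG_two (σ : ↥(Helper7.fixG M24 [1, 0])) :
    (σ : Equiv.Perm GolayPt) ∈ M24 ∧ (σ : Equiv.Perm GolayPt) pA = pA ∧
      (σ : Equiv.Perm GolayPt) pB = pB :=
  ⟨σ.2.1, σ.2.2 0 (by simp), σ.2.2 1 (by simp)⟩

/-- the map from the permutations fixing the two points to the stabiliser of the point -/
noncomputable def m22Hom : ↥(Helper7.fixG M24 [1, 0]) →* ↥(stabilizer ↥GM a2) :=
  MonoidHom.mk' (fun σ =>
    ⟨⟨monoCo0 (fixG_two σ).1 Cfsg.Agent.S0390.empty_mem_supports,
      (mem_GM _).2 ⟨(monoCo0_fix (fixG_two σ).1 (fixG_two σ).2.1 (fixG_two σ).2.2).1,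
        (monoCo0_fix (fixG_two σ).1 (fixG_two σ).2.1 (fixG_two σ).2.2).2.1⟩⟩,
      (mem_stab_a2 _).2 (monoCo0_fix (fixG_two σ).1 (fixG_two σ).2.1 (fixG_two σ).2.2).2.2⟩)
    (by
      intro σ τ
      apply Subtype.ext
      apply Subtype.ext
      exact monoCo0_mul (fixG_two σ).1 (fixG_two τ).1)

theorem m22Hom_val (σ : ↥(Helper7.fixG M24 [1, 0])) :
    ((m22Hom σ : ↥GM) : ↥Co0) = monoCo0 (fixG_two σ).1 Cfsg.Agent.S0390.empty_mem_supports := rfl

theorem m22Hom_injective : Function.Injective m22Hom := by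
  intro σ τ h
  have h' : monoCo0 (fixG_two σ).1 Cfsg.Agent.S0390.empty_mem_supports =
      monoCo0 (fixG_two τ).1 Cfsg.Agent.S0390.empty_mem_supports := by
    rw [← m22Hom_val, ← m22Hom_val, h]
  apply Subtype.ext
  apply Equiv.ext
  intro i
  have h2 := congrArg (fun g : ↥Co0 => ((g • vec8 i : ↥leechLattice) : IVec) ((σ : Equiv.Perm GolayPt) i)) h'
  simp only [monoCo0_smul, vec8_val, signedPerm_empty_single] at h2
  rw [Pi.single_eq_same] at h2
  by_contra hne
  rw [Pi.single_eq_of_ne hne] at h2
  norm_num at h2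

theorem vec8_pA : vec8 pA = v0L + xNL := by
  apply Subtype.ext
  show Pi.single pA 8 = vA0 + xN
  unfold vA0 xN Helper26.vPQ
  ext i
  simp only [Pi.add_apply, Pi.single_apply]
  split_ifs <;> norm_num

theorem m22Hom_surjective : Function.Surjective m22Hom := by
  rintro ⟨⟨g, hgM⟩, hgx⟩
  obtain ⟨hv, hw⟩ := (mem_GM _).1 hgM
  have hx : g • xNL = xNL := (mem_stab_a2 _).1 hgx
  -- the automorphism fixes a vector of the standard cross
  have h8 : g • vec8 pA = vec8 pA := by
    rw [vec8_pA]
    calc g • (v0L + xNL) = g • v0L + g • xNL := g.2.1 _ _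
      _ = v0L + xNL := by rw [hv, hx]
  have hfc : FixesCross g := by
    rw [fixesCross_iff g pA, h8]
    exact ⟨pA, 8, Or.inl rfl, rfl⟩
  obtain ⟨σ, hσ, c, hc, hact⟩ := exists_mono_of_fixesCross g hfc
  -- the second base vector determines the signs
  have hW : signedPerm σ c (oddBase pB) = oddBase pB := by
    have := hact w0L
    rw [hw] at this
    exact this.symm
  have hσB : σ pB = pB := by
    have := congrFun hW (σ pB)
    unfold signedPerm oddBase at this
    rw [Equiv.symm_apply_apply, if_pos rfl] at this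
    by_contra hne
    rw [if_neg hne] at this
    split_ifs at this
    omega
  have hcE : c = ∅ := by
    rw [Finset.eq_empty_iff_forall_notMem]
    intro i hi
    have := congrFun hW i
    unfold signedPerm oddBase at this
    rw [if_pos hi] at this
    have e : σ.symm i = pB ↔ i = pB := by
      rw [Equiv.symm_apply_eq, hσB]
    by_cases hiB : i = pB
    · rw [if_pos (e.2 hiB), if_pos hiB] at this
      omega
    · rw [if_neg (fun h => hiB (e.1 h)), if_neg hiB] at this
      omega
  subst hcE
  have hσA : σ pA = pA := by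
    have h1 := hact v0L
    rw [hv] at h1
    have h2 : signedPerm σ ∅ vA0 = vA0 := h1.symm
    unfold vA0 at h2
    rw [signedPerm_add, signedPerm_empty_single, signedPerm_empty_single, hσB] at h2
    have := congrFun h2 (σ pA)
    simp only [Pi.add_apply] at this
    rw [Pi.single_eq_same] at this
    have hAB : σ pA ≠ pB := by
      intro h
      rw [← hσB] at h
      exact pA_ne_pB (σ.injective h)
    rw [Pi.single_eq_of_ne hAB] at this
    by_contra hne
    rw [Pi.single_eq_of_ne hne] at this
    norm_num at this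
  refine ⟨⟨σ, hσ, ?_⟩, ?_⟩
  · intro i hi
    simp only [List.mem_cons, List.not_mem_nil, or_false] at hi
    rcases hi with rfl | rfl
    · exact hσB
    · exact hσA
  · apply Subtype.ext
    apply Subtype.ext
    rw [m22Hom_val]
    apply co0_ext
    intro y
    apply Subtype.ext
    rw [monoCo0_smul, hact y]

/-- the stabiliser of the point is simple -/
theorem stab_a2_simple : IsSimpleGroup ↥(stabilizer ↥GM a2) := by
  have e : ↥(Helper7.fixG M24 [1, 0]) ≃* ↥(stabilizer ↥GM a2) :=
    MulEquiv.ofBijective m22Hom ⟨m22Hom_injective, m22Hom_surjective⟩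
  have := Helper7.m22_simple
  exact e.symm.isSimpleGroup

end Cfsg.Agent.Helper8
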