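import Mathlib
import Cfsg.Prelude.Def_SporadicCombinatorics
import Cfsg.Agent.Helper8.McLSimpleC

/-!
The stabiliser of a pair of minimal vectors with inner product `-8` is simple of order 898128000.
-/

set_option autoImplicit false

namespace Cfsg.Agent.Helper8

open Cfsg Cfsg.Agent.Helper27 MulAction
open scoped Pointwise

theorem stab_a2_moves : ∃ h ∈ stabilizer ↥GM a2, ∃ y : ↥omega2, h • y ≠ y := by
  have hcard : 1 < (cls2 0).ncard := by
    rw [ncard_cls2 0]
    norm_num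
  obtain ⟨y, y', hy, hy', hne⟩ := (Set.one_lt_ncard_iff (Set.toFinite _)).1 hcard
  obtain ⟨g, hg, hgy⟩ := cls2_trans 0 y hy y' hy'
  exact ⟨g, hg, y, by rw [hgy]; exact Ne.symm hne⟩

theorem GM_simple : IsSimpleGroup ↥GM := by
  have hnt : Nontrivial ↥omega2 := by
    rw [← Finite.one_lt_card_iff_nontrivial, card_omega2]
    norm_num
  have hmove := stab_a2_moves
  have hntG : Nontrivial ↥GM := by
    obtain ⟨h, -, y, hy⟩ := hmove
    refine ⟨⟨h, 1, ?_⟩⟩
    rintro rfl
    exact hy (one_smul _ y)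
  exact isSimpleGroup_of_two_actions (X₁ := ↥omega1) (X₂ := ↥omega2) GM_faithful 11
    (by rw [card_omega1]; norm_num) (by rw [card_omega2]; norm_num) a2 stab_a2_simple hmove

/-- conjugation identifies the stabilisers of conjugate pairs -/
def stabPairEquiv (g : ↥Co0) (v w v' w' : ↥leechLattice) (hv : g • v = v') (hw : g • w = w') :
    ↥(stabilizer ↥Co0 v ⊓ stabilizer ↥Co0 w) ≃* ↥(stabilizer ↥Co0 v' ⊓ stabilizer ↥Co0 w') where
  toFun k := ⟨g * k.1 * g⁻¹, by
    have hk := k.2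
    rw [Subgroup.mem_inf, mem_stabilizer_iff, mem_stabilizer_iff] at hk ⊢
    have e1 : g⁻¹ • v' = v := by rw [inv_smul_eq_iff, hv]
    have e2 : g⁻¹ • w' = w := by rw [inv_smul_eq_iff, hw]
    exact ⟨by rw [mul_smul, mul_smul, e1, hk.1, hv], by rw [mul_smul, mul_smul, e2, hk.2, hw]⟩⟩
  invFun k := ⟨g⁻¹ * k.1 * g, by
    have hk := k.2
    rw [Subgroup.mem_inf, mem_stabilizer_iff, mem_stabilizer_iff] at hk ⊢
    exact ⟨by rw [mul_smul, mul_smul, hv, hk.1, inv_smul_eq_iff, hv],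
      by rw [mul_smul, mul_smul, hw, hk.2, inv_smul_eq_iff, hw]⟩⟩
  left_inv k := by
    apply Subtype.ext
    show g⁻¹ * (g * k.1 * g⁻¹) * g = k.1
    group
  right_inv k := by
    apply Subtype.ext
    show g * (g⁻¹ * k.1 * g) * g⁻¹ = k.1
    group
  map_mul' k l := by
    apply Subtype.ext
    show g * (k.1 * l.1) * g⁻¹ = g * k.1 * g⁻¹ * (g * l.1 * g⁻¹)
    group

/-- the stabiliser of a pair of minimal vectors with inner product `-8` -/
theorem mcl_simple_card (v w : ↥leechLattice) (hv : sqNorm (v : IVec) = 32)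
    (hw : sqNorm (w : IVec) = 32) (hvw : dotInt (v : IVec) (w : IVec) = -8) :
    IsSimpleGroup ↥(stabilizer ↥Co0 v ⊓ stabilizer ↥Co0 w) ∧
      Nat.card ↥(stabilizer ↥Co0 v ⊓ stabilizer ↥Co0 w) = 898128000 := by
  obtain ⟨g, hgv, hgw⟩ := exists_to_std v w hv hw hvw
  have e := stabPairEquiv g v w v0L w0L hgv hgw
  have := GM_simple
  exact ⟨e.isSimpleGroup, by rw [Nat.card_congr e.toEquiv]; exact card_GM⟩

end Cfsg.Agent.Helper8
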