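import Cfsg.Agent.Helper8.FusMcLB
import Cfsg.Agent.Helper8.FusMcLChk1
import Cfsg.Agent.Helper8.FusMcLChk2
import Cfsg.Agent.Helper8.FusMcLChk3
import Cfsg.Agent.Helper8.McLSimpleD
import Cfsg.Agent.Helper7.M24Stab
import Cfsg.Agent.Helper27.OctadConf

/-!
A Sylow `2`-subgroup `S0` of the copy of `M22` fixing the points `0` and `1`, from the coded certificate;
its orbits on the points; the only vector among the 2025 fixed by `S0` is `(4, -4, 0, …)`.
-/

set_option autoImplicit false
set_option maxRecDepth 100000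

namespace Cfsg.Agent.Helper8.FusMcL

open Cfsg Cfsg.Agent.Helper7 Cfsg.Agent.Helper27 Cfsg.Agent.Helper27.FusTab Cfsg.Agent.Helper27.FusCode
open Cfsg.Agent.Helper8

/-- the Sylow `2`-subgroup -/
def S0 : Subgroup (Equiv.Perm GolayPt) :=
  Subgroup.closure {x : Equiv.Perm GolayPt | ∃ l ∈ gensC, IsCode l x}

theorem s0_facts : FusGood (S0.subgroupOf (fixG M24 fixL)) ∧
    Nat.card (S0.subgroupOf (fixG M24 fixL)) = 2 ^ 7 ∧ S0 ≤ fixG M24 fixL ∧
    (∀ l ∈ gensC, ∃ x : Equiv.Perm GolayPt, x * x = 1 ∧ IsCode l x) :=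
  facts_of_codes (F := fixL) (hF := hF) (N := 443520) (n := 7) (hN := Helper7.card_fixG_m24_2) (zC := zC)
    (GP := GP) (gensC := gensC) (prog := prog) (L := L) (CP := CP) (AP := AP) (BP := BP) (W := W)
    (pairs := pairs) (hz := hz) (hGP := hGP) (hgens := hgens) (hinv := hinv) (hL := hL)
    (hclosed := hclosed) (hnodup := hnodup) (hlen := hlen) (hzL := hzL) (hz1 := hz1) (hzc := hzc)
    (hcen := hcen) (HP := HP) (progA := progA) (progB := progB) (hHP := hHP) (hAPb := hAPb)
    (hBPb := hBPb) (hW := hW) (hincr := hincr) (hCP := hCP) (hdist := hdist) (hsyl := hsyl)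
    (hbound := hbound)

/-- a function on the points invariant under the generators is constant on the orbits -/
theorem orbit_consts (f : ℕ → ℤ) (h : ∀ l ∈ gensC, ∀ i < 24, f (nthN l i) = f i) :
    f 6 = f 2 ∧ f 23 = f 2 ∧ f 19 = f 2 ∧ f 21 = f 7 ∧ f 9 = f 3 ∧ f 12 = f 3 ∧ f 22 = f 3 ∧ f 13 = f 3 ∧ f 17 = f 3 ∧ f 11 = f 3 ∧ f 4 = f 3 ∧ f 16 = f 3 ∧ f 10 = f 3 ∧ f 8 = f 3 ∧ f 20 = f 3 ∧ f 18 = f 3 ∧ f 15 = f 3 ∧ f 5 = f 3 ∧ f 14 = f 3 := by
  have e6 : f 6 = f 2 := by
    have h1 := h 801769640028659033540816226536757280 (by decide) 2 (by decide)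
    have h2 : nthN 801769640028659033540816226536757280 2 = 6 := by decide
    rw [h2] at h1
    exact h1
  have e23 : f 23 = f 2 := by
    have h1 := h 88579123785536418455312005136276512 (by decide) 2 (by decide)
    have h2 : nthN 88579123785536418455312005136276512 2 = 23 := by decide
    rw [h2] at h1
    exact h1
  have e19 : f 19 = f 2 := by
    have h1 := h 801769640028659033540816226536757280 (by decide) 23 (by decide)
    have h2 : nthN 801769640028659033540816226536757280 23 = 19 := by decide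
    rw [h2] at h1
    exact h1.trans e23
  have e21 : f 21 = f 7 := by
    have h1 := h 88579123785536418455312005136276512 (by decide) 7 (by decide)
    have h2 : nthN 88579123785536418455312005136276512 7 = 21 := by decide
    rw [h2] at h1
    exact h1
  have e9 : f 9 = f 3 := by
    have h1 := h 970531819526550031117983620406741024 (by decide) 3 (by decide)
    have h2 : nthN 970531819526550031117983620406741024 3 = 9 := by decide
    rw [h2] at h1
    exact h1
  have e12 : f 12 = f 3 := by
    have h1 := h 88579123785536418455312005136276512 (by decide) 3 (by decide)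
    have h2 : nthN 88579123785536418455312005136276512 3 = 12 := by decide
    rw [h2] at h1
    exact h1
  have e22 : f 22 = f 3 := by
    have h1 := h 801769640028659033540816226536757280 (by decide) 9 (by decide)
    have h2 : nthN 801769640028659033540816226536757280 9 = 22 := by decide
    rw [h2] at h1
    exact h1.trans e9
  have e13 : f 13 = f 3 := by
    have h1 := h 970531819526550031117983620406741024 (by decide) 12 (by decide)
    have h2 : nthN 970531819526550031117983620406741024 12 = 13 := by decide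
    rw [h2] at h1
    exact h1.trans e12
  have e17 : f 17 = f 3 := by
    have h1 := h 801769640028659033540816226536757280 (by decide) 12 (by decide)
    have h2 : nthN 801769640028659033540816226536757280 12 = 17 := by decide
    rw [h2] at h1
    exact h1.trans e12
  have e11 : f 11 = f 3 := by
    have h1 := h 970531819526550031117983620406741024 (by decide) 22 (by decide)
    have h2 : nthN 970531819526550031117983620406741024 22 = 11 := by decide
    rw [h2] at h1
    exact h1.trans e22
  have e4 : f 4 = f 3 := by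
    have h1 := h 88579123785536418455312005136276512 (by decide) 22 (by decide)
    have h2 : nthN 88579123785536418455312005136276512 22 = 4 := by decide
    rw [h2] at h1
    exact h1.trans e22
  have e16 : f 16 = f 3 := by
    have h1 := h 801769640028659033540816226536757280 (by decide) 13 (by decide)
    have h2 : nthN 801769640028659033540816226536757280 13 = 16 := by decide
    rw [h2] at h1
    exact h1.trans e13
  have e10 : f 10 = f 3 := by
    have h1 := h 970531819526550031117983620406741024 (by decide) 17 (by decide)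
    have h2 : nthN 970531819526550031117983620406741024 17 = 10 := by decide
    rw [h2] at h1
    exact h1.trans e17
  have e8 : f 8 = f 3 := by
    have h1 := h 970531819526550031117983620406741024 (by decide) 4 (by decide)
    have h2 : nthN 970531819526550031117983620406741024 4 = 8 := by decide
    rw [h2] at h1
    exact h1.trans e4
  have e20 : f 20 = f 3 := by
    have h1 := h 801769640028659033540816226536757280 (by decide) 4 (by decide)
    have h2 : nthN 801769640028659033540816226536757280 4 = 20 := by decide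
    rw [h2] at h1
    exact h1.trans e4
  have e18 : f 18 = f 3 := by
    have h1 := h 970531819526550031117983620406741024 (by decide) 16 (by decide)
    have h2 : nthN 970531819526550031117983620406741024 16 = 18 := by decide
    rw [h2] at h1
    exact h1.trans e16
  have e15 : f 15 = f 3 := by
    have h1 := h 801769640028659033540816226536757280 (by decide) 10 (by decide)
    have h2 : nthN 801769640028659033540816226536757280 10 = 15 := by decide
    rw [h2] at h1
    exact h1.trans e10
  have e5 : f 5 = f 3 := by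
    have h1 := h 88579123785536418455312005136276512 (by decide) 8 (by decide)
    have h2 : nthN 88579123785536418455312005136276512 8 = 5 := by decide
    rw [h2] at h1
    exact h1.trans e8
  have e14 : f 14 = f 3 := by
    have h1 := h 970531819526550031117983620406741024 (by decide) 20 (by decide)
    have h2 : nthN 970531819526550031117983620406741024 20 = 14 := by decide
    rw [h2] at h1
    exact h1.trans e20
  exact ⟨e6, e23, e19, e21, e9, e12, e22, e13, e17, e11, e4, e16, e10, e8, e20, e18, e15, e5, e14⟩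

/-- a vector fixed by `S0` is invariant under the generators -/
theorem inv_of_fixed (y : IVec) (hy : ∀ x ∈ S0, signedPerm x ∅ y = y) :
    ∀ l ∈ gensC, ∀ i < 24, y (pt (nthN l i)) = y (pt i) := by
  intro l hl i hi
  obtain ⟨x, -, hx⟩ := s0_facts.2.2.2 l hl
  have hxS : x ∈ S0 := Subgroup.subset_closure ⟨l, hl, hx⟩
  have h1 := congrFun (hy x hxS) (x (pt i))
  rw [signedPerm_empty_apply, Equiv.symm_apply_apply] at h1
  have h2 : x (pt i) = pt (nthN l i) := by
    have := (isCode_iff l x).mp hx (pt i)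
    rw [idx_pt hi] at this
    rw [← this, pt_idx]
  rw [h2] at h1
  exact h1.symm

theorem mem_Icc_of_sq_le {t m : ℤ} (n : ℤ) (hn : 0 ≤ n) (h : t ^ 2 ≤ m) (hm : m < (n + 1) ^ 2) :
    t ∈ Finset.Icc (-n) n := by
  have h1 := abs_lt_of_sq_lt_sq' (lt_of_le_of_lt h hm) (by linarith)
  rw [Finset.mem_Icc]
  constructor <;> linarith [h1.1, h1.2]

theorem arith_key : ∀ a ∈ Finset.Icc (-4 : ℤ) 4, ∀ c2 ∈ Finset.Icc (-4 : ℤ) 4,
    ∀ c4 ∈ Finset.Icc (-2 : ℤ) 2, ∀ c16 ∈ Finset.Icc (-1 : ℤ) 1,
    2 * a ^ 2 + 4 * c4 ^ 2 + 16 * c16 ^ 2 + 2 * c2 ^ 2 = 32 →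
    4 * a + 4 * c4 + 16 * c16 + 2 * c2 = 16 → a = 4 ∧ c2 = 0 ∧ c4 = 0 ∧ c16 = 0 := by
  decide +kernel

/-- the only vector of the configuration fixed by `S0` -/
theorem fixed_unique (y : IVec) (hy : y ∈ cfgN) (hfix : ∀ x ∈ S0, signedPerm x ∅ y = y) :
    y = xN := by
  obtain ⟨-, hn, hA, hB⟩ := hy
  set f : ℕ → ℤ := fun i => y (pt i) with hfdef
  have hf : ∀ i < 24, y (gPt i) = f i := fun i hi => by rw [hfdef, ← pt_eq_gPt i hi]
  obtain ⟨e6, e23, e19, e21, e9, e12, e22, e13, e17, e11, e4, e16, e10, e8, e20, e18, e15, e5, e14⟩ := orbit_consts f (inv_of_fixed y hfix)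
  have hsum : ∀ g : ℤ → ℤ, ∑ p, g (y p) = ∑ i ∈ Finset.range 24, g (f i) := by
    intro g
    rw [sum_golayPt]
    apply Finset.sum_congr rfl
    intro i hi
    rw [hf i (Finset.mem_range.mp hi)]
  have hn' : ∑ i ∈ Finset.range 24, (f i) ^ 2 = 32 := by
    rw [← hsum (fun t => t ^ 2)]
    exact hn
  have hA' : 4 * (f 0 + f 1) = 0 := by
    rw [dotInt_vA0] at hA
    exact hA
  have hB' : (∑ i ∈ Finset.range 24, f i) - 4 * f 1 = 16 := by
    have := hB
    unfold wB0 at this
    rw [dotInt_oddBase] at this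
    rw [← hsum (fun t => t)]
    exact this
  simp only [Finset.sum_range_succ, Finset.sum_range_zero] at hn' hB'
  rw [e6, e23, e19, e21, e9, e12, e22, e13, e17, e11, e4, e16, e10, e8, e20, e18, e15, e5, e14] at hn' hB'
  have hb : f 1 = -f 0 := by linarith
  have hn2 : 2 * f 0 ^ 2 + 4 * f 2 ^ 2 + 16 * f 3 ^ 2 + 2 * f 7 ^ 2 = 32 := by
    have e : (f 1) ^ 2 = (f 0) ^ 2 := by rw [hb]; ring
    linarith [hn', e]
  have hB2 : 4 * f 0 + 4 * f 2 + 16 * f 3 + 2 * f 7 = 16 := by linarith [hB', hb]
  clear hn' hB'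
  have q0 : f 0 ^ 2 ≤ 16 := by linarith [sq_nonneg (f 2), sq_nonneg (f 3), sq_nonneg (f 7)]
  have q7 : f 7 ^ 2 ≤ 16 := by linarith [sq_nonneg (f 2), sq_nonneg (f 3), sq_nonneg (f 0)]
  have q2 : f 2 ^ 2 ≤ 8 := by linarith [sq_nonneg (f 0), sq_nonneg (f 3), sq_nonneg (f 7)]
  have q3 : f 3 ^ 2 ≤ 2 := by linarith [sq_nonneg (f 0), sq_nonneg (f 2), sq_nonneg (f 7)]
  have ba : f 0 ∈ Finset.Icc (-4 : ℤ) 4 := mem_Icc_of_sq_le 4 (by norm_num) q0 (by norm_num)
  have b2 : f 7 ∈ Finset.Icc (-4 : ℤ) 4 := mem_Icc_of_sq_le 4 (by norm_num) q7 (by norm_num)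
  have b4 : f 2 ∈ Finset.Icc (-2 : ℤ) 2 := mem_Icc_of_sq_le 2 (by norm_num) q2 (by norm_num)
  have b16 : f 3 ∈ Finset.Icc (-1 : ℤ) 1 := mem_Icc_of_sq_le 1 (by norm_num) q3 (by norm_num)
  obtain ⟨h0, h7, h2, h3⟩ := arith_key (f 0) ba (f 7) b2 (f 2) b4 (f 3) b16 (by linarith) (by linarith)
  have h1 : f 1 = -4 := by rw [hb, h0]
  have hl : listOf y = lXN := by
    show (List.range 24).map (fun i => y (gPt i)) = lXN
    have hr : List.range 24 = [0, 1, 2, 3, 4, 5, 6, 7, 8, 9, 10, 11, 12, 13, 14, 15, 16, 17, 18, 19, 20,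
      21, 22, 23] := by decide
    rw [hr]
    simp only [List.map_cons, List.map_nil]
    have v0 : y (gPt 0) = 4 := by rw [hf 0 (by norm_num)]; exact h0
    have v1 : y (gPt 1) = -4 := by rw [hf 1 (by norm_num)]; exact h1
    have v2 : y (gPt 2) = 0 := by rw [hf 2 (by norm_num)]; exact h2
    have v3 : y (gPt 3) = 0 := by rw [hf 3 (by norm_num)]; exact h3
    have v4 : y (gPt 4) = 0 := by rw [hf 4 (by norm_num), e4]; exact h3
    have v5 : y (gPt 5) = 0 := by rw [hf 5 (by norm_num), e5]; exact h3
    have v6 : y (gPt 6) = 0 := by rw [hf 6 (by norm_num), e6]; exact h2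
    have v7 : y (gPt 7) = 0 := by rw [hf 7 (by norm_num)]; exact h7
    have v8 : y (gPt 8) = 0 := by rw [hf 8 (by norm_num), e8]; exact h3
    have v9 : y (gPt 9) = 0 := by rw [hf 9 (by norm_num), e9]; exact h3
    have v10 : y (gPt 10) = 0 := by rw [hf 10 (by norm_num), e10]; exact h3
    have v11 : y (gPt 11) = 0 := by rw [hf 11 (by norm_num), e11]; exact h3
    have v12 : y (gPt 12) = 0 := by rw [hf 12 (by norm_num), e12]; exact h3
    have v13 : y (gPt 13) = 0 := by rw [hf 13 (by norm_num), e13]; exact h3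
    have v14 : y (gPt 14) = 0 := by rw [hf 14 (by norm_num), e14]; exact h3
    have v15 : y (gPt 15) = 0 := by rw [hf 15 (by norm_num), e15]; exact h3
    have v16 : y (gPt 16) = 0 := by rw [hf 16 (by norm_num), e16]; exact h3
    have v17 : y (gPt 17) = 0 := by rw [hf 17 (by norm_num), e17]; exact h3
    have v18 : y (gPt 18) = 0 := by rw [hf 18 (by norm_num), e18]; exact h3
    have v19 : y (gPt 19) = 0 := by rw [hf 19 (by norm_num), e19]; exact h2
    have v20 : y (gPt 20) = 0 := by rw [hf 20 (by norm_num), e20]; exact h3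
    have v21 : y (gPt 21) = 0 := by rw [hf 21 (by norm_num), e21]; exact h7
    have v22 : y (gPt 22) = 0 := by rw [hf 22 (by norm_num), e22]; exact h3
    have v23 : y (gPt 23) = 0 := by rw [hf 23 (by norm_num), e23]; exact h2
    rw [v0, v1, v2, v3, v4, v5, v6, v7, v8, v9, v10, v11, v12, v13, v14, v15, v16, v17, v18, v19, v20, v21, v22, v23]
    rfl
  rw [eq_vecOf_of_listOf hl, eq_vecOf_of_listOf listOf_xN]

end Cfsg.Agent.Helper8.FusMcL
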