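import Cfsg.Agent.Helper8.FusMcLC

/-!
The Sylow `2`-subgroup of the monomial `M22` inside the stabiliser `GM` of the standard pair of minimal
vectors (the McLaughlin group): it is self-normalising there and has no proper nontrivial strongly closed
subgroup, because it fixes only one of the 2025 points.
-/

set_option autoImplicit false

namespace Cfsg.Agent.Helper8.FusMcL

open Cfsg Cfsg.Agent.Helper7 Cfsg.Agent.Helper27 MulAction
open Cfsg.Agent.Helper8

/-- the monomial `M22` as the stabiliser of the point -/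
noncomputable def E22 : ↥(fixG M24 [1, 0]) ≃* ↥(stabilizer ↥GM a2) :=
  MulEquiv.ofBijective m22Hom ⟨m22Hom_injective, m22Hom_surjective⟩

theorem E22_apply (σ : ↥(fixG M24 [1, 0])) : E22 σ = m22Hom σ := rfl

/-- the Sylow subgroup inside the monomial `M22` -/
def S1 : Subgroup ↥(fixG M24 [1, 0]) := S0.subgroupOf (fixG M24 [1, 0])

/-- the Sylow subgroup inside the point stabiliser -/
noncomputable def S2 : Subgroup ↥(stabilizer ↥GM a2) := S1.map E22.toMonoidHom

/-- the Sylow subgroup inside `GM` -/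
noncomputable def S3 : Subgroup ↥GM := S2.map (stabilizer ↥GM a2).subtype

theorem fusGood_S1 : FusGood S1 := s0_facts.1

theorem card_S1 : Nat.card S1 = 2 ^ 7 := s0_facts.2.1

theorem S0_le : S0 ≤ fixG M24 [1, 0] := s0_facts.2.2.1

theorem fusGood_S2 : FusGood S2 := fusGood_S1.map_equiv E22

theorem card_S2 : Nat.card S2 = 2 ^ 7 := by
  rw [← card_S1]
  exact Subgroup.card_map_of_injective E22.injective

theorem card_S3 : Nat.card S3 = 2 ^ 7 := by
  rw [← card_S2]
  exact Subgroup.card_map_of_injective (Subgroup.subtype_injective _)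

theorem S3_le : S3 ≤ stabilizer ↥GM a2 := Subgroup.map_subtype_le S2

theorem S3_subgroupOf : S3.subgroupOf (stabilizer ↥GM a2) = S2 :=
  Subgroup.comap_map_eq_self_of_injective (Subgroup.subtype_injective _) S2

/-- the elements of `S0` act in `S3` -/
theorem exists_S3 {x : Equiv.Perm GolayPt} (hx : x ∈ S0) :
    ∃ s ∈ S3, ∀ y : ↥leechLattice, (((s : ↥GM) : ↥Co0) • y : ↥leechLattice).1 = signedPerm x ∅ y.1 := by
  let σ : ↥(fixG M24 [1, 0]) := ⟨x, S0_le hx⟩
  have hσ : σ ∈ S1 := Subgroup.mem_subgroupOf.mpr hx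
  refine ⟨((E22 σ : ↥(stabilizer ↥GM a2)) : ↥GM), ⟨E22 σ, ⟨σ, hσ, rfl⟩, rfl⟩, ?_⟩
  intro y
  rw [E22_apply, m22Hom_val, monoCo0_smul]

/-- the only point fixed by the Sylow subgroup -/
theorem fixed_S3 (y : ↥omega2) (hy : ∀ s ∈ S3, s • y = y) : y = a2 := by
  have hcfg : ((y : ↥leechLattice) : IVec) ∈ cfgN :=
    (mem_cfg2_std _).1 ((mem_omega2 _).1 y.2)
  have hfix : ∀ x ∈ S0, signedPerm x ∅ ((y : ↥leechLattice) : IVec) = ((y : ↥leechLattice) : IVec) := by
    intro x hx
    obtain ⟨s, hs, hact⟩ := exists_S3 hx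
    have h1 := congrArg (fun z : ↥omega2 => ((z : ↥leechLattice) : IVec)) (hy s hs)
    simp only [omega_smul_val2] at h1
    rw [hact] at h1
    exact h1
  have h2 := fixed_unique _ hcfg hfix
  apply Subtype.ext
  apply Subtype.ext
  exact h2

/-- elements normalising the Sylow subgroup fix the point -/
theorem normalizer_le (n : ↥GM) (hn : ∀ x : ↥GM, x ∈ S3 ↔ n * x * n⁻¹ ∈ S3) :
    n ∈ stabilizer ↥GM a2 := by
  have h1 : n⁻¹ • a2 = a2 := by
    apply fixed_S3
    intro s hs
    have h2 : n * s * n⁻¹ ∈ stabilizer ↥GM a2 := S3_le ((hn s).mp hs)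
    rw [mem_stabilizer_iff] at h2
    calc s • n⁻¹ • a2 = n⁻¹ • ((n * s * n⁻¹) • a2) := by
          rw [← mul_smul, ← mul_smul]
          congr 1
          group
      _ = n⁻¹ • a2 := by rw [h2]
  have h3 : n⁻¹ ∈ stabilizer ↥GM a2 := mem_stabilizer_iff.mpr h1
  have := (stabilizer ↥GM a2).inv_mem h3
  rwa [inv_inv] at this

theorem fusGood_S3 : FusGood S3 := by
  apply FusGood.lift (stabilizer ↥GM a2) S3 S3_le
  · rw [S3_subgroupOf]
    exact fusGood_S2
  · exact normalizer_le

end Cfsg.Agent.Helper8.FusMcL
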