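import Cfsg.Agent.Helper8.FusMcLD
import Cfsg.Agent.Helper72.FusSimple
import Cfsg.Agent.Helper27.FusRel
import Cfsg.Prelude.Def_Spor_Conway

/-!
The `2`-fusion system of the McLaughlin group is simple: transport of the two elementwise hypotheses
from the stabiliser `GM` of the standard pair to the group `Cfsg.Spor.McL` and to any group isomorphic
to it.
-/

set_option autoImplicit false

namespace Cfsg.Agent.Helper8.FusMcL

open Cfsg Cfsg.Agent.Helper7 Cfsg.Agent.Helper27 MulAction
open Cfsg.Agent.Helper8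

/-- the second minimal vector `-(u + v) = (1, -3, 1, …)` -/
def leechW : ↥leechLattice := -(Spor.leechU + Spor.leechV)

theorem leechV_eq : Spor.leechV = -leechW - Spor.leechU := by
  unfold leechW
  abel

theorem sqNorm_leechU : sqNorm ((Spor.leechU : ↥leechLattice) : IVec) = 32 := by
  show sqNorm Spor.vecU = 32
  decide +kernel

theorem leechW_val : ((leechW : ↥leechLattice) : IVec) = -(Spor.vecU + Spor.vecV) := rfl

theorem sqNorm_leechW : sqNorm ((leechW : ↥leechLattice) : IVec) = 32 := by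
  rw [leechW_val]
  decide +kernel

theorem dot_leechU_leechW :
    dotInt ((Spor.leechU : ↥leechLattice) : IVec) ((leechW : ↥leechLattice) : IVec) = -8 := by
  rw [leechW_val]
  show dotInt Spor.vecU (-(Spor.vecU + Spor.vecV)) = -8
  decide +kernel

/-- the McLaughlin group as a stabiliser of two minimal vectors -/
abbrev PM : Subgroup ↥Co0 := stabilizer ↥Co0 Spor.leechU ⊓ stabilizer ↥Co0 leechW

theorem mcl_eq_map : PM.map Co0.subtype = Spor.McL := by
  ext f
  constructor
  · rintro ⟨g, hg, rfl⟩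
    have hg' : g ∈ stabilizer ↥Co0 Spor.leechU ⊓ stabilizer ↥Co0 leechW := hg
    rw [Subgroup.mem_inf, mem_stabilizer_iff, mem_stabilizer_iff] at hg'
    obtain ⟨hU, hW⟩ := hg'
    have hV : g • Spor.leechV = Spor.leechV := by
      rw [leechV_eq, ← co0Hom_apply, map_sub, map_neg, co0Hom_apply, co0Hom_apply, hU, hW]
    exact ⟨⟨g.2, hV⟩, hU⟩
  · rintro ⟨⟨hf, hV⟩, hU⟩
    refine ⟨⟨f, hf⟩, ?_, rfl⟩
    show (⟨f, hf⟩ : ↥Co0) ∈ stabilizer ↥Co0 Spor.leechU ⊓ stabilizer ↥Co0 leechW
    rw [Subgroup.mem_inf, mem_stabilizer_iff, mem_stabilizer_iff]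
    have hU' : (⟨f, hf⟩ : ↥Co0) • Spor.leechU = Spor.leechU := hU
    have hV' : (⟨f, hf⟩ : ↥Co0) • Spor.leechV = Spor.leechV := hV
    refine ⟨hU', ?_⟩
    unfold leechW
    rw [← co0Hom_apply, map_neg, map_add, co0Hom_apply, co0Hom_apply, hU', hV']

/-- the stabiliser as the explicit group -/
noncomputable def mclEquiv : ↥PM ≃* ↥Spor.McL :=
  (PM.equivMapOfInjective Co0.subtype Subtype.val_injective).trans
    (MulEquiv.subgroupCongr mcl_eq_map)

/-- the standard stabiliser as the explicit group -/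
theorem exists_equiv_mcl : Nonempty (↥GM ≃* ↥Spor.McL) := by
  obtain ⟨g, hgU, hgW⟩ := exists_to_std Spor.leechU leechW sqNorm_leechU sqNorm_leechW
    dot_leechU_leechW
  exact ⟨(stabPairEquiv g Spor.leechU leechW v0L w0L hgU hgW).symm.trans mclEquiv⟩

theorem fusion_simple_of_iso {G : Type*} [Group G] [Finite G] (hG : Spor.IsoMcL G)
    (S : Sylow 2 G) : (groupFusionSystem (S : Subgroup G)).IsSimple 2 := by
  obtain ⟨e⟩ := hG
  obtain ⟨e0⟩ := exists_equiv_mcl
  let e' : ↥GM ≃* G := e0.trans e.symm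
  have hgood : FusGood (S3.map e'.toMonoidHom) := fusGood_S3.map_equiv e'
  have hcard : Nat.card (S3.map e'.toMonoidHom) = 2 ^ 7 := by
    rw [Subgroup.card_map_of_injective e'.injective]
    exact card_S3
  have hcG : Nat.card G = 898128000 := by
    rw [← Nat.card_congr e'.toEquiv]
    exact card_GM
  have : Fact (Nat.Prime 2) := ⟨Nat.prime_two⟩
  apply Helper72.FusSimple.isSimple_of_conj 2 (S3.map e'.toMonoidHom)
  · rw [hcard, hcG]
    congr 1
    exact (Helper27.FusRel.factorization_two_eq (by norm_num) (by norm_num) (by norm_num)).symm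
  · intro h
    rw [h, Subgroup.card_bot] at hcard
    norm_num at hcard
  · exact hgood.1
  · intro n hn
    exact ⟨n, hgood.2 n (Subgroup.mem_normalizer_iff.mp hn), fun x _ => rfl⟩

end Cfsg.Agent.Helper8.FusMcL
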