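import Cfsg.Agent.Helper8.G24F

/-!
Helper8 / G2(4): a strict computing model for 6×6 matrices over `F4` (rows are structures),
with bridging lemmas to `Matrix (Fin 6) (Fin 6) F4`.
-/

set_option autoImplicit false

namespace Cfsg.Agent.Helper8.G24

/-- a row of six field elements -/
structure R6 where
  a0 : F4
  a1 : F4
  a2 : F4
  a3 : F4
  a4 : F4
  a5 : F4
deriving DecidableEq

/-- six rows -/
structure M6 where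
  r0 : R6
  r1 : R6
  r2 : R6
  r3 : R6
  r4 : R6
  r5 : R6
deriving DecidableEq

namespace R6

/-- the entries as a function -/
def get (r : R6) : Fin 6 → F4
  | ⟨0, _⟩ => r.a0
  | ⟨1, _⟩ => r.a1
  | ⟨2, _⟩ => r.a2
  | ⟨3, _⟩ => r.a3
  | ⟨4, _⟩ => r.a4
  | ⟨5, _⟩ => r.a5

/-- sum of rows -/
def add (a b : R6) : R6 := ⟨a.a0 + b.a0, a.a1 + b.a1, a.a2 + b.a2, a.a3 + b.a3, a.a4 + b.a4, a.a5 + b.a5⟩

/-- scalar multiple -/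
def smul (c : F4) (a : R6) : R6 := ⟨c * a.a0, c * a.a1, c * a.a2, c * a.a3, c * a.a4, c * a.a5⟩

end R6

namespace M6

/-- the rows as a function -/
def row (m : M6) : Fin 6 → R6
  | ⟨0, _⟩ => m.r0
  | ⟨1, _⟩ => m.r1
  | ⟨2, _⟩ => m.r2
  | ⟨3, _⟩ => m.r3
  | ⟨4, _⟩ => m.r4
  | ⟨5, _⟩ => m.r5

/-- the matrix -/
def toMat (m : M6) : Matrix (Fin 6) (Fin 6) F4 := fun i j => (m.row i).get j

/-- sum -/
def add (A B : M6) : M6 := ⟨A.r0.add B.r0, A.r1.add B.r1, A.r2.add B.r2, A.r3.add B.r3, A.r4.add B.r4, A.r5.add B.r5⟩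

/-- scalar multiple -/
def smul (c : F4) (A : M6) : M6 := ⟨R6.smul c A.r0, R6.smul c A.r1, R6.smul c A.r2, R6.smul c A.r3, R6.smul c A.r4, R6.smul c A.r5⟩

/-- transpose -/
def tr (A : M6) : M6 :=
  ⟨⟨A.r0.a0, A.r1.a0, A.r2.a0, A.r3.a0, A.r4.a0, A.r5.a0⟩,
   ⟨A.r0.a1, A.r1.a1, A.r2.a1, A.r3.a1, A.r4.a1, A.r5.a1⟩,
   ⟨A.r0.a2, A.r1.a2, A.r2.a2, A.r3.a2, A.r4.a2, A.r5.a2⟩,
   ⟨A.r0.a3, A.r1.a3, A.r2.a3, A.r3.a3, A.r4.a3, A.r5.a3⟩,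
   ⟨A.r0.a4, A.r1.a4, A.r2.a4, A.r3.a4, A.r4.a4, A.r5.a4⟩,
   ⟨A.r0.a5, A.r1.a5, A.r2.a5, A.r3.a5, A.r4.a5, A.r5.a5⟩⟩

end M6

/-- row vector times matrix -/
def R6.mulM (a : R6) (m : M6) : R6 :=
  ⟨(a.a0 * m.r0.a0 + a.a1 * m.r1.a0 + a.a2 * m.r2.a0 + a.a3 * m.r3.a0 + a.a4 * m.r4.a0 + a.a5 * m.r5.a0),
   (a.a0 * m.r0.a1 + a.a1 * m.r1.a1 + a.a2 * m.r2.a1 + a.a3 * m.r3.a1 + a.a4 * m.r4.a1 + a.a5 * m.r5.a1),
   (a.a0 * m.r0.a2 + a.a1 * m.r1.a2 + a.a2 * m.r2.a2 + a.a3 * m.r3.a2 + a.a4 * m.r4.a2 + a.a5 * m.r5.a2),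
   (a.a0 * m.r0.a3 + a.a1 * m.r1.a3 + a.a2 * m.r2.a3 + a.a3 * m.r3.a3 + a.a4 * m.r4.a3 + a.a5 * m.r5.a3),
   (a.a0 * m.r0.a4 + a.a1 * m.r1.a4 + a.a2 * m.r2.a4 + a.a3 * m.r3.a4 + a.a4 * m.r4.a4 + a.a5 * m.r5.a4),
   (a.a0 * m.r0.a5 + a.a1 * m.r1.a5 + a.a2 * m.r2.a5 + a.a3 * m.r3.a5 + a.a4 * m.r4.a5 + a.a5 * m.r5.a5)⟩

/-- matrix product -/
def M6.mul (A B : M6) : M6 :=
  ⟨A.r0.mulM B, A.r1.mulM B, A.r2.mulM B, A.r3.mulM B, A.r4.mulM B, A.r5.mulM B⟩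

/-- the identity -/
def M6.one : M6 :=
  ⟨⟨1, 0, 0, 0, 0, 0⟩, ⟨0, 1, 0, 0, 0, 0⟩, ⟨0, 0, 1, 0, 0, 0⟩, ⟨0, 0, 0, 1, 0, 0⟩, ⟨0, 0, 0, 0, 1, 0⟩, ⟨0, 0, 0, 0, 0, 1⟩⟩

/-- the zero matrix -/
def M6.zero : M6 :=
  ⟨⟨0, 0, 0, 0, 0, 0⟩, ⟨0, 0, 0, 0, 0, 0⟩, ⟨0, 0, 0, 0, 0, 0⟩, ⟨0, 0, 0, 0, 0, 0⟩, ⟨0, 0, 0, 0, 0, 0⟩, ⟨0, 0, 0, 0, 0, 0⟩⟩

theorem R6.get_mulM (a : R6) (m : M6) : (a.mulM m).get = Matrix.vecMul a.get m.toMat := by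
  funext j
  fin_cases j <;>
  simp [R6.get, R6.mulM, M6.toMat, M6.row, Matrix.vecMul, dotProduct, Fin.sum_univ_six]

theorem M6.toMat_row (A : M6) (i : Fin 6) : A.toMat i = (A.row i).get := rfl

theorem M6.row_mul (A B : M6) (i : Fin 6) : (A.mul B).row i = (A.row i).mulM B := by
  fin_cases i <;> rfl

theorem M6.toMat_mul (A B : M6) : (A.mul B).toMat = A.toMat * B.toMat := by
  ext i j
  rw [M6.toMat_row, M6.row_mul, R6.get_mulM]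
  simp [Matrix.vecMul, Matrix.mul_apply, dotProduct, M6.toMat_row]

theorem M6.toMat_one : M6.one.toMat = 1 := by
  ext i j
  fin_cases i <;> fin_cases j <;> simp [M6.toMat, M6.row, R6.get, M6.one]

theorem M6.toMat_zero : M6.zero.toMat = 0 := by
  ext i j
  fin_cases i <;> fin_cases j <;> simp [M6.toMat, M6.row, R6.get, M6.zero]

theorem M6.toMat_add (A B : M6) : (A.add B).toMat = A.toMat + B.toMat := by
  ext i j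
  fin_cases i <;> fin_cases j <;> simp [M6.toMat, M6.row, R6.get, M6.add, R6.add]

theorem M6.toMat_smul (c : F4) (A : M6) : (M6.smul c A).toMat = c • A.toMat := by
  ext i j
  fin_cases i <;> fin_cases j <;> simp [M6.toMat, M6.row, R6.get, M6.smul, R6.smul]

theorem M6.toMat_tr (A : M6) : A.tr.toMat = A.toMat.transpose := by
  ext i j
  fin_cases i <;> fin_cases j <;> simp [M6.toMat, M6.row, R6.get, M6.tr, Matrix.transpose_apply]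

theorem R6.eq_of_get_eq {a b : R6} (h : a.get = b.get) : a = b := by
  obtain ⟨a0, a1, a2, a3, a4, a5⟩ := a
  obtain ⟨b0, b1, b2, b3, b4, b5⟩ := b
  have e0 : a0 = b0 := congrFun h 0
  have e1 : a1 = b1 := congrFun h 1
  have e2 : a2 = b2 := congrFun h 2
  have e3 : a3 = b3 := congrFun h 3
  have e4 : a4 = b4 := congrFun h 4
  have e5 : a5 = b5 := congrFun h 5
  subst e0 e1 e2 e3 e4 e5
  rfl

theorem M6.toMat_injective : Function.Injective M6.toMat := by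
  intro A B h
  obtain ⟨a0, a1, a2, a3, a4, a5⟩ := A
  obtain ⟨b0, b1, b2, b3, b4, b5⟩ := B
  have e0 : a0 = b0 := R6.eq_of_get_eq (congrFun h 0)
  have e1 : a1 = b1 := R6.eq_of_get_eq (congrFun h 1)
  have e2 : a2 = b2 := R6.eq_of_get_eq (congrFun h 2)
  have e3 : a3 = b3 := R6.eq_of_get_eq (congrFun h 3)
  have e4 : a4 = b4 := R6.eq_of_get_eq (congrFun h 4)
  have e5 : a5 = b5 := R6.eq_of_get_eq (congrFun h 5)
  subst e0 e1 e2 e3 e4 e5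
  rfl

end Cfsg.Agent.Helper8.G24
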