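import Cfsg.Agent.Helper8.G24A

/-!
Helper8 / G2(4): data of the 6-dimensional module of `G₂(4)`: the images of the Chevalley basis
(`h₁, h₂, e_r`), the divided squares, the root elements, the invariant form, and some elements of
orders 7, 13, 6, 10 with their power sums.  All generated by a script, checked by the kernel.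
-/

set_option autoImplicit false

namespace Cfsg.Agent.Helper8.G24

/-- images of the Chevalley basis in the 6-dimensional module -/
def E6s : Fin 2 ⊕ Fin 12 → M6
  | Sum.inl ⟨0, _⟩ => ⟨⟨1, 0, 0, 0, 0, 0⟩, ⟨0, 1, 0, 0, 0, 0⟩, ⟨0, 0, 0, 0, 0, 0⟩, ⟨0, 0, 0, 0, 0, 0⟩, ⟨0, 0, 0, 0, 1, 0⟩, ⟨0, 0, 0, 0, 0, 1⟩⟩
  | Sum.inl ⟨1, _⟩ => ⟨⟨0, 0, 0, 0, 0, 0⟩, ⟨0, 1, 0, 0, 0, 0⟩, ⟨0, 0, 1, 0, 0, 0⟩, ⟨0, 0, 0, 1, 0, 0⟩, ⟨0, 0, 0, 0, 1, 0⟩, ⟨0, 0, 0, 0, 0, 0⟩⟩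
  | Sum.inr ⟨0, _⟩ => ⟨⟨0, 0, 0, 0, 1, 0⟩, ⟨0, 0, 0, 0, 0, 1⟩, ⟨0, 0, 0, 0, 0, 0⟩, ⟨0, 0, 0, 0, 0, 0⟩, ⟨0, 0, 0, 0, 0, 0⟩, ⟨0, 0, 0, 0, 0, 0⟩⟩
  | Sum.inr ⟨1, _⟩ => ⟨⟨0, 0, 0, 1, 0, 0⟩, ⟨0, 0, 0, 0, 0, 0⟩, ⟨0, 0, 0, 0, 0, 1⟩, ⟨0, 0, 0, 0, 0, 0⟩, ⟨0, 0, 0, 0, 0, 0⟩, ⟨0, 0, 0, 0, 0, 0⟩⟩
  | Sum.inr ⟨2, _⟩ => ⟨⟨0, 0, 0, 0, 0, 0⟩, ⟨0, 0, 0, 1, 0, 0⟩, ⟨0, 0, 0, 0, 1, 0⟩, ⟨0, 0, 0, 0, 0, 0⟩, ⟨0, 0, 0, 0, 0, 0⟩, ⟨0, 0, 0, 0, 0, 0⟩⟩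
  | Sum.inr ⟨3, _⟩ => ⟨⟨0, 0, 1, 0, 0, 0⟩, ⟨0, 0, 0, 0, 0, 0⟩, ⟨0, 0, 0, 0, 0, 0⟩, ⟨0, 0, 0, 0, 0, 1⟩, ⟨0, 0, 0, 0, 0, 0⟩, ⟨0, 0, 0, 0, 0, 0⟩⟩
  | Sum.inr ⟨4, _⟩ => ⟨⟨0, 1, 0, 0, 0, 0⟩, ⟨0, 0, 0, 0, 0, 0⟩, ⟨0, 0, 0, 0, 0, 0⟩, ⟨0, 0, 0, 0, 0, 0⟩, ⟨0, 0, 0, 0, 0, 1⟩, ⟨0, 0, 0, 0, 0, 0⟩⟩
  | Sum.inr ⟨5, _⟩ => ⟨⟨0, 0, 0, 0, 0, 0⟩, ⟨0, 0, 1, 0, 0, 0⟩, ⟨0, 0, 0, 0, 0, 0⟩, ⟨0, 0, 0, 0, 1, 0⟩, ⟨0, 0, 0, 0, 0, 0⟩, ⟨0, 0, 0, 0, 0, 0⟩⟩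
  | Sum.inr ⟨6, _⟩ => ⟨⟨0, 0, 0, 0, 0, 0⟩, ⟨0, 0, 0, 0, 0, 0⟩, ⟨0, 1, 0, 0, 0, 0⟩, ⟨0, 0, 0, 0, 0, 0⟩, ⟨0, 0, 0, 1, 0, 0⟩, ⟨0, 0, 0, 0, 0, 0⟩⟩
  | Sum.inr ⟨7, _⟩ => ⟨⟨0, 0, 0, 0, 0, 0⟩, ⟨1, 0, 0, 0, 0, 0⟩, ⟨0, 0, 0, 0, 0, 0⟩, ⟨0, 0, 0, 0, 0, 0⟩, ⟨0, 0, 0, 0, 0, 0⟩, ⟨0, 0, 0, 0, 1, 0⟩⟩
  | Sum.inr ⟨8, _⟩ => ⟨⟨0, 0, 0, 0, 0, 0⟩, ⟨0, 0, 0, 0, 0, 0⟩, ⟨1, 0, 0, 0, 0, 0⟩, ⟨0, 0, 0, 0, 0, 0⟩, ⟨0, 0, 0, 0, 0, 0⟩, ⟨0, 0, 0, 1, 0, 0⟩⟩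
  | Sum.inr ⟨9, _⟩ => ⟨⟨0, 0, 0, 0, 0, 0⟩, ⟨0, 0, 0, 0, 0, 0⟩, ⟨0, 0, 0, 0, 0, 0⟩, ⟨0, 1, 0, 0, 0, 0⟩, ⟨0, 0, 1, 0, 0, 0⟩, ⟨0, 0, 0, 0, 0, 0⟩⟩
  | Sum.inr ⟨10, _⟩ => ⟨⟨0, 0, 0, 0, 0, 0⟩, ⟨0, 0, 0, 0, 0, 0⟩, ⟨0, 0, 0, 0, 0, 0⟩, ⟨1, 0, 0, 0, 0, 0⟩, ⟨0, 0, 0, 0, 0, 0⟩, ⟨0, 0, 1, 0, 0, 0⟩⟩
  | Sum.inr ⟨11, _⟩ => ⟨⟨0, 0, 0, 0, 0, 0⟩, ⟨0, 0, 0, 0, 0, 0⟩, ⟨0, 0, 0, 0, 0, 0⟩, ⟨0, 0, 0, 0, 0, 0⟩, ⟨1, 0, 0, 0, 0, 0⟩, ⟨0, 1, 0, 0, 0, 0⟩⟩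

/-- divided squares of the root vectors -/
def E2s : Fin 12 → M6
  | ⟨0, _⟩ => ⟨⟨0, 0, 0, 0, 0, 0⟩, ⟨0, 0, 0, 0, 0, 0⟩, ⟨0, 0, 0, 0, 0, 0⟩, ⟨0, 0, 0, 0, 0, 0⟩, ⟨0, 0, 0, 0, 0, 0⟩, ⟨0, 0, 0, 0, 0, 0⟩⟩
  | ⟨1, _⟩ => ⟨⟨0, 0, 0, 0, 0, 0⟩, ⟨0, 0, 0, 0, 0, 0⟩, ⟨0, 0, 0, 0, 0, 0⟩, ⟨0, 0, 0, 0, 0, 0⟩, ⟨0, 0, 0, 0, 0, 0⟩, ⟨0, 0, 0, 0, 0, 0⟩⟩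
  | ⟨2, _⟩ => ⟨⟨0, 0, 0, 0, 0, 1⟩, ⟨0, 0, 0, 0, 0, 0⟩, ⟨0, 0, 0, 0, 0, 0⟩, ⟨0, 0, 0, 0, 0, 0⟩, ⟨0, 0, 0, 0, 0, 0⟩, ⟨0, 0, 0, 0, 0, 0⟩⟩
  | ⟨3, _⟩ => ⟨⟨0, 0, 0, 0, 0, 0⟩, ⟨0, 0, 0, 0, 1, 0⟩, ⟨0, 0, 0, 0, 0, 0⟩, ⟨0, 0, 0, 0, 0, 0⟩, ⟨0, 0, 0, 0, 0, 0⟩, ⟨0, 0, 0, 0, 0, 0⟩⟩
  | ⟨4, _⟩ => ⟨⟨0, 0, 0, 0, 0, 0⟩, ⟨0, 0, 0, 0, 0, 0⟩, ⟨0, 0, 0, 1, 0, 0⟩, ⟨0, 0, 0, 0, 0, 0⟩, ⟨0, 0, 0, 0, 0, 0⟩, ⟨0, 0, 0, 0, 0, 0⟩⟩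
  | ⟨5, _⟩ => ⟨⟨0, 0, 0, 0, 0, 0⟩, ⟨0, 0, 0, 0, 0, 0⟩, ⟨0, 0, 0, 0, 0, 0⟩, ⟨0, 0, 0, 0, 0, 0⟩, ⟨0, 0, 0, 0, 0, 0⟩, ⟨0, 0, 0, 0, 0, 0⟩⟩
  | ⟨6, _⟩ => ⟨⟨0, 0, 0, 0, 0, 0⟩, ⟨0, 0, 0, 0, 0, 0⟩, ⟨0, 0, 0, 0, 0, 0⟩, ⟨0, 0, 0, 0, 0, 0⟩, ⟨0, 0, 0, 0, 0, 0⟩, ⟨0, 0, 0, 0, 0, 0⟩⟩
  | ⟨7, _⟩ => ⟨⟨0, 0, 0, 0, 0, 0⟩, ⟨0, 0, 0, 0, 0, 0⟩, ⟨0, 0, 0, 0, 0, 0⟩, ⟨0, 0, 1, 0, 0, 0⟩, ⟨0, 0, 0, 0, 0, 0⟩, ⟨0, 0, 0, 0, 0, 0⟩⟩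
  | ⟨8, _⟩ => ⟨⟨0, 0, 0, 0, 0, 0⟩, ⟨0, 0, 0, 0, 0, 0⟩, ⟨0, 0, 0, 0, 0, 0⟩, ⟨0, 0, 0, 0, 0, 0⟩, ⟨0, 1, 0, 0, 0, 0⟩, ⟨0, 0, 0, 0, 0, 0⟩⟩
  | ⟨9, _⟩ => ⟨⟨0, 0, 0, 0, 0, 0⟩, ⟨0, 0, 0, 0, 0, 0⟩, ⟨0, 0, 0, 0, 0, 0⟩, ⟨0, 0, 0, 0, 0, 0⟩, ⟨0, 0, 0, 0, 0, 0⟩, ⟨1, 0, 0, 0, 0, 0⟩⟩
  | ⟨10, _⟩ => ⟨⟨0, 0, 0, 0, 0, 0⟩, ⟨0, 0, 0, 0, 0, 0⟩, ⟨0, 0, 0, 0, 0, 0⟩, ⟨0, 0, 0, 0, 0, 0⟩, ⟨0, 0, 0, 0, 0, 0⟩, ⟨0, 0, 0, 0, 0, 0⟩⟩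
  | ⟨11, _⟩ => ⟨⟨0, 0, 0, 0, 0, 0⟩, ⟨0, 0, 0, 0, 0, 0⟩, ⟨0, 0, 0, 0, 0, 0⟩, ⟨0, 0, 0, 0, 0, 0⟩, ⟨0, 0, 0, 0, 0, 0⟩, ⟨0, 0, 0, 0, 0, 0⟩⟩

/-- the root elements `x_r(t) = 1 + t e_r + t² e_r^{(2)}` -/
def X6s (r : Fin 12) (t : F4) : M6 :=
  M6.one.add ((M6.smul t (E6s (Sum.inr r))).add (M6.smul (t * t) (E2s r)))

/-- the invariant alternating form -/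
def Jm : M6 := ⟨⟨0, 0, 0, 0, 0, 1⟩, ⟨0, 0, 0, 0, 1, 0⟩, ⟨0, 0, 0, 1, 0, 0⟩, ⟨0, 0, 1, 0, 0, 0⟩, ⟨0, 1, 0, 0, 0, 0⟩, ⟨1, 0, 0, 0, 0, 0⟩⟩

/-- a position where only the given basis element has a non-zero entry: row -/
def pa : Fin 2 ⊕ Fin 12 → Fin 6
  | Sum.inl ⟨0, _⟩ => 0
  | Sum.inl ⟨1, _⟩ => 2
  | Sum.inr ⟨0, _⟩ => 0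
  | Sum.inr ⟨1, _⟩ => 0
  | Sum.inr ⟨2, _⟩ => 1
  | Sum.inr ⟨3, _⟩ => 0
  | Sum.inr ⟨4, _⟩ => 0
  | Sum.inr ⟨5, _⟩ => 1
  | Sum.inr ⟨6, _⟩ => 2
  | Sum.inr ⟨7, _⟩ => 1
  | Sum.inr ⟨8, _⟩ => 2
  | Sum.inr ⟨9, _⟩ => 3
  | Sum.inr ⟨10, _⟩ => 3
  | Sum.inr ⟨11, _⟩ => 4

/-- a position where only the given basis element has a non-zero entry: column -/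
def pb : Fin 2 ⊕ Fin 12 → Fin 6
  | Sum.inl ⟨0, _⟩ => 0
  | Sum.inl ⟨1, _⟩ => 2
  | Sum.inr ⟨0, _⟩ => 4
  | Sum.inr ⟨1, _⟩ => 3
  | Sum.inr ⟨2, _⟩ => 3
  | Sum.inr ⟨3, _⟩ => 2
  | Sum.inr ⟨4, _⟩ => 1
  | Sum.inr ⟨5, _⟩ => 2
  | Sum.inr ⟨6, _⟩ => 1
  | Sum.inr ⟨7, _⟩ => 0
  | Sum.inr ⟨8, _⟩ => 0
  | Sum.inr ⟨9, _⟩ => 1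
  | Sum.inr ⟨10, _⟩ => 0
  | Sum.inr ⟨11, _⟩ => 0

theorem dual_E6s : ∀ i j : Fin 2 ⊕ Fin 12,
    ((E6s j).row (pa i)).get (pb i) = if j = i then 1 else 0 := by decide

theorem X6s_sq : ∀ (r : Fin 12) (t : F4), (X6s r t).mul (X6s r t) = M6.one := by decide +kernel

theorem X6s_J : ∀ (r : Fin 12) (t : F4), ((X6s r t).tr.mul Jm).mul (X6s r t) = Jm := by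
  decide +kernel

/-- an element of order 7 -/
def X7L : M6 := ⟨⟨1, F4.w, 1, 0, 0, 0⟩, ⟨0, 1, 0, F4.w, 1, 0⟩, ⟨0, F4.w, 1, 0, 0, 0⟩, ⟨0, F4.v, 0, 0, F4.v, 1⟩, ⟨0, 1, F4.v, F4.w, 1, 0⟩, ⟨F4.w, F4.v, F4.w, 0, 0, 1⟩⟩

theorem X7_word : (((X6s 9 F4.v).mul (X6s 3 1)).mul (X6s 6 F4.w)) = X7L := by decide +kernel

/-- the inverse of `X7L + 1` -/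
def X7Y : M6 := ⟨⟨1, 0, 0, 0, 0, F4.v⟩, ⟨0, 0, F4.v, 0, 0, 0⟩, ⟨1, 0, 1, 0, 0, 0⟩, ⟨F4.w, 0, 0, 0, F4.v, 0⟩, ⟨F4.v, 1, 0, 0, 1, 0⟩, ⟨0, F4.v, F4.w, 1, 0, 0⟩⟩

theorem X7Y_mul : X7Y.mul (X7L.add M6.one) = M6.one := by decide +kernel

def X7P2 : M6 := ⟨⟨1, F4.w, 0, F4.v, F4.w, 0⟩, ⟨0, 1, F4.v, 0, 1, F4.w⟩, ⟨0, 0, 1, F4.v, F4.w, 0⟩, ⟨F4.w, F4.v, 0, 0, 0, 1⟩, ⟨0, 0, 0, 0, 1, F4.w⟩, ⟨0, 0, F4.w, 1, F4.v, 1⟩⟩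

theorem X7_p2 : X7L.mul X7L = X7P2 := by decide +kernel

def X7P4 : M6 := ⟨⟨0, F4.w, 1, F4.v, F4.w, F4.v⟩, ⟨0, 1, F4.v, 0, 0, F4.w⟩, ⟨1, F4.w, 1, F4.v, 0, 0⟩, ⟨F4.w, 0, 0, 0, F4.v, 0⟩, ⟨0, 0, F4.v, F4.w, 0, 0⟩, ⟨F4.w, F4.v, 0, 0, F4.v, 1⟩⟩

theorem X7_p4 : X7P2.mul X7P2 = X7P4 := by decide +kernel

def X7P6 : M6 := ⟨⟨1, 0, 1, 0, 0, 0⟩, ⟨0, 1, F4.v, 0, 1, 0⟩, ⟨0, F4.w, 0, 0, F4.w, 0⟩, ⟨F4.w, F4.v, 0, 1, 0, 1⟩, ⟨F4.v, 1, F4.v, F4.w, 1, F4.w⟩, ⟨F4.w, 0, 0, 0, 0, 1⟩⟩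

theorem X7_p6 : X7P4.mul X7P2 = X7P6 := by decide +kernel

theorem X7_p7 : X7P6.mul X7L = M6.one := by decide +kernel

theorem X7L_ne : X7L ≠ M6.one := by decide

/-- an element of order 13 -/
def X13L : M6 := ⟨⟨0, 0, F4.v, 0, 0, F4.v⟩, ⟨F4.v, 0, F4.w, F4.v, F4.w, F4.w⟩, ⟨F4.w, 0, 1, F4.w, 0, 1⟩, ⟨F4.v, 1, 0, F4.v, 0, F4.v⟩, ⟨F4.w, F4.v, 1, F4.w, 1, 1⟩, ⟨1, 0, 0, F4.v, 0, 1⟩⟩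

theorem X13_word : ((((X6s 3 F4.v).mul (X6s 9 1)).mul (X6s 8 F4.w)).mul (X6s 1 1)) = X13L := by decide +kernel

/-- the inverse of `X13L + 1` -/
def X13Y : M6 := ⟨⟨F4.w, 0, F4.w, F4.v, 1, 0⟩, ⟨1, 0, F4.w, F4.v, F4.v, 1⟩, ⟨F4.v, 0, 0, F4.w, F4.v, F4.v⟩, ⟨F4.v, 0, F4.v, 1, F4.w, F4.w⟩, ⟨0, F4.v, 0, 0, 1, 0⟩, ⟨F4.w, 0, F4.v, F4.v, 1, F4.v⟩⟩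

theorem X13Y_mul : X13Y.mul (X13L.add M6.one) = M6.one := by decide +kernel

def X13P2 : M6 := ⟨⟨F4.w, 0, F4.v, F4.v, 0, 0⟩, ⟨0, F4.w, F4.w, F4.v, F4.w, F4.w⟩, ⟨F4.w, F4.w, 0, 0, 0, 0⟩, ⟨F4.w, F4.v, 0, F4.v, F4.w, 1⟩, ⟨F4.w, 1, 0, 0, 0, 0⟩, ⟨F4.v, F4.v, F4.v, 1, 0, 0⟩⟩

theorem X13_p2 : X13L.mul X13L = X13P2 := by decide +kernel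

def X13P4 : M6 := ⟨⟨F4.v, F4.v, 1, F4.v, 1, F4.v⟩, ⟨0, 1, F4.w, 1, F4.w, 0⟩, ⟨F4.v, F4.v, F4.w, 0, F4.v, F4.v⟩, ⟨F4.w, F4.w, F4.v, 0, 0, F4.w⟩, ⟨F4.v, F4.w, F4.v, F4.w, F4.w, F4.w⟩, ⟨F4.w, F4.v, F4.v, F4.v, F4.v, 0⟩⟩

theorem X13_p4 : X13P2.mul X13P2 = X13P4 := by decide +kernel

def X13P8 : M6 := ⟨⟨F4.w, F4.v, F4.v, 1, 1, F4.w⟩, ⟨F4.w, 1, F4.v, F4.w, 0, 0⟩, ⟨0, F4.v, 1, F4.w, 0, F4.w⟩, ⟨0, 0, 1, F4.w, F4.w, F4.v⟩, ⟨1, F4.v, 0, F4.w, 0, 0⟩, ⟨0, 0, F4.w, F4.v, 0, F4.v⟩⟩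

theorem X13_p8 : X13P4.mul X13P4 = X13P8 := by decide +kernel

def X13P12 : M6 := ⟨⟨1, 1, F4.v, 1, F4.w, F4.v⟩, ⟨0, 1, 0, 0, F4.w, 0⟩, ⟨F4.v, F4.w, F4.v, F4.w, F4.v, 0⟩, ⟨0, 1, 0, 1, F4.w, F4.v⟩, ⟨0, F4.v, 1, 0, 0, 0⟩, ⟨1, F4.w, F4.v, F4.w, F4.v, 0⟩⟩

theorem X13_p12 : X13P8.mul X13P4 = X13P12 := by decide +kernel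

theorem X13_p13 : X13P12.mul X13L = M6.one := by decide +kernel

theorem X13L_ne : X13L ≠ M6.one := by decide

/-- an element of order 6 -/
def Z6L : M6 := ⟨⟨1, 0, 0, 1, 0, 0⟩, ⟨F4.v, 1, 0, F4.v, 0, 0⟩, ⟨0, 0, 1, 0, 0, 1⟩, ⟨1, 0, F4.w, 0, 0, F4.w⟩, ⟨0, 0, 0, 0, 1, 0⟩, ⟨0, 0, 1, 0, F4.v, 0⟩⟩

theorem Z6_word : (((X6s 7 F4.v).mul (X6s 10 1)).mul (X6s 1 1)) = Z6L := by decide +kernel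

def Z6P2 : M6 := ⟨⟨0, 0, F4.w, 1, 0, F4.w⟩, ⟨F4.v, 1, 1, 0, 0, 1⟩, ⟨0, 0, 0, 0, F4.v, 1⟩, ⟨1, 0, 0, 1, 1, F4.w⟩, ⟨0, 0, 0, 0, 1, 0⟩, ⟨0, 0, 1, 0, F4.v, 1⟩⟩

def Z6P3 : M6 := ⟨⟨1, 0, F4.w, 0, 1, 0⟩, ⟨0, 1, 0, 0, F4.v, 1⟩, ⟨0, 0, 1, 0, 0, 0⟩, ⟨0, 0, 0, 1, 0, F4.w⟩, ⟨0, 0, 0, 0, 1, 0⟩, ⟨0, 0, 0, 0, 0, 1⟩⟩

theorem Z6_p2 : Z6L.mul Z6L = Z6P2 := by decide +kernel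

theorem Z6_p3 : Z6P2.mul Z6L = Z6P3 := by decide +kernel

theorem Z6_p6 : Z6P3.mul Z6P3 = M6.one := by decide +kernel

theorem Z6P2_ne : Z6P2 ≠ M6.one := by decide

theorem Z6P3_ne : Z6P3 ≠ M6.one := by decide

/-- an element of order 10 -/
def Z10L : M6 := ⟨⟨1, 0, 0, 0, 0, 1⟩, ⟨0, 1, 0, 1, 0, 0⟩, ⟨0, F4.w, 1, F4.w, 1, 0⟩, ⟨F4.v, 0, 0, 1, 0, F4.v⟩, ⟨0, 0, 0, F4.w, 1, 0⟩, ⟨0, 1, F4.v, 1, F4.v, 1⟩⟩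

theorem Z10_word : (((X6s 10 F4.v).mul (X6s 6 F4.w)).mul (X6s 2 1)) = Z10L := by decide +kernel

def Z10P2 : M6 := ⟨⟨1, 1, F4.v, 1, F4.v, 0⟩, ⟨F4.v, 1, 0, 0, 0, F4.v⟩, ⟨1, 0, 1, 0, 0, 1⟩, ⟨0, F4.v, F4.w, F4.w, F4.w, F4.v⟩, ⟨1, 0, 0, 0, 1, 1⟩, ⟨F4.v, 1, 0, 1, F4.v, F4.w⟩⟩

def Z10P4 : M6 := ⟨⟨F4.w, F4.v, F4.w, F4.v, F4.w, 0⟩, ⟨F4.w, 1, F4.w, 0, 0, F4.w⟩, ⟨F4.v, 0, F4.w, 0, 0, F4.v⟩, ⟨0, 1, 1, 0, F4.v, F4.w⟩, ⟨F4.v, 0, F4.v, 0, 1, F4.v⟩, ⟨F4.w, F4.v, 0, F4.v, F4.w, 0⟩⟩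

def Z10P5 : M6 := ⟨⟨0, 0, F4.w, 0, 0, 0⟩, ⟨F4.w, 0, F4.v, 0, F4.v, 0⟩, ⟨F4.v, 0, 0, 0, 0, 0⟩, ⟨0, 1, 0, 0, F4.v, F4.w⟩, ⟨F4.v, F4.w, 1, 0, 0, 0⟩, ⟨0, F4.v, 0, F4.v, F4.w, 0⟩⟩

theorem Z10_p2 : Z10L.mul Z10L = Z10P2 := by decide +kernel

theorem Z10_p4 : Z10P2.mul Z10P2 = Z10P4 := by decide +kernel

theorem Z10_p5 : Z10P4.mul Z10L = Z10P5 := by decide +kernel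

theorem Z10_p10 : Z10P5.mul Z10P5 = M6.one := by decide +kernel

theorem Z10P2_ne : Z10P2 ≠ M6.one := by decide

theorem Z10P5_ne : Z10P5 ≠ M6.one := by decide

end Cfsg.Agent.Helper8.G24
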