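import Cfsg.Agent.Helper8.G24B
import Cfsg.Agent.Helper18.Core

/-!
Helper8 / G2(4): the relation between the 6-dimensional matrices and the 14-dimensional (adjoint)
matrices of the Chevalley group `G₂(4)`: conjugation by `A` acts on the basis images through `g`.
-/

set_option autoImplicit false

open Cfsg Cfsg.Lie

namespace Cfsg.Agent.Helper8.G24

/-- the index set of the Chevalley basis of type `G₂` (definitionally `I14`) -/
abbrev I14 : Type := Fin 2 ⊕ Fin 12

/-- the images of the Chevalley basis, as matrices -/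
def E (i : I14) : Matrix (Fin 6) (Fin 6) F4 := (E6s i).toMat

/-- linear combinations of the basis images -/
def L (c : I14 → F4) : Matrix (Fin 6) (Fin 6) F4 := ∑ i, c i • E i

/-- the relation: conjugation by `A` acts on the basis images through `g` -/
def Rel (A : Matrix (Fin 6) (Fin 6) F4) (g : Matrix I14 I14 F4) : Prop :=
  ∀ j, A * E j = L (fun i => g i j) * A

/-- the linear combination, strictly computed -/
def linD (g : Matrix I14 I14 F4) (j : I14) : M6 :=
  ((M6.smul (g (Sum.inl 0) j) (E6s (Sum.inl 0))).add ((M6.smul (g (Sum.inl 1) j) (E6s (Sum.inl 1))).add ((M6.smul (g (Sum.inr 0) j) (E6s (Sum.inr 0))).add ((M6.smul (g (Sum.inr 1) j) (E6s (Sum.inr 1))).add ((M6.smul (g (Sum.inr 2) j) (E6s (Sum.inr 2))).add ((M6.smul (g (Sum.inr 3) j) (E6s (Sum.inr 3))).add ((M6.smul (g (Sum.inr 4) j) (E6s (Sum.inr 4))).add ((M6.smul (g (Sum.inr 5) j) (E6s (Sum.inr 5))).add ((M6.smul (g (Sum.inr 6) j) (E6s (Sum.inr 6))).add ((M6.smul (g (Sum.inr 7) j) (E6s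 (Sum.inr 7))).add ((M6.smul (g (Sum.inr 8) j) (E6s (Sum.inr 8))).add ((M6.smul (g (Sum.inr 9) j) (E6s (Sum.inr 9))).add ((M6.smul (g (Sum.inr 10) j) (E6s (Sum.inr 10))).add (M6.smul (g (Sum.inr 11) j) (E6s (Sum.inr 11))))))))))))))))

/-- the relation, strictly computed -/
def RD (A : M6) (g : Matrix I14 I14 F4) : Prop :=
  ∀ j : I14, A.mul (E6s j) = (linD g j).mul A

instance (A : M6) (g : Matrix I14 I14 F4) : Decidable (RD A g) :=
  Fintype.decidableForallFintype

/-- the 14-dimensional root elements -/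
def xM (r : Fin 12) (t : F4) : Matrix I14 I14 F4 := chevG2.xMat F4 r t

/-! the twelve root directions are checked one at a time (and one after the other), which keeps
the memory of each kernel evaluation small -/
section
set_option Elab.async false

set_option maxRecDepth 100000 in
theorem gen_RD_0 : ∀ t : F4, RD (X6s 0 t) (xM 0 t) := by decide +kernel
set_option maxRecDepth 100000 in
theorem gen_RD_1 : ∀ t : F4, RD (X6s 1 t) (xM 1 t) := by decide +kernel
set_option maxRecDepth 100000 in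
theorem gen_RD_2 : ∀ t : F4, RD (X6s 2 t) (xM 2 t) := by decide +kernel
set_option maxRecDepth 100000 in
theorem gen_RD_3 : ∀ t : F4, RD (X6s 3 t) (xM 3 t) := by decide +kernel
set_option maxRecDepth 100000 in
theorem gen_RD_4 : ∀ t : F4, RD (X6s 4 t) (xM 4 t) := by decide +kernel
set_option maxRecDepth 100000 in
theorem gen_RD_5 : ∀ t : F4, RD (X6s 5 t) (xM 5 t) := by decide +kernel
set_option maxRecDepth 100000 in
theorem gen_RD_6 : ∀ t : F4, RD (X6s 6 t) (xM 6 t) := by decide +kernel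
set_option maxRecDepth 100000 in
theorem gen_RD_7 : ∀ t : F4, RD (X6s 7 t) (xM 7 t) := by decide +kernel
set_option maxRecDepth 100000 in
theorem gen_RD_8 : ∀ t : F4, RD (X6s 8 t) (xM 8 t) := by decide +kernel
set_option maxRecDepth 100000 in
theorem gen_RD_9 : ∀ t : F4, RD (X6s 9 t) (xM 9 t) := by decide +kernel
set_option maxRecDepth 100000 in
theorem gen_RD_10 : ∀ t : F4, RD (X6s 10 t) (xM 10 t) := by decide +kernel
set_option maxRecDepth 100000 in
theorem gen_RD_11 : ∀ t : F4, RD (X6s 11 t) (xM 11 t) := by decide +kernel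

end

theorem gen_RD : ∀ (r : Fin 12) (t : F4), RD (X6s r t) (xM r t)
  | ⟨0, _⟩ => gen_RD_0
  | ⟨1, _⟩ => gen_RD_1
  | ⟨2, _⟩ => gen_RD_2
  | ⟨3, _⟩ => gen_RD_3
  | ⟨4, _⟩ => gen_RD_4
  | ⟨5, _⟩ => gen_RD_5
  | ⟨6, _⟩ => gen_RD_6
  | ⟨7, _⟩ => gen_RD_7
  | ⟨8, _⟩ => gen_RD_8
  | ⟨9, _⟩ => gen_RD_9
  | ⟨10, _⟩ => gen_RD_10
  | ⟨11, _⟩ => gen_RD_11
  | ⟨n + 12, h⟩ => absurd h (by omega)

theorem sum_idx {M : Type*} [AddCommMonoid M] (f : I14 → M) :
    ∑ i, f i = f (Sum.inl 0) + f (Sum.inl 1) + f (Sum.inr 0) + f (Sum.inr 1) + f (Sum.inr 2) + f (Sum.inr 3) + f (Sum.inr 4) + f (Sum.inr 5) + f (Sum.inr 6) + f (Sum.inr 7) + f (Sum.inr 8) + f (Sum.inr 9) + f (Sum.inr 10) + f (Sum.inr 11) := by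
  show ∑ i : Fin 2 ⊕ Fin 12, f i = _
  rw [Fintype.sum_sum_type, Fin.sum_univ_two]
  simp only [Fin.sum_univ_succ, Fin.sum_univ_zero, add_zero, add_assoc]
  rfl

theorem linD_toMat (g : Matrix I14 I14 F4) (j : I14) :
    (linD g j).toMat = L (fun i => g i j) := by
  unfold L
  rw [sum_idx]
  simp only [linD, M6.toMat_add, M6.toMat_smul, E, add_assoc]

theorem RD.rel {A : M6} {g : Matrix I14 I14 F4} (h : RD A g) : Rel A.toMat g := by
  intro j
  rw [← linD_toMat, E, ← M6.toMat_mul, ← M6.toMat_mul, h j]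

end Cfsg.Agent.Helper8.G24
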