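import Cfsg.Agent.Helper8.G24C

/-!
Helper8 / G2(4): algebra of the relation `Rel`: it is multiplicative, `Rel 1 g` forces `g = 1`,
and `Rel A 1` together with the invariance of the alternating form forces `A = 1`.
-/

set_option autoImplicit false

open Cfsg Cfsg.Lie

namespace Cfsg.Agent.Helper8.G24

/-- induction on the closure of a set in a finite group: inverses are powers -/
theorem closure_induction_fin {G : Type*} [Group G] [Finite G] {S : Set G} {p : G → Prop}
    (h1 : p 1) (hmul : ∀ a b, p a → p b → p (a * b)) (hS : ∀ s ∈ S, p s) :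
    ∀ a ∈ Subgroup.closure S, p a := by
  have hpow : ∀ (a : G), p a → ∀ n : ℕ, p (a ^ n) := by
    intro a ha n
    induction n with
    | zero => rw [pow_zero]; exact h1
    | succ n ih => rw [pow_succ]; exact hmul _ _ ih ha
  intro a ha
  induction ha using Subgroup.closure_induction with
  | mem x hx => exact hS x hx
  | one => exact h1
  | mul x y _ _ hx hy => exact hmul x y hx hy
  | inv x _ hx =>
    have hpos : 0 < orderOf x := orderOf_pos x
    have : x⁻¹ = x ^ (orderOf x - 1) := by
      apply inv_eq_of_mul_eq_one_right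
      rw [← pow_succ', Nat.sub_add_cancel hpos, pow_orderOf_eq_one]
    rw [this]
    exact hpow x hx _

theorem L_add (c d : I14 → F4) : L (c + d) = L c + L d := by
  unfold L
  rw [← Finset.sum_add_distrib]
  exact Finset.sum_congr rfl fun i _ => by rw [Pi.add_apply, add_smul]

theorem L_apply (c : I14 → F4) (a b : Fin 6) : L c a b = ∑ i, c i * E i a b := by
  unfold L
  rw [Matrix.sum_apply]
  exact Finset.sum_congr rfl fun i _ => by rw [Matrix.smul_apply, smul_eq_mul]

/-- the coordinates of a linear combination can be read off at the private positions -/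
theorem L_coord (c : I14 → F4) (i : I14) : L c (pa i) (pb i) = c i := by
  rw [L_apply]
  have : ∀ j : I14, c j * E j (pa i) (pb i) = if j = i then c j else 0 := by
    intro j
    have := dual_E6s i j
    show c j * ((E6s j).row (pa i)).get (pb i) = _
    rw [this]
    split_ifs <;> simp
  rw [Finset.sum_congr rfl fun j _ => this j, Finset.sum_ite_eq' Finset.univ i]
  simp

theorem L_injective : Function.Injective L := by
  intro c d h
  funext i
  rw [← L_coord c i, ← L_coord d i, h]

theorem L_col_one (j : I14) : L (fun i => (1 : Matrix I14 I14 F4) i j) = E j := by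
  unfold L
  rw [Finset.sum_eq_single j]
  · beta_reduce
    rw [Matrix.one_apply_eq, one_smul]
  · intro i _ hij
    beta_reduce
    rw [Matrix.one_apply_ne hij, zero_smul]
  · intro h; exact absurd (Finset.mem_univ j) h

/-- the relation extends linearly -/
theorem Rel.ext {A : Matrix (Fin 6) (Fin 6) F4} {g : Matrix I14 I14 F4} (h : Rel A g)
    (c : I14 → F4) : A * L c = L (g.mulVec c) * A := by
  have h1 : A * L c = ∑ j, c j • (L (fun i => g i j) * A) := by
    unfold L
    rw [Finset.mul_sum]
    refine Finset.sum_congr rfl fun j _ => ?_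
    rw [Matrix.mul_smul, h j]
    rfl
  rw [h1]
  have h2 : L (g.mulVec c) = ∑ j, c j • L (fun i => g i j) := by
    unfold L
    simp only [Finset.smul_sum, smul_smul]
    rw [Finset.sum_comm]
    refine Finset.sum_congr rfl fun i _ => ?_
    rw [← Finset.sum_smul]
    congr 1
    simp only [Matrix.mulVec, dotProduct]
    exact Finset.sum_congr rfl fun j _ => mul_comm _ _
  rw [h2, Finset.sum_mul]
  exact Finset.sum_congr rfl fun j _ => by rw [Matrix.smul_mul]

theorem Rel.mul {A B : Matrix (Fin 6) (Fin 6) F4} {g h : Matrix I14 I14 F4} (hA : Rel A g)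
    (hB : Rel B h) : Rel (A * B) (g * h) := by
  intro j
  rw [mul_assoc, hB j, ← mul_assoc, hA.ext, mul_assoc]
  congr 2

theorem rel_one : Rel (1 : Matrix (Fin 6) (Fin 6) F4) (1 : Matrix I14 I14 F4) := by
  intro j
  rw [L_col_one, one_mul, mul_one]

/-- `Rel 1 g` forces `g = 1` -/
theorem eq_one_of_rel_one {g : Matrix I14 I14 F4} (h : Rel 1 g) : g = 1 := by
  ext i j
  have h1 := h j
  rw [one_mul, mul_one, ← L_col_one] at h1
  exact (congrFun (L_injective h1) i).symm

/-- invariance of the alternating form -/
def JInv (A : Matrix (Fin 6) (Fin 6) F4) : Prop := A.transpose * Jm.toMat * A = Jm.toMat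

theorem JInv.mul {A B : Matrix (Fin 6) (Fin 6) F4} (hA : JInv A) (hB : JInv B) : JInv (A * B) := by
  unfold JInv at *
  rw [Matrix.transpose_mul]
  calc B.transpose * A.transpose * Jm.toMat * (A * B)
      = B.transpose * (A.transpose * Jm.toMat * A) * B := by simp only [mul_assoc]
    _ = Jm.toMat := by rw [hA, hB]

theorem jInv_one : JInv 1 := by
  unfold JInv
  rw [Matrix.transpose_one, one_mul, mul_one]

theorem jInv_gen (r : Fin 12) (t : F4) : JInv (X6s r t).toMat := by
  unfold JInv
  rw [← M6.toMat_tr, ← M6.toMat_mul, ← M6.toMat_mul, X6s_J]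

end Cfsg.Agent.Helper8.G24
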