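import Cfsg.Agent.Helper8.G24D

/-!
Helper8 / G2(4): a matrix commuting with the images of the Chevalley basis is scalar.
-/

set_option autoImplicit false
set_option linter.unreachableTactic false
set_option linter.unusedTactic false

open Cfsg Cfsg.Lie

namespace Cfsg.Agent.Helper8.G24

theorem comm_scalar (A : Matrix (Fin 6) (Fin 6) F4) (h : ∀ j, A * E j = E j * A) :
    A = A 0 0 • (1 : Matrix (Fin 6) (Fin 6) F4) := by
  have z_0_2 : A 0 2 = 0 := by
    have := congrFun (congrFun (h (Sum.inl 0)) 0) 2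
    simp [Matrix.mul_apply, Fin.sum_univ_six, E, E6s, M6.toMat, M6.row, R6.get] at this
    first | exact this | exact this.symm
  have z_0_3 : A 0 3 = 0 := by
    have := congrFun (congrFun (h (Sum.inl 0)) 0) 3
    simp [Matrix.mul_apply, Fin.sum_univ_six, E, E6s, M6.toMat, M6.row, R6.get] at this
    first | exact this | exact this.symm
  have z_1_2 : A 1 2 = 0 := by
    have := congrFun (congrFun (h (Sum.inl 0)) 1) 2
    simp [Matrix.mul_apply, Fin.sum_univ_six, E, E6s, M6.toMat, M6.row, R6.get] at this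
    first | exact this | exact this.symm
  have z_1_3 : A 1 3 = 0 := by
    have := congrFun (congrFun (h (Sum.inl 0)) 1) 3
    simp [Matrix.mul_apply, Fin.sum_univ_six, E, E6s, M6.toMat, M6.row, R6.get] at this
    first | exact this | exact this.symm
  have z_2_0 : A 2 0 = 0 := by
    have := congrFun (congrFun (h (Sum.inl 0)) 2) 0
    simp [Matrix.mul_apply, Fin.sum_univ_six, E, E6s, M6.toMat, M6.row, R6.get] at this
    first | exact this | exact this.symm
  have z_2_1 : A 2 1 = 0 := by
    have := congrFun (congrFun (h (Sum.inl 0)) 2) 1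
    simp [Matrix.mul_apply, Fin.sum_univ_six, E, E6s, M6.toMat, M6.row, R6.get] at this
    first | exact this | exact this.symm
  have z_2_4 : A 2 4 = 0 := by
    have := congrFun (congrFun (h (Sum.inl 0)) 2) 4
    simp [Matrix.mul_apply, Fin.sum_univ_six, E, E6s, M6.toMat, M6.row, R6.get] at this
    first | exact this | exact this.symm
  have z_2_5 : A 2 5 = 0 := by
    have := congrFun (congrFun (h (Sum.inl 0)) 2) 5
    simp [Matrix.mul_apply, Fin.sum_univ_six, E, E6s, M6.toMat, M6.row, R6.get] at this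
    first | exact this | exact this.symm
  have z_3_0 : A 3 0 = 0 := by
    have := congrFun (congrFun (h (Sum.inl 0)) 3) 0
    simp [Matrix.mul_apply, Fin.sum_univ_six, E, E6s, M6.toMat, M6.row, R6.get] at this
    first | exact this | exact this.symm
  have z_3_1 : A 3 1 = 0 := by
    have := congrFun (congrFun (h (Sum.inl 0)) 3) 1
    simp [Matrix.mul_apply, Fin.sum_univ_six, E, E6s, M6.toMat, M6.row, R6.get] at this
    first | exact this | exact this.symm
  have z_3_4 : A 3 4 = 0 := by
    have := congrFun (congrFun (h (Sum.inl 0)) 3) 4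
    simp [Matrix.mul_apply, Fin.sum_univ_six, E, E6s, M6.toMat, M6.row, R6.get] at this
    first | exact this | exact this.symm
  have z_3_5 : A 3 5 = 0 := by
    have := congrFun (congrFun (h (Sum.inl 0)) 3) 5
    simp [Matrix.mul_apply, Fin.sum_univ_six, E, E6s, M6.toMat, M6.row, R6.get] at this
    first | exact this | exact this.symm
  have z_4_2 : A 4 2 = 0 := by
    have := congrFun (congrFun (h (Sum.inl 0)) 4) 2
    simp [Matrix.mul_apply, Fin.sum_univ_six, E, E6s, M6.toMat, M6.row, R6.get] at this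
    first | exact this | exact this.symm
  have z_4_3 : A 4 3 = 0 := by
    have := congrFun (congrFun (h (Sum.inl 0)) 4) 3
    simp [Matrix.mul_apply, Fin.sum_univ_six, E, E6s, M6.toMat, M6.row, R6.get] at this
    first | exact this | exact this.symm
  have z_5_2 : A 5 2 = 0 := by
    have := congrFun (congrFun (h (Sum.inl 0)) 5) 2
    simp [Matrix.mul_apply, Fin.sum_univ_six, E, E6s, M6.toMat, M6.row, R6.get] at this
    first | exact this | exact this.symm
  have z_5_3 : A 5 3 = 0 := by
    have := congrFun (congrFun (h (Sum.inl 0)) 5) 3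
    simp [Matrix.mul_apply, Fin.sum_univ_six, E, E6s, M6.toMat, M6.row, R6.get] at this
    first | exact this | exact this.symm
  have z_0_1 : A 0 1 = 0 := by
    have := congrFun (congrFun (h (Sum.inl 1)) 0) 1
    simp [Matrix.mul_apply, Fin.sum_univ_six, E, E6s, M6.toMat, M6.row, R6.get] at this
    first | exact this | exact this.symm
  have z_0_4 : A 0 4 = 0 := by
    have := congrFun (congrFun (h (Sum.inl 1)) 0) 4
    simp [Matrix.mul_apply, Fin.sum_univ_six, E, E6s, M6.toMat, M6.row, R6.get] at this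
    first | exact this | exact this.symm
  have z_1_0 : A 1 0 = 0 := by
    have := congrFun (congrFun (h (Sum.inl 1)) 1) 0
    simp [Matrix.mul_apply, Fin.sum_univ_six, E, E6s, M6.toMat, M6.row, R6.get] at this
    first | exact this | exact this.symm
  have z_1_5 : A 1 5 = 0 := by
    have := congrFun (congrFun (h (Sum.inl 1)) 1) 5
    simp [Matrix.mul_apply, Fin.sum_univ_six, E, E6s, M6.toMat, M6.row, R6.get] at this
    first | exact this | exact this.symm
  have z_4_0 : A 4 0 = 0 := by
    have := congrFun (congrFun (h (Sum.inl 1)) 4) 0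
    simp [Matrix.mul_apply, Fin.sum_univ_six, E, E6s, M6.toMat, M6.row, R6.get] at this
    first | exact this | exact this.symm
  have z_4_5 : A 4 5 = 0 := by
    have := congrFun (congrFun (h (Sum.inl 1)) 4) 5
    simp [Matrix.mul_apply, Fin.sum_univ_six, E, E6s, M6.toMat, M6.row, R6.get] at this
    first | exact this | exact this.symm
  have z_5_1 : A 5 1 = 0 := by
    have := congrFun (congrFun (h (Sum.inl 1)) 5) 1
    simp [Matrix.mul_apply, Fin.sum_univ_six, E, E6s, M6.toMat, M6.row, R6.get] at this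
    first | exact this | exact this.symm
  have z_5_4 : A 5 4 = 0 := by
    have := congrFun (congrFun (h (Sum.inl 1)) 5) 4
    simp [Matrix.mul_apply, Fin.sum_univ_six, E, E6s, M6.toMat, M6.row, R6.get] at this
    first | exact this | exact this.symm
  have z_4_1 : A 4 1 = 0 := by
    have := congrFun (congrFun (h (Sum.inr 0)) 0) 1
    simp [Matrix.mul_apply, Fin.sum_univ_six, E, E6s, M6.toMat, M6.row, R6.get] at this
    first | exact this | exact this.symm
  have z_5_0 : A 5 0 = 0 := by
    have := congrFun (congrFun (h (Sum.inr 0)) 1) 0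
    simp [Matrix.mul_apply, Fin.sum_univ_six, E, E6s, M6.toMat, M6.row, R6.get] at this
    first | exact this | exact this.symm
  have z_3_2 : A 3 2 = 0 := by
    have := congrFun (congrFun (h (Sum.inr 1)) 0) 2
    simp [Matrix.mul_apply, Fin.sum_univ_six, E, E6s, M6.toMat, M6.row, R6.get] at this
    first | exact this | exact this.symm
  have z_2_3 : A 2 3 = 0 := by
    have := congrFun (congrFun (h (Sum.inr 3)) 0) 3
    simp [Matrix.mul_apply, Fin.sum_univ_six, E, E6s, M6.toMat, M6.row, R6.get] at this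
    first | exact this | exact this.symm
  have z_1_4 : A 1 4 = 0 := by
    have := congrFun (congrFun (h (Sum.inr 4)) 0) 4
    simp [Matrix.mul_apply, Fin.sum_univ_six, E, E6s, M6.toMat, M6.row, R6.get] at this
    first | exact this | exact this.symm
  have z_0_5 : A 0 5 = 0 := by
    have := congrFun (congrFun (h (Sum.inr 7)) 0) 4
    simp [Matrix.mul_apply, Fin.sum_univ_six, E, E6s, M6.toMat, M6.row, R6.get] at this
    first | exact this | exact this.symm
  have q_0_4 : A 0 0 = A 4 4 := by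
    have := congrFun (congrFun (h (Sum.inr 0)) 0) 4
    simp [Matrix.mul_apply, Fin.sum_univ_six, E, E6s, M6.toMat, M6.row, R6.get] at this
    first | exact this | exact this.symm
  have q_1_5 : A 1 1 = A 5 5 := by
    have := congrFun (congrFun (h (Sum.inr 0)) 1) 5
    simp [Matrix.mul_apply, Fin.sum_univ_six, E, E6s, M6.toMat, M6.row, R6.get] at this
    first | exact this | exact this.symm
  have q_0_3 : A 0 0 = A 3 3 := by
    have := congrFun (congrFun (h (Sum.inr 1)) 0) 3
    simp [Matrix.mul_apply, Fin.sum_univ_six, E, E6s, M6.toMat, M6.row, R6.get] at this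
    first | exact this | exact this.symm
  have q_2_5 : A 2 2 = A 5 5 := by
    have := congrFun (congrFun (h (Sum.inr 1)) 2) 5
    simp [Matrix.mul_apply, Fin.sum_univ_six, E, E6s, M6.toMat, M6.row, R6.get] at this
    first | exact this | exact this.symm
  have q_1_3 : A 1 1 = A 3 3 := by
    have := congrFun (congrFun (h (Sum.inr 2)) 1) 3
    simp [Matrix.mul_apply, Fin.sum_univ_six, E, E6s, M6.toMat, M6.row, R6.get] at this
    first | exact this | exact this.symm
  have d_4 : A 4 4 = A 0 0 := q_0_4.symm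
  have d_3 : A 3 3 = A 0 0 := q_0_3.symm
  have d_1 : A 1 1 = A 0 0 := q_1_3.trans d_3
  have d_5 : A 5 5 = A 0 0 := q_1_5.symm.trans d_1
  have d_2 : A 2 2 = A 0 0 := q_2_5.trans d_5
  ext a b
  fin_cases a <;> fin_cases b
  · show A 0 0 = (A 0 0 • (1 : Matrix (Fin 6) (Fin 6) F4)) 0 0
    rw [Matrix.smul_apply, Matrix.one_apply_eq, smul_eq_mul, mul_one]
  · show A 0 1 = (A 0 0 • (1 : Matrix (Fin 6) (Fin 6) F4)) 0 1
    rw [Matrix.smul_apply, Matrix.one_apply_ne (by decide), smul_zero]
    exact z_0_1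
  · show A 0 2 = (A 0 0 • (1 : Matrix (Fin 6) (Fin 6) F4)) 0 2
    rw [Matrix.smul_apply, Matrix.one_apply_ne (by decide), smul_zero]
    exact z_0_2
  · show A 0 3 = (A 0 0 • (1 : Matrix (Fin 6) (Fin 6) F4)) 0 3
    rw [Matrix.smul_apply, Matrix.one_apply_ne (by decide), smul_zero]
    exact z_0_3
  · show A 0 4 = (A 0 0 • (1 : Matrix (Fin 6) (Fin 6) F4)) 0 4
    rw [Matrix.smul_apply, Matrix.one_apply_ne (by decide), smul_zero]
    exact z_0_4
  · show A 0 5 = (A 0 0 • (1 : Matrix (Fin 6) (Fin 6) F4)) 0 5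
    rw [Matrix.smul_apply, Matrix.one_apply_ne (by decide), smul_zero]
    exact z_0_5
  · show A 1 0 = (A 0 0 • (1 : Matrix (Fin 6) (Fin 6) F4)) 1 0
    rw [Matrix.smul_apply, Matrix.one_apply_ne (by decide), smul_zero]
    exact z_1_0
  · show A 1 1 = (A 0 0 • (1 : Matrix (Fin 6) (Fin 6) F4)) 1 1
    rw [Matrix.smul_apply, Matrix.one_apply_eq, smul_eq_mul, mul_one]
    exact d_1
  · show A 1 2 = (A 0 0 • (1 : Matrix (Fin 6) (Fin 6) F4)) 1 2
    rw [Matrix.smul_apply, Matrix.one_apply_ne (by decide), smul_zero]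
    exact z_1_2
  · show A 1 3 = (A 0 0 • (1 : Matrix (Fin 6) (Fin 6) F4)) 1 3
    rw [Matrix.smul_apply, Matrix.one_apply_ne (by decide), smul_zero]
    exact z_1_3
  · show A 1 4 = (A 0 0 • (1 : Matrix (Fin 6) (Fin 6) F4)) 1 4
    rw [Matrix.smul_apply, Matrix.one_apply_ne (by decide), smul_zero]
    exact z_1_4
  · show A 1 5 = (A 0 0 • (1 : Matrix (Fin 6) (Fin 6) F4)) 1 5
    rw [Matrix.smul_apply, Matrix.one_apply_ne (by decide), smul_zero]
    exact z_1_5
  · show A 2 0 = (A 0 0 • (1 : Matrix (Fin 6) (Fin 6) F4)) 2 0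
    rw [Matrix.smul_apply, Matrix.one_apply_ne (by decide), smul_zero]
    exact z_2_0
  · show A 2 1 = (A 0 0 • (1 : Matrix (Fin 6) (Fin 6) F4)) 2 1
    rw [Matrix.smul_apply, Matrix.one_apply_ne (by decide), smul_zero]
    exact z_2_1
  · show A 2 2 = (A 0 0 • (1 : Matrix (Fin 6) (Fin 6) F4)) 2 2
    rw [Matrix.smul_apply, Matrix.one_apply_eq, smul_eq_mul, mul_one]
    exact d_2
  · show A 2 3 = (A 0 0 • (1 : Matrix (Fin 6) (Fin 6) F4)) 2 3
    rw [Matrix.smul_apply, Matrix.one_apply_ne (by decide), smul_zero]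
    exact z_2_3
  · show A 2 4 = (A 0 0 • (1 : Matrix (Fin 6) (Fin 6) F4)) 2 4
    rw [Matrix.smul_apply, Matrix.one_apply_ne (by decide), smul_zero]
    exact z_2_4
  · show A 2 5 = (A 0 0 • (1 : Matrix (Fin 6) (Fin 6) F4)) 2 5
    rw [Matrix.smul_apply, Matrix.one_apply_ne (by decide), smul_zero]
    exact z_2_5
  · show A 3 0 = (A 0 0 • (1 : Matrix (Fin 6) (Fin 6) F4)) 3 0
    rw [Matrix.smul_apply, Matrix.one_apply_ne (by decide), smul_zero]
    exact z_3_0
  · show A 3 1 = (A 0 0 • (1 : Matrix (Fin 6) (Fin 6) F4)) 3 1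
    rw [Matrix.smul_apply, Matrix.one_apply_ne (by decide), smul_zero]
    exact z_3_1
  · show A 3 2 = (A 0 0 • (1 : Matrix (Fin 6) (Fin 6) F4)) 3 2
    rw [Matrix.smul_apply, Matrix.one_apply_ne (by decide), smul_zero]
    exact z_3_2
  · show A 3 3 = (A 0 0 • (1 : Matrix (Fin 6) (Fin 6) F4)) 3 3
    rw [Matrix.smul_apply, Matrix.one_apply_eq, smul_eq_mul, mul_one]
    exact d_3
  · show A 3 4 = (A 0 0 • (1 : Matrix (Fin 6) (Fin 6) F4)) 3 4
    rw [Matrix.smul_apply, Matrix.one_apply_ne (by decide), smul_zero]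
    exact z_3_4
  · show A 3 5 = (A 0 0 • (1 : Matrix (Fin 6) (Fin 6) F4)) 3 5
    rw [Matrix.smul_apply, Matrix.one_apply_ne (by decide), smul_zero]
    exact z_3_5
  · show A 4 0 = (A 0 0 • (1 : Matrix (Fin 6) (Fin 6) F4)) 4 0
    rw [Matrix.smul_apply, Matrix.one_apply_ne (by decide), smul_zero]
    exact z_4_0
  · show A 4 1 = (A 0 0 • (1 : Matrix (Fin 6) (Fin 6) F4)) 4 1
    rw [Matrix.smul_apply, Matrix.one_apply_ne (by decide), smul_zero]
    exact z_4_1
  · show A 4 2 = (A 0 0 • (1 : Matrix (Fin 6) (Fin 6) F4)) 4 2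
    rw [Matrix.smul_apply, Matrix.one_apply_ne (by decide), smul_zero]
    exact z_4_2
  · show A 4 3 = (A 0 0 • (1 : Matrix (Fin 6) (Fin 6) F4)) 4 3
    rw [Matrix.smul_apply, Matrix.one_apply_ne (by decide), smul_zero]
    exact z_4_3
  · show A 4 4 = (A 0 0 • (1 : Matrix (Fin 6) (Fin 6) F4)) 4 4
    rw [Matrix.smul_apply, Matrix.one_apply_eq, smul_eq_mul, mul_one]
    exact d_4
  · show A 4 5 = (A 0 0 • (1 : Matrix (Fin 6) (Fin 6) F4)) 4 5
    rw [Matrix.smul_apply, Matrix.one_apply_ne (by decide), smul_zero]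
    exact z_4_5
  · show A 5 0 = (A 0 0 • (1 : Matrix (Fin 6) (Fin 6) F4)) 5 0
    rw [Matrix.smul_apply, Matrix.one_apply_ne (by decide), smul_zero]
    exact z_5_0
  · show A 5 1 = (A 0 0 • (1 : Matrix (Fin 6) (Fin 6) F4)) 5 1
    rw [Matrix.smul_apply, Matrix.one_apply_ne (by decide), smul_zero]
    exact z_5_1
  · show A 5 2 = (A 0 0 • (1 : Matrix (Fin 6) (Fin 6) F4)) 5 2
    rw [Matrix.smul_apply, Matrix.one_apply_ne (by decide), smul_zero]
    exact z_5_2
  · show A 5 3 = (A 0 0 • (1 : Matrix (Fin 6) (Fin 6) F4)) 5 3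
    rw [Matrix.smul_apply, Matrix.one_apply_ne (by decide), smul_zero]
    exact z_5_3
  · show A 5 4 = (A 0 0 • (1 : Matrix (Fin 6) (Fin 6) F4)) 5 4
    rw [Matrix.smul_apply, Matrix.one_apply_ne (by decide), smul_zero]
    exact z_5_4
  · show A 5 5 = (A 0 0 • (1 : Matrix (Fin 6) (Fin 6) F4)) 5 5
    rw [Matrix.smul_apply, Matrix.one_apply_eq, smul_eq_mul, mul_one]
    exact d_5

end Cfsg.Agent.Helper8.G24
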