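import Cfsg.Agent.Helper8.G24D2
import Cfsg.Agent.S1059

/-!
Helper8 / G2(4): the subgroup `PP ≤ GL₆(4) × GL₁₄(4)` generated by the pairs of root elements is the
graph of an isomorphism between `G₂(4)` (adjoint, 14-dimensional) and a subgroup of `GL₆(4)`.
-/

set_option autoImplicit false

open Cfsg Cfsg.Lie

namespace Cfsg.Agent.Helper8.G24

/-- the ambient groups -/
abbrev GL6 : Type := GL (Fin 6) F4
/-- the ambient groups -/
abbrev GL14 : Type := GL chevG2.Idx F4

theorem chev_mem : chevG2 ∈ [chevG2, chevB2, chevD4, chevF4, chevE6, chevE7, chevE8] := by simp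

/-- the matrix of an element of `GL₁₄`, indexed by `I14` -/
def val14 (g : GL14) : Matrix I14 I14 F4 := (g : Matrix chevG2.Idx chevG2.Idx F4)

theorem val14_mul (g h : GL14) : val14 (g * h) = val14 g * val14 h := Units.val_mul g h
theorem val14_one : val14 1 = 1 := Units.val_one
theorem val14_injective : Function.Injective val14 := fun _ _ h => Units.ext h

/-- the 6-dimensional root elements -/
noncomputable def gen6 (r : Fin 12) (t : F4) : GL6 :=
  ⟨(X6s r t).toMat, (X6s r t).toMat, by rw [← M6.toMat_mul, X6s_sq, M6.toMat_one],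
    by rw [← M6.toMat_mul, X6s_sq, M6.toMat_one]⟩

/-- the 14-dimensional root elements -/
noncomputable def gen14 (r : Fin 12) (t : F4) : GL14 := Cfsg.Agent.Helper18.xGL chevG2 F4 r.val t

theorem gen14_val (r : Fin 12) (t : F4) : val14 (gen14 r t) = xM r t := by
  unfold val14 gen14 xM
  rw [Cfsg.Agent.Helper18.xGL_val chevG2 _ Cfsg.Agent.Helper18.triOK_G2]
  unfold ChevalleyDatum.x
  exact dif_pos (show (r : ℕ) < chevG2.nroots from r.2)

theorem gen14_mem (r : Fin 12) (t : F4) : gen14 r t ∈ chevG2.group F4 :=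
  Cfsg.Agent.Helper18.xGL_mem_group' chevG2 chev_mem r.val t

/-- the pairs of root elements -/
noncomputable def genPair (rt : Fin 12 × F4) : GL6 × GL14 := (gen6 rt.1 rt.2, gen14 rt.1 rt.2)

/-- the graph -/
noncomputable def PP : Subgroup (GL6 × GL14) := Subgroup.closure (Set.range genPair)

/-- the invariants of the graph -/
def Good (a : GL6 × GL14) : Prop :=
  Rel (a.1 : Matrix (Fin 6) (Fin 6) F4) (val14 a.2) ∧ JInv (a.1 : Matrix (Fin 6) (Fin 6) F4)

theorem good_one : Good 1 := by
  refine ⟨?_, ?_⟩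
  · show Rel ((1 : GL6) : Matrix (Fin 6) (Fin 6) F4) (val14 1)
    rw [Units.val_one, val14_one]; exact rel_one
  · show JInv ((1 : GL6) : Matrix (Fin 6) (Fin 6) F4)
    rw [Units.val_one]; exact jInv_one

theorem Good.mul {a b : GL6 × GL14} (ha : Good a) (hb : Good b) : Good (a * b) := by
  refine ⟨?_, ?_⟩
  · show Rel ((a.1 * b.1 : GL6) : Matrix (Fin 6) (Fin 6) F4) (val14 (a.2 * b.2))
    rw [Units.val_mul, val14_mul]; exact ha.1.mul hb.1
  · show JInv ((a.1 * b.1 : GL6) : Matrix (Fin 6) (Fin 6) F4)
    rw [Units.val_mul]; exact ha.2.mul hb.2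

theorem good_gen (rt : Fin 12 × F4) : Good (genPair rt) := by
  refine ⟨?_, ?_⟩
  · show Rel (X6s rt.1 rt.2).toMat (val14 (gen14 rt.1 rt.2))
    rw [gen14_val]; exact (gen_RD rt.1 rt.2).rel
  · exact jInv_gen rt.1 rt.2

instance : Finite (GL6 × GL14) := inferInstance

theorem good_of_mem : ∀ a ∈ PP, Good a :=
  closure_induction_fin good_one (fun _ _ => Good.mul) (by rintro _ ⟨rt, rfl⟩; exact good_gen rt)

/-- the first projection is injective on the graph -/
theorem eq_one_of_fst {a : GL6 × GL14} (ha : a ∈ PP) (h : a.1 = 1) : a = 1 := by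
  have hg := (good_of_mem a ha).1
  rw [h, Units.val_one] at hg
  have h2 : a.2 = 1 := val14_injective (by rw [eq_one_of_rel_one hg, val14_one])
  exact Prod.ext h h2

theorem sq_eq_one_F4 : ∀ c : F4, c * c = 1 → c = 1 := by decide

/-- the second projection is injective on the graph -/
theorem eq_one_of_snd {a : GL6 × GL14} (ha : a ∈ PP) (h : a.2 = 1) : a = 1 := by
  obtain ⟨hg, hJ⟩ := good_of_mem a ha
  rw [h, val14_one] at hg
  set A : Matrix (Fin 6) (Fin 6) F4 := (a.1 : Matrix (Fin 6) (Fin 6) F4) with hA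
  have hcomm : ∀ j, A * E j = E j * A := by
    intro j
    have := hg j
    rwa [L_col_one] at this
  have hsc := comm_scalar A hcomm
  -- the scalar is one
  have hc : A 0 0 * A 0 0 = 1 := by
    unfold JInv at hJ
    rw [hsc] at hJ
    have h05 := congrFun (congrFun hJ 0) 5
    simp [Matrix.transpose_smul, Matrix.smul_apply, Jm, M6.toMat,
      M6.row, R6.get] at h05
    exact h05
  have hone : A = 1 := by rw [hsc, sq_eq_one_F4 _ hc, one_smul]
  have h1 : a.1 = 1 := Units.ext (by rw [Units.val_one]; exact hone)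
  exact Prod.ext h1 h

/-- the projection of the graph onto `G₂(4)` -/
noncomputable def snd' : ↥PP →* ↥(chevG2.group F4) :=
  MonoidHom.codRestrict ((MonoidHom.snd GL6 GL14).comp PP.subtype) (chevG2.group F4) (by
    intro a
    have hle : PP ≤ (chevG2.group F4).comap (MonoidHom.snd GL6 GL14) := by
      unfold PP
      rw [Subgroup.closure_le]
      rintro _ ⟨rt, rfl⟩
      exact gen14_mem rt.1 rt.2
    exact hle a.2)

theorem snd'_injective : Function.Injective snd' := by
  rw [injective_iff_map_eq_one]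
  intro a ha
  have h2 : (a : GL6 × GL14).2 = 1 := by
    have := congrArg (fun g : ↥(chevG2.group F4) => (g : GL14)) ha
    exact this
  exact Subtype.ext (eq_one_of_snd a.2 h2)

theorem snd'_surjective : Function.Surjective snd' := by
  intro g
  have hle : chevG2.group F4 ≤ PP.map (MonoidHom.snd GL6 GL14) := by
    unfold ChevalleyDatum.group
    rw [Subgroup.closure_le]
    rintro x ⟨r, t, hx⟩
    have hx' : x = gen14 r t := by
      apply val14_injective
      exact hx.trans (gen14_val r t).symm
    rw [hx']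
    exact ⟨genPair (r, t), Subgroup.subset_closure ⟨(r, t), rfl⟩, rfl⟩
  obtain ⟨a, ha, hag⟩ := hle g.2
  exact ⟨⟨a, ha⟩, Subtype.ext hag⟩

/-- the graph is isomorphic to `G₂(4)` -/
noncomputable def ppEquiv : ↥PP ≃* ↥(chevG2.group F4) :=
  MulEquiv.ofBijective snd' ⟨snd'_injective, snd'_surjective⟩

theorem card_G24 : Nat.card ↥(chevG2.group F4) = 251596800 := by
  rw [Cfsg.Agent.S1059.result (F := F4) (q := 4) F4.card_eq]
  norm_num

theorem card_PP : Nat.card ↥PP = 251596800 := by
  rw [Nat.card_congr ppEquiv.toEquiv, card_G24]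

/-- the first projection, as a homomorphism -/
noncomputable def fst' : ↥PP →* GL6 := (MonoidHom.fst GL6 GL14).comp PP.subtype

theorem fst'_injective : Function.Injective fst' := by
  rw [injective_iff_map_eq_one]
  intro a ha
  exact Subtype.ext (eq_one_of_fst a.2 ha)

end Cfsg.Agent.Helper8.G24
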