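import Mathlib

/-!
Helper8 / G2(4): a concrete computable model `F4` of the field with four elements
(`z = 0`, `o = 1`, `w`, `v = w + 1 = w²`), with kernel-friendly operations.
-/

set_option autoImplicit false

namespace Cfsg.Agent.Helper8.G24

/-- the field with four elements: `0, 1, ω, ω + 1` -/
inductive F4 : Type
  | z | o | w | v
  deriving DecidableEq

namespace F4

/-- addition -/
def add : F4 → F4 → F4
  | z, z => z | z, o => o | z, w => w | z, v => v
  | o, z => o | o, o => z | o, w => v | o, v => w
  | w, z => w | w, o => v | w, w => z | w, v => o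
  | v, z => v | v, o => w | v, w => o | v, v => z

/-- multiplication -/
def mul : F4 → F4 → F4
  | z, _ => z
  | o, b => b
  | w, z => z | w, o => w | w, w => v | w, v => o
  | v, z => z | v, o => v | v, w => o | v, v => w

/-- inverse -/
def inv : F4 → F4
  | z => z | o => o | w => v | v => w

instance : Fintype F4 := ⟨⟨{z, o, w, v}, by decide⟩, fun x => by cases x <;> decide⟩

instance : Zero F4 := ⟨z⟩
instance : One F4 := ⟨o⟩
instance : Add F4 := ⟨add⟩
instance : Mul F4 := ⟨mul⟩
instance : Neg F4 := ⟨id⟩
instance : Inv F4 := ⟨inv⟩

instance : CommRing F4 where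
  add_assoc := by decide
  zero_add := by decide
  add_zero := by decide
  nsmul := nsmulRec
  zsmul := zsmulRec
  neg_add_cancel := by decide
  add_comm := by decide
  left_distrib := by decide
  right_distrib := by decide
  zero_mul := by decide
  mul_zero := by decide
  mul_assoc := by decide
  one_mul := by decide
  mul_one := by decide
  mul_comm := by decide

instance : Field F4 where
  exists_pair_ne := ⟨z, o, by decide⟩
  mul_inv_cancel := by decide
  inv_zero := rfl
  nnqsmul := _
  nnqsmul_def := fun _ _ => rfl
  qsmul := _
  qsmul_def := fun _ _ => rfl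

theorem card_eq : Fintype.card F4 = 4 := rfl

theorem two_eq_zero : (2 : F4) = 0 := by decide

theorem add_self (a : F4) : a + a = 0 := by revert a; decide

theorem neg_eq (a : F4) : -a = a := rfl

instance : CharP F4 2 := by
  refine ⟨fun n => ?_⟩
  constructor
  · intro h
    by_contra h2
    have hodd : n % 2 = 1 := by omega
    have : (n : F4) = 1 := by
      have hn : n = 2 * (n / 2) + 1 := by omega
      rw [hn]; push_cast
      rw [two_eq_zero, zero_mul, zero_add]
    rw [this] at h
    exact absurd h (by decide)
  · rintro ⟨k, rfl⟩
    push_cast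
    rw [two_eq_zero, zero_mul]

end F4

end Cfsg.Agent.Helper8.G24
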