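import Cfsg.Agent.Helper8.G24E
import Cfsg.Agent.Helper8.G24S
import Cfsg.Agent.Helper36.BaseChange

/-!
Helper8 / G2(4): the semidirect products `(F₄⁶)ᵏ ⋊ G₂(4)` have the prime graph of `G₂(4)`.
-/

set_option autoImplicit false

open Cfsg Cfsg.Lie

namespace Cfsg.Agent.Helper8.G24

/-! ### the module -/

/-- `k` copies of the 6-dimensional module -/
abbrev Vk (k : ℕ) : Type := Fin k → Fin 6 → F4

/-- the 6×6 matrix of an element of the graph -/
noncomputable def mat6 (a : ↥PP) : Matrix (Fin 6) (Fin 6) F4 := ((fst' a : GL6) : Matrix (Fin 6) (Fin 6) F4)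

theorem mat6_one : mat6 1 = 1 := by unfold mat6; rw [map_one, Units.val_one]
theorem mat6_mul (a b : ↥PP) : mat6 (a * b) = mat6 a * mat6 b := by
  unfold mat6; rw [map_mul, Units.val_mul]

noncomputable instance (k : ℕ) : DistribMulAction ↥PP (Vk k) where
  smul a m := fun i => (mat6 a).mulVec (m i)
  one_smul m := by
    funext i
    show (mat6 1).mulVec (m i) = m i
    rw [mat6_one, Matrix.one_mulVec]
  mul_smul a b m := by
    funext i
    show (mat6 (a * b)).mulVec (m i) = (mat6 a).mulVec ((mat6 b).mulVec (m i))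
    rw [mat6_mul, Matrix.mulVec_mulVec]
  smul_zero a := by
    funext i
    exact Matrix.mulVec_zero _
  smul_add a m n := by
    funext i
    exact Matrix.mulVec_add _ _ _

theorem smul_def (k : ℕ) (a : ↥PP) (m : Vk k) (i : Fin k) : (a • m) i = (mat6 a).mulVec (m i) := rfl

/-- the action as a homomorphism -/
noncomputable def phi (k : ℕ) : ↥PP →* MulAut (Multiplicative (Vk k)) where
  toFun a :=
    { toFun := fun u => Multiplicative.ofAdd (a • Multiplicative.toAdd u)
      invFun := fun u => Multiplicative.ofAdd (a⁻¹ • Multiplicative.toAdd u)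
      left_inv := fun u => by
        show Multiplicative.ofAdd (a⁻¹ • (a • Multiplicative.toAdd u)) = u
        rw [inv_smul_smul]; rfl
      right_inv := fun u => by
        show Multiplicative.ofAdd (a • (a⁻¹ • Multiplicative.toAdd u)) = u
        rw [smul_inv_smul]; rfl
      map_mul' := fun u v => by
        show Multiplicative.ofAdd (a • (Multiplicative.toAdd u + Multiplicative.toAdd v)) =
          Multiplicative.ofAdd (a • Multiplicative.toAdd u + a • Multiplicative.toAdd v)
        rw [smul_add] }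
  map_one' := by
    apply MulEquiv.ext
    intro u
    show Multiplicative.ofAdd ((1 : ↥PP) • Multiplicative.toAdd u) = u
    rw [one_smul]; rfl
  map_mul' a b := by
    apply MulEquiv.ext
    intro u
    show Multiplicative.ofAdd ((a * b) • Multiplicative.toAdd u) =
      Multiplicative.ofAdd (a • (b • Multiplicative.toAdd u))
    rw [mul_smul]

theorem phi_apply (k : ℕ) (a : ↥PP) (u : Multiplicative (Vk k)) :
    phi k a u = Multiplicative.ofAdd (a • Multiplicative.toAdd u) := rfl

/-- the semidirect product -/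
abbrev Hk (k : ℕ) : Type := Multiplicative (Vk k) ⋊[phi k] ↥PP

theorem exp_two (k : ℕ) (u : Multiplicative (Vk k)) : u * u = 1 := by
  apply Multiplicative.toAdd.injective
  show Multiplicative.toAdd u + Multiplicative.toAdd u = 0
  funext i j
  exact F4.add_self _

/-- `X + 1` invertible implies fixed-point-free -/
theorem fpf_of_inv (k : ℕ) (a : ↥PP) (Y : Matrix (Fin 6) (Fin 6) F4) (hY : Y * (mat6 a + 1) = 1) :
    Fpf (phi k) a := by
  intro u hu
  apply Multiplicative.toAdd.injective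
  show Multiplicative.toAdd u = 0
  have h1 : a • Multiplicative.toAdd u = Multiplicative.toAdd u := by
    rw [phi_apply] at hu
    exact congrArg Multiplicative.toAdd hu
  funext i
  have h2 : (mat6 a).mulVec (Multiplicative.toAdd u i) = Multiplicative.toAdd u i := by
    rw [← smul_def, h1]
  set v := Multiplicative.toAdd u i with hv
  have h3 : (mat6 a + 1).mulVec v = 0 := by
    rw [Matrix.add_mulVec, Matrix.one_mulVec, h2]
    funext j
    exact F4.add_self _
  have h4 : v = (Y * (mat6 a + 1)).mulVec v := by rw [hY, Matrix.one_mulVec]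
  rw [h4, ← Matrix.mulVec_mulVec, h3, Matrix.mulVec_zero]
  rfl

/-! ### the explicit elements -/

theorem genPair_mem (rt : Fin 12 × F4) : genPair rt ∈ PP := Subgroup.subset_closure ⟨rt, rfl⟩

/-- an element of order 7 -/
noncomputable def x7P : ↥PP :=
  ⟨genPair (9, F4.v) * genPair (3, 1) * genPair (6, F4.w),
    PP.mul_mem (PP.mul_mem (genPair_mem _) (genPair_mem _)) (genPair_mem _)⟩

/-- an element of order 13 -/
noncomputable def x13P : ↥PP :=
  ⟨genPair (3, F4.v) * genPair (9, 1) * genPair (8, F4.w) * genPair (1, 1),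
    PP.mul_mem (PP.mul_mem (PP.mul_mem (genPair_mem _) (genPair_mem _)) (genPair_mem _))
      (genPair_mem _)⟩

/-- an element of order 6 -/
noncomputable def z6P : ↥PP :=
  ⟨genPair (7, F4.v) * genPair (10, 1) * genPair (1, 1),
    PP.mul_mem (PP.mul_mem (genPair_mem _) (genPair_mem _)) (genPair_mem _)⟩

/-- an element of order 10 -/
noncomputable def z10P : ↥PP :=
  ⟨genPair (10, F4.v) * genPair (6, F4.w) * genPair (2, 1),
    PP.mul_mem (PP.mul_mem (genPair_mem _) (genPair_mem _)) (genPair_mem _)⟩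

theorem gen6_val (r : Fin 12) (t : F4) :
    ((gen6 r t : GL6) : Matrix (Fin 6) (Fin 6) F4) = (X6s r t).toMat := rfl

theorem mat6_x7P : mat6 x7P = X7L.toMat := by
  show ((gen6 9 F4.v * gen6 3 1 * gen6 6 F4.w : GL6) : Matrix (Fin 6) (Fin 6) F4) = _
  rw [Units.val_mul, Units.val_mul, gen6_val, gen6_val, gen6_val, ← M6.toMat_mul, ← M6.toMat_mul,
    X7_word]

theorem mat6_x13P : mat6 x13P = X13L.toMat := by
  show ((gen6 3 F4.v * gen6 9 1 * gen6 8 F4.w * gen6 1 1 : GL6) : Matrix (Fin 6) (Fin 6) F4) = _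
  rw [Units.val_mul, Units.val_mul, Units.val_mul, gen6_val, gen6_val, gen6_val, gen6_val,
    ← M6.toMat_mul, ← M6.toMat_mul, ← M6.toMat_mul, X13_word]

theorem mat6_z6P : mat6 z6P = Z6L.toMat := by
  show ((gen6 7 F4.v * gen6 10 1 * gen6 1 1 : GL6) : Matrix (Fin 6) (Fin 6) F4) = _
  rw [Units.val_mul, Units.val_mul, gen6_val, gen6_val, gen6_val, ← M6.toMat_mul, ← M6.toMat_mul,
    Z6_word]

theorem mat6_z10P : mat6 z10P = Z10L.toMat := by
  show ((gen6 10 F4.v * gen6 6 F4.w * gen6 2 1 : GL6) : Matrix (Fin 6) (Fin 6) F4) = _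
  rw [Units.val_mul, Units.val_mul, gen6_val, gen6_val, gen6_val, ← M6.toMat_mul, ← M6.toMat_mul,
    Z10_word]

theorem mat6_pow (a : ↥PP) (n : ℕ) : mat6 (a ^ n) = mat6 a ^ n := by
  unfold mat6; rw [map_pow, Units.val_pow_eq_pow_val]

theorem mat6_injective : Function.Injective mat6 := fun _ _ h =>
  fst'_injective (Units.ext h)

theorem eq_one_of_mat6 {a : ↥PP} (h : mat6 a = 1) : a = 1 :=
  mat6_injective (by rw [h, mat6_one])

theorem X7_pow : X7L.toMat ^ 7 = 1 := by
  have h2 : X7L.toMat ^ 2 = X7P2.toMat := by rw [pow_two, ← M6.toMat_mul, X7_p2]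
  have h4 : X7L.toMat ^ 4 = X7P4.toMat := by
    rw [show X7L.toMat ^ 4 = X7L.toMat ^ 2 * X7L.toMat ^ 2 from by rw [← pow_add], h2,
      ← M6.toMat_mul, X7_p4]
  have h6 : X7L.toMat ^ 6 = X7P6.toMat := by
    rw [show X7L.toMat ^ 6 = X7L.toMat ^ 4 * X7L.toMat ^ 2 from by rw [← pow_add], h4, h2,
      ← M6.toMat_mul, X7_p6]
  rw [pow_succ, h6, ← M6.toMat_mul, X7_p7, M6.toMat_one]

theorem X13_pow : X13L.toMat ^ 13 = 1 := by
  have h2 : X13L.toMat ^ 2 = X13P2.toMat := by rw [pow_two, ← M6.toMat_mul, X13_p2]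
  have h4 : X13L.toMat ^ 4 = X13P4.toMat := by
    rw [show X13L.toMat ^ 4 = X13L.toMat ^ 2 * X13L.toMat ^ 2 from by rw [← pow_add], h2,
      ← M6.toMat_mul, X13_p4]
  have h8 : X13L.toMat ^ 8 = X13P8.toMat := by
    rw [show X13L.toMat ^ 8 = X13L.toMat ^ 4 * X13L.toMat ^ 4 from by rw [← pow_add], h4,
      ← M6.toMat_mul, X13_p8]
  have h12 : X13L.toMat ^ 12 = X13P12.toMat := by
    rw [show X13L.toMat ^ 12 = X13L.toMat ^ 8 * X13L.toMat ^ 4 from by rw [← pow_add], h8, h4,
      ← M6.toMat_mul, X13_p12]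
  rw [pow_succ, h12, ← M6.toMat_mul, X13_p13, M6.toMat_one]

instance fact_prime_seven : Fact (Nat.Prime 7) := ⟨by norm_num⟩
instance fact_prime_thirteen : Fact (Nat.Prime 13) := ⟨by norm_num⟩

theorem orderOf_x7P : orderOf x7P = 7 := by
  apply orderOf_eq_prime
  · apply eq_one_of_mat6
    rw [mat6_pow, mat6_x7P, X7_pow]
  · intro h
    have := congrArg mat6 h
    rw [mat6_x7P, mat6_one, ← M6.toMat_one] at this
    exact X7L_ne (M6.toMat_injective this)

theorem orderOf_x13P : orderOf x13P = 13 := by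
  apply orderOf_eq_prime
  · apply eq_one_of_mat6
    rw [mat6_pow, mat6_x13P, X13_pow]
  · intro h
    have := congrArg mat6 h
    rw [mat6_x13P, mat6_one, ← M6.toMat_one] at this
    exact X13L_ne (M6.toMat_injective this)

theorem fpf_x7P (k : ℕ) : Fpf (phi k) x7P := by
  apply fpf_of_inv k x7P X7Y.toMat
  rw [mat6_x7P, ← M6.toMat_one, ← M6.toMat_add, ← M6.toMat_mul, X7Y_mul]

theorem fpf_x13P (k : ℕ) : Fpf (phi k) x13P := by
  apply fpf_of_inv k x13P X13Y.toMat
  rw [mat6_x13P, ← M6.toMat_one, ← M6.toMat_add, ← M6.toMat_mul, X13Y_mul]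

theorem orderOf_z6P : orderOf z6P = 6 := by
  have h2 : Z6L.toMat ^ 2 = Z6P2.toMat := by rw [pow_two, ← M6.toMat_mul, Z6_p2]
  have h3 : Z6L.toMat ^ 3 = Z6P3.toMat := by rw [pow_succ, h2, ← M6.toMat_mul, Z6_p3]
  have h6 : Z6L.toMat ^ 6 = 1 := by
    rw [show Z6L.toMat ^ 6 = Z6L.toMat ^ 3 * Z6L.toMat ^ 3 from by rw [← pow_add], h3,
      ← M6.toMat_mul, Z6_p6, M6.toMat_one]
  apply orderOf_eq_of_pow_and_pow_div_prime (by norm_num)
  · apply eq_one_of_mat6
    rw [mat6_pow, mat6_z6P, h6]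
  · intro p hp hpd h
    have hp6 : p = 2 ∨ p = 3 := by
      have : p ∣ 2 * 3 := hpd
      rcases (Nat.Prime.dvd_mul hp).1 this with h | h
      · left; exact (Nat.prime_dvd_prime_iff_eq hp Nat.prime_two).1 h
      · right; exact (Nat.prime_dvd_prime_iff_eq hp Nat.prime_three).1 h
    have := congrArg mat6 h
    rw [mat6_pow, mat6_z6P, mat6_one, ← M6.toMat_one] at this
    rcases hp6 with rfl | rfl
    · rw [show 6 / 2 = 3 from rfl, h3] at this
      exact Z6P3_ne (M6.toMat_injective this)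
    · rw [show 6 / 3 = 2 from rfl, h2] at this
      exact Z6P2_ne (M6.toMat_injective this)

theorem orderOf_z10P : orderOf z10P = 10 := by
  have h2 : Z10L.toMat ^ 2 = Z10P2.toMat := by rw [pow_two, ← M6.toMat_mul, Z10_p2]
  have h4 : Z10L.toMat ^ 4 = Z10P4.toMat := by
    rw [show Z10L.toMat ^ 4 = Z10L.toMat ^ 2 * Z10L.toMat ^ 2 from by rw [← pow_add], h2,
      ← M6.toMat_mul, Z10_p4]
  have h5 : Z10L.toMat ^ 5 = Z10P5.toMat := by rw [pow_succ, h4, ← M6.toMat_mul, Z10_p5]
  have h10 : Z10L.toMat ^ 10 = 1 := by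
    rw [show Z10L.toMat ^ 10 = Z10L.toMat ^ 5 * Z10L.toMat ^ 5 from by rw [← pow_add], h5,
      ← M6.toMat_mul, Z10_p10, M6.toMat_one]
  apply orderOf_eq_of_pow_and_pow_div_prime (by norm_num)
  · apply eq_one_of_mat6
    rw [mat6_pow, mat6_z10P, h10]
  · intro p hp hpd h
    have hp10 : p = 2 ∨ p = 5 := by
      have : p ∣ 2 * 5 := hpd
      rcases (Nat.Prime.dvd_mul hp).1 this with h | h
      · left; exact (Nat.prime_dvd_prime_iff_eq hp Nat.prime_two).1 h
      · right; exact (Nat.prime_dvd_prime_iff_eq hp Nat.prime_five).1 h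
    have := congrArg mat6 h
    rw [mat6_pow, mat6_z10P, mat6_one, ← M6.toMat_one] at this
    rcases hp10 with rfl | rfl
    · rw [show 10 / 2 = 5 from rfl, h5] at this
      exact Z10P5_ne (M6.toMat_injective this)
    · rw [show 10 / 5 = 2 from rfl, h2] at this
      exact Z10P2_ne (M6.toMat_injective this)

end Cfsg.Agent.Helper8.G24
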