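import Cfsg.Agent.Helper8.G24G

/-!
Helper8 / G2(4): the main theorem over the concrete field `F4`, and the transfer from any field with
four elements.
-/

set_option autoImplicit false

open Cfsg Cfsg.Lie

namespace Cfsg.Agent.Helper8.G24

/-- a prime dividing `2¹²·3³·5²·7·13` -/
theorem prime_dvd_card24 {r : ℕ} (hr : r.Prime) (h : r ∣ 251596800) :
    r = 2 ∨ r = 3 ∨ r = 5 ∨ r = 7 ∨ r = 13 := by
  have e : (251596800 : ℕ) = 2 ^ 12 * 3 ^ 3 * 5 ^ 2 * 7 * 13 := by norm_num
  rw [e] at h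
  rcases (Nat.Prime.dvd_mul hr).1 h with h | h
  · rcases (Nat.Prime.dvd_mul hr).1 h with h | h
    · rcases (Nat.Prime.dvd_mul hr).1 h with h | h
      · rcases (Nat.Prime.dvd_mul hr).1 h with h | h
        · left; exact (Nat.prime_dvd_prime_iff_eq hr Nat.prime_two).1 (hr.dvd_of_dvd_pow h)
        · right; left
          exact (Nat.prime_dvd_prime_iff_eq hr Nat.prime_three).1 (hr.dvd_of_dvd_pow h)
      · right; right; left
        exact (Nat.prime_dvd_prime_iff_eq hr Nat.prime_five).1 (hr.dvd_of_dvd_pow h)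
    · right; right; right; left; exact (Nat.prime_dvd_prime_iff_eq hr (by norm_num)).1 h
  · right; right; right; right; exact (Nat.prime_dvd_prime_iff_eq hr (by norm_num)).1 h

instance finite_PP : Finite ↥PP := inferInstance

instance finite_Hk (k : ℕ) : Finite (Hk k) :=
  Finite.of_equiv _ (SemidirectProduct.equivProd (φ := phi k)).symm

theorem card_Vk (k : ℕ) : Nat.card (Multiplicative (Vk k)) = (4 ^ 6) ^ k := by
  have h1 : Nat.card (Multiplicative (Vk k)) = Nat.card (Vk k) :=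
    Nat.card_congr Multiplicative.toAdd
  rw [h1, Nat.card_eq_fintype_card, Fintype.card_fun, Fintype.card_fun, Fintype.card_fin,
    Fintype.card_fin, F4.card_eq]

theorem card_Hk (k : ℕ) : Nat.card (Hk k) = (4 ^ 6) ^ k * 251596800 := by
  rw [Nat.card_congr (SemidirectProduct.equivProd (φ := phi k)), Nat.card_prod, card_Vk, card_PP]

theorem lt_card_Hk (N : ℕ) : N < Nat.card (Hk N) := by
  rw [card_Hk]
  have h1 : N < 2 ^ N := Nat.lt_two_pow_self
  have h2 : 2 ^ N ≤ (4 ^ 6) ^ N := Nat.pow_le_pow_left (by norm_num) N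
  have h3 : (4 ^ 6) ^ N ≤ (4 ^ 6) ^ N * 251596800 := Nat.le_mul_of_pos_right _ (by norm_num)
  omega

theorem prime_dvd_iff (k : ℕ) (p : ℕ) (hp : p.Prime) :
    p ∣ Nat.card ↥(chevG2.group F4) ↔ p ∣ Nat.card (Hk k) := by
  rw [card_G24, card_Hk]
  constructor
  · intro h; exact Dvd.dvd.mul_left h _
  · intro h
    rcases (Nat.Prime.dvd_mul hp).1 h with h | h
    · have h2 : p ∣ 2 := by
        have h4 : p ∣ 4 := hp.dvd_of_dvd_pow (hp.dvd_of_dvd_pow h)
        exact hp.dvd_of_dvd_pow (show p ∣ 2 ^ 2 from h4)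
      have : p = 2 := (Nat.prime_dvd_prime_iff_eq hp Nat.prime_two).1 h2
      rw [this]; norm_num
    · exact h

theorem not_sq_dvd_7 : ¬ 7 ^ 2 ∣ Nat.card ↥PP := by rw [card_PP]; norm_num
theorem not_sq_dvd_13 : ¬ 13 ^ 2 ∣ Nat.card ↥PP := by rw [card_PP]; norm_num

/-- an element of the graph of order 7 or 13 acts without fixed points -/
theorem pow_eq_one_of_order (k : ℕ) (h : Hk k) (r : ℕ) (hr : r = 7 ∨ r = 13)
    (ho : orderOf h.right = r) : h ^ r = 1 := by
  rcases hr with rfl | rfl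
  · obtain ⟨c, hc⟩ := exists_conj_zpowers 7 x7P h.right orderOf_x7P ho not_sq_dvd_7
    exact pow_eq_one_of_fpf (phi k) h 7 (by rw [← ho, pow_orderOf_eq_one])
      ((fpf_x7P k).of_conj (phi k) hc)
  · obtain ⟨c, hc⟩ := exists_conj_zpowers 13 x13P h.right orderOf_x13P ho not_sq_dvd_13
    exact pow_eq_one_of_fpf (phi k) h 13 (by rw [← ho, pow_orderOf_eq_one])
      ((fpf_x13P k).of_conj (phi k) hc)

theorem edge_iff (k : ℕ) (p q : ℕ) (hp : p.Prime) (hq : q.Prime) (hpq : p ≠ q) :
    (∃ g : ↥(chevG2.group F4), orderOf g = p * q) ↔ (∃ g : Hk k, orderOf g = p * q) := by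
  constructor
  · rintro ⟨g, hg⟩
    refine ⟨SemidirectProduct.inr (ppEquiv.symm g), ?_⟩
    rw [orderOf_injective (SemidirectProduct.inr : ↥PP →* Hk k) SemidirectProduct.inr_injective,
      MulEquiv.orderOf_eq, hg]
  · rintro ⟨h, hh⟩
    rcases orderOf_semidirect (phi k) (exp_two k) h with h1 | h1
    · exact ⟨ppEquiv h.right, by rw [MulEquiv.orderOf_eq, ← h1, hh]⟩
    · -- `p * q = 2 * n` with `n = orderOf h.right`
      set n := orderOf h.right with hn
      have hpq2 : p * q = 2 * n := by rw [← hh, h1]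
      -- the odd prime among `p, q`
      obtain ⟨r, hr, hr2, hnr⟩ : ∃ r : ℕ, r.Prime ∧ r ≠ 2 ∧ n = r := by
        have h2 : 2 ∣ p * q := ⟨n, hpq2⟩
        rcases (Nat.Prime.dvd_mul Nat.prime_two).1 h2 with h2 | h2
        · have hp2 : p = 2 := ((Nat.prime_dvd_prime_iff_eq Nat.prime_two hp).1 h2).symm
          refine ⟨q, hq, fun h => hpq (by rw [hp2, h]), ?_⟩
          rw [hp2] at hpq2
          omega
        · have hq2 : q = 2 := ((Nat.prime_dvd_prime_iff_eq Nat.prime_two hq).1 h2).symm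
          refine ⟨p, hp, fun h => hpq (by rw [hq2, h]), ?_⟩
          rw [hq2] at hpq2
          omega
      have hrd : r ∣ 251596800 := by
        rw [← card_PP, ← hnr, hn]
        exact orderOf_dvd_natCard _
      rw [hnr] at hpq2
      rcases prime_dvd_card24 hr hrd with rfl | rfl | rfl | rfl | rfl
      · exact absurd rfl hr2
      · exact ⟨ppEquiv z6P, by rw [MulEquiv.orderOf_eq, orderOf_z6P, hpq2]⟩
      · exact ⟨ppEquiv z10P, by rw [MulEquiv.orderOf_eq, orderOf_z10P, hpq2]⟩
      · exfalso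
        have h7 := pow_eq_one_of_order k h 7 (Or.inl rfl) (hn ▸ hnr)
        have hd : orderOf h ∣ 7 := orderOf_dvd_of_pow_eq_one h7
        rw [hh, hpq2] at hd
        omega
      · exfalso
        have h13 := pow_eq_one_of_order k h 13 (Or.inr rfl) (hn ▸ hnr)
        have hd : orderOf h ∣ 13 := orderOf_dvd_of_pow_eq_one h13
        rw [hh, hpq2] at hd
        omega

/-- the main theorem over `F4` -/
theorem main_F4 (N : ℕ) :
    ∃ (H : Type) (_ : Group H) (_ : Finite H), N < Nat.card H ∧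
      ((∀ p : ℕ, p.Prime → (p ∣ Nat.card ↥(chevG2.group F4) ↔ p ∣ Nat.card H)) ∧
      (∀ p q : ℕ, p.Prime → q.Prime → p ≠ q →
        ((∃ g : ↥(chevG2.group F4), orderOf g = p * q) ↔ (∃ g : H, orderOf g = p * q)))) :=
  ⟨Hk N, inferInstance, inferInstance, lt_card_Hk N, prime_dvd_iff N, edge_iff N⟩

/-! ### transfer from any field with four elements -/

theorem exists_mulEquiv {F : Type*} [Field F] [Fintype F] (hF : Fintype.card F = 4) :
    Nonempty (↥(chevG2.group F) ≃* ↥(chevG2.group F4)) := by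
  let e : F ≃+* F4 := FiniteField.ringEquivOfCardEq (by rw [hF, F4.card_eq])
  have hadd := Cfsg.Agent.Helper40.ChevAdd.addOK_of_mem chev_mem
  let φ : ↥(chevG2.group F) →* ↥(chevG2.group F4) :=
    MonoidHom.codRestrict
      ((Cfsg.Agent.Helper36.BaseChange.bc chevG2 (e : F →+* F4)).comp (chevG2.group F).subtype)
      (chevG2.group F4)
      (fun g => Cfsg.Agent.Helper36.BaseChange.bc_group_le chevG2 (e : F →+* F4) hadd
        (Subgroup.mem_map_of_mem _ g.2))
  have hinj : Function.Injective φ := by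
    intro a b hab
    have h1 := congrArg (fun g : ↥(chevG2.group F4) => (g : GL chevG2.Idx F4)) hab
    exact Subtype.ext (Cfsg.Agent.Helper36.BaseChange.bc_injective chevG2 (e : F →+* F4) h1)
  have hcardF : Nat.card ↥(chevG2.group F) = 251596800 := by
    rw [Cfsg.Agent.S1059.result (F := F) (q := 4) hF]
    norm_num
  have : Finite ↥(chevG2.group F) := Nat.finite_of_card_ne_zero (by rw [hcardF]; norm_num)
  have : Finite ↥(chevG2.group F4) := Nat.finite_of_card_ne_zero (by rw [card_G24]; norm_num)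
  have hbij : Function.Bijective φ :=
    hinj.bijective_of_nat_card_le (by rw [card_G24, hcardF])
  exact ⟨MulEquiv.ofBijective φ hbij⟩

/-- the theorem for any field with four elements -/
theorem main {F : Type*} [Field F] [Fintype F] (hF : Fintype.card F = 4) (N : ℕ) :
    ∃ (H : Type) (_ : Group H) (_ : Finite H), N < Nat.card H ∧
      ((∀ p : ℕ, p.Prime → (p ∣ Nat.card ↥(chevG2.group F) ↔ p ∣ Nat.card H)) ∧
      (∀ p q : ℕ, p.Prime → q.Prime → p ≠ q →
        ((∃ g : ↥(chevG2.group F), orderOf g = p * q) ↔ (∃ g : H, orderOf g = p * q)))) := by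
  obtain ⟨e⟩ := exists_mulEquiv hF
  obtain ⟨H, iG, iF, hN, hdvd, hedge⟩ := main_F4 N
  refine ⟨H, iG, iF, hN, ?_, ?_⟩
  · intro p hp
    rw [Nat.card_congr e.toEquiv]
    exact hdvd p hp
  · intro p q hp hq hpq
    rw [← hedge p q hp hq hpq]
    constructor
    · rintro ⟨g, hg⟩
      exact ⟨e g, by rw [MulEquiv.orderOf_eq, hg]⟩
    · rintro ⟨g, hg⟩
      exact ⟨e.symm g, by rw [MulEquiv.orderOf_eq, hg]⟩

end Cfsg.Agent.Helper8.G24
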