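import Mathlib

/-!
Helper8 / G2: a small strict computing model for 7×7 matrices over `ZMod 3`
(rows are structures of naturals), with bridging lemmas to `Matrix (Fin 7) (Fin 7) (ZMod 3)`,
and the description of the commutant of a cyclic matrix.
-/

set_option autoImplicit false

namespace Cfsg.Agent.Helper8.G2

/-- a row of seven naturals -/
structure R7 where
  a0 : ℕ
  a1 : ℕ
  a2 : ℕ
  a3 : ℕ
  a4 : ℕ
  a5 : ℕ
  a6 : ℕ
deriving DecidableEq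

/-- seven rows -/
structure M7 where
  r0 : R7
  r1 : R7
  r2 : R7
  r3 : R7
  r4 : R7
  r5 : R7
  r6 : R7
deriving DecidableEq

namespace R7

/-- the entries as a function -/
def get (r : R7) : Fin 7 → ℕ
  | ⟨0, _⟩ => r.a0
  | ⟨1, _⟩ => r.a1
  | ⟨2, _⟩ => r.a2
  | ⟨3, _⟩ => r.a3
  | ⟨4, _⟩ => r.a4
  | ⟨5, _⟩ => r.a5
  | ⟨6, _⟩ => r.a6

/-- all entries are `< 3` -/
def Red (r : R7) : Prop := r.a0 < 3 ∧ r.a1 < 3 ∧ r.a2 < 3 ∧ r.a3 < 3 ∧ r.a4 < 3 ∧ r.a5 < 3 ∧ r.a6 < 3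

instance (r : R7) : Decidable r.Red := by unfold Red; infer_instance

/-- the vector over `ZMod 3` -/
def toVec (r : R7) : Fin 7 → ZMod 3 := fun i => ((r.get i : ℕ) : ZMod 3)

end R7

namespace M7

/-- the rows as a function -/
def row (m : M7) : Fin 7 → R7
  | ⟨0, _⟩ => m.r0
  | ⟨1, _⟩ => m.r1
  | ⟨2, _⟩ => m.r2
  | ⟨3, _⟩ => m.r3
  | ⟨4, _⟩ => m.r4
  | ⟨5, _⟩ => m.r5
  | ⟨6, _⟩ => m.r6

/-- all entries are `< 3` -/
def Red (m : M7) : Prop := m.r0.Red ∧ m.r1.Red ∧ m.r2.Red ∧ m.r3.Red ∧ m.r4.Red ∧ m.r5.Red ∧ m.r6.Red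

instance (m : M7) : Decidable m.Red := by unfold Red; infer_instance

/-- the matrix over `ZMod 3` -/
def toMat (m : M7) : Matrix (Fin 7) (Fin 7) (ZMod 3) := fun i j => (((m.row i).get j : ℕ) : ZMod 3)

end M7

/-- row vector times matrix, reduced mod 3 -/
def R7.mulM (a : R7) (m : M7) : R7 :=
  ⟨(a.a0 * m.r0.a0 + a.a1 * m.r1.a0 + a.a2 * m.r2.a0 + a.a3 * m.r3.a0 + a.a4 * m.r4.a0 + a.a5 * m.r5.a0 + a.a6 * m.r6.a0) % 3,
   (a.a0 * m.r0.a1 + a.a1 * m.r1.a1 + a.a2 * m.r2.a1 + a.a3 * m.r3.a1 + a.a4 * m.r4.a1 + a.a5 * m.r5.a1 + a.a6 * m.r6.a1) % 3,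
   (a.a0 * m.r0.a2 + a.a1 * m.r1.a2 + a.a2 * m.r2.a2 + a.a3 * m.r3.a2 + a.a4 * m.r4.a2 + a.a5 * m.r5.a2 + a.a6 * m.r6.a2) % 3,
   (a.a0 * m.r0.a3 + a.a1 * m.r1.a3 + a.a2 * m.r2.a3 + a.a3 * m.r3.a3 + a.a4 * m.r4.a3 + a.a5 * m.r5.a3 + a.a6 * m.r6.a3) % 3,
   (a.a0 * m.r0.a4 + a.a1 * m.r1.a4 + a.a2 * m.r2.a4 + a.a3 * m.r3.a4 + a.a4 * m.r4.a4 + a.a5 * m.r5.a4 + a.a6 * m.r6.a4) % 3,
   (a.a0 * m.r0.a5 + a.a1 * m.r1.a5 + a.a2 * m.r2.a5 + a.a3 * m.r3.a5 + a.a4 * m.r4.a5 + a.a5 * m.r5.a5 + a.a6 * m.r6.a5) % 3,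
   (a.a0 * m.r0.a6 + a.a1 * m.r1.a6 + a.a2 * m.r2.a6 + a.a3 * m.r3.a6 + a.a4 * m.r4.a6 + a.a5 * m.r5.a6 + a.a6 * m.r6.a6) % 3⟩

/-- matrix product, reduced mod 3 -/
def M7.mul (A B : M7) : M7 :=
  ⟨A.r0.mulM B, A.r1.mulM B, A.r2.mulM B, A.r3.mulM B, A.r4.mulM B, A.r5.mulM B, A.r6.mulM B⟩

/-- the identity -/
def M7.one : M7 :=
  ⟨⟨1, 0, 0, 0, 0, 0, 0⟩, ⟨0, 1, 0, 0, 0, 0, 0⟩, ⟨0, 0, 1, 0, 0, 0, 0⟩, ⟨0, 0, 0, 1, 0, 0, 0⟩, ⟨0, 0, 0, 0, 1, 0, 0⟩, ⟨0, 0, 0, 0, 0, 1, 0⟩, ⟨0, 0, 0, 0, 0, 0, 1⟩⟩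

theorem cast_inj3 {a b : ℕ} (ha : a < 3) (hb : b < 3) (h : ((a : ℕ) : ZMod 3) = ((b : ℕ) : ZMod 3)) : a = b := by
  have h1 := (ZMod.natCast_eq_natCast_iff' a b 3).1 h
  rwa [Nat.mod_eq_of_lt ha, Nat.mod_eq_of_lt hb] at h1

theorem R7.toVec_mulM (a : R7) (m : M7) : (a.mulM m).toVec = Matrix.vecMul a.toVec m.toMat := by
  funext j
  fin_cases j <;>
  simp [R7.toVec, R7.get, R7.mulM, M7.toMat, M7.row, Matrix.vecMul, dotProduct, Fin.sum_univ_seven,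
    ZMod.natCast_mod]

theorem R7.red_mulM (a : R7) (m : M7) : (a.mulM m).Red := by
  simp only [R7.Red, R7.mulM]
  refine ⟨?_, ?_, ?_, ?_, ?_, ?_, ?_⟩ <;> exact Nat.mod_lt _ (by norm_num)

theorem M7.red_mul (A B : M7) : (A.mul B).Red :=
  ⟨R7.red_mulM _ _, R7.red_mulM _ _, R7.red_mulM _ _, R7.red_mulM _ _, R7.red_mulM _ _,
    R7.red_mulM _ _, R7.red_mulM _ _⟩

theorem M7.toMat_row (A : M7) (i : Fin 7) : A.toMat i = (A.row i).toVec := rfl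

theorem M7.row_mul (A B : M7) (i : Fin 7) : (A.mul B).row i = (A.row i).mulM B := by
  fin_cases i <;> rfl

theorem M7.toMat_mul (A B : M7) : (A.mul B).toMat = A.toMat * B.toMat := by
  ext i j
  rw [M7.toMat_row, M7.row_mul, R7.toVec_mulM]
  simp [Matrix.vecMul, Matrix.mul_apply, dotProduct, M7.toMat_row]

theorem M7.toMat_one : M7.one.toMat = 1 := by
  ext i j
  fin_cases i <;> fin_cases j <;> simp [M7.toMat, M7.row, R7.get, M7.one]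

theorem M7.red_one : M7.one.Red := by decide

theorem R7.eq_of_toVec_eq {a b : R7} (ha : a.Red) (hb : b.Red) (h : a.toVec = b.toVec) : a = b := by
  obtain ⟨a0, a1, a2, a3, a4, a5, a6⟩ := a
  obtain ⟨b0, b1, b2, b3, b4, b5, b6⟩ := b
  obtain ⟨h0, h1, h2, h3, h4, h5, h6⟩ := ha
  obtain ⟨k0, k1, k2, k3, k4, k5, k6⟩ := hb
  have e0 := cast_inj3 h0 k0 (congrFun h 0)
  have e1 := cast_inj3 h1 k1 (congrFun h 1)
  have e2 := cast_inj3 h2 k2 (congrFun h 2)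
  have e3 := cast_inj3 h3 k3 (congrFun h 3)
  have e4 := cast_inj3 h4 k4 (congrFun h 4)
  have e5 := cast_inj3 h5 k5 (congrFun h 5)
  have e6 := cast_inj3 h6 k6 (congrFun h 6)
  simp only at e0 e1 e2 e3 e4 e5 e6
  subst e0 e1 e2 e3 e4 e5 e6
  rfl

theorem M7.eq_of_toMat_eq {A B : M7} (hA : A.Red) (hB : B.Red) (h : A.toMat = B.toMat) : A = B := by
  obtain ⟨a0, a1, a2, a3, a4, a5, a6⟩ := A
  obtain ⟨b0, b1, b2, b3, b4, b5, b6⟩ := B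
  obtain ⟨h0, h1, h2, h3, h4, h5, h6⟩ := hA
  obtain ⟨k0, k1, k2, k3, k4, k5, k6⟩ := hB
  have e0 := R7.eq_of_toVec_eq h0 k0 (congrFun h 0)
  have e1 := R7.eq_of_toVec_eq h1 k1 (congrFun h 1)
  have e2 := R7.eq_of_toVec_eq h2 k2 (congrFun h 2)
  have e3 := R7.eq_of_toVec_eq h3 k3 (congrFun h 3)
  have e4 := R7.eq_of_toVec_eq h4 k4 (congrFun h 4)
  have e5 := R7.eq_of_toVec_eq h5 k5 (congrFun h 5)
  have e6 := R7.eq_of_toVec_eq h6 k6 (congrFun h 6)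
  simp only at e0 e1 e2 e3 e4 e5 e6
  subst e0 e1 e2 e3 e4 e5 e6
  rfl

/-- the commutant of a cyclic matrix consists of polynomials in it -/
theorem commutant_cyclic {n : ℕ} {R : Type*} [CommRing R] (X P Q : Matrix (Fin n) (Fin n) R)
    (w : Fin n → R) (hP : ∀ i j : Fin n, P i j = ((X ^ (j : ℕ)).mulVec w) i) (hPQ : P * Q = 1)
    (C : Matrix (Fin n) (Fin n) R) (hC : C * X = X * C) :
    C = ∑ j : Fin n, (Q.mulVec (C.mulVec w)) j • X ^ (j : ℕ) := by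
  set a := Q.mulVec (C.mulVec w) with ha
  set p : Matrix (Fin n) (Fin n) R := ∑ j : Fin n, a j • X ^ (j : ℕ) with hp
  have h1 : P.mulVec a = C.mulVec w := by
    rw [ha, Matrix.mulVec_mulVec, hPQ, Matrix.one_mulVec]
  have h2 : P.mulVec a = p.mulVec w := by
    funext i
    rw [hp, Matrix.sum_mulVec, Finset.sum_apply]
    simp only [Matrix.mulVec, dotProduct]
    refine Finset.sum_congr rfl fun j _ => ?_
    rw [hP i j]
    simp only [Matrix.mulVec, dotProduct, Matrix.smul_apply, smul_eq_mul]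
    rw [Finset.sum_mul]
    refine Finset.sum_congr rfl fun k _ => ?_
    ring
  have hCk : ∀ k : ℕ, C * X ^ k = X ^ k * C := fun k => (Commute.pow_right hC k)
  have hpk : ∀ k : ℕ, p * X ^ k = X ^ k * p := by
    intro k
    rw [hp, Finset.sum_mul, Finset.mul_sum]
    refine Finset.sum_congr rfl fun j _ => ?_
    rw [Matrix.smul_mul, Matrix.mul_smul, ← pow_add, ← pow_add, add_comm]
  have h3 : C * P = p * P := by
    ext i k
    have e1 : (C * P) i k = (C.mulVec ((X ^ (k : ℕ)).mulVec w)) i := by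
      simp only [Matrix.mul_apply, Matrix.mulVec, dotProduct]
      refine Finset.sum_congr rfl fun j _ => ?_
      rw [hP j k]; rfl
    have e2 : (p * P) i k = (p.mulVec ((X ^ (k : ℕ)).mulVec w)) i := by
      simp only [Matrix.mul_apply, Matrix.mulVec, dotProduct]
      refine Finset.sum_congr rfl fun j _ => ?_
      rw [hP j k]; rfl
    rw [e1, e2, Matrix.mulVec_mulVec, Matrix.mulVec_mulVec, hCk, hpk, ← Matrix.mulVec_mulVec,
      ← Matrix.mulVec_mulVec, ← h1, h2]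
  calc C = C * (P * Q) := by rw [hPQ, mul_one]
    _ = (C * P) * Q := by rw [mul_assoc]
    _ = (p * P) * Q := by rw [h3]
    _ = p := by rw [mul_assoc, hPQ, mul_one]

end Cfsg.Agent.Helper8.G2
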