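import Cfsg.Agent.Helper8.G2A

/-!
Helper8 / G2: data for `G₂(3)` acting on the 7-dimensional ideal of short roots of its adjoint module
(generated by /tmp/scratch/g2/genB.py): the 7×7 blocks of the root elements, an element `X` of order 7,
an element `Y` of order 13, an element `Z` of order 6, the structure constants of the bracket,
and the exhaustive checks over the commutants of `X` and `Y`.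
-/

set_option autoImplicit false

namespace Cfsg.Agent.Helper8.G2


def gen_0_1 : M7 :=
  ⟨⟨1, 0, 0, 0, 0, 0, 0⟩,
    ⟨0, 1, 0, 0, 0, 1, 0⟩,
    ⟨0, 0, 1, 0, 0, 0, 2⟩,
    ⟨0, 0, 0, 1, 0, 0, 0⟩,
    ⟨0, 0, 0, 0, 1, 0, 0⟩,
    ⟨0, 0, 0, 0, 0, 1, 0⟩,
    ⟨0, 0, 0, 0, 0, 0, 1⟩⟩

def gen_0_2 : M7 :=
  ⟨⟨1, 0, 0, 0, 0, 0, 0⟩,
    ⟨0, 1, 0, 0, 0, 2, 0⟩,
    ⟨0, 0, 1, 0, 0, 0, 1⟩,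
    ⟨0, 0, 0, 1, 0, 0, 0⟩,
    ⟨0, 0, 0, 0, 1, 0, 0⟩,
    ⟨0, 0, 0, 0, 0, 1, 0⟩,
    ⟨0, 0, 0, 0, 0, 0, 1⟩⟩

def gen_1_1 : M7 :=
  ⟨⟨1, 0, 0, 0, 0, 0, 0⟩,
    ⟨0, 1, 0, 0, 1, 0, 0⟩,
    ⟨0, 0, 1, 0, 0, 0, 0⟩,
    ⟨0, 0, 0, 1, 0, 0, 2⟩,
    ⟨0, 0, 0, 0, 1, 0, 0⟩,
    ⟨0, 0, 0, 0, 0, 1, 0⟩,
    ⟨0, 0, 0, 0, 0, 0, 1⟩⟩

def gen_1_2 : M7 :=
  ⟨⟨1, 0, 0, 0, 0, 0, 0⟩,
    ⟨0, 1, 0, 0, 2, 0, 0⟩,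
    ⟨0, 0, 1, 0, 0, 0, 0⟩,
    ⟨0, 0, 0, 1, 0, 0, 1⟩,
    ⟨0, 0, 0, 0, 1, 0, 0⟩,
    ⟨0, 0, 0, 0, 0, 1, 0⟩,
    ⟨0, 0, 0, 0, 0, 0, 1⟩⟩

def gen_2_1 : M7 :=
  ⟨⟨1, 0, 0, 0, 0, 0, 1⟩,
    ⟨1, 1, 0, 0, 0, 0, 2⟩,
    ⟨0, 0, 1, 0, 1, 0, 0⟩,
    ⟨0, 0, 0, 1, 0, 2, 0⟩,
    ⟨0, 0, 0, 0, 1, 0, 0⟩,
    ⟨0, 0, 0, 0, 0, 1, 0⟩,
    ⟨0, 0, 0, 0, 0, 0, 1⟩⟩

def gen_2_2 : M7 :=
  ⟨⟨1, 0, 0, 0, 0, 0, 2⟩,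
    ⟨2, 1, 0, 0, 0, 0, 2⟩,
    ⟨0, 0, 1, 0, 2, 0, 0⟩,
    ⟨0, 0, 0, 1, 0, 1, 0⟩,
    ⟨0, 0, 0, 0, 1, 0, 0⟩,
    ⟨0, 0, 0, 0, 0, 1, 0⟩,
    ⟨0, 0, 0, 0, 0, 0, 1⟩⟩

def gen_3_1 : M7 :=
  ⟨⟨1, 0, 0, 0, 0, 2, 0⟩,
    ⟨0, 1, 0, 1, 0, 0, 0⟩,
    ⟨2, 0, 1, 0, 0, 2, 0⟩,
    ⟨0, 0, 0, 1, 0, 0, 0⟩,
    ⟨0, 0, 0, 0, 1, 0, 2⟩,
    ⟨0, 0, 0, 0, 0, 1, 0⟩,
    ⟨0, 0, 0, 0, 0, 0, 1⟩⟩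

def gen_3_2 : M7 :=
  ⟨⟨1, 0, 0, 0, 0, 1, 0⟩,
    ⟨0, 1, 0, 2, 0, 0, 0⟩,
    ⟨1, 0, 1, 0, 0, 2, 0⟩,
    ⟨0, 0, 0, 1, 0, 0, 0⟩,
    ⟨0, 0, 0, 0, 1, 0, 1⟩,
    ⟨0, 0, 0, 0, 0, 1, 0⟩,
    ⟨0, 0, 0, 0, 0, 0, 1⟩⟩

def gen_4_1 : M7 :=
  ⟨⟨1, 0, 0, 0, 2, 0, 0⟩,
    ⟨0, 1, 2, 0, 0, 0, 0⟩,
    ⟨0, 0, 1, 0, 0, 0, 0⟩,
    ⟨2, 0, 0, 1, 2, 0, 0⟩,
    ⟨0, 0, 0, 0, 1, 0, 0⟩,
    ⟨0, 0, 0, 0, 0, 1, 1⟩,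
    ⟨0, 0, 0, 0, 0, 0, 1⟩⟩

def gen_4_2 : M7 :=
  ⟨⟨1, 0, 0, 0, 1, 0, 0⟩,
    ⟨0, 1, 1, 0, 0, 0, 0⟩,
    ⟨0, 0, 1, 0, 0, 0, 0⟩,
    ⟨1, 0, 0, 1, 2, 0, 0⟩,
    ⟨0, 0, 0, 0, 1, 0, 0⟩,
    ⟨0, 0, 0, 0, 0, 1, 2⟩,
    ⟨0, 0, 0, 0, 0, 0, 1⟩⟩

def gen_5_1 : M7 :=
  ⟨⟨1, 0, 0, 0, 0, 0, 0⟩,
    ⟨0, 1, 0, 0, 0, 0, 0⟩,
    ⟨0, 0, 1, 2, 0, 0, 0⟩,
    ⟨0, 0, 0, 1, 0, 0, 0⟩,
    ⟨0, 0, 0, 0, 1, 1, 0⟩,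
    ⟨0, 0, 0, 0, 0, 1, 0⟩,
    ⟨0, 0, 0, 0, 0, 0, 1⟩⟩

def gen_5_2 : M7 :=
  ⟨⟨1, 0, 0, 0, 0, 0, 0⟩,
    ⟨0, 1, 0, 0, 0, 0, 0⟩,
    ⟨0, 0, 1, 1, 0, 0, 0⟩,
    ⟨0, 0, 0, 1, 0, 0, 0⟩,
    ⟨0, 0, 0, 0, 1, 2, 0⟩,
    ⟨0, 0, 0, 0, 0, 1, 0⟩,
    ⟨0, 0, 0, 0, 0, 0, 1⟩⟩

def gen_6_1 : M7 :=
  ⟨⟨1, 0, 0, 0, 0, 0, 0⟩,
    ⟨0, 1, 0, 0, 0, 0, 0⟩,
    ⟨0, 0, 1, 0, 0, 0, 0⟩,
    ⟨0, 0, 2, 1, 0, 0, 0⟩,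
    ⟨0, 0, 0, 0, 1, 0, 0⟩,
    ⟨0, 0, 0, 0, 1, 1, 0⟩,
    ⟨0, 0, 0, 0, 0, 0, 1⟩⟩

def gen_6_2 : M7 :=
  ⟨⟨1, 0, 0, 0, 0, 0, 0⟩,
    ⟨0, 1, 0, 0, 0, 0, 0⟩,
    ⟨0, 0, 1, 0, 0, 0, 0⟩,
    ⟨0, 0, 1, 1, 0, 0, 0⟩,
    ⟨0, 0, 0, 0, 1, 0, 0⟩,
    ⟨0, 0, 0, 0, 2, 1, 0⟩,
    ⟨0, 0, 0, 0, 0, 0, 1⟩⟩

def gen_7_1 : M7 :=
  ⟨⟨1, 0, 0, 1, 0, 0, 0⟩,
    ⟨0, 1, 0, 0, 0, 0, 0⟩,
    ⟨0, 2, 1, 0, 0, 0, 0⟩,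
    ⟨0, 0, 0, 1, 0, 0, 0⟩,
    ⟨1, 0, 0, 2, 1, 0, 0⟩,
    ⟨0, 0, 0, 0, 0, 1, 0⟩,
    ⟨0, 0, 0, 0, 0, 1, 1⟩⟩

def gen_7_2 : M7 :=
  ⟨⟨1, 0, 0, 2, 0, 0, 0⟩,
    ⟨0, 1, 0, 0, 0, 0, 0⟩,
    ⟨0, 1, 1, 0, 0, 0, 0⟩,
    ⟨0, 0, 0, 1, 0, 0, 0⟩,
    ⟨2, 0, 0, 2, 1, 0, 0⟩,
    ⟨0, 0, 0, 0, 0, 1, 0⟩,
    ⟨0, 0, 0, 0, 0, 2, 1⟩⟩

def gen_8_1 : M7 :=
  ⟨⟨1, 0, 1, 0, 0, 0, 0⟩,
    ⟨0, 1, 0, 0, 0, 0, 0⟩,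
    ⟨0, 0, 1, 0, 0, 0, 0⟩,
    ⟨0, 1, 0, 1, 0, 0, 0⟩,
    ⟨0, 0, 0, 0, 1, 0, 0⟩,
    ⟨1, 0, 2, 0, 0, 1, 0⟩,
    ⟨0, 0, 0, 0, 2, 0, 1⟩⟩

def gen_8_2 : M7 :=
  ⟨⟨1, 0, 2, 0, 0, 0, 0⟩,
    ⟨0, 1, 0, 0, 0, 0, 0⟩,
    ⟨0, 0, 1, 0, 0, 0, 0⟩,
    ⟨0, 2, 0, 1, 0, 0, 0⟩,
    ⟨0, 0, 0, 0, 1, 0, 0⟩,
    ⟨2, 0, 2, 0, 0, 1, 0⟩,
    ⟨0, 0, 0, 0, 1, 0, 1⟩⟩

def gen_9_1 : M7 :=
  ⟨⟨1, 2, 0, 0, 0, 0, 0⟩,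
    ⟨0, 1, 0, 0, 0, 0, 0⟩,
    ⟨0, 0, 1, 0, 0, 0, 0⟩,
    ⟨0, 0, 0, 1, 0, 0, 0⟩,
    ⟨0, 0, 1, 0, 1, 0, 0⟩,
    ⟨0, 0, 0, 2, 0, 1, 0⟩,
    ⟨2, 2, 0, 0, 0, 0, 1⟩⟩

def gen_9_2 : M7 :=
  ⟨⟨1, 1, 0, 0, 0, 0, 0⟩,
    ⟨0, 1, 0, 0, 0, 0, 0⟩,
    ⟨0, 0, 1, 0, 0, 0, 0⟩,
    ⟨0, 0, 0, 1, 0, 0, 0⟩,
    ⟨0, 0, 2, 0, 1, 0, 0⟩,
    ⟨0, 0, 0, 1, 0, 1, 0⟩,
    ⟨1, 2, 0, 0, 0, 0, 1⟩⟩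

def gen_10_1 : M7 :=
  ⟨⟨1, 0, 0, 0, 0, 0, 0⟩,
    ⟨0, 1, 0, 0, 0, 0, 0⟩,
    ⟨0, 0, 1, 0, 0, 0, 0⟩,
    ⟨0, 0, 0, 1, 0, 0, 0⟩,
    ⟨0, 1, 0, 0, 1, 0, 0⟩,
    ⟨0, 0, 0, 0, 0, 1, 0⟩,
    ⟨0, 0, 0, 2, 0, 0, 1⟩⟩

def gen_10_2 : M7 :=
  ⟨⟨1, 0, 0, 0, 0, 0, 0⟩,
    ⟨0, 1, 0, 0, 0, 0, 0⟩,
    ⟨0, 0, 1, 0, 0, 0, 0⟩,
    ⟨0, 0, 0, 1, 0, 0, 0⟩,
    ⟨0, 2, 0, 0, 1, 0, 0⟩,
    ⟨0, 0, 0, 0, 0, 1, 0⟩,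
    ⟨0, 0, 0, 1, 0, 0, 1⟩⟩

def gen_11_1 : M7 :=
  ⟨⟨1, 0, 0, 0, 0, 0, 0⟩,
    ⟨0, 1, 0, 0, 0, 0, 0⟩,
    ⟨0, 0, 1, 0, 0, 0, 0⟩,
    ⟨0, 0, 0, 1, 0, 0, 0⟩,
    ⟨0, 0, 0, 0, 1, 0, 0⟩,
    ⟨0, 1, 0, 0, 0, 1, 0⟩,
    ⟨0, 0, 2, 0, 0, 0, 1⟩⟩

def gen_11_2 : M7 :=
  ⟨⟨1, 0, 0, 0, 0, 0, 0⟩,
    ⟨0, 1, 0, 0, 0, 0, 0⟩,
    ⟨0, 0, 1, 0, 0, 0, 0⟩,
    ⟨0, 0, 0, 1, 0, 0, 0⟩,
    ⟨0, 0, 0, 0, 1, 0, 0⟩,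
    ⟨0, 2, 0, 0, 0, 1, 0⟩,
    ⟨0, 0, 1, 0, 0, 0, 1⟩⟩

/-- the 7×7 block of `x_r(t)` -/
def genData (r t : ℕ) : M7 :=
  match r, t with
  | 0, 1 => gen_0_1
  | 0, 2 => gen_0_2
  | 1, 1 => gen_1_1
  | 1, 2 => gen_1_2
  | 2, 1 => gen_2_1
  | 2, 2 => gen_2_2
  | 3, 1 => gen_3_1
  | 3, 2 => gen_3_2
  | 4, 1 => gen_4_1
  | 4, 2 => gen_4_2
  | 5, 1 => gen_5_1
  | 5, 2 => gen_5_2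
  | 6, 1 => gen_6_1
  | 6, 2 => gen_6_2
  | 7, 1 => gen_7_1
  | 7, 2 => gen_7_2
  | 8, 1 => gen_8_1
  | 8, 2 => gen_8_2
  | 9, 1 => gen_9_1
  | 9, 2 => gen_9_2
  | 10, 1 => gen_10_1
  | 10, 2 => gen_10_2
  | 11, 1 => gen_11_1
  | 11, 2 => gen_11_2
  | _, _ => M7.one

def XP1 : M7 :=
  ⟨⟨1, 0, 2, 0, 0, 0, 2⟩,
    ⟨0, 1, 0, 0, 0, 2, 0⟩,
    ⟨0, 0, 1, 0, 0, 0, 1⟩,
    ⟨0, 2, 0, 1, 0, 1, 0⟩,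
    ⟨0, 2, 0, 0, 1, 1, 0⟩,
    ⟨2, 2, 2, 0, 0, 2, 2⟩,
    ⟨0, 2, 1, 1, 1, 1, 2⟩⟩

def XP2 : M7 :=
  ⟨⟨1, 1, 0, 2, 2, 2, 2⟩,
    ⟨1, 2, 1, 0, 0, 0, 1⟩,
    ⟨0, 2, 2, 1, 1, 1, 0⟩,
    ⟨2, 0, 2, 1, 0, 1, 2⟩,
    ⟨2, 0, 2, 0, 1, 1, 2⟩,
    ⟨0, 1, 0, 2, 2, 1, 2⟩,
    ⟨2, 0, 2, 0, 0, 1, 1⟩⟩

def XP3 : M7 :=
  ⟨⟨2, 2, 2, 1, 1, 0, 1⟩,
    ⟨1, 1, 1, 1, 1, 2, 2⟩,
    ⟨2, 2, 1, 1, 1, 2, 1⟩,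
    ⟨1, 2, 1, 0, 2, 2, 0⟩,
    ⟨1, 2, 1, 2, 0, 2, 0⟩,
    ⟨2, 0, 1, 1, 1, 1, 0⟩,
    ⟨1, 1, 0, 1, 1, 0, 1⟩⟩

def XP4 : M7 :=
  ⟨⟨2, 2, 1, 2, 2, 1, 2⟩,
    ⟨2, 1, 0, 0, 0, 1, 2⟩,
    ⟨0, 0, 1, 2, 2, 2, 2⟩,
    ⟨2, 1, 1, 0, 2, 1, 1⟩,
    ⟨2, 1, 1, 2, 0, 1, 1⟩,
    ⟨1, 0, 1, 1, 1, 1, 1⟩,
    ⟨1, 1, 0, 2, 2, 2, 1⟩⟩

def XP5 : M7 :=
  ⟨⟨1, 1, 0, 1, 1, 0, 2⟩,
    ⟨1, 1, 2, 2, 2, 0, 1⟩,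
    ⟨1, 1, 1, 1, 1, 1, 0⟩,
    ⟨1, 0, 2, 1, 0, 1, 0⟩,
    ⟨1, 0, 2, 0, 1, 1, 0⟩,
    ⟨0, 2, 0, 2, 2, 2, 1⟩,
    ⟨2, 0, 1, 0, 0, 2, 2⟩⟩

def XP6 : M7 :=
  ⟨⟨1, 0, 1, 0, 0, 0, 0⟩,
    ⟨1, 2, 2, 0, 0, 1, 0⟩,
    ⟨0, 1, 2, 1, 1, 0, 2⟩,
    ⟨0, 1, 0, 1, 0, 0, 0⟩,
    ⟨0, 1, 0, 0, 1, 0, 0⟩,
    ⟨1, 1, 2, 0, 0, 1, 0⟩,
    ⟨0, 2, 2, 2, 2, 0, 1⟩⟩

def YP1 : M7 :=
  ⟨⟨1, 2, 2, 0, 2, 0, 0⟩,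
    ⟨2, 0, 2, 2, 0, 1, 1⟩,
    ⟨1, 1, 1, 0, 0, 0, 2⟩,
    ⟨2, 1, 2, 1, 2, 0, 0⟩,
    ⟨0, 0, 1, 0, 1, 0, 0⟩,
    ⟨2, 2, 0, 2, 0, 1, 1⟩,
    ⟨2, 2, 0, 0, 0, 0, 1⟩⟩

def YP2 : M7 :=
  ⟨⟨1, 1, 1, 1, 1, 2, 0⟩,
    ⟨0, 0, 1, 1, 2, 1, 0⟩,
    ⟨2, 1, 2, 2, 2, 1, 2⟩,
    ⟨2, 1, 0, 0, 2, 1, 2⟩,
    ⟨1, 1, 2, 0, 1, 0, 2⟩,
    ⟨2, 1, 0, 2, 2, 0, 1⟩,
    ⟨2, 0, 2, 1, 1, 2, 0⟩⟩

def YP3 : M7 :=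
  ⟨⟨1, 2, 2, 1, 2, 0, 2⟩,
    ⟨2, 1, 2, 0, 1, 1, 0⟩,
    ⟨1, 2, 2, 0, 1, 2, 2⟩,
    ⟨1, 1, 2, 1, 0, 2, 1⟩,
    ⟨0, 2, 1, 2, 0, 1, 1⟩,
    ⟨1, 2, 0, 1, 1, 1, 2⟩,
    ⟨1, 2, 0, 2, 1, 2, 0⟩⟩

def YP4 : M7 :=
  ⟨⟨1, 0, 0, 2, 0, 2, 2⟩,
    ⟨2, 2, 0, 1, 2, 2, 0⟩,
    ⟨0, 0, 0, 2, 0, 1, 1⟩,
    ⟨1, 2, 2, 1, 1, 0, 2⟩,
    ⟨1, 1, 0, 2, 1, 0, 0⟩,
    ⟨1, 0, 0, 1, 2, 0, 2⟩,
    ⟨1, 2, 2, 1, 1, 1, 1⟩⟩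

def YP5 : M7 :=
  ⟨⟨1, 0, 0, 0, 0, 2, 1⟩,
    ⟨0, 0, 0, 0, 2, 1, 1⟩,
    ⟨2, 0, 1, 1, 1, 1, 2⟩,
    ⟨1, 0, 2, 2, 2, 2, 2⟩,
    ⟨1, 1, 0, 1, 1, 1, 1⟩,
    ⟨1, 1, 0, 1, 0, 0, 2⟩,
    ⟨1, 0, 2, 1, 2, 0, 2⟩⟩

def YP6 : M7 :=
  ⟨⟨1, 2, 2, 1, 2, 2, 0⟩,
    ⟨1, 1, 2, 2, 2, 1, 2⟩,
    ⟨2, 0, 2, 0, 1, 1, 2⟩,
    ⟨0, 2, 1, 0, 2, 2, 2⟩,
    ⟨0, 1, 1, 2, 2, 2, 0⟩,
    ⟨0, 1, 0, 0, 1, 1, 0⟩,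
    ⟨0, 0, 2, 1, 0, 0, 0⟩⟩

def ZP1 : M7 :=
  ⟨⟨1, 0, 0, 0, 0, 0, 0⟩,
    ⟨0, 0, 0, 0, 0, 1, 0⟩,
    ⟨0, 0, 0, 0, 0, 0, 2⟩,
    ⟨0, 0, 0, 1, 0, 0, 0⟩,
    ⟨0, 0, 0, 0, 1, 0, 0⟩,
    ⟨0, 2, 0, 0, 0, 1, 0⟩,
    ⟨0, 0, 1, 0, 0, 0, 1⟩⟩

def XcQ : M7 :=
  ⟨⟨0, 0, 1, 1, 2, 2, 2⟩,
    ⟨2, 1, 1, 0, 1, 2, 1⟩,
    ⟨2, 2, 0, 0, 1, 0, 0⟩,
    ⟨1, 2, 0, 0, 1, 2, 0⟩,
    ⟨2, 1, 0, 0, 1, 1, 0⟩,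
    ⟨1, 1, 0, 0, 1, 2, 0⟩,
    ⟨1, 2, 1, 0, 1, 0, 0⟩⟩

def YcQ : M7 :=
  ⟨⟨2, 2, 0, 1, 1, 2, 1⟩,
    ⟨0, 0, 2, 0, 1, 2, 1⟩,
    ⟨2, 1, 0, 0, 1, 2, 0⟩,
    ⟨0, 2, 2, 0, 2, 1, 1⟩,
    ⟨0, 2, 1, 0, 1, 1, 0⟩,
    ⟨2, 0, 2, 0, 2, 0, 0⟩,
    ⟨2, 2, 2, 0, 1, 1, 2⟩⟩

def Xbad0 : M7 :=
  ⟨⟨2, 0, 0, 0, 0, 0, 0⟩,
    ⟨0, 2, 0, 0, 0, 0, 0⟩,
    ⟨0, 0, 2, 0, 0, 0, 0⟩,
    ⟨0, 0, 0, 0, 2, 0, 0⟩,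
    ⟨0, 0, 0, 2, 0, 0, 0⟩,
    ⟨0, 0, 0, 0, 0, 2, 0⟩,
    ⟨0, 0, 0, 0, 0, 0, 2⟩⟩

def Xbad1 : M7 :=
  ⟨⟨2, 0, 0, 0, 0, 0, 0⟩,
    ⟨0, 2, 0, 0, 0, 0, 0⟩,
    ⟨0, 0, 2, 0, 0, 0, 0⟩,
    ⟨0, 0, 0, 2, 0, 0, 0⟩,
    ⟨0, 0, 0, 0, 2, 0, 0⟩,
    ⟨0, 0, 0, 0, 0, 2, 0⟩,
    ⟨0, 0, 0, 0, 0, 0, 2⟩⟩

def Xbad2 : M7 :=
  ⟨⟨1, 0, 0, 0, 0, 0, 0⟩,
    ⟨0, 1, 0, 0, 0, 0, 0⟩,
    ⟨0, 0, 1, 0, 0, 0, 0⟩,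
    ⟨0, 0, 0, 0, 1, 0, 0⟩,
    ⟨0, 0, 0, 1, 0, 0, 0⟩,
    ⟨0, 0, 0, 0, 0, 1, 0⟩,
    ⟨0, 0, 0, 0, 0, 0, 1⟩⟩

def Ybad0 : M7 :=
  ⟨⟨1, 0, 0, 1, 0, 0, 2⟩,
    ⟨1, 2, 0, 2, 0, 0, 1⟩,
    ⟨0, 0, 2, 0, 0, 0, 0⟩,
    ⟨0, 0, 0, 2, 0, 0, 0⟩,
    ⟨2, 0, 0, 1, 2, 0, 2⟩,
    ⟨0, 0, 0, 0, 0, 2, 0⟩,
    ⟨0, 0, 0, 0, 0, 0, 2⟩⟩

def Ybad1 : M7 :=
  ⟨⟨2, 0, 0, 2, 0, 0, 1⟩,
    ⟨2, 1, 0, 1, 0, 0, 2⟩,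
    ⟨0, 0, 1, 0, 0, 0, 0⟩,
    ⟨0, 0, 0, 1, 0, 0, 0⟩,
    ⟨1, 0, 0, 2, 1, 0, 1⟩,
    ⟨0, 0, 0, 0, 0, 1, 0⟩,
    ⟨0, 0, 0, 0, 0, 0, 1⟩⟩

def Ybad2 : M7 :=
  ⟨⟨2, 0, 0, 0, 0, 0, 0⟩,
    ⟨2, 1, 0, 2, 0, 0, 1⟩,
    ⟨0, 1, 2, 0, 1, 0, 0⟩,
    ⟨0, 0, 0, 2, 0, 2, 0⟩,
    ⟨1, 0, 0, 1, 1, 0, 2⟩,
    ⟨0, 0, 0, 0, 0, 1, 0⟩,
    ⟨0, 0, 0, 0, 0, 2, 2⟩⟩

def Ybad3 : M7 :=
  ⟨⟨2, 0, 0, 2, 0, 0, 1⟩,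
    ⟨0, 2, 0, 2, 0, 0, 1⟩,
    ⟨0, 2, 1, 0, 2, 0, 0⟩,
    ⟨0, 0, 0, 1, 0, 1, 0⟩,
    ⟨0, 0, 0, 1, 2, 0, 2⟩,
    ⟨0, 0, 0, 0, 0, 2, 0⟩,
    ⟨0, 0, 0, 0, 0, 1, 1⟩⟩

def Ybad4 : M7 :=
  ⟨⟨2, 0, 0, 0, 0, 0, 0⟩,
    ⟨0, 2, 0, 0, 0, 0, 0⟩,
    ⟨0, 0, 2, 0, 0, 0, 0⟩,
    ⟨0, 0, 0, 2, 0, 0, 0⟩,
    ⟨0, 0, 0, 0, 2, 0, 0⟩,
    ⟨0, 0, 0, 0, 0, 2, 0⟩,
    ⟨0, 0, 0, 0, 0, 0, 2⟩⟩

def Ybad5 : M7 :=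
  ⟨⟨1, 0, 0, 0, 0, 0, 0⟩,
    ⟨1, 2, 0, 1, 0, 0, 2⟩,
    ⟨0, 2, 1, 0, 2, 0, 0⟩,
    ⟨0, 0, 0, 1, 0, 1, 0⟩,
    ⟨2, 0, 0, 2, 2, 0, 1⟩,
    ⟨0, 0, 0, 0, 0, 2, 0⟩,
    ⟨0, 0, 0, 0, 0, 1, 1⟩⟩

def Ybad6 : M7 :=
  ⟨⟨1, 0, 0, 1, 0, 0, 2⟩,
    ⟨0, 1, 0, 1, 0, 0, 2⟩,
    ⟨0, 1, 2, 0, 1, 0, 0⟩,
    ⟨0, 0, 0, 2, 0, 2, 0⟩,
    ⟨0, 0, 0, 2, 1, 0, 1⟩,
    ⟨0, 0, 0, 0, 0, 1, 0⟩,
    ⟨0, 0, 0, 0, 0, 2, 2⟩⟩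

/-- structure constants of the bracket on the short-root ideal: `brT[i][j]` is `[b_i, b_j]` -/
def brT : List (List (List ℕ)) :=
  [[[0, 0, 0, 0, 0, 0, 0], [0, 2, 0, 0, 0, 0, 0], [0, 0, 1, 0, 0, 0, 0], [0, 0, 0, 1, 0, 0, 0], [0, 0, 0, 0, 2, 0, 0], [0, 0, 0, 0, 0, 2, 0], [0, 0, 0, 0, 0, 0, 1]],
   [[0, 1, 0, 0, 0, 0, 0], [0, 0, 0, 0, 0, 0, 0], [0, 0, 0, 0, 0, 0, 0], [0, 0, 0, 0, 0, 0, 0], [0, 0, 1, 0, 0, 0, 0], [0, 0, 0, 2, 0, 0, 0], [1, 0, 0, 0, 0, 0, 0]],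
   [[0, 0, 2, 0, 0, 0, 0], [0, 0, 0, 0, 0, 0, 0], [0, 0, 0, 0, 0, 0, 0], [0, 1, 0, 0, 0, 0, 0], [0, 0, 0, 0, 0, 0, 0], [2, 0, 0, 0, 0, 0, 0], [0, 0, 0, 0, 2, 0, 0]],
   [[0, 0, 0, 2, 0, 0, 0], [0, 0, 0, 0, 0, 0, 0], [0, 2, 0, 0, 0, 0, 0], [0, 0, 0, 0, 0, 0, 0], [2, 0, 0, 0, 0, 0, 0], [0, 0, 0, 0, 0, 0, 0], [0, 0, 0, 0, 0, 1, 0]],
   [[0, 0, 0, 0, 1, 0, 0], [0, 0, 2, 0, 0, 0, 0], [0, 0, 0, 0, 0, 0, 0], [1, 0, 0, 0, 0, 0, 0], [0, 0, 0, 0, 0, 0, 0], [0, 0, 0, 0, 0, 0, 1], [0, 0, 0, 0, 0, 0, 0]],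
   [[0, 0, 0, 0, 0, 1, 0], [0, 0, 0, 1, 0, 0, 0], [1, 0, 0, 0, 0, 0, 0], [0, 0, 0, 0, 0, 0, 0], [0, 0, 0, 0, 0, 0, 2], [0, 0, 0, 0, 0, 0, 0], [0, 0, 0, 0, 0, 0, 0]],
   [[0, 0, 0, 0, 0, 0, 2], [2, 0, 0, 0, 0, 0, 0], [0, 0, 0, 0, 1, 0, 0], [0, 0, 0, 0, 0, 2, 0], [0, 0, 0, 0, 0, 0, 0], [0, 0, 0, 0, 0, 0, 0], [0, 0, 0, 0, 0, 0, 0]]]
/-! ### exhaustive search over reduced coefficient rows -/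

def allB (f : ℕ → Bool) : Bool := f 0 && f 1 && f 2

theorem allB_spec {f : ℕ → Bool} (h : allB f = true) {n : ℕ} (hn : n < 3) : f n = true := by
  simp only [allB, Bool.and_eq_true] at h
  interval_cases n
  · exact h.1.1
  · exact h.1.2
  · exact h.2

def allR7 (f : R7 → Bool) : Bool :=
  allB fun a0 => allB fun a1 => allB fun a2 => allB fun a3 => allB fun a4 => allB fun a5 =>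
    allB fun a6 => f ⟨a0, a1, a2, a3, a4, a5, a6⟩

theorem allR7_spec {f : R7 → Bool} (h : allR7 f = true) (a : R7) (ha : a.Red) : f a = true := by
  obtain ⟨a0, a1, a2, a3, a4, a5, a6⟩ := a
  obtain ⟨h0, h1, h2, h3, h4, h5, h6⟩ := ha
  exact allB_spec (allB_spec (allB_spec (allB_spec (allB_spec (allB_spec (allB_spec h h0) h1) h2)
    h3) h4) h5) h6

/-- the part of `allR7` with the first two coefficients fixed -/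
def allR5 (a0 a1 : ℕ) (f : R7 → Bool) : Bool :=
  allB fun a2 => allB fun a3 => allB fun a4 => allB fun a5 => allB fun a6 =>
    f ⟨a0, a1, a2, a3, a4, a5, a6⟩

/-- `allR7` from its nine parts (each part is a separate, smaller kernel evaluation) -/
theorem allR7_of_parts {f : R7 → Bool}
    (h00 : allR5 0 0 f = true) (h01 : allR5 0 1 f = true) (h02 : allR5 0 2 f = true)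
    (h10 : allR5 1 0 f = true) (h11 : allR5 1 1 f = true) (h12 : allR5 1 2 f = true)
    (h20 : allR5 2 0 f = true) (h21 : allR5 2 1 f = true) (h22 : allR5 2 2 f = true) :
    allR7 f = true := by
  have e : allR7 f = ((allR5 0 0 f && allR5 0 1 f && allR5 0 2 f) &&
      (allR5 1 0 f && allR5 1 1 f && allR5 1 2 f) &&
      (allR5 2 0 f && allR5 2 1 f && allR5 2 2 f)) := rfl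
  rw [e, h00, h01, h02, h10, h11, h12, h20, h21, h22]
  rfl

/-! ### polynomials in a matrix, given the table of its powers -/

/-- the `i`-th rows of seven matrices -/
def slice (P0 P1 P2 P3 P4 P5 P6 : M7) (i : Fin 7) : M7 :=
  ⟨P0.row i, P1.row i, P2.row i, P3.row i, P4.row i, P5.row i, P6.row i⟩

/-- `a₀ P₀ + ⋯ + a₆ P₆` -/
def poly (P0 P1 P2 P3 P4 P5 P6 : M7) (a : R7) : M7 :=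
  ⟨a.mulM (slice P0 P1 P2 P3 P4 P5 P6 0), a.mulM (slice P0 P1 P2 P3 P4 P5 P6 1),
   a.mulM (slice P0 P1 P2 P3 P4 P5 P6 2), a.mulM (slice P0 P1 P2 P3 P4 P5 P6 3),
   a.mulM (slice P0 P1 P2 P3 P4 P5 P6 4), a.mulM (slice P0 P1 P2 P3 P4 P5 P6 5),
   a.mulM (slice P0 P1 P2 P3 P4 P5 P6 6)⟩

theorem red_poly (P0 P1 P2 P3 P4 P5 P6 : M7) (a : R7) : (poly P0 P1 P2 P3 P4 P5 P6 a).Red :=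
  ⟨R7.red_mulM _ _, R7.red_mulM _ _, R7.red_mulM _ _, R7.red_mulM _ _, R7.red_mulM _ _,
    R7.red_mulM _ _, R7.red_mulM _ _⟩

theorem toMat_poly (P0 P1 P2 P3 P4 P5 P6 : M7) (a : R7) :
    (poly P0 P1 P2 P3 P4 P5 P6 a).toMat =
      ((a.a0 : ℕ) : ZMod 3) • P0.toMat + ((a.a1 : ℕ) : ZMod 3) • P1.toMat +
      ((a.a2 : ℕ) : ZMod 3) • P2.toMat + ((a.a3 : ℕ) : ZMod 3) • P3.toMat +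
      ((a.a4 : ℕ) : ZMod 3) • P4.toMat + ((a.a5 : ℕ) : ZMod 3) • P5.toMat +
      ((a.a6 : ℕ) : ZMod 3) • P6.toMat := by
  ext i j
  have h : (poly P0 P1 P2 P3 P4 P5 P6 a).toMat i = (a.mulM (slice P0 P1 P2 P3 P4 P5 P6 i)).toVec := by
    fin_cases i <;> rfl
  rw [h, R7.toVec_mulM]
  simp only [Matrix.vecMul, dotProduct, Fin.sum_univ_seven, Matrix.add_apply, Matrix.smul_apply,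
    smul_eq_mul]
  rfl

/-- the matrix whose `j`-th column is the fourth column of `P_j` -/
def colM (P0 P1 P2 P3 P4 P5 P6 : M7) : M7 :=
  ⟨⟨P0.r0.a3, P1.r0.a3, P2.r0.a3, P3.r0.a3, P4.r0.a3, P5.r0.a3, P6.r0.a3⟩,
   ⟨P0.r1.a3, P1.r1.a3, P2.r1.a3, P3.r1.a3, P4.r1.a3, P5.r1.a3, P6.r1.a3⟩,
   ⟨P0.r2.a3, P1.r2.a3, P2.r2.a3, P3.r2.a3, P4.r2.a3, P5.r2.a3, P6.r2.a3⟩,
   ⟨P0.r3.a3, P1.r3.a3, P2.r3.a3, P3.r3.a3, P4.r3.a3, P5.r3.a3, P6.r3.a3⟩,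
   ⟨P0.r4.a3, P1.r4.a3, P2.r4.a3, P3.r4.a3, P4.r4.a3, P5.r4.a3, P6.r4.a3⟩,
   ⟨P0.r5.a3, P1.r5.a3, P2.r5.a3, P3.r5.a3, P4.r5.a3, P5.r5.a3, P6.r5.a3⟩,
   ⟨P0.r6.a3, P1.r6.a3, P2.r6.a3, P3.r6.a3, P4.r6.a3, P5.r6.a3, P6.r6.a3⟩⟩

theorem exists_poly_of_commute (P0 P1 P2 P3 P4 P5 P6 cQ : M7)
    (X : Matrix (Fin 7) (Fin 7) (ZMod 3))
    (h0 : P0.toMat = 1) (h1 : P1.toMat = X) (h2 : P2.toMat = X ^ 2) (h3 : P3.toMat = X ^ 3)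
    (h4 : P4.toMat = X ^ 4) (h5 : P5.toMat = X ^ 5) (h6 : P6.toMat = X ^ 6)
    (hQ : (colM P0 P1 P2 P3 P4 P5 P6).mul cQ = M7.one)
    (C : Matrix (Fin 7) (Fin 7) (ZMod 3)) (hC : C * X = X * C) :
    ∃ a : R7, a.Red ∧ C = (poly P0 P1 P2 P3 P4 P5 P6 a).toMat := by
  have hPQ : (colM P0 P1 P2 P3 P4 P5 P6).toMat * cQ.toMat = 1 := by
    rw [← M7.toMat_mul, hQ, M7.toMat_one]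
  have hP : ∀ i j : Fin 7, (colM P0 P1 P2 P3 P4 P5 P6).toMat i j =
      ((X ^ (j : ℕ)).mulVec (Pi.single 3 1)) i := by
    intro i j
    rw [Matrix.mulVec_single_one]
    fin_cases j
    · show _ = (X ^ 0) i 3
      rw [pow_zero, ← h0]; fin_cases i <;> rfl
    · show _ = (X ^ 1) i 3
      rw [pow_one, ← h1]; fin_cases i <;> rfl
    · show _ = (X ^ 2) i 3
      rw [← h2]; fin_cases i <;> rfl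
    · show _ = (X ^ 3) i 3
      rw [← h3]; fin_cases i <;> rfl
    · show _ = (X ^ 4) i 3
      rw [← h4]; fin_cases i <;> rfl
    · show _ = (X ^ 5) i 3
      rw [← h5]; fin_cases i <;> rfl
    · show _ = (X ^ 6) i 3
      rw [← h6]; fin_cases i <;> rfl
  have key := commutant_cyclic X _ _ (Pi.single 3 1) hP hPQ C hC
  have hex : ∀ z : ZMod 3, ∃ n : ℕ, n < 3 ∧ ((n : ℕ) : ZMod 3) = z :=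
    fun z => ⟨z.val, ZMod.val_lt z, ZMod.natCast_zmod_val z⟩
  generalize cQ.toMat.mulVec (C.mulVec (Pi.single 3 1)) = b at key
  obtain ⟨n0, l0, e0⟩ := hex (b 0)
  obtain ⟨n1, l1, e1⟩ := hex (b 1)
  obtain ⟨n2, l2, e2⟩ := hex (b 2)
  obtain ⟨n3, l3, e3⟩ := hex (b 3)
  obtain ⟨n4, l4, e4⟩ := hex (b 4)
  obtain ⟨n5, l5, e5⟩ := hex (b 5)
  obtain ⟨n6, l6, e6⟩ := hex (b 6)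
  refine ⟨⟨n0, n1, n2, n3, n4, n5, n6⟩, ?_, ?_⟩
  · unfold R7.Red
    exact ⟨l0, l1, l2, l3, l4, l5, l6⟩
  · rw [toMat_poly, h0, h1, h2, h3, h4, h5, h6]
    show C = (n0 : ZMod 3) • (1 : Matrix (Fin 7) (Fin 7) (ZMod 3)) + (n1 : ZMod 3) • X +
      (n2 : ZMod 3) • X ^ 2 + (n3 : ZMod 3) • X ^ 3 + (n4 : ZMod 3) • X ^ 4 +
      (n5 : ZMod 3) • X ^ 5 + (n6 : ZMod 3) • X ^ 6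
    rw [e0, e1, e2, e3, e4, e5, e6, key, Fin.sum_univ_seven]
    simp

/-! ### the three tests -/

/-- `C³ = 1 → C = 1` -/
def chk3 (C : M7) : Bool :=
  !(decide ((C.mul C).mul C = M7.one)) || decide (C = M7.one)

/-- `C⁷ = 1 → C = 1` -/
def chk7 (C : M7) : Bool :=
  let C3 := (C.mul C).mul C
  !(decide (((C3.mul C3).mul C) = M7.one)) || decide (C = M7.one)

/-- `C² = 1 → C = 1` or `C` is in the list -/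
def chk2 (bads : List M7) (C : M7) : Bool :=
  !(decide (C.mul C = M7.one)) || decide (C = M7.one) || decide (C ∈ bads)

theorem chk3_sound {C : M7} (h : chk3 C = true) (h3 : C.toMat ^ 3 = 1) : C.toMat = 1 := by
  have e : ((C.mul C).mul C).toMat = M7.one.toMat := by
    rw [M7.toMat_mul, M7.toMat_mul, M7.toMat_one, ← h3]; noncomm_ring
  have e' := M7.eq_of_toMat_eq (M7.red_mul _ _) M7.red_one e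
  simp only [chk3, e', decide_true, Bool.not_true, Bool.false_or, decide_eq_true_eq] at h
  rw [h, M7.toMat_one]

theorem chk7_sound {C : M7} (h : chk7 C = true) (h7 : C.toMat ^ 7 = 1) : C.toMat = 1 := by
  have e : (((((C.mul C).mul C).mul ((C.mul C).mul C)).mul C)).toMat = M7.one.toMat := by
    simp only [M7.toMat_mul]
    rw [M7.toMat_one, ← h7]; noncomm_ring
  have e' := M7.eq_of_toMat_eq (M7.red_mul _ _) M7.red_one e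
  simp only [chk7, e', decide_true, Bool.not_true, Bool.false_or, decide_eq_true_eq] at h
  rw [h, M7.toMat_one]

theorem chk2_sound {bads : List M7} {C : M7} (h : chk2 bads C = true) (h2 : C.toMat ^ 2 = 1) :
    C.toMat = 1 ∨ C ∈ bads := by
  have e : (C.mul C).toMat = M7.one.toMat := by
    rw [M7.toMat_mul, M7.toMat_one, ← h2, pow_two]
  have e' := M7.eq_of_toMat_eq (M7.red_mul _ _) M7.red_one e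
  simp only [chk2, e', decide_true, Bool.not_true, Bool.false_or, Bool.or_eq_true,
    decide_eq_true_eq] at h
  rcases h with h | h
  · left; rw [h, M7.toMat_one]
  · right; exact h


/-! ### the element `X` of order 7 -/

theorem XP2_eq : XP2 = XP1.mul XP1 := by decide +kernel
theorem XP3_eq : XP3 = XP2.mul XP1 := by decide +kernel
theorem XP4_eq : XP4 = XP3.mul XP1 := by decide +kernel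
theorem XP5_eq : XP5 = XP4.mul XP1 := by decide +kernel
theorem XP6_eq : XP6 = XP5.mul XP1 := by decide +kernel
theorem XP7_eq : XP6.mul XP1 = M7.one := by decide +kernel

/-- the matrix `X` -/
def XM : Matrix (Fin 7) (Fin 7) (ZMod 3) := XP1.toMat

theorem XP_pow2 : XP2.toMat = XM ^ 2 := by rw [XP2_eq, M7.toMat_mul, pow_two]; rfl
theorem XP_pow3 : XP3.toMat = XM ^ 3 := by rw [XP3_eq, M7.toMat_mul, XP_pow2, pow_succ]; rfl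
theorem XP_pow4 : XP4.toMat = XM ^ 4 := by rw [XP4_eq, M7.toMat_mul, XP_pow3, pow_succ]; rfl
theorem XP_pow5 : XP5.toMat = XM ^ 5 := by rw [XP5_eq, M7.toMat_mul, XP_pow4, pow_succ]; rfl
theorem XP_pow6 : XP6.toMat = XM ^ 6 := by rw [XP6_eq, M7.toMat_mul, XP_pow5, pow_succ]; rfl
theorem XM_pow7 : XM ^ 7 = 1 := by
  rw [pow_succ, ← XP_pow6, ← M7.toMat_one, ← XP7_eq, M7.toMat_mul]; rfl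

theorem XM_ne_one : XM ≠ 1 := by
  intro h
  have := M7.eq_of_toMat_eq (A := XP1) (B := M7.one) (by decide) M7.red_one (by rw [M7.toMat_one]; exact h)
  revert this; decide

/-- polynomials in `X` -/
def polyX (a : R7) : M7 := poly M7.one XP1 XP2 XP3 XP4 XP5 XP6 a

section
set_option Elab.async false

theorem X_enum_00 : allR5 0 0 (fun a => chk3 (polyX a) && chk2 [Xbad0, Xbad1, Xbad2] (polyX a)) = true := by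
  decide +kernel
theorem X_enum_01 : allR5 0 1 (fun a => chk3 (polyX a) && chk2 [Xbad0, Xbad1, Xbad2] (polyX a)) = true := by
  decide +kernel
theorem X_enum_02 : allR5 0 2 (fun a => chk3 (polyX a) && chk2 [Xbad0, Xbad1, Xbad2] (polyX a)) = true := by
  decide +kernel
theorem X_enum_10 : allR5 1 0 (fun a => chk3 (polyX a) && chk2 [Xbad0, Xbad1, Xbad2] (polyX a)) = true := by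
  decide +kernel
theorem X_enum_11 : allR5 1 1 (fun a => chk3 (polyX a) && chk2 [Xbad0, Xbad1, Xbad2] (polyX a)) = true := by
  decide +kernel
theorem X_enum_12 : allR5 1 2 (fun a => chk3 (polyX a) && chk2 [Xbad0, Xbad1, Xbad2] (polyX a)) = true := by
  decide +kernel
theorem X_enum_20 : allR5 2 0 (fun a => chk3 (polyX a) && chk2 [Xbad0, Xbad1, Xbad2] (polyX a)) = true := by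
  decide +kernel
theorem X_enum_21 : allR5 2 1 (fun a => chk3 (polyX a) && chk2 [Xbad0, Xbad1, Xbad2] (polyX a)) = true := by
  decide +kernel
theorem X_enum_22 : allR5 2 2 (fun a => chk3 (polyX a) && chk2 [Xbad0, Xbad1, Xbad2] (polyX a)) = true := by
  decide +kernel

end

theorem X_enum : allR7 (fun a => chk3 (polyX a) && chk2 [Xbad0, Xbad1, Xbad2] (polyX a)) = true :=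
  allR7_of_parts X_enum_00 X_enum_01 X_enum_02 X_enum_10 X_enum_11 X_enum_12 X_enum_20 X_enum_21
    X_enum_22

theorem X_comm (C : Matrix (Fin 7) (Fin 7) (ZMod 3)) (hC : C * XM = XM * C) :
    ∃ a : R7, a.Red ∧ C = (polyX a).toMat :=
  exists_poly_of_commute M7.one XP1 XP2 XP3 XP4 XP5 XP6 XcQ XM M7.toMat_one rfl XP_pow2 XP_pow3
    XP_pow4 XP_pow5 XP_pow6 (by decide +kernel) C hC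

theorem X_cube (C : Matrix (Fin 7) (Fin 7) (ZMod 3)) (hC : C * XM = XM * C) (h3 : C ^ 3 = 1) :
    C = 1 := by
  obtain ⟨a, ha, rfl⟩ := X_comm C hC
  have h := allR7_spec X_enum a ha
  simp only [Bool.and_eq_true] at h
  exact chk3_sound h.1 h3

theorem X_sq (C : Matrix (Fin 7) (Fin 7) (ZMod 3)) (hC : C * XM = XM * C) (h2 : C ^ 2 = 1) :
    C = 1 ∨ C = Xbad0.toMat ∨ C = Xbad1.toMat ∨ C = Xbad2.toMat := by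
  obtain ⟨a, ha, rfl⟩ := X_comm C hC
  have h := allR7_spec X_enum a ha
  simp only [Bool.and_eq_true] at h
  rcases chk2_sound h.2 h2 with h | h
  · exact Or.inl h
  · simp only [List.mem_cons, List.not_mem_nil, or_false] at h
    rcases h with h | h | h
    · right; left; rw [h]
    · right; right; left; rw [h]
    · right; right; right; rw [h]

/-! ### the element `Y` of order 13 -/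

theorem YP2_eq : YP2 = YP1.mul YP1 := by decide +kernel
theorem YP3_eq : YP3 = YP2.mul YP1 := by decide +kernel
theorem YP4_eq : YP4 = YP3.mul YP1 := by decide +kernel
theorem YP5_eq : YP5 = YP4.mul YP1 := by decide +kernel
theorem YP6_eq : YP6 = YP5.mul YP1 := by decide +kernel
theorem YP13_eq : (YP6.mul YP6).mul YP1 = M7.one := by decide +kernel

/-- the matrix `Y` -/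
def YM : Matrix (Fin 7) (Fin 7) (ZMod 3) := YP1.toMat

theorem YP_pow2 : YP2.toMat = YM ^ 2 := by rw [YP2_eq, M7.toMat_mul, pow_two]; rfl
theorem YP_pow3 : YP3.toMat = YM ^ 3 := by rw [YP3_eq, M7.toMat_mul, YP_pow2, pow_succ]; rfl
theorem YP_pow4 : YP4.toMat = YM ^ 4 := by rw [YP4_eq, M7.toMat_mul, YP_pow3, pow_succ]; rfl
theorem YP_pow5 : YP5.toMat = YM ^ 5 := by rw [YP5_eq, M7.toMat_mul, YP_pow4, pow_succ]; rfl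
theorem YP_pow6 : YP6.toMat = YM ^ 6 := by rw [YP6_eq, M7.toMat_mul, YP_pow5, pow_succ]; rfl
theorem YM_pow13 : YM ^ 13 = 1 := by
  have : YM ^ 13 = (YM ^ 6 * YM ^ 6) * YM := by rw [← pow_add, ← pow_succ]
  rw [this, ← YP_pow6, ← M7.toMat_one, ← YP13_eq, M7.toMat_mul, M7.toMat_mul]; rfl

theorem YM_ne_one : YM ≠ 1 := by
  intro h
  have := M7.eq_of_toMat_eq (A := YP1) (B := M7.one) (by decide) M7.red_one (by rw [M7.toMat_one]; exact h)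
  revert this; decide

/-- polynomials in `Y` -/
def polyY (a : R7) : M7 := poly M7.one YP1 YP2 YP3 YP4 YP5 YP6 a

section
set_option Elab.async false

theorem Y_enum_00 : allR5 0 0 (fun a => chk3 (polyY a) && chk7 (polyY a) &&
    chk2 [Ybad0, Ybad1, Ybad2, Ybad3, Ybad4, Ybad5, Ybad6] (polyY a)) = true := by
  decide +kernel
theorem Y_enum_01 : allR5 0 1 (fun a => chk3 (polyY a) && chk7 (polyY a) &&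
    chk2 [Ybad0, Ybad1, Ybad2, Ybad3, Ybad4, Ybad5, Ybad6] (polyY a)) = true := by
  decide +kernel
theorem Y_enum_02 : allR5 0 2 (fun a => chk3 (polyY a) && chk7 (polyY a) &&
    chk2 [Ybad0, Ybad1, Ybad2, Ybad3, Ybad4, Ybad5, Ybad6] (polyY a)) = true := by
  decide +kernel
theorem Y_enum_10 : allR5 1 0 (fun a => chk3 (polyY a) && chk7 (polyY a) &&
    chk2 [Ybad0, Ybad1, Ybad2, Ybad3, Ybad4, Ybad5, Ybad6] (polyY a)) = true := by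
  decide +kernel
theorem Y_enum_11 : allR5 1 1 (fun a => chk3 (polyY a) && chk7 (polyY a) &&
    chk2 [Ybad0, Ybad1, Ybad2, Ybad3, Ybad4, Ybad5, Ybad6] (polyY a)) = true := by
  decide +kernel
theorem Y_enum_12 : allR5 1 2 (fun a => chk3 (polyY a) && chk7 (polyY a) &&
    chk2 [Ybad0, Ybad1, Ybad2, Ybad3, Ybad4, Ybad5, Ybad6] (polyY a)) = true := by
  decide +kernel
theorem Y_enum_20 : allR5 2 0 (fun a => chk3 (polyY a) && chk7 (polyY a) &&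
    chk2 [Ybad0, Ybad1, Ybad2, Ybad3, Ybad4, Ybad5, Ybad6] (polyY a)) = true := by
  decide +kernel
theorem Y_enum_21 : allR5 2 1 (fun a => chk3 (polyY a) && chk7 (polyY a) &&
    chk2 [Ybad0, Ybad1, Ybad2, Ybad3, Ybad4, Ybad5, Ybad6] (polyY a)) = true := by
  decide +kernel
theorem Y_enum_22 : allR5 2 2 (fun a => chk3 (polyY a) && chk7 (polyY a) &&
    chk2 [Ybad0, Ybad1, Ybad2, Ybad3, Ybad4, Ybad5, Ybad6] (polyY a)) = true := by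
  decide +kernel

end

theorem Y_enum : allR7 (fun a => chk3 (polyY a) && chk7 (polyY a) &&
    chk2 [Ybad0, Ybad1, Ybad2, Ybad3, Ybad4, Ybad5, Ybad6] (polyY a)) = true :=
  allR7_of_parts Y_enum_00 Y_enum_01 Y_enum_02 Y_enum_10 Y_enum_11 Y_enum_12 Y_enum_20 Y_enum_21
    Y_enum_22

theorem Y_comm (C : Matrix (Fin 7) (Fin 7) (ZMod 3)) (hC : C * YM = YM * C) :
    ∃ a : R7, a.Red ∧ C = (polyY a).toMat :=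
  exists_poly_of_commute M7.one YP1 YP2 YP3 YP4 YP5 YP6 YcQ YM M7.toMat_one rfl YP_pow2 YP_pow3
    YP_pow4 YP_pow5 YP_pow6 (by decide +kernel) C hC

theorem Y_cube (C : Matrix (Fin 7) (Fin 7) (ZMod 3)) (hC : C * YM = YM * C) (h3 : C ^ 3 = 1) :
    C = 1 := by
  obtain ⟨a, ha, rfl⟩ := Y_comm C hC
  have h := allR7_spec Y_enum a ha
  simp only [Bool.and_eq_true] at h
  exact chk3_sound h.1.1 h3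

theorem Y_seven (C : Matrix (Fin 7) (Fin 7) (ZMod 3)) (hC : C * YM = YM * C) (h7 : C ^ 7 = 1) :
    C = 1 := by
  obtain ⟨a, ha, rfl⟩ := Y_comm C hC
  have h := allR7_spec Y_enum a ha
  simp only [Bool.and_eq_true] at h
  exact chk7_sound h.1.2 h7

theorem Y_sq (C : Matrix (Fin 7) (Fin 7) (ZMod 3)) (hC : C * YM = YM * C) (h2 : C ^ 2 = 1) :
    C = 1 ∨ C ∈ [Ybad0.toMat, Ybad1.toMat, Ybad2.toMat, Ybad3.toMat, Ybad4.toMat, Ybad5.toMat,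
      Ybad6.toMat] := by
  obtain ⟨a, ha, rfl⟩ := Y_comm C hC
  have h := allR7_spec Y_enum a ha
  simp only [Bool.and_eq_true] at h
  rcases chk2_sound h.2 h2 with h | h
  · exact Or.inl h
  · right
    simp only [List.mem_cons, List.not_mem_nil, or_false] at h ⊢
    rcases h with h | h | h | h | h | h | h <;> rw [h] <;> simp

/-! ### the element `Z` of order 6 -/

/-- the matrix `Z` -/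
def ZM : Matrix (Fin 7) (Fin 7) (ZMod 3) := ZP1.toMat

theorem ZP6_eq : ((ZP1.mul ZP1).mul ZP1).mul ((ZP1.mul ZP1).mul ZP1) = M7.one := by decide +kernel

theorem ZM_pow6 : ZM ^ 6 = 1 := by
  have : ZM ^ 6 = ((ZM * ZM) * ZM) * ((ZM * ZM) * ZM) := by noncomm_ring
  rw [this, ← M7.toMat_one, ← ZP6_eq]
  simp only [M7.toMat_mul]; rfl

theorem ZM_pow2 : ZM ^ 2 ≠ 1 := by
  intro h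
  have := M7.eq_of_toMat_eq (A := ZP1.mul ZP1) (B := M7.one) (M7.red_mul _ _) M7.red_one
    (by rw [M7.toMat_one, M7.toMat_mul, ← h, pow_two]; rfl)
  revert this; decide +kernel

theorem ZM_pow3 : ZM ^ 3 ≠ 1 := by
  intro h
  have := M7.eq_of_toMat_eq (A := (ZP1.mul ZP1).mul ZP1) (B := M7.one) (M7.red_mul _ _) M7.red_one
    (by rw [M7.toMat_one, M7.toMat_mul, M7.toMat_mul, ← h]; show ZM * ZM * ZM = _; noncomm_ring)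
  revert this; decide +kernel

end Cfsg.Agent.Helper8.G2
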