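import Cfsg.Agent.Helper8.G2B

/-!
Helper8 / G2: the bracket on the 7-dimensional short-root ideal and the matrices preserving it.
-/

set_option autoImplicit false

namespace Cfsg.Agent.Helper8.G2

/-- structure constants of the bracket, as naturals -/
def brN (i j l : Fin 7) : ℕ := ((brT.getD i []).getD j []).getD l 0

/-- structure constants of the bracket -/
def brC (i j l : Fin 7) : ZMod 3 := ((brN i j l : ℕ) : ZMod 3)

/-- the bracket -/
def br (u v : Fin 7 → ZMod 3) : Fin 7 → ZMod 3 := fun l => ∑ i, ∑ j, brC i j l * u i * v j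

/-- `A` preserves the bracket -/
def Pres (A : Matrix (Fin 7) (Fin 7) (ZMod 3)) : Prop :=
  ∀ u v, A.mulVec (br u v) = br (A.mulVec u) (A.mulVec v)

/-- `A` preserves the bracket on the standard basis -/
def PresB (A : Matrix (Fin 7) (Fin 7) (ZMod 3)) : Prop :=
  ∀ i j l : Fin 7, ∑ k, A l k * brC i j k = ∑ a, ∑ b, brC a b l * A a i * A b j

instance (A : Matrix (Fin 7) (Fin 7) (ZMod 3)) : Decidable (PresB A) := by
  unfold PresB; infer_instance

theorem Pres.mul {A B : Matrix (Fin 7) (Fin 7) (ZMod 3)} (hA : Pres A) (hB : Pres B) :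
    Pres (A * B) := by
  intro u v
  rw [← Matrix.mulVec_mulVec, hB, hA, Matrix.mulVec_mulVec, Matrix.mulVec_mulVec]

theorem pres_one : Pres 1 := by
  intro u v; simp

theorem br_single (i j : Fin 7) : br (Pi.single i 1) (Pi.single j 1) = fun k => brC i j k := by
  funext k
  simp [br, Pi.single_apply]

/-- the bracket as a bilinear map -/
def brL : (Fin 7 → ZMod 3) →ₗ[ZMod 3] (Fin 7 → ZMod 3) →ₗ[ZMod 3] (Fin 7 → ZMod 3) :=
  LinearMap.mk₂ (ZMod 3) br
    (fun u u' v => by
      funext l
      simp only [br, Pi.add_apply, mul_add, add_mul, Finset.sum_add_distrib])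
    (fun c u v => by
      funext l
      simp only [br, Pi.smul_apply, smul_eq_mul, Finset.mul_sum]
      refine Finset.sum_congr rfl fun i _ => Finset.sum_congr rfl fun j _ => ?_
      ring)
    (fun u v v' => by
      funext l
      simp only [br, Pi.add_apply, mul_add, Finset.sum_add_distrib])
    (fun c u v => by
      funext l
      simp only [br, Pi.smul_apply, smul_eq_mul, Finset.mul_sum]
      refine Finset.sum_congr rfl fun i _ => Finset.sum_congr rfl fun j _ => ?_
      ring)

theorem brL_apply (u v : Fin 7 → ZMod 3) : brL u v = br u v := rfl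

theorem presB_of_pres {A : Matrix (Fin 7) (Fin 7) (ZMod 3)} (h : Pres A) : PresB A := by
  intro i j l
  have := congrFun (h (Pi.single i 1) (Pi.single j 1)) l
  rw [br_single, Matrix.mulVec_single_one, Matrix.mulVec_single_one] at this
  simpa [Matrix.mulVec, dotProduct, br] using this

theorem pres_of_presB {A : Matrix (Fin 7) (Fin 7) (ZMod 3)} (h : PresB A) : Pres A := by
  have key : brL.compr₂ (Matrix.toLin' A) = brL.compl₁₂ (Matrix.toLin' A) (Matrix.toLin' A) := by
    apply LinearMap.pi_ext'
    intro i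
    apply LinearMap.ext_ring
    apply LinearMap.pi_ext'
    intro j
    apply LinearMap.ext_ring
    funext l
    have := h i j l
    simp only [LinearMap.compr₂_apply, LinearMap.compl₁₂_apply, LinearMap.coe_comp,
      LinearMap.coe_single, Function.comp_apply, brL_apply, Matrix.toLin'_apply, br_single,
      Matrix.mulVec_single_one]
    simpa [Matrix.mulVec, dotProduct, br] using this
  intro u v
  have := LinearMap.congr_fun₂ key u v
  simpa [brL_apply] using this

/-- a sum over `Fin 7` that the kernel evaluates quickly -/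
def lsum (f : Fin 7 → ℕ) : ℕ := ((List.finRange 7).map f).sum

theorem lsum_eq (f : Fin 7 → ℕ) : lsum f = ∑ i, f i := (Fin.sum_univ_def f).symm

/-- `PresB` for a matrix given by naturals, checked modulo 3 -/
def PresN (A : M7) : Prop :=
  ∀ i j l : Fin 7, (lsum fun k => (A.row l).get k * brN i j k) % 3 =
    (lsum fun a => lsum fun b => brN a b l * (A.row a).get i * (A.row b).get j) % 3

instance (A : M7) : Decidable (PresN A) := by
  unfold PresN; infer_instance

theorem presB_iff_presN (A : M7) : PresB A.toMat ↔ PresN A := by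
  unfold PresB PresN
  refine forall_congr' fun i => forall_congr' fun j => forall_congr' fun l => ?_
  simp only [lsum_eq]
  rw [← ZMod.natCast_eq_natCast_iff']
  simp only [Nat.cast_sum, Nat.cast_mul]
  rfl

/-! the twelve root directions are checked one at a time (and one after the other), which keeps
the memory of each kernel evaluation small -/
section
set_option Elab.async false

theorem gen_presN_0 : ∀ t : Fin 3, PresN (genData 0 t) := by decide +kernel
theorem gen_presN_1 : ∀ t : Fin 3, PresN (genData 1 t) := by decide +kernel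
theorem gen_presN_2 : ∀ t : Fin 3, PresN (genData 2 t) := by decide +kernel
theorem gen_presN_3 : ∀ t : Fin 3, PresN (genData 3 t) := by decide +kernel
theorem gen_presN_4 : ∀ t : Fin 3, PresN (genData 4 t) := by decide +kernel
theorem gen_presN_5 : ∀ t : Fin 3, PresN (genData 5 t) := by decide +kernel
theorem gen_presN_6 : ∀ t : Fin 3, PresN (genData 6 t) := by decide +kernel
theorem gen_presN_7 : ∀ t : Fin 3, PresN (genData 7 t) := by decide +kernel
theorem gen_presN_8 : ∀ t : Fin 3, PresN (genData 8 t) := by decide +kernel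
theorem gen_presN_9 : ∀ t : Fin 3, PresN (genData 9 t) := by decide +kernel
theorem gen_presN_10 : ∀ t : Fin 3, PresN (genData 10 t) := by decide +kernel
theorem gen_presN_11 : ∀ t : Fin 3, PresN (genData 11 t) := by decide +kernel

end

theorem gen_presN : ∀ r : Fin 12, ∀ t : Fin 3, PresN (genData r t)
  | ⟨0, _⟩ => gen_presN_0
  | ⟨1, _⟩ => gen_presN_1
  | ⟨2, _⟩ => gen_presN_2
  | ⟨3, _⟩ => gen_presN_3
  | ⟨4, _⟩ => gen_presN_4
  | ⟨5, _⟩ => gen_presN_5
  | ⟨6, _⟩ => gen_presN_6
  | ⟨7, _⟩ => gen_presN_7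
  | ⟨8, _⟩ => gen_presN_8
  | ⟨9, _⟩ => gen_presN_9
  | ⟨10, _⟩ => gen_presN_10
  | ⟨11, _⟩ => gen_presN_11
  | ⟨n + 12, h⟩ => absurd h (by omega)

theorem gen_pres (r t : ℕ) (hr : r < 12) (ht : t < 3) : Pres (genData r t).toMat :=
  pres_of_presB ((presB_iff_presN _).2 (gen_presN ⟨r, hr⟩ ⟨t, ht⟩))

theorem Xbad_not_pres : ¬ Pres Xbad0.toMat ∧ ¬ Pres Xbad1.toMat ∧ ¬ Pres Xbad2.toMat := by
  have h : ¬ PresN Xbad0 ∧ ¬ PresN Xbad1 ∧ ¬ PresN Xbad2 := by decide +kernel
  exact ⟨fun h' => h.1 ((presB_iff_presN _).1 (presB_of_pres h')),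
    fun h' => h.2.1 ((presB_iff_presN _).1 (presB_of_pres h')),
    fun h' => h.2.2 ((presB_iff_presN _).1 (presB_of_pres h'))⟩

theorem Ybad_not_pres : ∀ C ∈ [Ybad0.toMat, Ybad1.toMat, Ybad2.toMat, Ybad3.toMat, Ybad4.toMat,
    Ybad5.toMat, Ybad6.toMat], ¬ Pres C := by
  have h : ∀ C ∈ [Ybad0, Ybad1, Ybad2, Ybad3, Ybad4, Ybad5, Ybad6], ¬ PresN C := by
    decide +kernel
  intro C hC h'
  simp only [List.mem_cons, List.not_mem_nil, or_false] at hC
  rcases hC with rfl | rfl | rfl | rfl | rfl | rfl | rfl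
  · exact h Ybad0 (by simp) ((presB_iff_presN _).1 (presB_of_pres h'))
  · exact h Ybad1 (by simp) ((presB_iff_presN _).1 (presB_of_pres h'))
  · exact h Ybad2 (by simp) ((presB_iff_presN _).1 (presB_of_pres h'))
  · exact h Ybad3 (by simp) ((presB_iff_presN _).1 (presB_of_pres h'))
  · exact h Ybad4 (by simp) ((presB_iff_presN _).1 (presB_of_pres h'))
  · exact h Ybad5 (by simp) ((presB_iff_presN _).1 (presB_of_pres h'))
  · exact h Ybad6 (by simp) ((presB_iff_presN _).1 (presB_of_pres h'))

/-- an involution commuting with `X` and preserving the bracket is trivial -/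
theorem X_sq_pres (C : Matrix (Fin 7) (Fin 7) (ZMod 3)) (hC : C * XM = XM * C) (h2 : C ^ 2 = 1)
    (hp : Pres C) : C = 1 := by
  rcases X_sq C hC h2 with h | h | h | h
  · exact h
  · exact absurd (h ▸ hp) Xbad_not_pres.1
  · exact absurd (h ▸ hp) Xbad_not_pres.2.1
  · exact absurd (h ▸ hp) Xbad_not_pres.2.2

/-- an involution commuting with `Y` and preserving the bracket is trivial -/
theorem Y_sq_pres (C : Matrix (Fin 7) (Fin 7) (ZMod 3)) (hC : C * YM = YM * C) (h2 : C ^ 2 = 1)
    (hp : Pres C) : C = 1 := by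
  rcases Y_sq C hC h2 with h | h
  · exact h
  · exact absurd hp (Ybad_not_pres C h)

end Cfsg.Agent.Helper8.G2
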