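import Cfsg.Agent.Helper8.G2Br
import Cfsg.Agent.S1055
import Cfsg.Agent.S1059
import Cfsg.Agent.S1023
import Cfsg.Agent.S1024
import Cfsg.Agent.Helper18.Core

/-!
Helper8 / G2: the Chevalley group `G₂(3)` (adjoint, 14-dimensional) acts on the 7-dimensional ideal of
short roots; this action is faithful (the group is simple) and preserves the bracket.
-/

set_option autoImplicit false

open Cfsg Cfsg.Lie

namespace Cfsg.Agent.Helper8.G2

/-- the field with three elements -/
abbrev K3 : Type := ZMod 3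

/-- the coordinates of the short-root ideal -/
def Sidx : Fin 7 → chevG2.Idx
  | ⟨0, _⟩ => Sum.inl ⟨0, by decide⟩
  | ⟨1, _⟩ => Sum.inr ⟨2, by decide⟩
  | ⟨2, _⟩ => Sum.inr ⟨3, by decide⟩
  | ⟨3, _⟩ => Sum.inr ⟨4, by decide⟩
  | ⟨4, _⟩ => Sum.inr ⟨7, by decide⟩
  | ⟨5, _⟩ => Sum.inr ⟨8, by decide⟩
  | ⟨6, _⟩ => Sum.inr ⟨9, by decide⟩

theorem Sidx_injective : Function.Injective Sidx := by decide

/-- the ideal is invariant -/
def InvI (M : Matrix chevG2.Idx chevG2.Idx K3) : Prop :=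
  ∀ i, (∀ m, Sidx m ≠ i) → ∀ j, M i (Sidx j) = 0

instance (M : Matrix chevG2.Idx chevG2.Idx K3) : Decidable (InvI M) := by
  unfold InvI; infer_instance

/-- the action on the ideal -/
def rho (M : Matrix chevG2.Idx chevG2.Idx K3) : Matrix (Fin 7) (Fin 7) K3 := M.submatrix Sidx Sidx

theorem mul_apply_Sidx {A B : Matrix chevG2.Idx chevG2.Idx K3} (hB : InvI B) (i : chevG2.Idx)
    (j : Fin 7) : (A * B) i (Sidx j) = ∑ m, A i (Sidx m) * B (Sidx m) (Sidx j) := by
  rw [Matrix.mul_apply]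
  symm
  refine Finset.sum_of_injOn Sidx Sidx_injective.injOn (by simp) ?_ (fun m _ => rfl)
  intro k _ hk
  rw [hB k (fun m hm => hk ⟨m, by simp, hm⟩), mul_zero]

theorem InvI.mul {A B : Matrix chevG2.Idx chevG2.Idx K3} (hA : InvI A) (hB : InvI B) :
    InvI (A * B) := by
  intro i hi j
  rw [mul_apply_Sidx hB]
  exact Finset.sum_eq_zero fun m _ => by rw [hA i hi m, zero_mul]

theorem rho_mul {A B : Matrix chevG2.Idx chevG2.Idx K3} (hB : InvI B) :
    rho (A * B) = rho A * rho B := by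
  ext i j
  rw [Matrix.mul_apply]
  exact mul_apply_Sidx hB (Sidx i) j

theorem invI_one : InvI 1 := fun i hi j => Matrix.one_apply_ne (fun h => hi j h.symm)

theorem rho_one : rho 1 = 1 := by
  ext i j
  simp [rho, Matrix.one_apply, Sidx_injective.eq_iff]

set_option maxRecDepth 100000 in
theorem gen_ok : ∀ (r : Fin chevG2.nroots) (t : K3),
    InvI (chevG2.xMat K3 r t) ∧ rho (chevG2.xMat K3 r t) = (genData r.val t.val).toMat := by
  decide +kernel

/-- invariance of the ideal and of the bracket -/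
def Good (g : GL chevG2.Idx K3) : Prop :=
  InvI (g : Matrix chevG2.Idx chevG2.Idx K3) ∧ Pres (rho (g : Matrix chevG2.Idx chevG2.Idx K3))

theorem good_gen (g : GL chevG2.Idx K3) (r : Fin chevG2.nroots) (t : K3)
    (hg : (g : Matrix chevG2.Idx chevG2.Idx K3) = chevG2.xMat K3 r t) : Good g := by
  refine ⟨hg ▸ (gen_ok r t).1, ?_⟩
  rw [hg, (gen_ok r t).2]
  exact gen_pres r.val t.val r.2 (ZMod.val_lt t)

theorem good_one : Good 1 := ⟨invI_one, by rw [Units.val_one, rho_one]; exact pres_one⟩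

theorem Good.mul {g h : GL chevG2.Idx K3} (hg : Good g) (hh : Good h) : Good (g * h) := by
  refine ⟨by rw [Units.val_mul]; exact hg.1.mul hh.1, ?_⟩
  rw [Units.val_mul, rho_mul hh.1]
  exact hg.2.mul hh.2

theorem chev_mem : chevG2 ∈ [chevG2, chevB2, chevD4, chevF4, chevE6, chevE7, chevE8] := by simp

theorem x_eq (r : Fin chevG2.nroots) (t : K3) : chevG2.x K3 r.val t = chevG2.xMat K3 r t := by
  unfold ChevalleyDatum.x
  rw [dif_pos r.2]

theorem xGL_val' (r : ℕ) (t : K3) :
    ((Cfsg.Agent.Helper18.xGL chevG2 K3 r t : GL chevG2.Idx K3) : Matrix chevG2.Idx chevG2.Idx K3) =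
      chevG2.x K3 r t :=
  Cfsg.Agent.Helper18.xGL_val chevG2 _ Cfsg.Agent.Helper18.triOK_G2 r t

theorem good_xGL (r : ℕ) (hr : r < chevG2.nroots) (t : K3) :
    Good (Cfsg.Agent.Helper18.xGL chevG2 K3 r t) :=
  good_gen _ ⟨r, hr⟩ t (by rw [xGL_val', ← x_eq ⟨r, hr⟩ t])

theorem good_of_mem (g : GL chevG2.Idx K3) (hg : g ∈ chevG2.group K3) : Good g := by
  unfold ChevalleyDatum.group at hg
  induction hg using Subgroup.closure_induction_left with
  | one => exact good_one
  | mul_left x hx y _ ih =>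
    obtain ⟨r, t, hxm⟩ := hx
    exact (good_gen x r t hxm).mul ih
  | inv_mul_cancel x hx y _ ih =>
    obtain ⟨r, t, hxm⟩ := hx
    have hinv : x⁻¹ = Cfsg.Agent.Helper18.xGL chevG2 K3 r.val (-t) := by
      apply inv_eq_of_mul_eq_one_right
      apply Units.ext
      rw [Units.val_mul, hxm, xGL_val', Units.val_one, ← x_eq r t,
        Cfsg.Agent.S1023.result chevG2 chev_mem r.val r.2 t (-t), add_neg_cancel]
      exact (Cfsg.Agent.S1024.result chevG2 chev_mem r.val r.2 (0 : K3)).2 rfl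
    rw [hinv]
    exact (good_xGL r.val r.2 (-t)).mul ih

/-- the action on the ideal, as a homomorphism -/
def rhoHom : ↥(chevG2.group K3) →* Matrix (Fin 7) (Fin 7) K3 where
  toFun g := rho ((g : GL chevG2.Idx K3) : Matrix chevG2.Idx chevG2.Idx K3)
  map_one' := by
    show rho (((1 : GL chevG2.Idx K3)) : Matrix chevG2.Idx chevG2.Idx K3) = 1
    rw [Units.val_one, rho_one]
  map_mul' g h := by
    show rho (((g : GL chevG2.Idx K3) * (h : GL chevG2.Idx K3) : GL chevG2.Idx K3) :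
      Matrix chevG2.Idx chevG2.Idx K3) = _
    rw [Units.val_mul, rho_mul (good_of_mem h.1 h.2).1]

theorem rhoHom_pres (g : ↥(chevG2.group K3)) : Pres (rhoHom g) := (good_of_mem g.1 g.2).2

/-- the root elements as elements of the group -/
noncomputable def gE (r : ℕ) (t : K3) : ↥(chevG2.group K3) :=
  ⟨Cfsg.Agent.Helper18.xGL chevG2 K3 r t, Cfsg.Agent.Helper18.xGL_mem_group' chevG2 chev_mem r t⟩

theorem rhoHom_gE (r : ℕ) (hr : r < chevG2.nroots) (t : K3) :
    rhoHom (gE r t) = (genData r t.val).toMat := by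
  show rho ((Cfsg.Agent.Helper18.xGL chevG2 K3 r t : GL chevG2.Idx K3) :
    Matrix chevG2.Idx chevG2.Idx K3) = _
  rw [xGL_val', x_eq ⟨r, hr⟩ t]
  exact (gen_ok ⟨r, hr⟩ t).2

theorem simple_G2 : IsSimpleGroup ↥(chevG2.group K3) :=
  (Cfsg.Agent.S1055.result (F := K3) ⟨2, by decide, by decide⟩).1

theorem eq_one_of_rhoHom {g : ↥(chevG2.group K3)} (h : rhoHom g = 1) : g = 1 := by
  haveI := simple_G2
  have hn : (rhoHom.ker).Normal := MonoidHom.normal_ker rhoHom
  rcases hn.eq_bot_or_eq_top with hk | hk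
  · have : g ∈ rhoHom.ker := MonoidHom.mem_ker.2 h
    rw [hk] at this
    exact Subgroup.mem_bot.1 this
  · exfalso
    have h1 : gE 7 1 ∈ rhoHom.ker := by rw [hk]; exact Subgroup.mem_top _
    have h2 := MonoidHom.mem_ker.1 h1
    rw [rhoHom_gE 7 (by decide) 1] at h2
    have h3 : genData 7 (1 : K3).val = M7.one :=
      M7.eq_of_toMat_eq (by decide) M7.red_one (by rw [M7.toMat_one]; exact h2)
    revert h3
    decide

end Cfsg.Agent.Helper8.G2
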