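import Mathlib
import Cfsg.Agent.Helper5.PSL2

/-!
Helper8 / G2: element orders of `PSL₂(13)` (over any field with 13 elements): every element has order
dividing 6, 7 or 13, and there is an element of order 6; the order of the group is 1092.
-/

set_option autoImplicit false

namespace Cfsg.Agent.Helper8.G2

open Matrix

/-- `g ^ k = a_k g + b_k` for a 2×2 matrix of determinant one and trace `t` -/
def abSeq (t : ZMod 13) : ℕ → ZMod 13 × ZMod 13
  | 0 => (0, 1)
  | k + 1 => (t * (abSeq t k).1 + (abSeq t k).2, -(abSeq t k).1)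

theorem abSeq_table : ∀ t : ZMod 13,
    ((abSeq t 6).1 = 0 ∧ ((abSeq t 6).2 = 1 ∨ (abSeq t 6).2 = -1)) ∨
    ((abSeq t 7).1 = 0 ∧ ((abSeq t 7).2 = 1 ∨ (abSeq t 7).2 = -1)) ∨
    ((abSeq t 13).1 = 0 ∧ ((abSeq t 13).2 = 1 ∨ (abSeq t 13).2 = -1)) := by
  decide +kernel

section
variable {E : Type*} [Field E]

theorem sq_eq_of_det_one (M : Matrix (Fin 2) (Fin 2) E) (hd : M.det = 1) :
    M * M = M.trace • M - 1 := by
  rw [Matrix.det_fin_two] at hd
  rw [Matrix.trace_fin_two]
  ext i j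
  fin_cases i <;> fin_cases j
  · simp only [Fin.zero_eta, Fin.isValue, Matrix.mul_apply, Fin.sum_univ_two, Matrix.sub_apply,
      Matrix.smul_apply, smul_eq_mul, Matrix.one_apply_eq]
    linear_combination (-1 : E) * hd
  · simp only [Fin.zero_eta, Fin.mk_one, Fin.isValue, Matrix.mul_apply, Fin.sum_univ_two,
      Matrix.sub_apply, Matrix.smul_apply, smul_eq_mul, ne_eq, zero_ne_one, not_false_eq_true,
      Matrix.one_apply_ne]
    ring
  · simp only [Fin.zero_eta, Fin.mk_one, Fin.isValue, Matrix.mul_apply, Fin.sum_univ_two,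
      Matrix.sub_apply, Matrix.smul_apply, smul_eq_mul, ne_eq, one_ne_zero, not_false_eq_true,
      Matrix.one_apply_ne]
    ring
  · simp only [Fin.mk_one, Fin.isValue, Matrix.mul_apply, Fin.sum_univ_two, Matrix.sub_apply,
      Matrix.smul_apply, smul_eq_mul, Matrix.one_apply_eq]
    linear_combination (-1 : E) * hd

theorem pow_eq_abSeq (e : ZMod 13 →+* E) (M : Matrix (Fin 2) (Fin 2) E) (hd : M.det = 1)
    (t : ZMod 13) (ht : M.trace = e t) (k : ℕ) :
    M ^ k = e (abSeq t k).1 • M + e (abSeq t k).2 • (1 : Matrix (Fin 2) (Fin 2) E) := by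
  induction k with
  | zero => simp [abSeq]
  | succ k ih =>
    rw [pow_succ, ih, add_mul, Matrix.smul_mul, Matrix.smul_mul, one_mul,
      sq_eq_of_det_one M hd, ht]
    simp only [abSeq, map_add, map_mul, map_neg]
    module

end

section
variable {E : Type*} [Field E] [Fintype E]

theorem sl2_pow_cases (hE : Fintype.card E = 13) (g : SpecialLinearGroup (Fin 2) E) :
    ∃ N ∈ ({6, 7, 13} : Finset ℕ),
      (g ^ N : SpecialLinearGroup (Fin 2) E) = 1 ∨ (g ^ N : SpecialLinearGroup (Fin 2) E) = -1 := by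
  set e : ZMod 13 ≃+* E := ZMod.ringEquivOfPrime E (by norm_num) hE with he
  obtain ⟨t, ht⟩ : ∃ t : ZMod 13, (g : Matrix (Fin 2) (Fin 2) E).trace = e t :=
    ⟨e.symm _, (e.apply_symm_apply _).symm⟩
  have key := fun k => pow_eq_abSeq (e : ZMod 13 →+* E) (g : Matrix (Fin 2) (Fin 2) E) g.2 t ht k
  have fin : ∀ N : ℕ, (abSeq t N).1 = 0 ∧ ((abSeq t N).2 = 1 ∨ (abSeq t N).2 = -1) →
      ((g ^ N : SpecialLinearGroup (Fin 2) E) = 1 ∨ (g ^ N : SpecialLinearGroup (Fin 2) E) = -1) := by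
    rintro N ⟨h1, h2 | h2⟩
    · left
      have h := Matrix.SpecialLinearGroup.coe_pow g N
      rw [key N, h1, h2] at h
      exact Subtype.ext (h.trans (by simp))
    · right
      have h := Matrix.SpecialLinearGroup.coe_pow g N
      rw [key N, h1, h2] at h
      exact Subtype.ext (h.trans (by simp))
  rcases abSeq_table t with h | h | h
  · exact ⟨6, by simp, fin 6 h⟩
  · exact ⟨7, by simp, fin 7 h⟩
  · exact ⟨13, by simp, fin 13 h⟩

omit [Fintype E] in
theorem neg_one_mem_center : (-1 : SpecialLinearGroup (Fin 2) E) ∈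
    Subgroup.center (SpecialLinearGroup (Fin 2) E) := by
  rw [Subgroup.mem_center_iff]
  intro h
  apply Subtype.ext
  simp

/-- every element of `PSL₂(13)` has order dividing 6, 7 or 13 -/
theorem psl_orderOf_dvd (hE : Fintype.card E = 13) (y : ProjectiveSpecialLinearGroup (Fin 2) E) :
    orderOf y ∣ 6 ∨ orderOf y ∣ 7 ∨ orderOf y ∣ 13 := by
  obtain ⟨g, rfl⟩ := QuotientGroup.mk_surjective y
  obtain ⟨N, hN, h⟩ := sl2_pow_cases hE g
  have h1 : ((g : ProjectiveSpecialLinearGroup (Fin 2) E)) ^ N = 1 := by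
    rw [← QuotientGroup.mk_pow]
    rcases h with h | h
    · rw [h]; rfl
    · rw [h]
      exact (QuotientGroup.eq_one_iff _).2 neg_one_mem_center
  have h2 := orderOf_dvd_of_pow_eq_one h1
  simp only [Finset.mem_insert, Finset.mem_singleton] at hN
  rcases hN with rfl | rfl | rfl
  · exact Or.inl h2
  · exact Or.inr (Or.inl h2)
  · exact Or.inr (Or.inr h2)

theorem card_psl (hE : Fintype.card E = 13) :
    Nat.card (ProjectiveSpecialLinearGroup (Fin 2) E) = 1092 := by
  have h1 := Cfsg.Agent.Helper5.card_PSL2_mul (F := E)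
  have h2 : (2 : E) ≠ 0 := by
    apply Cfsg.Agent.Helper5.two_ne_zero_of_odd_card
    rw [hE]; decide
  rw [Cfsg.Agent.Helper5.card_center_SL2_of_two_ne_zero h2, hE] at h1
  omega

end

/-- an element with `y⁶ = 1`, `y² ≠ 1`, `y³ ≠ 1` has order 6 -/
theorem orderOf_eq_six {G : Type*} [Group G] (y : G) (h6 : y ^ 6 = 1) (h2 : y ^ 2 ≠ 1)
    (h3 : y ^ 3 ≠ 1) : orderOf y = 6 := by
  have hd : orderOf y ∣ 6 := orderOf_dvd_of_pow_eq_one h6
  have hm : orderOf y ∈ Nat.divisors 6 := Nat.mem_divisors.2 ⟨hd, by norm_num⟩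
  have : Nat.divisors 6 = {1, 2, 3, 6} := by decide
  rw [this] at hm
  simp only [Finset.mem_insert, Finset.mem_singleton] at hm
  rcases hm with h | h | h | h
  · exfalso; apply h2; rw [orderOf_eq_one_iff.1 h]; simp
  · exfalso; apply h2; rw [← h]; exact pow_orderOf_eq_one y
  · exfalso; apply h3; rw [← h]; exact pow_orderOf_eq_one y
  · exact h

/-- two distinct primes whose product divides 6, 7 or 13 are 2 and 3 -/
theorem primes_of_mul_dvd {r s : ℕ} (hr : r.Prime) (hs : s.Prime) (hrs : r ≠ s)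
    (h : r * s ∣ 6 ∨ r * s ∣ 7 ∨ r * s ∣ 13) : (r = 2 ∧ s = 3) ∨ (r = 3 ∧ s = 2) := by
  have key : ∀ p : ℕ, p.Prime → p ∣ 6 → p = 2 ∨ p = 3 := by
    intro p hp hd
    have : p ∣ 2 * 3 := by norm_num; exact hd
    rcases (Nat.Prime.dvd_mul hp).1 this with h | h
    · left; exact (Nat.prime_dvd_prime_iff_eq hp Nat.prime_two).1 h
    · right; exact (Nat.prime_dvd_prime_iff_eq hp Nat.prime_three).1 h
  rcases h with h | h | h
  · have h1 := key r hr (Dvd.dvd.trans (Dvd.intro _ rfl) h)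
    have h2 := key s hs (Dvd.dvd.trans (Dvd.intro_left _ rfl) h)
    rcases h1 with rfl | rfl <;> rcases h2 with rfl | rfl
    · exact absurd rfl hrs
    · exact Or.inl ⟨rfl, rfl⟩
    · exact Or.inr ⟨rfl, rfl⟩
    · exact absurd rfl hrs
  · exfalso
    have h7 : Nat.Prime 7 := by norm_num
    have h1 := (Nat.prime_dvd_prime_iff_eq hr h7).1 (Dvd.dvd.trans (Dvd.intro _ rfl) h)
    have h2 := (Nat.prime_dvd_prime_iff_eq hs h7).1 (Dvd.dvd.trans (Dvd.intro_left _ rfl) h)
    exact hrs (h1.trans h2.symm)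
  · exfalso
    have h13 : Nat.Prime 13 := by norm_num
    have h1 := (Nat.prime_dvd_prime_iff_eq hr h13).1 (Dvd.dvd.trans (Dvd.intro _ rfl) h)
    have h2 := (Nat.prime_dvd_prime_iff_eq hs h13).1 (Dvd.dvd.trans (Dvd.intro_left _ rfl) h)
    exact hrs (h1.trans h2.symm)

section
variable {E : Type*} [Field E] [Fintype E]

/-- diagonal elements of `SL₂` -/
def dg (a b : E) (h : a * b = 1) : SpecialLinearGroup (Fin 2) E :=
  ⟨Matrix.diagonal ![a, b], by simp [Matrix.det_diagonal, Fin.prod_univ_two, h]⟩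

omit [Fintype E] in
theorem dg_pow (a b : E) (h : a * b = 1) (k : ℕ) :
    (dg a b h) ^ k = dg (a ^ k) (b ^ k) (by rw [← mul_pow, h, one_pow]) := by
  apply Subtype.ext
  refine (Matrix.SpecialLinearGroup.coe_pow _ k).trans ?_
  show (Matrix.diagonal ![a, b]) ^ k = Matrix.diagonal ![a ^ k, b ^ k]
  rw [Matrix.diagonal_pow]
  congr 1
  funext i
  fin_cases i <;> rfl

omit [Fintype E] in
theorem mk_dg_ne_one (a b : E) (h : a * b = 1) (hab : a ≠ b) :
    ((dg a b h : SpecialLinearGroup (Fin 2) E) : ProjectiveSpecialLinearGroup (Fin 2) E) ≠ 1 := by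
  intro h1
  have h2 := (QuotientGroup.eq_one_iff _).1 h1
  rw [Matrix.SpecialLinearGroup.mem_center_iff] at h2
  obtain ⟨r, -, hr⟩ := h2
  have e0 := congrFun (congrFun hr 0) 0
  have e1 := congrFun (congrFun hr 1) 1
  simp [dg] at e0 e1
  exact hab (e0.symm.trans e1)

theorem psl_exists_order_six (hE : Fintype.card E = 13) :
    ∃ y : ProjectiveSpecialLinearGroup (Fin 2) E, orderOf y = 6 := by
  set e : ZMod 13 ≃+* E := ZMod.ringEquivOfPrime E (by norm_num) hE with he
  have hne : ∀ a b : ZMod 13, a ≠ b → e a ≠ e b := fun a b hab h => hab (e.injective h)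
  have h27 : e 2 * e 7 = 1 := by rw [← map_mul, ← map_one e]; congr 1
  refine ⟨((dg (e 2) (e 7) h27 : SpecialLinearGroup (Fin 2) E) :
    ProjectiveSpecialLinearGroup (Fin 2) E), orderOf_eq_six _ ?_ ?_ ?_⟩
  · rw [← QuotientGroup.mk_pow, dg_pow]
    have : dg (e 2 ^ 6) (e 7 ^ 6) (by rw [← mul_pow, h27, one_pow]) =
        (-1 : SpecialLinearGroup (Fin 2) E) := by
      apply Subtype.ext
      show Matrix.diagonal ![e 2 ^ 6, e 7 ^ 6] = ((-1 : SpecialLinearGroup (Fin 2) E) : Matrix (Fin 2) (Fin 2) E)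
      have e1 : e 2 ^ 6 = -1 := by rw [← map_pow, ← map_one e, ← map_neg]; congr 1
      have e2 : e 7 ^ 6 = -1 := by rw [← map_pow, ← map_one e, ← map_neg]; congr 1
      rw [e1, e2]
      ext i j
      fin_cases i <;> fin_cases j <;> simp
    rw [this]
    exact (QuotientGroup.eq_one_iff _).2 neg_one_mem_center
  · rw [← QuotientGroup.mk_pow, dg_pow]
    apply mk_dg_ne_one
    rw [← map_pow, ← map_pow]
    exact hne _ _ (by decide)
  · rw [← QuotientGroup.mk_pow, dg_pow]
    apply mk_dg_ne_one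
    rw [← map_pow, ← map_pow]
    exact hne _ _ (by decide)

/-- the edges of the prime graph of `PSL₂(13)` -/
theorem psl_edge_iff (hE : Fintype.card E = 13) (r s : ℕ) (hr : r.Prime) (hs : s.Prime)
    (hrs : r ≠ s) :
    (∃ y : ProjectiveSpecialLinearGroup (Fin 2) E, orderOf y = r * s) ↔
      ((r = 2 ∧ s = 3) ∨ (r = 3 ∧ s = 2)) := by
  constructor
  · rintro ⟨y, hy⟩
    have := psl_orderOf_dvd hE y
    rw [hy] at this
    exact primes_of_mul_dvd hr hs hrs this
  · rintro (⟨rfl, rfl⟩ | ⟨rfl, rfl⟩)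
    · exact psl_exists_order_six hE
    · exact psl_exists_order_six hE

end

end Cfsg.Agent.Helper8.G2
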