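import Mathlib

/-!
Helper8 / G2: if the Sylow `p`-subgroups of `G` have order `p`, `x` has order `p`, and no element of
prime order `s ≠ p` commutes with `x`, then `G` has no element of order `p * s`.
-/

set_option autoImplicit false

namespace Cfsg.Agent.Helper8.G2

theorem no_order_mul {G : Type*} [Group G] [Finite G] (p : ℕ) [hp : Fact p.Prime] (x : G)
    (hx : orderOf x = p) (hcard : ¬ p ^ 2 ∣ Nat.card G) (s : ℕ) (hs : s.Prime)
    (hcent : ∀ c : G, c * x = x * c → c ^ s = 1 → c = 1) (g : G) (hg : orderOf g = p * s) :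
    False := by
  have hpd : p ∣ Nat.card G := hx ▸ orderOf_dvd_natCard x
  have hfac : (Nat.card G).factorization p = 1 := by
    have h1 : 1 ≤ (Nat.card G).factorization p :=
      (hp.out.dvd_iff_one_le_factorization Nat.card_pos.ne').1 hpd
    have h2 : ¬ 2 ≤ (Nat.card G).factorization p := fun h =>
      hcard ((hp.out.pow_dvd_iff_le_factorization Nat.card_pos.ne').2 h)
    omega
  have hcx : Nat.card (Subgroup.zpowers x) = p ^ (Nat.card G).factorization p := by
    rw [hfac, pow_one, Nat.card_zpowers, hx]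
  let P : Sylow p G := Sylow.ofCard (Subgroup.zpowers x) hcx
  have hP : (P : Subgroup G) = Subgroup.zpowers x := Sylow.coe_ofCard _ hcx
  -- the `p`-part and the `s`-part of `g`
  have hoh : orderOf (g ^ s) = p := by
    rw [orderOf_pow_of_dvd hs.ne_zero (hg ▸ Dvd.intro_left p rfl), hg, Nat.mul_div_cancel _ hs.pos]
  have hoc : orderOf (g ^ p) = s := by
    rw [orderOf_pow_of_dvd hp.out.ne_zero (hg ▸ Dvd.intro s rfl), hg,
      Nat.mul_div_cancel_left _ hp.out.pos]
  have hch : g ^ p * g ^ s = g ^ s * g ^ p := by rw [← pow_add, ← pow_add, add_comm]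
  have hpg : IsPGroup p (Subgroup.zpowers (g ^ s)) :=
    IsPGroup.of_card (n := 1) (by rw [pow_one, Nat.card_zpowers, hoh])
  obtain ⟨Q, hQ⟩ := hpg.exists_le_sylow
  obtain ⟨k, hk⟩ := MulAction.exists_smul_eq G P Q
  have hmem : g ^ s ∈ ((k • P : Sylow p G) : Subgroup G) := by
    rw [hk]; exact hQ (Subgroup.mem_zpowers _)
  rw [Sylow.coe_subgroup_smul, hP, Subgroup.mem_smul_pointwise_iff_exists] at hmem
  obtain ⟨y, hy, hyk⟩ := hmem
  rw [MulAut.smul_def, MulAut.conj_apply] at hyk
  obtain ⟨m, rfl⟩ := Subgroup.mem_zpowers_iff.1 hy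
  -- transport by the inverse conjugation
  have hφs : MulAut.conj k⁻¹ (g ^ s) = x ^ m := by
    rw [← hyk, MulAut.conj_apply]; group
  have hoy : orderOf (x ^ m) = p := by
    rw [← hφs, MulEquiv.orderOf_eq, hoh]
  have hzp : Subgroup.zpowers (x ^ m) = Subgroup.zpowers x := by
    apply Subgroup.eq_of_le_of_card_ge
    · exact Subgroup.zpowers_le.2 (Subgroup.zpow_mem_zpowers x m)
    · rw [Nat.card_zpowers, Nat.card_zpowers, hoy, hx]
  obtain ⟨j, hj⟩ := Subgroup.mem_zpowers_iff.1 (hzp ▸ Subgroup.mem_zpowers x)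
  set c' := MulAut.conj k⁻¹ (g ^ p) with hc'
  have hcomm : c' * x ^ m = x ^ m * c' := by
    rw [hc', ← hφs, ← map_mul, ← map_mul, hch]
  have hcomm' : c' * x = x * c' := by
    have : Commute c' ((x ^ m) ^ j) := Commute.zpow_right hcomm j
    rw [hj] at this
    exact this
  have hpow : c' ^ s = 1 := by
    rw [hc', ← map_pow, ← pow_mul, ← hg, pow_orderOf_eq_one, map_one]
  have h1 : c' = 1 := hcent c' hcomm' hpow
  have h2 : g ^ p = 1 := by
    have h3 : MulAut.conj k⁻¹ (g ^ p) = MulAut.conj k⁻¹ 1 := by rw [map_one]; exact h1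
    exact (MulAut.conj k⁻¹).injective h3
  rw [h2, orderOf_one] at hoc
  exact hs.ne_one hoc.symm

end Cfsg.Agent.Helper8.G2
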