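import Cfsg.Agent.Helper8.G2C
import Cfsg.Agent.Helper8.G2S
import Cfsg.Agent.Helper8.G2E
import Cfsg.Agent.Helper36.BaseChange

/-!
Helper8 / G2: the prime graph of `G₂(3)`: the prime divisors of its order are 2, 3, 7, 13 and the only
edge joins 2 and 3.
-/

set_option autoImplicit false

open Cfsg Cfsg.Lie

namespace Cfsg.Agent.Helper8.G2

/-- `G₂(3)` over `ZMod 3` -/
abbrev G3 : Type := ↥(chevG2.group K3)

theorem card_G3 : Nat.card G3 = 4245696 := by
  have h := Cfsg.Agent.S1059.result (F := K3) (q := 3) (ZMod.card 3)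
  rw [h]
  norm_num

instance : Finite G3 := Nat.finite_of_card_ne_zero (by rw [card_G3]; norm_num)

/-- an element of order 7 -/
noncomputable def xE : G3 := gE 11 2 * gE 8 2 * gE 10 2 * gE 0 2
/-- an element of order 13 -/
noncomputable def yE : G3 := gE 0 1 * gE 4 1 * gE 9 1
/-- an element of order 6 -/
noncomputable def zE : G3 := gE 0 1 * gE 11 2

theorem val_two : (2 : K3).val = 2 := by decide
theorem val_one : (1 : K3).val = 1 := by decide

theorem rho_xE : rhoHom xE = XM := by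
  unfold xE
  rw [map_mul, map_mul, map_mul, rhoHom_gE 11 (by decide), rhoHom_gE 8 (by decide),
    rhoHom_gE 10 (by decide), rhoHom_gE 0 (by decide), val_two, ← M7.toMat_mul, ← M7.toMat_mul,
    ← M7.toMat_mul]
  have : (((genData 11 2).mul (genData 8 2)).mul (genData 10 2)).mul (genData 0 2) = XP1 := by
    decide +kernel
  rw [this]; rfl

theorem rho_yE : rhoHom yE = YM := by
  unfold yE
  rw [map_mul, map_mul, rhoHom_gE 0 (by decide), rhoHom_gE 4 (by decide),
    rhoHom_gE 9 (by decide), val_one, ← M7.toMat_mul, ← M7.toMat_mul]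
  have : ((genData 0 1).mul (genData 4 1)).mul (genData 9 1) = YP1 := by
    decide +kernel
  rw [this]; rfl

theorem rho_zE : rhoHom zE = ZM := by
  unfold zE
  rw [map_mul, rhoHom_gE 0 (by decide), rhoHom_gE 11 (by decide), val_one, val_two,
    ← M7.toMat_mul]
  have : (genData 0 1).mul (genData 11 2) = ZP1 := by
    decide +kernel
  rw [this]; rfl

instance fact_prime_seven : Fact (Nat.Prime 7) := ⟨by norm_num⟩
instance fact_prime_thirteen : Fact (Nat.Prime 13) := ⟨by norm_num⟩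

theorem orderOf_xE : orderOf xE = 7 := by
  have h7 : xE ^ 7 = 1 := eq_one_of_rhoHom (by rw [map_pow, rho_xE, XM_pow7])
  have h1 : xE ≠ 1 := fun h => XM_ne_one (by rw [← rho_xE, h, map_one])
  exact orderOf_eq_prime h7 h1

theorem orderOf_yE : orderOf yE = 13 := by
  have h13 : yE ^ 13 = 1 := eq_one_of_rhoHom (by rw [map_pow, rho_yE, YM_pow13])
  have h1 : yE ≠ 1 := fun h => YM_ne_one (by rw [← rho_yE, h, map_one])
  exact orderOf_eq_prime h13 h1

theorem orderOf_zE : orderOf zE = 6 := by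
  apply orderOf_eq_six
  · exact eq_one_of_rhoHom (by rw [map_pow, rho_zE, ZM_pow6])
  · intro h
    apply ZM_pow2
    rw [← rho_zE, ← map_pow, h, map_one]
  · intro h
    apply ZM_pow3
    rw [← rho_zE, ← map_pow, h, map_one]

theorem cent_xE (c : G3) (hc : c * xE = xE * c) (s : ℕ) (hs : s = 2 ∨ s = 3) (hcs : c ^ s = 1) :
    c = 1 := by
  apply eq_one_of_rhoHom
  have hC : rhoHom c * XM = XM * rhoHom c := by rw [← rho_xE, ← map_mul, hc, map_mul]
  have hpow : rhoHom c ^ s = 1 := by rw [← map_pow, hcs, map_one]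
  rcases hs with rfl | rfl
  · exact X_sq_pres _ hC hpow (rhoHom_pres c)
  · exact X_cube _ hC hpow

theorem cent_yE (c : G3) (hc : c * yE = yE * c) (s : ℕ) (hs : s = 2 ∨ s = 3 ∨ s = 7)
    (hcs : c ^ s = 1) : c = 1 := by
  apply eq_one_of_rhoHom
  have hC : rhoHom c * YM = YM * rhoHom c := by rw [← rho_yE, ← map_mul, hc, map_mul]
  have hpow : rhoHom c ^ s = 1 := by rw [← map_pow, hcs, map_one]
  rcases hs with rfl | rfl | rfl
  · exact Y_sq_pres _ hC hpow (rhoHom_pres c)
  · exact Y_cube _ hC hpow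
  · exact Y_seven _ hC hpow

/-- a prime dividing `2⁶·3⁶·7·13` is 2, 3, 7 or 13 -/
theorem prime_dvd_card {r : ℕ} (hr : r.Prime) (h : r ∣ 4245696) :
    r = 2 ∨ r = 3 ∨ r = 7 ∨ r = 13 := by
  have e : (4245696 : ℕ) = 2 ^ 6 * 3 ^ 6 * 7 * 13 := by norm_num
  rw [e] at h
  rcases (Nat.Prime.dvd_mul hr).1 h with h | h
  · rcases (Nat.Prime.dvd_mul hr).1 h with h | h
    · rcases (Nat.Prime.dvd_mul hr).1 h with h | h
      · left; exact (Nat.prime_dvd_prime_iff_eq hr Nat.prime_two).1 (hr.dvd_of_dvd_pow h)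
      · right; left; exact (Nat.prime_dvd_prime_iff_eq hr Nat.prime_three).1 (hr.dvd_of_dvd_pow h)
    · right; right; left; exact (Nat.prime_dvd_prime_iff_eq hr (by norm_num)).1 h
  · right; right; right; exact (Nat.prime_dvd_prime_iff_eq hr (by norm_num)).1 h

/-- the edges of the prime graph of `G₂(3)` -/
theorem g3_edge_iff (r s : ℕ) (hr : r.Prime) (hs : s.Prime) (hrs : r ≠ s) :
    (∃ g : G3, orderOf g = r * s) ↔ ((r = 2 ∧ s = 3) ∨ (r = 3 ∧ s = 2)) := by
  constructor
  · rintro ⟨g, hg⟩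
    have hd : r * s ∣ 4245696 := by rw [← card_G3, ← hg]; exact orderOf_dvd_natCard g
    have hr' := prime_dvd_card hr (Dvd.dvd.trans (Dvd.intro _ rfl) hd)
    have hs' := prime_dvd_card hs (Dvd.dvd.trans (Dvd.intro_left _ rfl) hd)
    have h7 : ¬ 7 ^ 2 ∣ Nat.card G3 := by rw [card_G3]; norm_num
    have h13 : ¬ 13 ^ 2 ∣ Nat.card G3 := by rw [card_G3]; norm_num
    have X := fun (s : ℕ) (hs : s.Prime) (h : s = 2 ∨ s = 3) (g : G3) (hg : orderOf g = 7 * s) =>
      no_order_mul 7 xE orderOf_xE h7 s hs (fun c hc hcs => cent_xE c hc s h hcs) g hg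
    have Y := fun (s : ℕ) (hs : s.Prime) (h : s = 2 ∨ s = 3 ∨ s = 7) (g : G3)
        (hg : orderOf g = 13 * s) =>
      no_order_mul 13 yE orderOf_yE h13 s hs (fun c hc hcs => cent_yE c hc s h hcs) g hg
    rcases hr' with rfl | rfl | rfl | rfl <;> rcases hs' with rfl | rfl | rfl | rfl
    · exact absurd rfl hrs
    · exact Or.inl ⟨rfl, rfl⟩
    · exact (X 2 hr (Or.inl rfl) g (by rw [hg])).elim
    · exact (Y 2 hr (Or.inl rfl) g (by rw [hg])).elim
    · exact Or.inr ⟨rfl, rfl⟩
    · exact absurd rfl hrs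
    · exact (X 3 hr (Or.inr rfl) g (by rw [hg])).elim
    · exact (Y 3 hr (Or.inr (Or.inl rfl)) g (by rw [hg])).elim
    · exact (X 2 hs (Or.inl rfl) g (by rw [hg])).elim
    · exact (X 3 hs (Or.inr rfl) g (by rw [hg])).elim
    · exact absurd rfl hrs
    · exact (Y 7 hr (Or.inr (Or.inr rfl)) g (by rw [hg])).elim
    · exact (Y 2 hs (Or.inl rfl) g (by rw [hg])).elim
    · exact (Y 3 hs (Or.inr (Or.inl rfl)) g (by rw [hg])).elim
    · exact (Y 7 hs (Or.inr (Or.inr rfl)) g (by rw [hg])).elim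
    · exact absurd rfl hrs
  · rintro (⟨rfl, rfl⟩ | ⟨rfl, rfl⟩)
    · exact ⟨zE, orderOf_zE⟩
    · exact ⟨zE, orderOf_zE⟩

/-! ### transfer from any field with three elements -/

theorem exists_mulEquiv {F : Type*} [Field F] [Fintype F] (hF : Fintype.card F = 3) :
    Nonempty (↥(chevG2.group F) ≃* G3) := by
  let e : F ≃+* K3 := (ZMod.ringEquivOfPrime F Nat.prime_three hF).symm
  have hadd := Cfsg.Agent.Helper40.ChevAdd.addOK_of_mem chev_mem
  let φ : ↥(chevG2.group F) →* G3 :=
    MonoidHom.codRestrict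
      ((Cfsg.Agent.Helper36.BaseChange.bc chevG2 (e : F →+* K3)).comp (chevG2.group F).subtype)
      (chevG2.group K3)
      (fun g => Cfsg.Agent.Helper36.BaseChange.bc_group_le chevG2 (e : F →+* K3) hadd
        (Subgroup.mem_map_of_mem _ g.2))
  have hinj : Function.Injective φ := by
    intro a b hab
    have h1 := congrArg (fun g : G3 => (g : GL chevG2.Idx K3)) hab
    exact Subtype.ext (Cfsg.Agent.Helper36.BaseChange.bc_injective chevG2 (e : F →+* K3) h1)
  have hcardF : Nat.card ↥(chevG2.group F) = 4245696 := by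
    rw [Cfsg.Agent.S1059.result (F := F) (q := 3) hF]
    norm_num
  haveI : Finite ↥(chevG2.group F) := Nat.finite_of_card_ne_zero (by rw [hcardF]; norm_num)
  have hbij : Function.Bijective φ :=
    hinj.bijective_of_nat_card_le (by rw [card_G3, hcardF])
  exact ⟨MulEquiv.ofBijective φ hbij⟩

end Cfsg.Agent.Helper8.G2
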