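import Mathlib
import Cfsg.Prelude.Def_Sporadic_a
import Cfsg.Agent.Helper8.LeechCount

/-!
Counting lattice vectors of given sum of squares all of whose entries lie in a given list `U`.
-/

set_option autoImplicit false

namespace Cfsg.Agent.Helper8

open Cfsg Cfsg.Agent.Helper26

/-- restriction of an entry list to `U` -/
def restr (U L : List ℤ) : List ℤ := L.filter fun v => decide (v ∈ U)

theorem restr_nodup (U : List ℤ) {L : List ℤ} (h : L.Nodup) : (restr U L).Nodup := h.filter _

theorem mem_restr (U L : List ℤ) (v : ℤ) : v ∈ (restr U L).toFinset ↔ v ∈ L.toFinset ∧ v ∈ U := by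
  unfold restr
  rw [List.mem_toFinset, List.mem_filter, List.mem_toFinset, decide_eq_true_eq]

/-- even-type vectors over `C` with entries in `U` -/
def evenFU (U : List ℤ) (N : ℤ) (C : Finset GolayPt) : Finset (GolayPt → ℤ) :=
  solF (fun i => if i ∈ C then (restr U Le1).toFinset else (restr U Le2).toFinset) 8 Finset.univ N 0

/-- odd-type vectors over `C` with entries in `U` -/
def oddFU (U : List ℤ) (N : ℤ) (C : Finset GolayPt) : Finset (GolayPt → ℤ) :=
  solF (fun i => if i ∈ C then (restr U Lo1).toFinset else (restr U Lo2).toFinset) 8 Finset.univ N 4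

theorem evenFU_eq (U : List ℤ) (N : ℤ) (C : Finset GolayPt) :
    evenFU U N C = (evenF N C).filter fun x => ∀ i, x i ∈ U := by
  ext x
  rw [Finset.mem_filter, mem_evenF]
  unfold evenFU
  rw [mem_solF]
  simp only [Finset.mem_univ, if_true]
  unfold Ae
  constructor
  · rintro ⟨h1, h2, h3⟩
    refine ⟨⟨fun i => ?_, h2, h3⟩, fun i => ?_⟩
    · have := h1 i
      by_cases hi : i ∈ C
      · rw [if_pos hi, mem_restr] at this
        rw [if_pos hi]; exact this.1
      · rw [if_neg hi, mem_restr] at this
        rw [if_neg hi]; exact this.1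
    · have := h1 i
      by_cases hi : i ∈ C
      · rw [if_pos hi, mem_restr] at this; exact this.2
      · rw [if_neg hi, mem_restr] at this; exact this.2
  · rintro ⟨⟨h1, h2, h3⟩, hU⟩
    refine ⟨fun i => ?_, h2, h3⟩
    have := h1 i
    by_cases hi : i ∈ C
    · rw [if_pos hi] at this
      rw [if_pos hi, mem_restr]; exact ⟨this, hU i⟩
    · rw [if_neg hi] at this
      rw [if_neg hi, mem_restr]; exact ⟨this, hU i⟩

theorem oddFU_eq (U : List ℤ) (N : ℤ) (C : Finset GolayPt) :
    oddFU U N C = (oddF N C).filter fun x => ∀ i, x i ∈ U := by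
  ext x
  rw [Finset.mem_filter, mem_oddF]
  unfold oddFU
  rw [mem_solF]
  simp only [Finset.mem_univ, if_true]
  unfold Ao
  constructor
  · rintro ⟨h1, h2, h3⟩
    refine ⟨⟨fun i => ?_, h2, h3⟩, fun i => ?_⟩
    · have := h1 i
      by_cases hi : i ∈ C
      · rw [if_pos hi, mem_restr] at this
        rw [if_pos hi]; exact this.1
      · rw [if_neg hi, mem_restr] at this
        rw [if_neg hi]; exact this.1
    · have := h1 i
      by_cases hi : i ∈ C
      · rw [if_pos hi, mem_restr] at this; exact this.2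
      · rw [if_neg hi, mem_restr] at this; exact this.2
  · rintro ⟨⟨h1, h2, h3⟩, hU⟩
    refine ⟨fun i => ?_, h2, h3⟩
    have := h1 i
    by_cases hi : i ∈ C
    · rw [if_pos hi] at this
      rw [if_pos hi, mem_restr]; exact ⟨this, hU i⟩
    · rw [if_neg hi] at this
      rw [if_neg hi, mem_restr]; exact ⟨this, hU i⟩

theorem card_evenFU (U : List ℤ) (n : ℕ) (hn : n < 65) (C : Finset GolayPt) :
    (evenFU U n C).card =
      look (tbl (restr U Le1) (restr U Le2) 8 65 C.card (24 - C.card)) n 0 := by
  have h := card_solF (restr U Le1).toFinset (restr U Le2).toFinset 8 C Finset.univ (n : ℤ) 0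
  rw [Finset.univ_inter, ← Finset.compl_eq_univ_sdiff, Finset.card_compl, card_golayPt] at h
  have h2 := cntAB_eq_look (m := 8) (K := 65) (by norm_num) (restr U Le1) (restr U Le2)
    (restr_nodup U Le1_nodup) (restr_nodup U Le2_nodup)
    C.card (24 - C.card) (k := n) (r := 0) hn (by norm_num)
  rw [← h2]
  exact h

theorem card_oddFU (U : List ℤ) (n : ℕ) (hn : n < 65) (C : Finset GolayPt) :
    (oddFU U n C).card =
      look (tbl (restr U Lo1) (restr U Lo2) 8 65 C.card (24 - C.card)) n 4 := by
  have h := card_solF (restr U Lo1).toFinset (restr U Lo2).toFinset 8 C Finset.univ (n : ℤ) 4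
  rw [Finset.univ_inter, ← Finset.compl_eq_univ_sdiff, Finset.card_compl, card_golayPt] at h
  have h2 := cntAB_eq_look (m := 8) (K := 65) (by norm_num) (restr U Lo1) (restr U Lo2)
    (restr_nodup U Lo1_nodup) (restr_nodup U Lo2_nodup)
    C.card (24 - C.card) (k := n) (r := 4) hn (by norm_num)
  rw [← h2]
  exact h

theorem card_leechF_filter (U : List ℤ) (N : ℤ) :
    ((leechF N).filter fun x => ∀ i, x i ∈ U).card =
      ∑ C ∈ codeF, ((evenFU U N C).card + (oddFU U N C).card) := by
  unfold leechF
  rw [Finset.filter_biUnion, Finset.card_biUnion]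
  · refine Finset.sum_congr rfl fun C _ => ?_
    rw [Finset.filter_union, evenFU_eq, oddFU_eq]
    exact Finset.card_union_of_disjoint
      (Finset.disjoint_filter_filter (disjoint_even_odd N C C))
  · intro C _ C' _ hCC'
    rw [Function.onFun]
    apply Finset.disjoint_filter_filter
    rw [Finset.disjoint_union_left, Finset.disjoint_union_right, Finset.disjoint_union_right]
    refine ⟨⟨?_, disjoint_even_odd N C C'⟩, ⟨(disjoint_even_odd N C' C).symm, ?_⟩⟩
    · rw [Finset.disjoint_left]
      intro x h1 h2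
      exact hCC' ((code_of_even h1).trans (code_of_even h2).symm)
    · rw [Finset.disjoint_left]
      intro x h1 h2
      exact hCC' ((code_of_odd h1).trans (code_of_odd h2).symm)

/-- the number of lattice vectors of sum of squares `n` with all entries in `U` -/
def leechCountU (U : List ℤ) (n : ℕ) : ℕ :=
  let g : ℕ → ℕ := fun w => look (tbl (restr U Le1) (restr U Le2) 8 65 w (24 - w)) n 0 +
    look (tbl (restr U Lo1) (restr U Lo2) 8 65 w (24 - w)) n 4
  g 0 + 759 * g 8 + 2576 * g 12 + 759 * g 16 + g 24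

theorem ncard_leechU (U : List ℤ) (n : ℕ) (hn : n < 65) :
    {x : GolayPt → ℤ | x ∈ leechLattice ∧ sqNorm x = n ∧ ∀ i, x i ∈ U}.ncard =
      leechCountU U n := by
  have h : {x : GolayPt → ℤ | x ∈ leechLattice ∧ sqNorm x = n ∧ ∀ i, x i ∈ U} =
      (((leechF n).filter fun x => ∀ i, x i ∈ U : Finset (GolayPt → ℤ)) : Set (GolayPt → ℤ)) := by
    have h0 := coe_leechF (N := (n : ℤ)) (by omega)
    ext x
    have h1 : x ∈ leechF (n : ℤ) ↔ x ∈ leechLattice ∧ sqNorm x = n := by
      rw [← Finset.mem_coe, h0]
      rfl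
    simp only [Finset.coe_filter, Set.mem_ofPred_eq, h1]
    tauto
  rw [h, Set.ncard_coe_finset, card_leechF_filter]
  rw [Finset.sum_congr rfl fun C _ => by rw [card_evenFU U n hn C, card_oddFU U n hn C]]
  exact sum_codeF fun w => look (tbl (restr U Le1) (restr U Le2) 8 65 w (24 - w)) n 0 +
    look (tbl (restr U Lo1) (restr U Lo2) 8 65 w (24 - w)) n 4

end Cfsg.Agent.Helper8
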