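import Mathlib
import Cfsg.Prelude.Def_SporadicCombinatorics
import Cfsg.Agent.Helper8.Co0Order
import Cfsg.Agent.Helper8.WordCalc
import Cfsg.Agent.Helper92.Co1Mono

/-!
The orbit relation of a subgroup of the automorphism group of the rank-24 lattice, on raw integer
vectors, and the elements of words in monomial maps and the extra automorphism.
-/

set_option autoImplicit false

namespace Cfsg.Agent.Helper8.Mx

open Cfsg Cfsg.Agent.Helper27 Cfsg.Agent.Helper92
open Cfsg.Agent.Helper92.Co1 (monoSub mem_monoSub card_monoSub)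

/-- `x` is a lattice vector and some element of `K` maps it to `y` -/
def KRel (K : Subgroup ↥Co0) (x y : IVec) : Prop :=
  ∃ (hx : x ∈ leechLattice) (g : ↥Co0), g ∈ K ∧
    ((g • (⟨x, hx⟩ : ↥leechLattice) : ↥leechLattice) : IVec) = y

variable {K : Subgroup ↥Co0}

theorem KRel.mem_left {x y : IVec} (h : KRel K x y) : x ∈ leechLattice := h.1

theorem KRel.mem_right {x y : IVec} (h : KRel K x y) : y ∈ leechLattice := by
  obtain ⟨hx, g, -, rfl⟩ := h
  exact (g • (⟨x, hx⟩ : ↥leechLattice)).2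

theorem KRel.refl {x : IVec} (hx : x ∈ leechLattice) : KRel K x x :=
  ⟨hx, 1, K.one_mem, by rw [one_smul]⟩

theorem KRel.trans {x y z : IVec} (h1 : KRel K x y) (h2 : KRel K y z) : KRel K x z := by
  obtain ⟨hx, g, hg, rfl⟩ := h1
  obtain ⟨hy, h, hh, rfl⟩ := h2
  exact ⟨hx, h * g, K.mul_mem hh hg, by rw [mul_smul]⟩

theorem KRel.symm {x y : IVec} (h : KRel K x y) : KRel K y x := by
  have hy := h.mem_right
  obtain ⟨hx, g, hg, rfl⟩ := h
  refine ⟨hy, g⁻¹, K.inv_mem hg, ?_⟩
  have : (⟨((g • (⟨x, hx⟩ : ↥leechLattice) : ↥leechLattice) : IVec), hy⟩ : ↥leechLattice) =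
      g • (⟨x, hx⟩ : ↥leechLattice) := Subtype.ext rfl
  rw [this, inv_smul_smul]

theorem KRel.mono {K' : Subgroup ↥Co0} (hKK : K ≤ K') {x y : IVec} (h : KRel K x y) :
    KRel K' x y := by
  obtain ⟨hx, g, hg, e⟩ := h
  exact ⟨hx, g, hKK hg, e⟩

theorem KRel.sqNorm_eq {x y : IVec} (h : KRel K x y) : sqNorm y = sqNorm x := by
  obtain ⟨hx, g, -, rfl⟩ := h
  exact co0_sqNorm g ⟨x, hx⟩

theorem KRel.vrel {x y : IVec} (h : KRel K x y) : VRel x y := by
  obtain ⟨hx, g, -, e⟩ := h
  exact ⟨hx, g, e⟩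

/-- from related vectors to an element of the subgroup -/
theorem exists_smul_of_krel {v w : ↥leechLattice} (h : KRel K v.1 w.1) :
    ∃ g : ↥Co0, g ∈ K ∧ g • v = w := by
  obtain ⟨hx, g, hg, e⟩ := h
  exact ⟨g, hg, Subtype.ext e⟩

theorem krel_of_smul {g : ↥Co0} (hg : g ∈ K) (v : ↥leechLattice) :
    KRel K v.1 ((g • v : ↥leechLattice) : IVec) :=
  ⟨v.2, g, hg, rfl⟩

theorem monoCo0_mem {σ : Equiv.Perm GolayPt} (hσ : σ ∈ M24) {c : Finset GolayPt}
    (hc : c ∈ supports (golayCode : Set (GolayPt → ZMod 2))) : monoCo0 hσ hc ∈ monoSub :=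
  monoPerm_fixesCross hσ hc

section mono

variable (hK : monoSub ≤ K)
include hK

theorem krel_signedPerm {x : IVec} (hx : x ∈ leechLattice) {σ : Equiv.Perm GolayPt}
    (hσ : σ ∈ M24) {c : Finset GolayPt}
    (hc : c ∈ supports (golayCode : Set (GolayPt → ZMod 2))) : KRel K x (signedPerm σ c x) :=
  ⟨hx, monoCo0 hσ hc, hK (monoCo0_mem hσ hc), rfl⟩

theorem krel_sign {x : IVec} (hx : x ∈ leechLattice) {c : Finset GolayPt}
    (hc : c ∈ supports (golayCode : Set (GolayPt → ZMod 2))) : KRel K x (signedPerm 1 c x) :=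
  krel_signedPerm hK hx (Subgroup.one_mem _) hc

theorem krel_perm {x : IVec} (hx : x ∈ leechLattice) {σ : Equiv.Perm GolayPt}
    (hσ : σ ∈ M24) : KRel K x (signedPerm σ ∅ x) :=
  krel_signedPerm hK hx hσ Cfsg.Agent.S0390.empty_mem_supports

theorem krel_neg {x : IVec} (hx : x ∈ leechLattice) : KRel K x (-x) := by
  refine ⟨hx, negCo0, hK ?_, ?_⟩
  · exact monoCo0_mem (Subgroup.one_mem M24) Cfsg.Agent.S0390.univ_mem_supports
  · rw [negCo0_smul, AddSubgroup.coe_neg]

end mono

theorem krel_xi (hX : xiCo0 ∈ K) {x : IVec} (hx : x ∈ leechLattice) : KRel K x (xiFun x) :=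
  ⟨hx, xiCo0, hX, rfl⟩

/-! ### words -/

/-- the letter is a monomial map -/
def isMonoL : Letter → Bool
  | .X => false
  | _ => true

theorem letter_exists_mem (a : Letter) (h : a.ok = true) (hK : monoSub ≤ K)
    (hX : isMonoL a = false → xiCo0 ∈ K) :
    ∃ g : ↥Co0, g ∈ K ∧ ∀ v : ↥leechLattice, ((g • v : ↥leechLattice) : IVec) = a.sem v.1 := by
  cases a with
  | P t s =>
    unfold Letter.ok at h
    rw [Bool.and_eq_true] at h
    exact ⟨monoCo0 (permOfTabs_mem_M24 h.1 h.2) Cfsg.Agent.S0390.empty_mem_supports,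
      hK (monoCo0_mem _ _), fun v => monoCo0_smul _ _ v⟩
  | S m =>
    unfold Letter.ok at h
    rw [Bool.and_eq_true, decide_eq_true_eq] at h
    exact ⟨monoCo0 (Subgroup.one_mem M24) (setOf_mem_supports h.1 h.2),
      hK (monoCo0_mem _ _), fun v => monoCo0_smul _ _ v⟩
  | X => exact ⟨xiCo0, hX rfl, fun v => xiCo0_smul v⟩

/-- all letters of the word are monomial maps -/
def monoW (w : List Letter) : Bool := w.all isMonoL

theorem exists_mem_word (w : List Letter) (hw : okW w = true) (hK : monoSub ≤ K)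
    (hX : monoW w = false → xiCo0 ∈ K) :
    ∃ g : ↥Co0, g ∈ K ∧ ∀ v : ↥leechLattice, ((g • v : ↥leechLattice) : IVec) = semW w v.1 := by
  induction w with
  | nil => exact ⟨1, K.one_mem, fun v => by rw [one_smul]; rfl⟩
  | cons a w ih =>
    unfold okW at hw
    rw [List.all_cons, Bool.and_eq_true] at hw
    have hXa : isMonoL a = false → xiCo0 ∈ K := by
      intro ha
      apply hX
      unfold monoW
      rw [List.all_cons, ha, Bool.false_and]
    have hXw : monoW w = false → xiCo0 ∈ K := by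
      intro hw'
      apply hX
      unfold monoW at hw' ⊢
      rw [List.all_cons, hw', Bool.and_false]
    obtain ⟨g1, hg1K, hg1⟩ := letter_exists_mem a hw.1 hK hXa
    obtain ⟨g2, hg2K, hg2⟩ := ih hw.2 hXw
    refine ⟨g2 * g1, K.mul_mem hg2K hg1K, fun v => ?_⟩
    rw [mul_smul, hg2, hg1]
    rfl

/-- a valid word relates the vector of a list to the vector of the computed list -/
theorem krel_runW (w : List Letter) (hw : okW w = true) (hK : monoSub ≤ K)
    (hX : monoW w = false → xiCo0 ∈ K) (l : List ℤ) (hl : vecOf l ∈ leechLattice) :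
    KRel K (vecOf l) (vecOf (runW w l)) := by
  obtain ⟨g, hgK, hg⟩ := exists_mem_word w hw hK hX
  refine ⟨hl, g, hgK, ?_⟩
  rw [hg, vecOf_runW w hw]

/-- the element of the automorphism group of a valid word, without any condition -/
theorem exists_word_elt (w : List Letter) (hw : okW w = true) :
    ∃ g : ↥Co0, ∀ (v : ↥leechLattice) (l : List ℤ), v.1 = vecOf l →
      ((g • v : ↥leechLattice) : IVec) = vecOf (runW w l) :=
  exists_co0_runW w hw

end Cfsg.Agent.Helper8.Mx
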