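import Mathlib
import Cfsg.Prelude.Def_SporadicCombinatorics
import Cfsg.Agent.Helper8.MaxRel
import Cfsg.Agent.Helper8.Norm64f

/-!
Normal forms of lattice vectors of several shapes under the monomial group: versions of the orbit
lemmas relative to a subgroup containing the monomial group.
-/

set_option autoImplicit false

namespace Cfsg.Agent.Helper8.Mx

open Cfsg Cfsg.Agent.Helper27 Cfsg.Agent.Helper92
open Cfsg.Agent.Helper92.Co1 (monoSub mem_monoSub card_monoSub)
open scoped Pointwise

variable {K : Subgroup ↥Co0} (hK : monoSub ≤ K)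
include hK


theorem nfA {x : IVec} (h : IsA x) : KRel K vA0 x := by
  obtain ⟨i, j, s, t, hij, hs, ht, rfl⟩ := h
  obtain ⟨g, hg, hg0, hg1⟩ := Cfsg.Agent.Helper7.m24_exists_map₂ hij
  have h1 : KRel K vA0 (Pi.single i 4 + Pi.single j 4) := by
    have := krel_perm hK vA0_mem hg
    unfold vA0 at this
    rw [signedPerm_add, signedPerm_empty_single, signedPerm_empty_single, hg0, hg1] at this
    exact this
  have key : ∀ C ∈ supports (golayCode : Set (GolayPt → ZMod 2)),
      KRel K vA0 (Pi.single i (if i ∈ C then -4 else 4) + Pi.single j (if j ∈ C then -4 else 4)) := by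
    intro C hC
    have := krel_sign hK h1.mem_right hC
    rw [signedPerm_add, signedPerm_one_single, signedPerm_one_single] at this
    exact h1.trans this
  rcases hs with rfl | rfl <;> rcases ht with rfl | rfl
  · exact h1
  · obtain ⟨C, hC, hjC, hiC⟩ := exists_code_sep hij
    have := key C hC
    rwa [if_neg hiC, if_pos hjC] at this
  · obtain ⟨C, hC, hiC, hjC⟩ := exists_code_sep (Ne.symm hij)
    have := key C hC
    rwa [if_pos hiC, if_neg hjC] at this
  · have := key Finset.univ Cfsg.Agent.S0390.univ_mem_supports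
    rwa [if_pos (Finset.mem_univ _), if_pos (Finset.mem_univ _)] at this

/-! ### shape B -/

theorem nfB {x : IVec} (hx : x ∈ leechLattice) (h : IsB x) : KRel K x (twoInd octB) := by
  classical
  obtain ⟨O, hO, h1, h0⟩ := h
  obtain ⟨g, hg, hgO⟩ := Cfsg.Agent.Helper7.exists_smul_octad_eq hO octB_mem
  have r1 := krel_perm hK hx hg
  have hmem : ∀ i, i ∈ octB ↔ g.symm i ∈ O := by
    intro i
    rw [← hgO, Finset.mem_smul_finset]
    constructor
    · rintro ⟨y, hy, rfl⟩
      simpa using hy
    · intro h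
      exact ⟨g.symm i, h, by simp⟩
  have h1' : ∀ i ∈ octB, signedPerm g ∅ x i = 2 ∨ signedPerm g ∅ x i = -2 := by
    intro i hi
    rw [signedPerm_empty_apply]
    exact h1 _ ((hmem i).mp hi)
  have h0' : ∀ i ∉ octB, signedPerm g ∅ x i = 0 := by
    intro i hi
    rw [signedPerm_empty_apply]
    exact h0 _ (fun h => hi ((hmem i).mpr h))
  have hev := even_minus_card r1.mem_right octB_mem.2 h1' h0'
  obtain ⟨C, hC, hCS⟩ := exists_code_inter_octad octB_mem (Finset.filter_subset _ _) hev
  have r2 := krel_sign hK r1.mem_right hC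
  have heq : signedPerm 1 C (signedPerm g ∅ x) = twoInd octB := by
    ext i
    rw [signedPerm_one_apply]
    unfold twoInd
    by_cases hi : i ∈ octB
    · rw [if_pos hi]
      have hiC : i ∈ C ↔ signedPerm g ∅ x i = -2 := by
        have : i ∈ C ∩ octB ↔ i ∈ octB.filter fun i => signedPerm g ∅ x i = -2 := by rw [hCS]
        rw [Finset.mem_inter, Finset.mem_filter] at this
        constructor
        · intro h; exact (this.mp ⟨h, hi⟩).2
        · intro h; exact (this.mpr ⟨hi, h⟩).1
      by_cases hc : i ∈ C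
      · rw [if_pos hc, hiC.mp hc]; norm_num
      · rw [if_neg hc]
        rcases h1' i hi with h | h
        · exact h
        · exact absurd (hiC.mpr h) hc
    · rw [if_neg hi, h0' i hi]
      split_ifs <;> norm_num
  rw [heq] at r2
  exact r1.trans r2

/-! ### shape C -/


theorem nfC {x : IVec} (h : IsC x) : KRel K vC0 x := by
  obtain ⟨k, C, hC, rfl⟩ := h
  obtain ⟨g, hg, hg0⟩ := Cfsg.Agent.Helper7.m24_exists_map₁ k
  have r1 := krel_perm hK vC0_mem hg
  have heq : signedPerm g ∅ vC0 = oddBase k := by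
    ext i
    rw [signedPerm_empty_apply]
    unfold vC0 oddBase
    have : g.symm i = Cfsg.Agent.Helper7.pt 0 ↔ i = k := by
      rw [Equiv.symm_apply_eq, hg0]
    by_cases hik : i = k
    · rw [if_pos hik, if_pos (this.mpr hik)]
    · rw [if_neg hik, if_neg (fun h => hik (this.mp h))]
  rw [heq] at r1
  exact r1.trans (krel_sign hK r1.mem_right hC)


theorem sign_fix {O : Finset GolayPt} (hO : O ∈ octads) {x : IVec} (hx : x ∈ leechLattice)
    {S : Finset GolayPt} (hS : S ⊆ O) (hev : Even S.card) :
    ∃ y, KRel K x y ∧ (∀ i ∈ S, y i = -x i) ∧ (∀ i ∈ O, i ∉ S → y i = x i) ∧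
      ∀ i ∉ O, y i = x i ∨ y i = -x i := by
  obtain ⟨C, hC, hCS⟩ := exists_code_inter_octad hO hS hev
  have hmem : ∀ i ∈ O, (i ∈ C ↔ i ∈ S) := by
    intro i hi
    rw [← hCS, Finset.mem_inter]
    exact ⟨fun h => ⟨h, hi⟩, fun h => h.1⟩
  refine ⟨signedPerm 1 C x, krel_sign hK hx hC, fun i hi => ?_, fun i hi hiS => ?_, fun i _ => ?_⟩
  · rw [signedPerm_one_apply, if_pos ((hmem i (hS hi)).mpr hi)]
  · rw [signedPerm_one_apply, if_neg (fun h => hiS ((hmem i hi).mp h))]
  · rw [signedPerm_one_apply]
    split_ifs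
    · right; rfl
    · left; rfl

/-- moving a list of at most five points to a given list -/
theorem krel_move {x : IVec} (hx : x ∈ leechLattice) (l m : List GolayPt) (hl : l.Nodup)
    (hm : m.Nodup) (hlen : l.length = m.length) (h5 : l.length ≤ 5) :
    ∃ g ∈ M24, l.map (⇑g) = m ∧ KRel K x (signedPerm g ∅ x) := by
  obtain ⟨g, hg, hmap⟩ := Cfsg.Agent.Helper26.exists_map_list l m hl hm hlen h5
  exact ⟨g, hg, hmap, krel_perm hK hx hg⟩

/-! ### shape `(±4)^4` -/


theorem nf_44 {z : IVec} (hz : z ∈ leechLattice) (hn : sqNorm z = 64) (h : Is44 z) :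
    KRel K z z44 := by
  classical
  obtain ⟨Q, hQdef⟩ : ∃ Q : Finset GolayPt, Q = Finset.univ.filter fun i => z i ≠ 0 := ⟨_, rfl⟩
  have hQ4 : Q.card = 4 := by rw [hQdef]; exact card_support_44 hn h
  have hmemQ : ∀ i, i ∈ Q ↔ z i ≠ 0 := by intro i; rw [hQdef]; simp
  obtain ⟨g, hg, hmap, r1⟩ := krel_move hK hz Q.toList blk1 (Finset.nodup_toList Q) blk1_nodup
    (by rw [Finset.length_toList, hQ4]; rfl) (by rw [Finset.length_toList, hQ4]; norm_num)
  -- the support after the move
  have hsupp : ∀ i, g.symm i ∈ Q ↔ i ∈ blk1 := by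
    intro i
    rw [← hmap, List.mem_map]
    constructor
    · intro hi
      exact ⟨g.symm i, Finset.mem_toList.mpr hi, by simp⟩
    · rintro ⟨q, hq, rfl⟩
      rw [Equiv.symm_apply_apply]
      exact Finset.mem_toList.mp hq
  have h1in : ∀ i ∈ blk1, signedPerm g ∅ z i = 4 ∨ signedPerm g ∅ z i = -4 := by
    intro i hi
    rw [signedPerm_empty_apply]
    have := (hmemQ _).mp ((hsupp i).mpr hi)
    rcases h (g.symm i) with h' | h' | h'
    · exact absurd h' this
    · left; exact h'
    · right; exact h'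
  have h1out : ∀ i ∉ blk1, signedPerm g ∅ z i = 0 := by
    intro i hi
    rw [signedPerm_empty_apply]
    by_contra hne
    exact hi ((hsupp i).mp ((hmemQ _).mpr hne))
  -- the signs
  obtain ⟨S, hSdef⟩ : ∃ S : Finset GolayPt,
      S = blk1.toFinset.filter fun i => signedPerm g ∅ z i ≠ z44 i := ⟨_, rfl⟩
  have hSsub : S ⊆ blk1.toFinset := by rw [hSdef]; exact Finset.filter_subset _ _
  obtain ⟨S', hS'sub, hS'ev, hS'blk⟩ : ∃ S' : Finset GolayPt, S' ⊆ octB ∧ Even S'.card ∧
      ∀ i ∈ blk1, (i ∈ S' ↔ i ∈ S) := by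
    by_cases hev : Even S.card
    · refine ⟨S, fun i hi => blk1_subset_octB i (List.mem_toFinset.mp (hSsub hi)), hev,
        fun i _ => Iff.rfl⟩
    · have h4 : gPt 4 ∉ S := fun h => by
        have := List.mem_toFinset.mp (hSsub h)
        revert this
        decide
      refine ⟨insert (gPt 4) S, ?_, ?_, ?_⟩
      · intro i hi
        rw [Finset.mem_insert] at hi
        rcases hi with rfl | hi
        · decide +kernel
        · exact blk1_subset_octB i (List.mem_toFinset.mp (hSsub hi))
      · rw [Finset.card_insert_of_notMem h4]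
        exact Nat.even_add_one.mpr hev
      · intro i hi
        rw [Finset.mem_insert]
        constructor
        · rintro (rfl | h)
          · exact absurd hi (by decide)
          · exact h
        · intro h; exact Or.inr h
  obtain ⟨y, r2, hyS, hyO, hyout⟩ := sign_fix hK octB_mem r1.mem_right hS'sub hS'ev
  have hy : y = z44 := by
    ext i
    by_cases hi : i ∈ blk1
    · have hiO := blk1_subset_octB i hi
      by_cases hiS : i ∈ S
      · rw [hyS i ((hS'blk i hi).mpr hiS)]
        rw [hSdef, Finset.mem_filter] at hiS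
        rcases h1in i hi with h' | h' <;> rcases (z44_cases i).1 hi with h'' | h'' <;>
          rw [h', h''] <;> rw [h', h''] at hiS <;> first | rfl | exact absurd rfl hiS.2
      · rw [hyO i hiO (fun h' => hiS ((hS'blk i hi).mp h'))]
        rw [hSdef, Finset.mem_filter] at hiS
        by_contra hne
        exact hiS ⟨List.mem_toFinset.mpr hi, hne⟩
    · rw [(z44_cases i).2 hi]
      by_cases hiO : i ∈ octB
      · by_cases hiS' : i ∈ S'
        · rw [hyS i hiS', h1out i hi]; rfl
        · rw [hyO i hiO hiS', h1out i hi]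
      · rcases hyout i hiO with h' | h' <;> rw [h', h1out i hi] <;> rfl
  rw [hy] at r2
  exact r1.trans r2

theorem nf_62 {z : IVec} (hz : z ∈ leechLattice) (hn : sqNorm z = 64) {O : Finset GolayPt}
    (hO : O ∈ octads) {a : GolayPt} (ha : a ∈ O) (h6 : z a = 6 ∨ z a = -6)
    (h2 : ∀ i ∈ O, i ≠ a → z i = 2 ∨ z i = -2) (h0 : ∀ i ∉ O, z i = 0) :
    KRel K z z62 := by
  classical
  have h8 : O.card = 8 := hO.2
  obtain ⟨s, hs, hs4⟩ := Finset.exists_subset_card_eq (s := O.erase a) (n := 4)
    (by rw [Finset.card_erase_of_mem ha, h8]; norm_num)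
  have has : a ∉ s := fun h => (Finset.mem_erase.mp (hs h)).1 rfl
  obtain ⟨g, hg, hmap, r1⟩ := krel_move hK hz (a :: s.toList) blk5
    (List.nodup_cons.mpr ⟨fun h => has (Finset.mem_toList.mp h), Finset.nodup_toList s⟩)
    blk5_nodup (by rw [List.length_cons, Finset.length_toList, hs4]; rfl)
    (by rw [List.length_cons, Finset.length_toList, hs4])
  have hlO : ∀ p ∈ a :: s.toList, p ∈ O := by
    intro p hp
    rw [List.mem_cons] at hp
    rcases hp with rfl | hp
    · exact ha
    · exact (Finset.mem_erase.mp (hs (Finset.mem_toList.mp hp))).2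
  have hgO := smul_eq_octB hO hg hlO hmap
  have hga : g a = gPt 23 := by
    have := congrArg List.head? hmap
    simpa [blk5] using this
  have hsymm : ∀ i, i ∈ octB ↔ g.symm i ∈ O := by
    intro i
    rw [← hgO, mem_smul_iff_symm]
  have hsymma : ∀ i, g.symm i = a ↔ i = gPt 23 := by
    intro i
    rw [Equiv.symm_apply_eq, hga]
  -- the moved vector
  have e1 : signedPerm g ∅ z (gPt 23) = 6 ∨ signedPerm g ∅ z (gPt 23) = -6 := by
    rw [signedPerm_empty_apply, (hsymma _).mpr rfl]
    exact h6
  have e2 : ∀ i ∈ octB, i ≠ gPt 23 → signedPerm g ∅ z i = 2 ∨ signedPerm g ∅ z i = -2 := by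
    intro i hi hne
    rw [signedPerm_empty_apply]
    exact h2 _ ((hsymm i).mp hi) (fun h => hne ((hsymma i).mp h))
  have e0 : ∀ i ∉ octB, signedPerm g ∅ z i = 0 := by
    intro i hi
    rw [signedPerm_empty_apply]
    exact h0 _ (fun h => hi ((hsymm i).mpr h))
  -- the signs
  have hxy : ∀ i, z62 i = signedPerm g ∅ z i ∨ z62 i = -signedPerm g ∅ z i := by
    intro i
    by_cases hi : i ∈ octB
    · by_cases h23 : i = gPt 23
      · subst h23
        rw [(z62_cases _).1 rfl]
        rcases e1 with h | h <;> rw [h] <;> norm_num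
      · rcases (z62_cases i).2.1 hi h23 with h | h <;> rcases e2 i hi h23 with h' | h' <;>
          rw [h, h'] <;> norm_num
    · rw [(z62_cases i).2.2 hi, e0 i hi]
      norm_num
  have hev := even_card_diff r1.mem_right (mem_of_leechChk z62_chk) hxy
    (fun i hi => by
      by_cases h23 : i = gPt 23
      · subst h23
        rcases e1 with h | h <;> rw [h] <;> norm_num
      · rcases e2 i hi h23 with h | h <;> rw [h] <;> norm_num)
    e0
  obtain ⟨y, r2, hyS, hyO, hyout⟩ := sign_fix hK octB_mem r1.mem_right (Finset.filter_subset _ _) hev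
  have hy : y = z62 := by
    ext i
    by_cases hi : i ∈ octB
    · by_cases hne : z62 i ≠ signedPerm g ∅ z i
      · rw [hyS i (Finset.mem_filter.mpr ⟨hi, hne⟩)]
        rcases hxy i with h | h
        · exact absurd h hne
        · exact h.symm
      · rw [hyO i hi (fun h => hne (Finset.mem_filter.mp h).2)]
        exact (not_not.mp hne).symm
    · rw [(z62_cases i).2.2 hi]
      rcases hyout i hi with h | h <;> rw [h, e0 i hi] <;> rfl
  rw [hy] at r2
  exact r1.trans r2


theorem nf_533 {k : GolayPt} {C : Finset GolayPt}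
    (hC : C ∈ supports (golayCode : Set (GolayPt → ZMod 2))) (hkA : k ≠ pA) (hkB : k ≠ pB)
    (hx : (pA ∉ C ∧ pB ∈ C) ∨ (pA ∈ C ∧ pB ∉ C))
    (hz : vA0 + signedPerm 1 C (oddBase k) ∈ leechLattice)
    (hn : sqNorm (vA0 + signedPerm 1 C (oddBase k)) = 64) :
    KRel K (vA0 + signedPerm 1 C (oddBase k)) y533a ∨
      KRel K (vA0 + signedPerm 1 C (oddBase k)) y533b := by
  classical
  obtain ⟨g, hg, hmap, r1⟩ := krel_move hK hz [pA, pB, k] [pA, pB, gPt 3]
    (by
      rw [List.nodup_cons, List.nodup_cons]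
      refine ⟨?_, ?_, List.nodup_singleton _⟩
      · rw [List.mem_cons, List.mem_singleton]
        rintro (h | h)
        · exact pA_ne_pB h
        · exact hkA h.symm
      · rw [List.mem_singleton]
        exact fun h => hkB h.symm)
    (by decide) rfl (by norm_num)
  have hgA : g pA = pA := by
    have := congrArg (fun l => l[0]?) hmap
    simpa using this
  have hgB : g pB = pB := by
    have := congrArg (fun l => l[1]?) hmap
    simpa using this
  have hgk : g k = gPt 3 := by
    have := congrArg (fun l => l[2]?) hmap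
    simpa using this
  have hgC := smul_mem_supports hg hC
  have hAiff : pA ∈ g • C ↔ pA ∈ C := by
    rw [mem_smul_iff_symm]
    have : g.symm pA = pA := by rw [Equiv.symm_apply_eq, hgA]
    rw [this]
  have hBiff : pB ∈ g • C ↔ pB ∈ C := by
    rw [mem_smul_iff_symm]
    have : g.symm pB = pB := by rw [Equiv.symm_apply_eq, hgB]
    rw [this]
  have hmoved : signedPerm g ∅ (vA0 + signedPerm 1 C (oddBase k)) =
      vA0 + signedPerm 1 (g • C) (oddBase (gPt 3)) := by
    rw [signedPerm_add, signedPerm_empty_vA0 hgA hgB, signedPerm_empty_signedPerm_one,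
      signedPerm_empty_oddBase, hgk]
  rw [hmoved] at r1
  have hn1 : sqNorm (vA0 + signedPerm 1 (g • C) (oddBase (gPt 3))) = 64 := by
    rw [r1.sqNorm_eq, hn]
  obtain ⟨f1, f2, f3, f4, -, f6, f7, -, -⟩ := c533_facts
  rcases hx with ⟨hA, hB⟩ | ⟨hA, hB⟩
  · -- normalise to the first form
    left
    have hC1 := setOf_mem_supports (m := 10305542) (by norm_num) f6
    have hC' := Cfsg.Agent.Helper26.golay_symmDiff hgC hC1
    have r2 := krel_sign hK r1.mem_right hC'
    have hA' : pA ∉ symmDiff (g • C) (setOf 10305542) := by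
      rw [Finset.mem_symmDiff, hAiff]
      rintro (⟨h, -⟩ | ⟨h, -⟩)
      · exact hA h
      · exact f1 h
    have hB' : pB ∉ symmDiff (g • C) (setOf 10305542) := by
      rw [Finset.mem_symmDiff, hBiff]
      rintro (⟨-, h⟩ | ⟨-, h⟩)
      · exact h f2
      · exact h hB
    rw [signedPerm_add, signedPerm_one_vA0 hA' hB', signedPerm_one_symmDiff] at r2
    exact r1.trans r2
  · right
    have hC1 := setOf_mem_supports (m := 6053905) (by norm_num) f7
    have hC' := Cfsg.Agent.Helper26.golay_symmDiff hgC hC1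
    have r2 := krel_sign hK r1.mem_right hC'
    have hA' : pA ∉ symmDiff (g • C) (setOf 6053905) := by
      rw [Finset.mem_symmDiff, hAiff]
      rintro (⟨-, h⟩ | ⟨-, h⟩)
      · exact h f3
      · exact h hA
    have hB' : pB ∉ symmDiff (g • C) (setOf 6053905) := by
      rw [Finset.mem_symmDiff, hBiff]
      rintro (⟨h, -⟩ | ⟨h, -⟩)
      · exact hB h
      · exact f4 h
    rw [signedPerm_add, signedPerm_one_vA0 hA' hB', signedPerm_one_symmDiff] at r2
    exact r1.trans r2

end Cfsg.Agent.Helper8.Mx
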