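import Mathlib
import Cfsg.Prelude.Def_SporadicCombinatorics
import Cfsg.Agent.Helper8.MaxNF
import Cfsg.Agent.Helper26.FivePt
import Cfsg.Agent.Helper26.OctadSplit

/-!
The normal form under the monomial group of the lattice vectors of shape `((±4)^2, (±2)^8)`.
-/

set_option autoImplicit false

namespace Cfsg.Agent.Helper8.Mx

open Cfsg Cfsg.Agent.Helper27 Cfsg.Agent.Helper92
open Cfsg.Agent.Helper92.Co1 (monoSub mem_monoSub card_monoSub)
open scoped Pointwise

/-- entries `±4` at `a`, `b`, entries `±2` on `O`, and `0` elsewhere -/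
def Shape42 (z : IVec) (O : Finset GolayPt) (a b : GolayPt) : Prop :=
  (z a = 4 ∨ z a = -4) ∧ (z b = 4 ∨ z b = -4) ∧ (∀ i ∈ O, z i = 2 ∨ z i = -2) ∧
    ∀ i ∉ O, i ≠ a → i ≠ b → z i = 0

theorem Shape42.perm {z : IVec} {O : Finset GolayPt} {a b : GolayPt} (h : Shape42 z O a b)
    (σ : Equiv.Perm GolayPt) : Shape42 (signedPerm σ ∅ z) (σ • O) (σ a) (σ b) := by
  obtain ⟨ha, hb, h2, h0⟩ := h
  refine ⟨?_, ?_, fun i hi => ?_, fun i hi hia hib => ?_⟩
  · rw [signedPerm_empty_apply, Equiv.symm_apply_apply]; exact ha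
  · rw [signedPerm_empty_apply, Equiv.symm_apply_apply]; exact hb
  · rw [signedPerm_empty_apply]
    exact h2 _ ((mem_smul_iff_symm σ O i).mp hi)
  · rw [signedPerm_empty_apply]
    apply h0
    · exact fun h => hi ((mem_smul_iff_symm σ O i).mpr h)
    · intro h
      apply hia
      rw [← h, Equiv.apply_symm_apply]
    · intro h
      apply hib
      rw [← h, Equiv.apply_symm_apply]

theorem Shape42.sign {z : IVec} {O : Finset GolayPt} {a b : GolayPt} (h : Shape42 z O a b)
    (C : Finset GolayPt) : Shape42 (signedPerm 1 C z) O a b := by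
  obtain ⟨ha, hb, h2, h0⟩ := h
  refine ⟨?_, ?_, fun i hi => ?_, fun i hi hia hib => ?_⟩
  · rw [signedPerm_one_apply]
    split_ifs <;> rcases ha with h | h <;> rw [h] <;> norm_num
  · rw [signedPerm_one_apply]
    split_ifs <;> rcases hb with h | h <;> rw [h] <;> norm_num
  · rw [signedPerm_one_apply]
    split_ifs <;> rcases h2 i hi with h | h <;> rw [h] <;> norm_num
  · rw [signedPerm_one_apply, h0 i hi hia hib]
    split_ifs <;> norm_num

/-- the normal form -/
def z42 : IVec := fun i => if i = gPt 3 ∨ i = gPt 5 then 4 else if i ∈ octB then 2 else 0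

set_option maxRecDepth 100000 in
theorem z42_chk : leechChk z42 = true := by decide +kernel

set_option maxRecDepth 100000 in
theorem z42_cases : ∀ i : GolayPt, (i ∈ octB → z42 i = 2) ∧ (i = gPt 3 → z42 i = 4) ∧
    (i = gPt 5 → z42 i = 4) ∧ (i ∉ octB → i ≠ gPt 3 → i ≠ gPt 5 → z42 i = 0) := by
  decide +kernel

/-- the octad made of the first and the third block -/
def octD : Finset GolayPt := setOf 8536111

theorem octD_mem : octD ∈ octads := by
  unfold octD
  rw [setOf_mem_octads_iff (by norm_num)]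
  decide +kernel

set_option maxRecDepth 100000 in
theorem octD_iff : ∀ i : GolayPt, i ∈ octD ↔ ((sxIdx i).1 = 0 ∨ (sxIdx i).1 = 2) := by
  decide +kernel

set_option maxRecDepth 100000 in
theorem octB_iff : ∀ i : GolayPt, i ∈ octB ↔ ((sxIdx i).1 = 0 ∨ (sxIdx i).1 = 1) := by
  decide +kernel

set_option maxRecDepth 100000 in
theorem signC_facts : isCode 3539848 = true ∧ isCode 1852256 = true ∧
    (∀ i : GolayPt, i ∈ octB → i ∉ setOf 3539848 ∧ i ∉ setOf 1852256) ∧
    gPt 3 ∈ setOf 3539848 ∧ gPt 5 ∉ setOf 3539848 ∧ gPt 3 ∉ setOf 1852256 ∧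
    gPt 5 ∈ setOf 1852256 ∧ gPt 3 ∉ octB ∧ gPt 5 ∉ octB ∧ gPt 3 ≠ gPt 5 := by
  decide +kernel

/-- two lattice vectors differing by signs, with entries `2 mod 4` on a set and divisible by `4`
off it, differ in an even number of places of the set -/
theorem even_card_diff4 {O : Finset GolayPt} {x y : IVec} (hx : x ∈ leechLattice)
    (hy : y ∈ leechLattice) (hxy : ∀ i, y i = x i ∨ y i = -x i) (h2 : ∀ i ∈ O, x i % 4 = 2)
    (h0 : ∀ i ∉ O, x i % 4 = 0) : Even (O.filter fun i => y i ≠ x i).card := by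
  classical
  have hd : x - y ∈ leechLattice := sub_mem hx hy
  have heven : (x - y) none % 2 = 0 := by
    rw [Pi.sub_apply]
    have h4 : x none % 2 = 0 := by
      by_cases hn : none ∈ O
      · have := h2 none hn; omega
      · have := h0 none hn; omega
    rcases hxy none with h | h <;> rw [h] <;> omega
  have hdvd := eight_dvd_sum_of_even hd none heven
  have hsplit : ∑ i, (x - y) i = ∑ i ∈ O, (x - y) i + ∑ i ∈ Oᶜ, (x - y) i :=
    (Finset.sum_add_sum_compl O _).symm
  have hout : (8 : ℤ) ∣ ∑ i ∈ Oᶜ, (x - y) i := by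
    apply Finset.dvd_sum
    intro i hi
    have h4 := h0 i (Finset.mem_compl.mp hi)
    rw [Pi.sub_apply]
    rcases hxy i with h | h <;> rw [h] <;> omega
  have hin : ∑ i ∈ O, (x - y) i =
      ∑ i ∈ O, ((if y i ≠ x i then (4 : ℤ) else 0) + 8 * ((x - y) i / 8)) := by
    refine Finset.sum_congr rfl fun i hi => ?_
    have h4 := h2 i hi
    rw [Pi.sub_apply]
    by_cases hne : y i ≠ x i
    · rw [if_pos hne]
      rcases hxy i with h | h
      · exact absurd h hne
      · rw [h]; omega
    · rw [if_neg hne, not_not.mp hne]; omega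
  rw [hsplit, hin, Finset.sum_add_distrib, ← Finset.mul_sum, Finset.sum_ite, Finset.sum_const_zero,
    add_zero, Finset.sum_const, nsmul_eq_mul] at hdvd
  obtain ⟨c, hc⟩ := hout
  rw [hc] at hdvd
  rw [Nat.even_iff]
  omega

set_option maxRecDepth 100000 in
theorem pts_facts : sxIdx (gPt 4) = (1, 0) ∧ gPt 3 ∈ octD ∧ gPt 5 ∈ octD ∧ gPt 4 ∉ octD ∧
    gPt 5 ∉ blk5' ∧ (∀ p ∈ blk5', p ∈ octD) ∧ (∀ p ∈ blk1, p ∈ octD) := by
  decide +kernel

variable {K : Subgroup ↥Co0} (hK : monoSub ≤ K)
include hK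

/-- fixing the signs once the support is standard -/
theorem nf_42_signs {z : IVec} (hz : z ∈ leechLattice) (h : Shape42 z octB (gPt 3) (gPt 5)) :
    KRel K z z42 := by
  classical
  obtain ⟨c1, c2, hdis, h31, h51, h32, h52, h3B, h5B, h35⟩ := signC_facts
  have hC1 := setOf_mem_supports (m := 3539848) (by norm_num) c1
  have hC2 := setOf_mem_supports (m := 1852256) (by norm_num) c2
  -- first the octad
  have hxy : ∀ i, z42 i = z i ∨ z42 i = -z i := by
    intro i
    by_cases hi : i ∈ octB
    · rw [(z42_cases i).1 hi]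
      rcases h.2.2.1 i hi with h' | h' <;> rw [h'] <;> norm_num
    · by_cases hi3 : i = gPt 3
      · rw [(z42_cases i).2.1 hi3, hi3]
        rcases h.1 with h' | h' <;> rw [h'] <;> norm_num
      · by_cases hi5 : i = gPt 5
        · rw [(z42_cases i).2.2.1 hi5, hi5]
          rcases h.2.1 with h' | h' <;> rw [h'] <;> norm_num
        · rw [(z42_cases i).2.2.2 hi hi3 hi5, h.2.2.2 i hi hi3 hi5]
          norm_num
  have hev := even_card_diff4 hz (mem_of_leechChk z42_chk) hxy
    (fun i hi => by rcases h.2.2.1 i hi with h' | h' <;> rw [h'] <;> norm_num)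
    (fun i hi => by
      by_cases hi3 : i = gPt 3
      · rw [hi3]; rcases h.1 with h' | h' <;> rw [h'] <;> norm_num
      · by_cases hi5 : i = gPt 5
        · rw [hi5]; rcases h.2.1 with h' | h' <;> rw [h'] <;> norm_num
        · rw [h.2.2.2 i hi hi3 hi5]; norm_num)
  obtain ⟨C0, hC0, hC0S⟩ := exists_code_inter_octad octB_mem
    (Finset.filter_subset (fun i => z42 i ≠ z i) octB) hev
  have r1 := krel_sign hK hz hC0
  have s1 := h.sign C0
  have e1 : ∀ i ∈ octB, signedPerm 1 C0 z i = 2 := by
    intro i hi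
    rw [signedPerm_one_apply]
    have hiC : i ∈ C0 ↔ z42 i ≠ z i := by
      have : i ∈ C0 ∩ octB ↔ i ∈ octB.filter fun i => z42 i ≠ z i := by rw [hC0S]
      rw [Finset.mem_inter, Finset.mem_filter] at this
      constructor
      · intro h'; exact (this.mp ⟨h', hi⟩).2
      · intro h'; exact (this.mpr ⟨hi, h'⟩).1
    have h42 := (z42_cases i).1 hi
    by_cases hc : i ∈ C0
    · rw [if_pos hc]
      have hne := hiC.mp hc
      rcases hxy i with h' | h'
      · exact absurd h' hne
      · rw [← h', h42]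
    · rw [if_neg hc]
      have : z42 i = z i := by
        by_contra hne
        exact hc (hiC.mpr hne)
      rw [← this, h42]
  -- the entry at the first point
  obtain ⟨y2, r2, s2, e2, f2⟩ : ∃ y2 : IVec, KRel K (signedPerm 1 C0 z) y2 ∧
      Shape42 y2 octB (gPt 3) (gPt 5) ∧ (∀ i ∈ octB, y2 i = 2) ∧ y2 (gPt 3) = 4 := by
    rcases s1.1 with h' | h'
    · exact ⟨_, KRel.refl r1.mem_right, s1, e1, h'⟩
    · refine ⟨_, krel_sign hK r1.mem_right hC1, s1.sign _, fun i hi => ?_, ?_⟩
      · rw [signedPerm_one_apply, if_neg (hdis i hi).1]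
        exact e1 i hi
      · rw [signedPerm_one_apply, if_pos h31, h']
        norm_num
  -- the entry at the second point
  obtain ⟨y3, r3, s3, e3, f3, g3⟩ : ∃ y3 : IVec, KRel K y2 y3 ∧
      Shape42 y3 octB (gPt 3) (gPt 5) ∧ (∀ i ∈ octB, y3 i = 2) ∧ y3 (gPt 3) = 4 ∧
      y3 (gPt 5) = 4 := by
    rcases s2.2.1 with h' | h'
    · exact ⟨_, KRel.refl r2.mem_right, s2, e2, f2, h'⟩
    · refine ⟨_, krel_sign hK r2.mem_right hC2, s2.sign _, fun i hi => ?_, ?_, ?_⟩
      · rw [signedPerm_one_apply, if_neg (hdis i hi).2]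
        exact e2 i hi
      · rw [signedPerm_one_apply, if_neg h32]
        exact f2
      · rw [signedPerm_one_apply, if_pos h52, h']
        norm_num
  have hy3 : y3 = z42 := by
    ext i
    by_cases hi : i ∈ octB
    · rw [(z42_cases i).1 hi, e3 i hi]
    · by_cases hi3 : i = gPt 3
      · rw [(z42_cases i).2.1 hi3, hi3, f3]
      · by_cases hi5 : i = gPt 5
        · rw [(z42_cases i).2.2.1 hi5, hi5, g3]
        · rw [(z42_cases i).2.2.2 hi hi3 hi5, s3.2.2.2 i hi hi3 hi5]
  rw [hy3] at r3
  exact (r1.trans r2).trans r3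

/-- the normal form of the vectors of shape `((±4)^2, (±2)^8)` under the monomial group -/
theorem nf_42 {z : IVec} (hz : z ∈ leechLattice) {O : Finset GolayPt}
    (hO : O ∈ octads) {a b : GolayPt} (haO : a ∉ O) (hbO : b ∉ O) (hab : a ≠ b)
    (h : Shape42 z O a b) : KRel K z z42 := by
  classical
  have hSt := Cfsg.Agent.Helper27.octads_steiner
  have h8 : O.card = 8 := hO.2
  -- three points of the octad, and the octad through them and the two outer points
  obtain ⟨s3, hs3, hs3c⟩ := Finset.exists_subset_card_eq (s := O) (n := 3) (by rw [h8]; norm_num)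
  have has3 : a ∉ s3 := fun h => haO (hs3 h)
  have hbs3 : b ∉ s3 := fun h => hbO (hs3 h)
  have hF5 : (insert a (insert b s3)).card = 5 := by
    rw [Finset.card_insert_of_notMem, Finset.card_insert_of_notMem hbs3, hs3c]
    rw [Finset.mem_insert]
    rintro (h | h)
    · exact hab h
    · exact has3 h
  obtain ⟨O2, ⟨hO2, hF⟩, -⟩ := hSt.2 _ hF5
  have haO2 : a ∈ O2 := hF (Finset.mem_insert_self _ _)
  have hbO2 : b ∈ O2 := hF (Finset.mem_insert_of_mem (Finset.mem_insert_self _ _))
  have hs3O2 : s3 ⊆ O2 := fun i hi =>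
    hF (Finset.mem_insert_of_mem (Finset.mem_insert_of_mem hi))
  have hne : O ≠ O2 := fun h => haO (h ▸ haO2)
  have hQ4 : (O ∩ O2).card = 4 := by
    have h1 := Cfsg.Agent.Helper26.octad_inter_card hSt hO hO2 hne
    have h2 : 3 ≤ (O ∩ O2).card := by
      rw [← hs3c]
      exact Finset.card_le_card (Finset.subset_inter hs3 hs3O2)
    omega
  have haQ : a ∉ O ∩ O2 := fun h => haO (Finset.mem_inter.mp h).1
  have hbQ : b ∉ O ∩ O2 := fun h => hbO (Finset.mem_inter.mp h).1
  -- the move of six points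
  obtain ⟨g, hg, hmap, hgb⟩ := Cfsg.Agent.Helper26.exists_map_six ((O ∩ O2).toList ++ [a]) blk5'
    (by
      rw [List.nodup_append]
      refine ⟨Finset.nodup_toList _, List.nodup_singleton a, ?_⟩
      intro x hx y hy hxy
      rw [List.mem_singleton] at hy
      rw [hxy, hy] at hx
      exact haQ (Finset.mem_toList.mp hx))
    blk5'_nodup
    (by rw [List.length_append, Finset.length_toList, hQ4]; rfl) rfl b (gPt 5)
    (by
      rw [List.mem_append, Finset.mem_toList, List.mem_singleton]
      rintro (h | h)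
      · exact hbQ h
      · exact hab h.symm)
    pts_facts.2.2.2.2.1
    (by
      constructor
      · intro _
        exact ⟨octD, octD_mem, pts_facts.2.2.2.2.2.1, pts_facts.2.2.1⟩
      · intro _
        refine ⟨O2, hO2, fun p hp => ?_, hbO2⟩
        rw [List.mem_append, Finset.mem_toList, List.mem_singleton] at hp
        rcases hp with h | h
        · exact (Finset.mem_inter.mp h).2
        · rw [h]; exact haO2)
  rw [List.map_append] at hmap
  have hmap' : (O ∩ O2).toList.map (⇑g) = blk1 ∧ [a].map (⇑g) = [gPt 3] := by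
    apply List.append_inj hmap
    rw [List.length_map, Finset.length_toList, hQ4]
    rfl
  have hga : g a = gPt 3 := by
    have := hmap'.2
    simpa using this
  have hgQ : ∀ i, i ∈ blk1 ↔ g.symm i ∈ O ∩ O2 := by
    intro i
    rw [← hmap'.1, List.mem_map]
    constructor
    · rintro ⟨q, hq, rfl⟩
      rw [Equiv.symm_apply_apply]
      exact Finset.mem_toList.mp hq
    · intro h
      exact ⟨g.symm i, Finset.mem_toList.mpr h, by simp⟩
  have r1 := krel_perm hK hz hg
  have s1 := h.perm g
  rw [hga, hgb] at s1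
  have hgOmem : g • O ∈ octads := Cfsg.Agent.Helper7.smul_mem_octads hg hO
  -- the image of the octad
  obtain ⟨k, hk0, hk⟩ := octads_through_blk1 hgOmem
    (fun i hi => (mem_smul_iff_symm g O i).mpr (Finset.mem_inter.mp ((hgQ i).mp hi)).1)
  have hk2 : k ≠ 2 := by
    intro h
    have := (hk (gPt 3)).mpr (Or.inr (by rw [sxIdx_gPt3, h]))
    rw [mem_smul_iff_symm, ← hga, Equiv.symm_apply_apply] at this
    exact haO this
  -- the translation moving the second block of the octad to the standard one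
  have hp : sxPt (k, 0) ∉ octD := by
    rw [octD_iff, sxIdx_sxPt]
    rintro (h | h)
    · exact hk0 h
    · exact hk2 h
  obtain ⟨t, ht, htp⟩ := Cfsg.Agent.Helper26.octK_trans octD_mem hp pts_facts.2.2.2.1
  rw [Cfsg.Agent.Helper26.mem_octK_iff] at ht
  have r2 := krel_perm hK r1.mem_right ht.1
  have s2 := s1.perm t
  rw [ht.2 _ pts_facts.2.1, ht.2 _ pts_facts.2.2.1] at s2
  have htOmem : t • (g • O) ∈ octads := Cfsg.Agent.Helper7.smul_mem_octads ht.1 hgOmem
  obtain ⟨k', hk'0, hk'⟩ := octads_through_blk1 htOmem (fun i hi => by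
    rw [mem_smul_iff_symm]
    have hfix : t.symm i = i := by
      rw [Equiv.symm_apply_eq, ht.2 _ (pts_facts.2.2.2.2.2.2 i hi)]
    rw [hfix, hk]
    left
    exact (blk1_block i).mpr hi)
  have h4mem : gPt 4 ∈ t • (g • O) := by
    rw [mem_smul_iff_symm, ← htp, Equiv.symm_apply_apply, hk, sxIdx_sxPt]
    right; rfl
  have hk'1 : k' = 1 := by
    have := (hk' (gPt 4)).mp h4mem
    rw [pts_facts.1] at this
    rcases this with h | h
    · exact absurd h (by decide)
    · exact h.symm
  have hOeq : t • (g • O) = octB := by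
    ext i
    rw [hk', octB_iff, hk'1]
  rw [hOeq] at s2
  exact (r1.trans r2).trans (nf_42_signs hK r2.mem_right s2)

end Cfsg.Agent.Helper8.Mx
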