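import Mathlib
import Cfsg.Prelude.Def_SporadicCombinatorics
import Cfsg.Agent.Helper8.MaxNF42

/-!
The sum of the base vector `(4, 4, 0, …)` and an orthogonal minimal vector of the rank-24 lattice
is a multiple of 4 or is equivalent under the monomial group to one of four normal forms.
-/

set_option autoImplicit false

namespace Cfsg.Agent.Helper8.Mx

open Cfsg Cfsg.Agent.Helper27 Cfsg.Agent.Helper92
open Cfsg.Agent.Helper92.Co1 (monoSub mem_monoSub card_monoSub)
open scoped Pointwise

/-- the sum of the base vector and an orthogonal minimal vector -/
theorem orth_cases {w : IVec} (hw : w ∈ leechLattice) (hwn : sqNorm w = 32)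
    (hdot : dotInt vA0 w = 0) : (∀ i, (4 : ℤ) ∣ (vA0 + w) i) ∨ KRel monoSub (vA0 + w) z62 ∨
      KRel monoSub (vA0 + w) z42 ∨ KRel monoSub (vA0 + w) y533a ∨
      KRel monoSub (vA0 + w) y533b := by
  classical
  have hsum : w pA + w pB = 0 := by
    rw [dotInt_vA0] at hdot
    omega
  have hz : vA0 + w ∈ leechLattice := leechLattice.add_mem vA0_mem hw
  have hvn : sqNorm vA0 = 32 := by decide +kernel
  have hn : sqNorm (vA0 + w) = 64 := by
    rw [sqNorm_add, hvn, hwn, hdot]
    norm_num
  rcases min_cases hw hwn with hA | hB | hC
  · -- shape A
    obtain ⟨i, j, s, t, -, hs, ht, rfl⟩ := hA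
    left
    intro k
    rw [Pi.add_apply, Pi.add_apply, Pi.single_apply, Pi.single_apply]
    apply dvd_add (four_dvd_vA0 k)
    apply dvd_add
    · split_ifs
      · rcases hs with rfl | rfl <;> norm_num
      · exact dvd_zero _
    · split_ifs
      · rcases ht with rfl | rfl <;> norm_num
      · exact dvd_zero _
  · -- shape B
    obtain ⟨O, hO, h2, h0⟩ := hB
    by_cases hAO : pA ∈ O
    · by_cases hBO : pB ∈ O
      · -- opposite signs at the two points
        rcases h2 pA hAO with hwA | hwA
        · have hwB : w pB = -2 := by omega
          right; left
          apply nf_62 le_rfl hz hn hO hAO (a := pA)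
          · left
            rw [Pi.add_apply, vA0_pA, hwA]
            norm_num
          · intro i hi hiA
            rw [Pi.add_apply]
            by_cases hiB : i = pB
            · left
              rw [hiB, vA0_pB, hwB]
              norm_num
            · rw [vA0_other hiA hiB, zero_add]
              exact h2 i hi
          · intro i hi
            have hiA : i ≠ pA := by
              rintro rfl
              exact hi hAO
            have hiB : i ≠ pB := by
              rintro rfl
              exact hi hBO
            rw [Pi.add_apply, h0 i hi, vA0_other hiA hiB]
            norm_num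
        · have hwB : w pB = 2 := by omega
          right; left
          apply nf_62 le_rfl hz hn hO hBO (a := pB)
          · left
            rw [Pi.add_apply, vA0_pB, hwB]
            norm_num
          · intro i hi hiB
            rw [Pi.add_apply]
            by_cases hiA : i = pA
            · left
              rw [hiA, vA0_pA, hwA]
              norm_num
            · rw [vA0_other hiA hiB, zero_add]
              exact h2 i hi
          · intro i hi
            have hiA : i ≠ pA := by
              rintro rfl
              exact hi hAO
            have hiB : i ≠ pB := by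
              rintro rfl
              exact hi hBO
            rw [Pi.add_apply, h0 i hi, vA0_other hiA hiB]
            norm_num
      · exfalso
        have := h0 pB hBO
        rcases h2 pA hAO with h | h <;> omega
    · by_cases hBO : pB ∈ O
      · exfalso
        have := h0 pA hAO
        rcases h2 pB hBO with h | h <;> omega
      · right; right; left
        apply nf_42 le_rfl hz hO hAO hBO pA_ne_pB
        refine ⟨?_, ?_, ?_, ?_⟩
        · left
          rw [Pi.add_apply, vA0_pA, h0 pA hAO]
          norm_num
        · left
          rw [Pi.add_apply, vA0_pB, h0 pB hBO]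
          norm_num
        · intro i hi
          have hiA : i ≠ pA := by
            rintro rfl
            exact hAO hi
          have hiB : i ≠ pB := by
            rintro rfl
            exact hBO hi
          rw [Pi.add_apply, vA0_other hiA hiB, zero_add]
          exact h2 i hi
        · intro i hi hiA hiB
          rw [Pi.add_apply, vA0_other hiA hiB, h0 i hi]
          norm_num
  · -- shape C
    obtain ⟨k, C, hC, rfl⟩ := hC
    have hwA : signedPerm 1 C (oddBase k) pA =
        (if pA ∈ C then -1 else 1) * (if pA = k then (-3 : ℤ) else 1) := by
      rw [signedPerm_one_apply]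
      unfold oddBase
      split_ifs <;> ring
    have hwB : signedPerm 1 C (oddBase k) pB =
        (if pB ∈ C then -1 else 1) * (if pB = k then (-3 : ℤ) else 1) := by
      rw [signedPerm_one_apply]
      unfold oddBase
      split_ifs <;> ring
    rw [hwA, hwB] at hsum
    have hkA : k ≠ pA := by
      intro h
      have h1 : pB ≠ k := fun h' => pA_ne_pB (h'.trans h).symm
      rw [if_pos h.symm, if_neg h1] at hsum
      split_ifs at hsum <;> omega
    have hkB : k ≠ pB := by
      intro h
      have h1 : pA ≠ k := fun h' => pA_ne_pB (h'.trans h)
      rw [if_pos h.symm, if_neg h1] at hsum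
      split_ifs at hsum <;> omega
    have h1 : pA ≠ k := fun h => hkA h.symm
    have h2 : pB ≠ k := fun h => hkB h.symm
    rw [if_neg h1, if_neg h2] at hsum
    right; right; right
    apply nf_533 le_rfl hC hkA hkB ?_ hz hn
    by_cases hA : pA ∈ C
    · by_cases hB : pB ∈ C
      · exfalso
        rw [if_pos hA, if_pos hB] at hsum
        omega
      · exact Or.inr ⟨hA, hB⟩
    · by_cases hB : pB ∈ C
      · exact Or.inl ⟨hA, hB⟩
      · exfalso
        rw [if_neg hA, if_neg hB] at hsum
        omega


end Cfsg.Agent.Helper8.Mx
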