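import Mathlib
import Cfsg.Prelude.Def_SporadicCombinatorics
import Cfsg.Agent.Helper8.MaxOrth

/-!
Explicit words in monomial maps and the extra automorphism taking the four normal forms to a
standard vector, and explicit monomial maps after which the same words lead to vectors with
entries `0`, `±4`.
-/

set_option autoImplicit false

namespace Cfsg.Agent.Helper8.Mx

open Cfsg Cfsg.Agent.Helper27 Cfsg.Agent.Helper92

/-- the list of the standard vector -/
def e2L : List ℤ := [0, 0, 8, 0, 0, 0, 0, 0, 0, 0, 0, 0, 0, 0, 0, 0, 0, 0, 0, 0, 0, 0, 0, 0]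

set_option maxRecDepth 100000 in
theorem e2L_vec : ∀ i : GolayPt, vecOf e2L i = (Pi.single (gPt 2) 8 : IVec) i := by decide +kernel

/-! ### the normal form `z62` -/

/-- the word taking the normal form to the standard vector -/
def wE : List Letter := [.X,
  .P [2, 1, 23, 3, 15, 11, 14, 6, 8, 5, 18, 17, 4, 9, 21, 7, 20, 16, 19, 22, 13, 12, 0, 10] [22, 1, 0, 3, 12, 9, 7, 15, 8, 13, 23, 5, 21, 20, 6, 4, 17, 11, 10, 18, 16, 14, 19, 2],
  .S 28637,
  .X]

/-- a monomial word -/
def nE : List Letter := [.P [4, 22, 23, 8, 2, 17, 21, 18, 15, 11, 14, 6, 5, 0, 7, 19, 13, 9, 12, 3, 10, 20, 1, 16] [13, 22, 4, 19, 0, 12, 11, 14, 3, 17, 20, 9, 18, 16, 10, 8, 23, 5, 7, 15, 21, 6, 1, 2],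
  .S 6568299]

/-- the list of the normal form -/
def lE : List ℤ := [2, 2, 2, 0, 2, 0, 0, 0, 0, 0, 0, 0, 0, 2, 0, 0, 2, 0, 0, 0, 0, 0, -2, 6]

/-- the list of the image of the normal form under the monomial word and the word -/
def rE : List ℤ := [-4, 0, 4, 0, 0, 0, 0, 0, 0, 0, -4, 0, 0, 0, 0, -4, 0, 0, 0, 0, 0, 0, 0, 0]

set_option maxRecDepth 100000 in
theorem wE_ok : okW wE = true := by decide +kernel

set_option maxRecDepth 100000 in
theorem nE_ok : okW nE = true := by decide +kernel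

theorem nE_mono : monoW nE = true := by decide

set_option maxRecDepth 100000 in
theorem lE_vec : ∀ i : GolayPt, vecOf lE i = z62 i := by decide +kernel

set_option maxRecDepth 100000 in
theorem wE_run : runW wE lE = e2L := by decide +kernel

set_option maxRecDepth 100000 in
theorem nwE_run : runW wE (runW nE lE) = rE := by decide +kernel

set_option maxRecDepth 100000 in
theorem rE_44 : ∀ i : GolayPt, vecOf rE i = 0 ∨ vecOf rE i = 4 ∨ vecOf rE i = -4 := by
  decide +kernel

/-! ### the normal form `z42` -/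

/-- the word taking the normal form to the standard vector -/
def wD : List Letter := [.S 14760928,
  .X,
  .P [16, 9, 3, 1, 2, 0, 12, 17, 11, 10, 20, 6, 4, 22, 7, 19, 14, 18, 13, 5, 8, 21, 15, 23] [5, 3, 4, 2, 12, 19, 11, 14, 20, 1, 9, 8, 6, 18, 16, 22, 0, 7, 17, 15, 10, 21, 13, 23],
  .S 28637,
  .X]

/-- a monomial word -/
def nD : List Letter := [.P [23, 13, 18, 2, 4, 1, 16, 19, 14, 8, 11, 17, 21, 12, 7, 6, 0, 10, 20, 9, 15, 22, 3, 5] [16, 5, 3, 22, 4, 23, 15, 14, 9, 19, 17, 10, 13, 1, 8, 20, 6, 11, 2, 7, 18, 12, 21, 0],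
  .S 2141072]

/-- the list of the normal form -/
def lD : List ℤ := [2, 2, 2, 4, 2, 4, 0, 0, 0, 0, 0, 0, 0, 2, 0, 0, 2, 0, 0, 0, 0, 0, 2, 2]

/-- the list of the image of the normal form under the monomial word and the word -/
def rD : List ℤ := [4, 4, 4, 0, 0, 0, 0, 0, 0, 0, 0, 0, 0, -4, 0, 0, 0, 0, 0, 0, 0, 0, 0, 0]

set_option maxRecDepth 100000 in
theorem wD_ok : okW wD = true := by decide +kernel

set_option maxRecDepth 100000 in
theorem nD_ok : okW nD = true := by decide +kernel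

theorem nD_mono : monoW nD = true := by decide

set_option maxRecDepth 100000 in
theorem lD_vec : ∀ i : GolayPt, vecOf lD i = z42 i := by decide +kernel

set_option maxRecDepth 100000 in
theorem wD_run : runW wD lD = e2L := by decide +kernel

set_option maxRecDepth 100000 in
theorem nwD_run : runW wD (runW nD lD) = rD := by decide +kernel

set_option maxRecDepth 100000 in
theorem rD_44 : ∀ i : GolayPt, vecOf rD i = 0 ∨ vecOf rD i = 4 ∨ vecOf rD i = -4 := by
  decide +kernel

/-! ### the normal form `y533a` -/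

/-- the word taking the normal form to the standard vector -/
def wGa : List Letter := [.X,
  .P [16, 7, 3, 4, 9, 23, 17, 10, 15, 18, 21, 12, 14, 20, 19, 11, 22, 2, 0, 1, 13, 8, 6, 5] [18, 19, 17, 2, 3, 23, 22, 1, 21, 4, 7, 15, 11, 20, 12, 8, 0, 6, 9, 14, 13, 10, 16, 5],
  .S 4713491,
  .S 14760928,
  .X,
  .P [16, 9, 3, 1, 2, 0, 12, 17, 11, 10, 20, 6, 4, 22, 7, 19, 14, 18, 13, 5, 8, 21, 15, 23] [5, 3, 4, 2, 12, 19, 11, 14, 20, 1, 9, 8, 6, 18, 16, 22, 0, 7, 17, 15, 10, 21, 13, 23],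
  .S 28637,
  .X]

/-- a monomial word -/
def nGa : List Letter := [.P [23, 16, 22, 21, 12, 14, 20, 2, 11, 18, 19, 3, 8, 6, 1, 13, 15, 7, 0, 17, 9, 10, 4, 5] [18, 14, 7, 11, 22, 23, 13, 17, 12, 20, 21, 8, 4, 15, 5, 16, 1, 19, 9, 10, 6, 3, 2, 0],
  .S 10113246]

/-- the list of the normal form -/
def lGa : List ℤ := [5, 3, -1, -3, 1, 1, 1, 1, 1, 1, 1, 1, 1, 1, -1, 1, -1, 1, -1, -1, -1, 1, 1, -1]

/-- the list of the image of the normal form under the monomial word and the word -/
def rGa : List ℤ := [0, 0, 0, 0, 0, -4, 4, 0, 0, 0, 0, 0, 0, 0, 0, 4, 0, 0, 0, 4, 0, 0, 0, 0]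

set_option maxRecDepth 100000 in
theorem wGa_ok : okW wGa = true := by decide +kernel

set_option maxRecDepth 100000 in
theorem nGa_ok : okW nGa = true := by decide +kernel

theorem nGa_mono : monoW nGa = true := by decide

set_option maxRecDepth 100000 in
theorem lGa_vec : ∀ i : GolayPt, vecOf lGa i = y533a i := by decide +kernel

set_option maxRecDepth 100000 in
theorem wGa_run : runW wGa lGa = e2L := by decide +kernel

set_option maxRecDepth 100000 in
theorem nwGa_run : runW wGa (runW nGa lGa) = rGa := by decide +kernel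

set_option maxRecDepth 100000 in
theorem rGa_44 : ∀ i : GolayPt, vecOf rGa i = 0 ∨ vecOf rGa i = 4 ∨ vecOf rGa i = -4 := by
  decide +kernel

/-! ### the normal form `y533b` -/

/-- the word taking the normal form to the standard vector -/
def wGb : List Letter := [.X,
  .P [0, 18, 5, 23, 7, 4, 17, 19, 21, 10, 11, 9, 14, 6, 12, 15, 2, 13, 22, 16, 1, 20, 8, 3] [0, 20, 16, 23, 5, 2, 13, 4, 22, 11, 9, 10, 14, 17, 12, 15, 19, 6, 1, 7, 21, 8, 18, 3],
  .S 12944642,
  .S 14760928,
  .X,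
  .P [16, 9, 3, 1, 2, 0, 12, 17, 11, 10, 20, 6, 4, 22, 7, 19, 14, 18, 13, 5, 8, 21, 15, 23] [5, 3, 4, 2, 12, 19, 11, 14, 20, 1, 9, 8, 6, 18, 16, 22, 0, 7, 17, 15, 10, 21, 13, 23],
  .S 28637,
  .X]

/-- a monomial word -/
def nGb : List Letter := [.P [1, 19, 22, 0, 6, 3, 18, 4, 8, 16, 10, 21, 15, 20, 13, 9, 14, 5, 17, 23, 2, 12, 11, 7] [3, 0, 20, 5, 7, 17, 4, 23, 8, 15, 10, 22, 21, 14, 16, 12, 9, 18, 6, 1, 13, 11, 2, 19],
  .S 1565160]

/-- the list of the normal form -/
def lGb : List ℤ := [3, 5, 1, -3, -1, 1, 1, 1, 1, 1, 1, 1, 1, -1, -1, 1, 1, 1, -1, -1, -1, 1, -1, 1]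

/-- the list of the image of the normal form under the monomial word and the word -/
def rGb : List ℤ := [0, 0, 0, 0, 4, 0, 0, -4, 0, 0, 0, 0, 0, 0, 0, 0, 0, 4, -4, 0, 0, 0, 0, 0]

set_option maxRecDepth 100000 in
theorem wGb_ok : okW wGb = true := by decide +kernel

set_option maxRecDepth 100000 in
theorem nGb_ok : okW nGb = true := by decide +kernel

theorem nGb_mono : monoW nGb = true := by decide

set_option maxRecDepth 100000 in
theorem lGb_vec : ∀ i : GolayPt, vecOf lGb i = y533b i := by decide +kernel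

set_option maxRecDepth 100000 in
theorem wGb_run : runW wGb lGb = e2L := by decide +kernel

set_option maxRecDepth 100000 in
theorem nwGb_run : runW wGb (runW nGb lGb) = rGb := by decide +kernel

set_option maxRecDepth 100000 in
theorem rGb_44 : ∀ i : GolayPt, vecOf rGb i = 0 ∨ vecOf rGb i = 4 ∨ vecOf rGb i = -4 := by
  decide +kernel

end Cfsg.Agent.Helper8.Mx
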