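import Mathlib
import Cfsg.Prelude.Def_SporadicCombinatorics
import Cfsg.Agent.Helper8.MaxWords

/-!
A subgroup of the automorphism group of the rank-24 lattice containing the monomial group and the
extra automorphism is the whole group.
-/

set_option autoImplicit false

namespace Cfsg.Agent.Helper8.Mx

open Cfsg Cfsg.Agent.Helper27 Cfsg.Agent.Helper92
open Cfsg.Agent.Helper92.Co1 (monoSub mem_monoSub card_monoSub)
open scoped Pointwise

variable {K : Subgroup ↥Co0} (hK : monoSub ≤ K)

section mono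
include hK

theorem krel_std (p : GolayPt) {s : ℤ} (hs : s = 8 ∨ s = -8) :
    KRel K (Pi.single p s) (Pi.single (gPt 2) 8) := by
  have hmem := single8_mem p s hs
  obtain ⟨g, hg, hmap, r1⟩ := krel_move hK hmem [p] [gPt 2] (List.nodup_singleton _)
    (List.nodup_singleton _) rfl (by norm_num)
  have hgp : g p = gPt 2 := by simpa using hmap
  rw [signedPerm_empty_single, hgp] at r1
  rcases hs with rfl | rfl
  · exact r1
  · have r2 := krel_neg hK r1.mem_right
    rw [← Pi.single_neg, neg_neg] at r2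
    exact r1.trans r2

end mono

variable (hX : xiCo0 ∈ K)
include hK hX

/-- the subgroup is transitive on the lattice vectors of sum of squares 32 -/
theorem krel_min32 {x : IVec} (hx : x ∈ leechLattice) (hn : sqNorm x = 32) : KRel K vA0 x := by
  have rAB : KRel K vA0 (twoInd octB) :=
    ((nfA hK isA_vA1).trans (krel_xi hX (nfA hK isA_vA1).mem_right)).trans
      (nfB hK (krel_xi hX (nfA hK isA_vA1).mem_right).mem_right isB_xi_vA1)
  have rAC : KRel K vA0 vC0 :=
    ((rAB.trans (nfB hK vB1_mem isB_vB1).symm).trans (krel_xi hX vB1_mem)).trans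
      (nfC hK isC_xi_vB1).symm
  rcases min_cases hx hn with h | h | h
  · exact nfA hK h
  · exact rAB.trans (nfB hK hx h).symm
  · exact rAC.trans (nfC hK h)

theorem krel_44 {z : IVec} (hz : z ∈ leechLattice) (hn : sqNorm z = 64) (h : Is44 z) :
    KRel K z (Pi.single (gPt 2) 8) := by
  have r1 := nf_44 hK hz hn h
  have r2 := krel_xi hX r1.mem_right
  rw [funext xi_z44] at r2
  exact r1.trans r2

theorem krel_mult4 {z : IVec} (hz : z ∈ leechLattice) (hn : sqNorm z = 64)
    (h4 : ∀ i, (4 : ℤ) ∣ z i) : KRel K z (Pi.single (gPt 2) 8) := by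
  classical
  by_cases h : Is44 z
  · exact krel_44 hK hX hz hn h
  · unfold Is44 at h
    rw [not_forall] at h
    obtain ⟨k, hk⟩ := h
    have hsq : z k ^ 2 + ∑ i ∈ Finset.univ.erase k, z i ^ 2 = 64 := by
      rw [← hn]
      unfold sqNorm
      exact Finset.add_sum_erase Finset.univ (fun i => z i ^ 2) (Finset.mem_univ k)
    have hrest : 0 ≤ ∑ i ∈ Finset.univ.erase k, z i ^ 2 :=
      Finset.sum_nonneg fun i _ => sq_nonneg (z i)
    obtain ⟨m, hm⟩ := h4 k
    have hm2 : m = 2 ∨ m = -2 := by
      have h1 : -2 ≤ m := by nlinarith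
      have h2 : m ≤ 2 := by nlinarith
      have h3 : m ≠ 0 := fun h => hk (Or.inl (by rw [hm, h]; norm_num))
      have h4 : m ≠ 1 := fun h => hk (Or.inr (Or.inl (by rw [hm, h]; norm_num)))
      have h5 : m ≠ -1 := fun h => hk (Or.inr (Or.inr (by rw [hm, h]; norm_num)))
      omega
    have hs0 : ∑ i ∈ Finset.univ.erase k, z i ^ 2 = 0 := by
      rcases hm2 with h | h <;> rw [hm, h] at hsq <;> linarith
    have hzero : ∀ i, i ≠ k → z i = 0 := by
      intro i hi
      have := (Finset.sum_eq_zero_iff_of_nonneg (fun i _ => sq_nonneg (z i))).mp hs0 i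
        (Finset.mem_erase.mpr ⟨hi, Finset.mem_univ _⟩)
      exact pow_eq_zero_iff (two_ne_zero) |>.mp this
    have hzeq : z = Pi.single k (z k) := by
      ext i
      by_cases hi : i = k
      · subst hi
        rw [Pi.single_eq_same]
      · rw [Pi.single_eq_of_ne hi, hzero i hi]
    rw [hzeq]
    apply krel_std hK k
    rcases hm2 with h | h <;> rw [hm, h] <;> norm_num

/-! ### shape `(5, 3, 3, 1^21)` -/

/-- from a normal form to the standard vector, by a word -/
theorem krel_of_nf {z zt : IVec} {l : List ℤ} (hl : ∀ i, vecOf l i = zt i) (w : List Letter)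
    (hw : okW w = true) (hrun : runW w l = e2L) (h : KRel monoSub z zt) :
    KRel K z (Pi.single (gPt 2) 8) := by
  have h1 : KRel K z zt := h.mono hK
  have hzt : vecOf l = zt := funext hl
  have hmem : vecOf l ∈ leechLattice := by rw [hzt]; exact h1.mem_right
  have h2 := krel_runW w hw hK (fun _ => hX) l hmem
  rw [hrun, hzt, funext e2L_vec] at h2
  exact h1.trans h2

/-- the sum of the base vector and an orthogonal minimal vector -/
theorem krel_orth {w : IVec} (hw : w ∈ leechLattice) (hwn : sqNorm w = 32)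
    (hdot : dotInt vA0 w = 0) : KRel K (vA0 + w) (Pi.single (gPt 2) 8) := by
  have hz : vA0 + w ∈ leechLattice := leechLattice.add_mem vA0_mem hw
  have hvn : sqNorm vA0 = 32 := by decide +kernel
  have hn : sqNorm (vA0 + w) = 64 := by
    rw [sqNorm_add, hvn, hwn, hdot]
    norm_num
  rcases orth_cases hw hwn hdot with h | h | h | h | h
  · exact krel_mult4 hK hX hz hn h
  · exact krel_of_nf hK hX lE_vec wE wE_ok wE_run h
  · exact krel_of_nf hK hX lD_vec wD wD_ok wD_run h
  · exact krel_of_nf hK hX lGa_vec wGa wGa_ok wGa_run h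
  · exact krel_of_nf hK hX lGb_vec wGb wGb_ok wGb_run h

/-- every lattice vector of sum of squares 64 is equivalent to a standard one -/
theorem krel_norm64 {z : IVec} (hz : z ∈ leechLattice) (hn : sqNorm z = 64) :
    KRel K z (Pi.single (gPt 2) 8) := by
  classical
  -- a second vector of the cross
  obtain ⟨z', hz'c, hz'n⟩ : ∃ z' ∈ cross z, z' ∉ ({z, -z} : Set IVec) := by
    apply Set.exists_mem_notMem_of_ncard_lt_ncard
    · rw [cross_ncard hz hn]
      exact lt_of_le_of_lt (Set.ncard_insert_le _ _) (by rw [Set.ncard_singleton]; norm_num)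
    · exact Set.toFinite _
  obtain ⟨hz'mem, hz'norm, u, hu, hzu⟩ := hz'c
  rw [Set.mem_insert_iff, Set.mem_singleton_iff, not_or] at hz'n
  have hphi : phi z = phi z' := (phi_eq_iff z z').mpr ⟨u, hu, hzu⟩
  rw [hn] at hz'norm
  have hdot : dotInt z z' = 0 := by
    rcases short_cases hz hz'mem (le_of_eq hn) (le_of_eq hz'norm) hphi with h | h | h
    · exact absurd h hz'n.1
    · exact absurd h hz'n.2
    · exact h.2.2
  -- the two halves
  have hvmem : z - u ∈ leechLattice := leechLattice.sub_mem hz hu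
  have hz'eq : z' = (z - u) - u := by
    have : z' = z - 2 • u := by rw [← hzu]; abel
    rw [this, two_smul]
    abel
  have hzeq : z = (z - u) + u := by abel
  have e1 : sqNorm z = sqNorm (z - u) + sqNorm u + 2 * dotInt (z - u) u := by
    conv_lhs => rw [hzeq]
    exact sqNorm_add _ _
  have e2 : sqNorm z' = sqNorm (z - u) + sqNorm u - 2 * dotInt (z - u) u := by
    rw [hz'eq]
    unfold sqNorm dotInt
    rw [Finset.mul_sum, ← Finset.sum_add_distrib, ← Finset.sum_sub_distrib]
    refine Finset.sum_congr rfl fun i _ => ?_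
    simp only [Pi.sub_apply]
    ring
  have e3 : dotInt z z' = sqNorm (z - u) - sqNorm u := by
    conv_lhs => rw [hz'eq, hzeq]
    unfold sqNorm dotInt
    rw [← Finset.sum_sub_distrib]
    refine Finset.sum_congr rfl fun i _ => ?_
    simp only [Pi.sub_apply, Pi.add_apply]
    ring
  have hv32 : sqNorm (z - u) = 32 := by omega
  have hu32 : sqNorm u = 32 := by omega
  have hvu : dotInt (z - u) u = 0 := by omega
  -- move the first half to the base vector
  obtain ⟨hvmem', g, hgK, hg⟩ := (krel_min32 hK hX hvmem hv32).symm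
  have hgz : ((g • (⟨z, hz⟩ : ↥leechLattice) : ↥leechLattice) : IVec) =
      vA0 + ((g • (⟨u, hu⟩ : ↥leechLattice) : ↥leechLattice) : IVec) := by
    have h1 : (⟨z, hz⟩ : ↥leechLattice) = ⟨z - u, hvmem'⟩ + ⟨u, hu⟩ := Subtype.ext hzeq
    have h2 : g • ((⟨z - u, hvmem'⟩ : ↥leechLattice) + ⟨u, hu⟩) =
        g • (⟨z - u, hvmem'⟩ : ↥leechLattice) + g • (⟨u, hu⟩ : ↥leechLattice) := g.2.1 _ _
    rw [h1, h2, AddSubgroup.coe_add, hg]
  have r1 : KRel K z (vA0 + ((g • (⟨u, hu⟩ : ↥leechLattice) : ↥leechLattice) : IVec)) :=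
    ⟨hz, g, hgK, hgz⟩
  refine r1.trans (krel_orth hK hX (g • (⟨u, hu⟩ : ↥leechLattice)).2 ?_ ?_)
  · rw [co0_sqNorm]
    exact hu32
  · rw [← hg, co0_dotInt]
    exact hvu


/-- a subgroup containing the monomial group and the extra automorphism is the whole group -/
theorem eq_top_of_xi_mem : K = ⊤ := by
  rw [eq_top_iff]
  intro g _
  have hz0 : sqNorm ((vec8 (gPt 2) : ↥leechLattice) : IVec) = 64 :=
    sqNorm_single8 (gPt 2) (Or.inl rfl)
  have h1 := krel_norm64 hK hX (g • vec8 (gPt 2) : ↥leechLattice).2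
    (by rw [co0_sqNorm]; exact hz0)
  obtain ⟨k, hk, hkg⟩ := exists_smul_of_krel (v := g • vec8 (gPt 2)) (w := vec8 (gPt 2)) h1
  have hfix : FixesCross (k * g) := by
    rw [fixesCross_iff (k * g) (gPt 2), mul_smul, hkg]
    exact ⟨gPt 2, 8, Or.inl rfl, rfl⟩
  have hmem : k * g ∈ K := hK hfix
  have : g = k⁻¹ * (k * g) := by group
  rw [this]
  exact K.mul_mem (K.inv_mem hk) hmem

end Cfsg.Agent.Helper8.Mx
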