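import Mathlib
import Cfsg.Prelude.Def_SporadicCombinatorics
import Cfsg.Agent.Helper8.MaxGen

/-!
A subgroup containing the monomial group, and an element mapping a vector of the standard cross to
one of several kinds of vectors outside the standard cross, contains the extra automorphism.
-/

set_option autoImplicit false

namespace Cfsg.Agent.Helper8.Mx

open Cfsg Cfsg.Agent.Helper27 Cfsg.Agent.Helper92
open Cfsg.Agent.Helper92.Co1 (monoSub mem_monoSub card_monoSub)
open scoped Pointwise

variable {J : Subgroup ↥Co0} (hJ : monoSub ≤ J)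
include hJ

/-- an element whose product with a member of the subgroup fixes the standard cross is in the
subgroup -/
theorem mem_of_smul_mem_stdCross {w g : ↥Co0} (hg : g ∈ J) (p : GolayPt)
    (h : (((w * g) • vec8 p : ↥leechLattice) : IVec) ∈ stdCross) : w ∈ J := by
  have hfix : FixesCross (w * g) := (fixesCross_iff (w * g) p).mpr h
  have h1 : w * g ∈ J := hJ hfix
  have : w = (w * g) * g⁻¹ := by group
  rw [this]
  exact J.mul_mem h1 (J.inv_mem hg)

/-- the image of a standard vector has entries `0`, `±4` -/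
theorem xi_mem_of_44 {g : ↥Co0} (hg : g ∈ J) (p : GolayPt)
    (h : Is44 ((g • vec8 p : ↥leechLattice) : IVec)) : xiCo0 ∈ J := by
  have hn : sqNorm ((g • vec8 p : ↥leechLattice) : IVec) = 64 := by
    rw [co0_sqNorm]
    exact sqNorm_single8 p (Or.inl rfl)
  have r1 := nf_44 (K := monoSub) le_rfl (g • vec8 p : ↥leechLattice).2 hn h
  obtain ⟨m, hm, hmg⟩ := exists_smul_of_krel (v := g • vec8 p)
    (w := (⟨z44, r1.mem_right⟩ : ↥leechLattice)) r1
  have h2 : m * g ∈ J := J.mul_mem (hJ hm) hg
  apply mem_of_smul_mem_stdCross hJ h2 p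
  rw [mul_smul, mul_smul, hmg]
  show xiFun z44 ∈ stdCross
  rw [funext xi_z44]
  exact ⟨gPt 2, 8, Or.inl rfl, rfl⟩

/-- the image of a standard vector is equivalent under the monomial group to a vector which a
word takes to a standard vector, and which a monomial word followed by the same word takes to a
vector with entries `0`, `±4` -/
theorem xi_mem_of_nf {zt : IVec} {l r : List ℤ} (hl : ∀ i, vecOf l i = zt i)
    (w n : List Letter) (hw : okW w = true) (hn : okW n = true) (hnm : monoW n = true)
    (hrun : runW w l = e2L) (hrun2 : runW w (runW n l) = r)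
    (h44 : ∀ i : GolayPt, vecOf r i = 0 ∨ vecOf r i = 4 ∨ vecOf r i = -4)
    {g : ↥Co0} (hg : g ∈ J) (p : GolayPt)
    (h : KRel monoSub ((g • vec8 p : ↥leechLattice) : IVec) zt) : xiCo0 ∈ J := by
  obtain ⟨m, hm, hmg⟩ := exists_smul_of_krel (v := g • vec8 p)
    (w := (⟨zt, h.mem_right⟩ : ↥leechLattice)) h
  have hg1 : m * g ∈ J := J.mul_mem (hJ hm) hg
  have hg1p : (m * g) • vec8 p = (⟨zt, h.mem_right⟩ : ↥leechLattice) := by rw [mul_smul, hmg]
  have hzl : ((⟨zt, h.mem_right⟩ : ↥leechLattice) : IVec) = vecOf l := (funext hl).symm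
  obtain ⟨gW, hgW⟩ := exists_co0_runW w hw
  obtain ⟨gn, hgnK, hgn⟩ := exists_mem_word (K := monoSub) n hn le_rfl
    (fun h' => by rw [hnm] at h'; cases h')
  -- the element of the word lies in the subgroup
  have hgWJ : gW ∈ J := by
    apply mem_of_smul_mem_stdCross hJ hg1 p
    rw [mul_smul, hg1p, hgW _ l hzl, hrun, funext e2L_vec]
    exact ⟨gPt 2, 8, Or.inl rfl, rfl⟩
  -- the image under the longer product
  have e2 : ((gn • (⟨zt, h.mem_right⟩ : ↥leechLattice) : ↥leechLattice) : IVec) =
      vecOf (runW n l) := by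
    rw [hgn, hzl, vecOf_runW n hn]
  have e3 : (((gW * gn * (m * g)) • vec8 p : ↥leechLattice) : IVec) = vecOf r := by
    rw [mul_smul, mul_smul, hg1p, hgW _ (runW n l) e2, hrun2]
  apply xi_mem_of_44 hJ (g := gW * gn * (m * g))
    (J.mul_mem (J.mul_mem hgWJ (hJ hgnK)) hg1) p
  rw [e3]
  exact h44

/-- an element of the subgroup fixing the base vector `(4, 4, 0, …)` and not fixing the standard
cross forces the extra automorphism into the subgroup -/
theorem xi_mem_of_fix_vA0 {h : ↥Co0} (hh : h ∈ J)
    (hfix : h • (⟨vA0, vA0_mem⟩ : ↥leechLattice) = ⟨vA0, vA0_mem⟩) (hnot : h ∉ monoSub) :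
    xiCo0 ∈ J := by
  -- the other half of the standard vector at the first point
  have hu_chk : leechChk (Pi.single pA 4 - Pi.single pB 4 : IVec) = true := by decide +kernel
  have hu := mem_of_leechChk hu_chk
  have hun : sqNorm (Pi.single pA 4 - Pi.single pB 4 : IVec) = 32 := by decide +kernel
  have hud : dotInt vA0 (Pi.single pA 4 - Pi.single pB 4 : IVec) = 0 := by decide +kernel
  set u : ↥leechLattice := ⟨Pi.single pA 4 - Pi.single pB 4, hu⟩ with hu_def
  set a : ↥leechLattice := ⟨vA0, vA0_mem⟩ with ha_def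
  have hsum : vec8 pA = a + u := by
    apply Subtype.ext
    rw [vec8_val]
    show (Pi.single pA 8 : IVec) = vA0 + (Pi.single pA 4 - Pi.single pB 4)
    funext i
    rw [Pi.add_apply, Pi.sub_apply, vA0_apply, Pi.single_apply, Pi.single_apply, Pi.single_apply]
    split_ifs <;> norm_num
  have himg : h • vec8 pA = a + h • u := by
    have h2 : h • (a + u) = h • a + h • u := h.2.1 _ _
    rw [hsum, h2, hfix]
  have hval : ((h • vec8 pA : ↥leechLattice) : IVec) = vA0 + ((h • u : ↥leechLattice) : IVec) := by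
    rw [himg]
    rfl
  have hwn : sqNorm ((h • u : ↥leechLattice) : IVec) = 32 := by
    rw [co0_sqNorm]
    exact hun
  have hdot : dotInt vA0 ((h • u : ↥leechLattice) : IVec) = 0 := by
    have := co0_dotInt h a u
    rw [hfix] at this
    rw [show dotInt vA0 ((h • u : ↥leechLattice) : IVec) =
      dotInt ((a : ↥leechLattice) : IVec) ((h • u : ↥leechLattice) : IVec) from rfl, this]
    exact hud
  have hnc : ((h • vec8 pA : ↥leechLattice) : IVec) ∉ stdCross := by
    intro hc
    exact hnot ((fixesCross_iff h pA).mpr hc)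
  have hn64 : sqNorm ((h • vec8 pA : ↥leechLattice) : IVec) = 64 := by
    rw [co0_sqNorm]
    exact sqNorm_single8 pA (Or.inl rfl)
  rcases orth_cases (h • u : ↥leechLattice).2 hwn hdot with h4 | hE | hD | hGa | hGb
  · -- all entries divisible by four
    rw [← hval] at h4
    apply xi_mem_of_44 hJ hh pA
    by_contra hnot44
    -- then the vector is in the standard cross
    apply hnc
    unfold Is44 at hnot44
    rw [not_forall] at hnot44
    obtain ⟨k, hk⟩ := hnot44
    set z : IVec := ((h • vec8 pA : ↥leechLattice) : IVec) with hz_def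
    have hsq : z k ^ 2 + ∑ i ∈ Finset.univ.erase k, z i ^ 2 = 64 := by
      rw [← hn64]
      unfold sqNorm
      exact Finset.add_sum_erase Finset.univ (fun i => z i ^ 2) (Finset.mem_univ k)
    have hrest : 0 ≤ ∑ i ∈ Finset.univ.erase k, z i ^ 2 :=
      Finset.sum_nonneg fun i _ => sq_nonneg (z i)
    obtain ⟨m, hm⟩ := h4 k
    have hm2 : m = 2 ∨ m = -2 := by
      have h1 : -2 ≤ m := by nlinarith
      have h2 : m ≤ 2 := by nlinarith
      have h3 : m ≠ 0 := fun h => hk (Or.inl (by rw [hm, h]; norm_num))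
      have h4 : m ≠ 1 := fun h => hk (Or.inr (Or.inl (by rw [hm, h]; norm_num)))
      have h5 : m ≠ -1 := fun h => hk (Or.inr (Or.inr (by rw [hm, h]; norm_num)))
      omega
    have hs0 : ∑ i ∈ Finset.univ.erase k, z i ^ 2 = 0 := by
      rcases hm2 with h | h <;> rw [hm, h] at hsq <;> linarith
    have hzero : ∀ i, i ≠ k → z i = 0 := by
      intro i hi
      have := (Finset.sum_eq_zero_iff_of_nonneg (fun i _ => sq_nonneg (z i))).mp hs0 i
        (Finset.mem_erase.mpr ⟨hi, Finset.mem_univ _⟩)
      exact pow_eq_zero_iff (two_ne_zero) |>.mp this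
    have hzeq : z = Pi.single k (z k) := by
      ext i
      by_cases hi : i = k
      · subst hi
        rw [Pi.single_eq_same]
      · rw [Pi.single_eq_of_ne hi, hzero i hi]
    refine ⟨k, z k, ?_, hzeq⟩
    rcases hm2 with h | h <;> rw [hm, h] <;> norm_num
  · rw [← hval] at hE
    exact xi_mem_of_nf hJ lE_vec wE nE wE_ok nE_ok nE_mono wE_run nwE_run rE_44 hh pA hE
  · rw [← hval] at hD
    exact xi_mem_of_nf hJ lD_vec wD nD wD_ok nD_ok nD_mono wD_run nwD_run rD_44 hh pA hD
  · rw [← hval] at hGa
    exact xi_mem_of_nf hJ lGa_vec wGa nGa wGa_ok nGa_ok nGa_mono wGa_run nwGa_run rGa_44 hh pA hGa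
  · rw [← hval] at hGb
    exact xi_mem_of_nf hJ lGb_vec wGb nGb wGb_ok nGb_ok nGb_mono wGb_run nwGb_run rGb_44 hh pA hGb

end Cfsg.Agent.Helper8.Mx
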