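import Mathlib
import Cfsg.Prelude.Def_SporadicCombinatorics
import Cfsg.Agent.Helper8.MaxXi
import Cfsg.Agent.Helper8.LeechCount2
import Cfsg.Agent.Helper26.Coatom

/-!
A subgroup properly containing the monomial group of the rank-24 lattice has an element outside
the monomial group fixing the vector `(4, 4, 0, …)`: otherwise the length of the orbit of this
vector would be `1104` times the index of the monomial group in the subgroup, which is impossible.
-/

set_option autoImplicit false

namespace Cfsg.Agent.Helper8.Mx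

open Cfsg Cfsg.Agent.Helper27 Cfsg.Agent.Helper92
open Cfsg.Agent.Helper92.Co1 (monoSub mem_monoSub card_monoSub)
open scoped Pointwise

/-- orbit counting inside a subgroup -/
theorem card_inf_mul_orbit {G X : Type*} [Group G] [MulAction G X] (J : Subgroup G) (a : X) :
    Nat.card ↥(MulAction.stabilizer G a ⊓ J) * (MulAction.orbit ↥J a).ncard = Nat.card ↥J := by
  rw [← MulAction.index_stabilizer, Cfsg.Agent.Helper26.stabilizer_subgroup_eq_subgroupOf]
  have h1 : ((MulAction.stabilizer G a).subgroupOf J).index =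
      (MulAction.stabilizer G a ⊓ J).relIndex J := by
    rw [Subgroup.inf_relIndex_right]
    rfl
  rw [h1, ← Subgroup.relIndex_bot_left, ← Subgroup.relIndex_bot_left (H := J)]
  exact Subgroup.relIndex_mul_relIndex ⊥ _ J bot_le inf_le_right

/-! ### the entries of the three shapes -/

theorem isA_entries {x : IVec} (h : IsA x) (i : GolayPt) : x i = 0 ∨ x i = 4 ∨ x i = -4 := by
  obtain ⟨a, b, s, t, hab, hs, ht, rfl⟩ := h
  rw [Pi.add_apply, Pi.single_apply, Pi.single_apply]
  by_cases ha : i = a
  · have hb : i ≠ b := fun h => hab (ha.symm.trans h)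
    rw [if_pos ha, if_neg hb]
    rcases hs with rfl | rfl <;> norm_num
  · rw [if_neg ha]
    by_cases hb : i = b
    · rw [if_pos hb]
      rcases ht with rfl | rfl <;> norm_num
    · rw [if_neg hb]
      norm_num

theorem isB_entries {x : IVec} (h : IsB x) (i : GolayPt) : x i = 0 ∨ x i = 2 ∨ x i = -2 := by
  obtain ⟨O, -, h2, h0⟩ := h
  by_cases hi : i ∈ O
  · exact Or.inr (h2 i hi)
  · exact Or.inl (h0 i hi)

theorem isB_exists {x : IVec} (h : IsB x) : ∃ i, x i = 2 ∨ x i = -2 := by
  obtain ⟨O, hO, h2, -⟩ := h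
  have hne : O.Nonempty := by
    rw [← Finset.card_pos, hO.2]
    norm_num
  obtain ⟨i, hi⟩ := hne
  exact ⟨i, h2 i hi⟩

theorem isC_entries {x : IVec} (h : IsC x) (i : GolayPt) :
    x i = 1 ∨ x i = -1 ∨ x i = 3 ∨ x i = -3 := by
  obtain ⟨k, C, -, rfl⟩ := h
  rw [signedPerm_one_apply]
  unfold oddBase
  split_ifs <;> norm_num

/-- the list of entries allowed, according to the shapes present -/
def entL (bB bC : Bool) : List ℤ :=
  [0, 4, -4] ++ ((if bB then [2, -2] else []) ++ (if bC then [1, -1, 3, -3] else []))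

set_option maxRecDepth 100000 in
theorem count_entL : ∀ bB bC : Bool, leechCountU (entL bB bC) 32 =
    1104 + ((if bB then 97152 else 0) + (if bC then 98304 else 0)) := by
  decide +kernel

theorem sqNorm_vA0 : sqNorm vA0 = 32 := by decide +kernel

section orbit

variable {J : Subgroup ↥Co0} (hJ : monoSub ≤ J)
include hJ

/-- the orbit of the base vector, by the shapes present in it -/
theorem orbit_eq (bB bC : Bool)
    (hB : bB = true ↔ ∃ x, KRel J vA0 x ∧ IsB x) (hC : bC = true ↔ ∃ x, KRel J vA0 x ∧ IsC x) :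
    {x : IVec | KRel J vA0 x} =
      {x : IVec | x ∈ leechLattice ∧ sqNorm x = (32 : ℕ) ∧ ∀ i, x i ∈ entL bB bC} := by
  ext x
  simp only [Set.mem_ofPred_eq]
  constructor
  · intro h
    have hx := h.mem_right
    have hn : sqNorm x = 32 := by rw [h.sqNorm_eq, sqNorm_vA0]
    refine ⟨hx, by rw [hn]; norm_num, fun i => ?_⟩
    unfold entL
    rcases min_cases hx hn with hA | hB' | hC'
    · rw [List.mem_append]
      left
      rcases isA_entries hA i with h' | h' | h' <;> rw [h'] <;> simp
    · have hb : bB = true := hB.mpr ⟨x, h, hB'⟩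
      rw [hb, List.mem_append, List.mem_append]
      rcases isB_entries hB' i with h' | h' | h' <;> rw [h'] <;> simp
    · have hc : bC = true := hC.mpr ⟨x, h, hC'⟩
      rw [hc, List.mem_append, List.mem_append]
      rcases isC_entries hC' i with h' | h' | h' | h' <;> rw [h'] <;> simp
  · rintro ⟨hx, hn, hent⟩
    have hn' : sqNorm x = 32 := by rw [hn]; norm_num
    rcases min_cases hx hn' with hA | hB' | hC'
    · exact (nfA (K := monoSub) le_rfl hA).mono hJ
    · cases hb : bB with
      | true =>
        obtain ⟨x', hx', hx'B⟩ := hB.mp hb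
        have r1 := nfB (K := monoSub) le_rfl hx'.mem_right hx'B
        have r2 := nfB (K := monoSub) le_rfl hx hB'
        exact hx'.trans ((r1.trans r2.symm).mono hJ)
      | false =>
        exfalso
        obtain ⟨i, hi⟩ := isB_exists hB'
        have := hent i
        unfold entL at this
        rw [hb] at this
        cases hc : bC <;> rw [hc] at this <;> rcases hi with h' | h' <;> rw [h'] at this <;>
          simp at this
    · cases hc : bC with
      | true =>
        obtain ⟨x', hx', hx'C⟩ := hC.mp hc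
        have r1 := nfC (K := monoSub) le_rfl hx'C
        have r2 := nfC (K := monoSub) le_rfl hC'
        exact hx'.trans ((r1.symm.trans r2).mono hJ)
      | false =>
        exfalso
        have := hent none
        unfold entL at this
        rw [hc] at this
        cases hb : bB <;> rw [hb] at this <;>
          rcases isC_entries hC' none with h' | h' | h' | h' <;> rw [h'] at this <;>
          simp at this

/-- the length of the orbit of the base vector -/
theorem exists_ncard_orbit : ∃ bB bC : Bool,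
    (bB = true ↔ ∃ x, KRel J vA0 x ∧ IsB x) ∧ (bC = true ↔ ∃ x, KRel J vA0 x ∧ IsC x) ∧
    (MulAction.orbit ↥J (⟨vA0, vA0_mem⟩ : ↥leechLattice)).ncard =
      1104 + ((if bB then 97152 else 0) + (if bC then 98304 else 0)) := by
  classical
  refine ⟨decide (∃ x, KRel J vA0 x ∧ IsB x), decide (∃ x, KRel J vA0 x ∧ IsC x),
    by rw [decide_eq_true_iff], by rw [decide_eq_true_iff], ?_⟩
  have h1 := orbit_eq hJ (decide (∃ x, KRel J vA0 x ∧ IsB x)) (decide (∃ x, KRel J vA0 x ∧ IsC x))
    (by rw [decide_eq_true_iff]) (by rw [decide_eq_true_iff])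
  have h2 : Subtype.val '' (MulAction.orbit ↥J (⟨vA0, vA0_mem⟩ : ↥leechLattice)) =
      {x : IVec | KRel J vA0 x} := by
    ext x
    simp only [Set.mem_image, Set.mem_ofPred_eq]
    constructor
    · rintro ⟨v, ⟨g, rfl⟩, rfl⟩
      exact ⟨vA0_mem, g.1, g.2, rfl⟩
    · rintro ⟨hx, g, hg, rfl⟩
      exact ⟨_, ⟨⟨g, hg⟩, rfl⟩, rfl⟩
  rw [← Set.ncard_image_of_injective _ Subtype.val_injective, h2, h1,
    ncard_leechU _ 32 (by norm_num), count_entL]

end orbit

/-- the monomial group maps the base vector to vectors of the same shape -/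
theorem isA_of_krel_mono {x : IVec} (h : KRel monoSub vA0 x) : IsA x := by
  obtain ⟨hx, g, hg, rfl⟩ := h
  obtain ⟨σ, -, c, -, hact⟩ := exists_mono_of_fixesCross g hg
  rw [hact]
  show IsA (signedPerm σ c vA0)
  unfold vA0
  rw [signedPerm_add, signedPerm_single, signedPerm_single]
  refine ⟨σ (Cfsg.Agent.Helper7.pt 0), σ (Cfsg.Agent.Helper7.pt 1), _, _,
    fun h => pA_ne_pB (σ.injective h), ?_, ?_, rfl⟩
  · split_ifs <;> norm_num
  · split_ifs <;> norm_num

/-- the orbit of the base vector under the monomial group -/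
theorem ncard_orbit_mono :
    (MulAction.orbit ↥monoSub (⟨vA0, vA0_mem⟩ : ↥leechLattice)).ncard = 1104 := by
  obtain ⟨bB, bC, hB, hC, h⟩ := exists_ncard_orbit (J := monoSub) le_rfl
  rw [h]
  have hnoB : ¬ ∃ x, KRel monoSub vA0 x ∧ IsB x := by
    rintro ⟨x, hx, hxB⟩
    obtain ⟨i, hi⟩ := isB_exists hxB
    rcases isA_entries (isA_of_krel_mono hx) i with h' | h' | h' <;> rcases hi with h'' | h'' <;>
      omega
  have hnoC : ¬ ∃ x, KRel monoSub vA0 x ∧ IsC x := by
    rintro ⟨x, hx, hxC⟩
    rcases isA_entries (isA_of_krel_mono hx) none with h' | h' | h' <;>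
      rcases isC_entries hxC none with h'' | h'' | h'' | h'' <;> omega
  have hb : bB = false := by
    cases hb : bB with
    | true => exact absurd (hB.mp hb) hnoB
    | false => rfl
  have hc : bC = false := by
    cases hc : bC with
    | true => exact absurd (hC.mp hc) hnoC
    | false => rfl
  rw [hb, hc]
  rfl

/-- a subgroup properly containing the monomial group has an element outside it fixing the base
vector -/
theorem exists_fix_vA0 {J : Subgroup ↥Co0} (hJ : monoSub ≤ J) (hne : J ≠ monoSub) :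
    ∃ h ∈ J, h • (⟨vA0, vA0_mem⟩ : ↥leechLattice) = ⟨vA0, vA0_mem⟩ ∧ h ∉ monoSub := by
  by_contra hcon
  have hall : ∀ h ∈ J, h • (⟨vA0, vA0_mem⟩ : ↥leechLattice) = ⟨vA0, vA0_mem⟩ → h ∈ monoSub := by
    intro h hh hfix
    by_contra hnot
    exact hcon ⟨h, hh, hfix, hnot⟩
  have hD : MulAction.stabilizer ↥Co0 (⟨vA0, vA0_mem⟩ : ↥leechLattice) ⊓ J =
      MulAction.stabilizer ↥Co0 (⟨vA0, vA0_mem⟩ : ↥leechLattice) ⊓ monoSub := by
    apply le_antisymm
    · intro g hg
      exact ⟨hg.1, hall g hg.2 (MulAction.mem_stabilizer_iff.mp hg.1)⟩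
    · exact inf_le_inf_left _ hJ
  have e1 := card_inf_mul_orbit J (⟨vA0, vA0_mem⟩ : ↥leechLattice)
  have e2 := card_inf_mul_orbit monoSub (⟨vA0, vA0_mem⟩ : ↥leechLattice)
  rw [hD] at e1
  rw [ncard_orbit_mono] at e2
  obtain ⟨bB, bC, -, -, h3⟩ := exists_ncard_orbit hJ
  rw [h3] at e1
  have cN : Nat.card ↥monoSub = 4096 * 244823040 := card_monoSub
  have cG : Nat.card ↥Co0 = 8315553613086720000 := card_co0
  obtain ⟨q1, hq1⟩ := Subgroup.card_dvd_of_le hJ
  obtain ⟨q2, hq2⟩ := Subgroup.card_subgroup_dvd_card J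
  have hcard_ne : Nat.card ↥J ≠ Nat.card ↥monoSub := by
    intro h
    exact hne (Subgroup.eq_of_le_of_card_ge hJ (le_of_eq h)).symm
  generalize Nat.card ↥(MulAction.stabilizer ↥Co0 (⟨vA0, vA0_mem⟩ : ↥leechLattice) ⊓ monoSub) = d
    at e1 e2
  generalize Nat.card ↥J = cJ at *
  rw [cN] at e2 hq1 hcard_ne
  rw [cG] at hq2
  have hd : d = 908328960 := by omega
  subst hd
  clear h3
  cases bB <;> cases bC <;> simp only [↓reduceIte, Bool.false_eq_true] at e1
  all_goals (subst e1; omega)

end Cfsg.Agent.Helper8.Mx
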