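import Cfsg.Prelude.Def_Spor_Conway
import Cfsg.Agent.Helper8.WordCalc
import Cfsg.Agent.Helper8.Co0Order
import Cfsg.Agent.Helper8.Decomp48b

/-!
Automorphisms of the rank-24 lattice: determination by the images of the vectors `8 e_i`, the
coordinate permutations as elements of the group, and the stabiliser of `8 e_∞` and of the
vector `(-5, -1, …, -1)`.
-/

set_option autoImplicit false

namespace Cfsg.Agent.Helper8.Out3

open Cfsg Cfsg.Agent.Helper8

/-- eight times a lattice vector in terms of the vectors `8 e_i` -/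
theorem eight_smul_eq (v : ↥leechLattice) :
    (8 : ℤ) • v = ∑ i, (v.1 i) • vec8 i := by
  classical
  apply Subtype.ext
  rw [AddSubgroup.val_finsetSum]
  funext j
  rw [Finset.sum_apply]
  simp only [AddSubgroup.coe_zsmul, Pi.smul_apply, vec8_val, smul_eq_mul, Pi.single_apply]
  rw [Finset.sum_eq_single j]
  · rw [if_pos rfl]; ring
  · intro i _ hij
    rw [if_neg (Ne.symm hij), mul_zero]
  · intro h
    exact absurd (Finset.mem_univ j) h

/-- an automorphism is determined by the images of the vectors `8 e_i` -/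
theorem co0_ext8 {g h : ↥Co0} (H : ∀ i, g • vec8 i = h • vec8 i) : g = h := by
  apply co0_ext
  intro v
  have h1 : co0Hom g ((8 : ℤ) • v) = co0Hom h ((8 : ℤ) • v) := by
    rw [eight_smul_eq, map_sum, map_sum]
    refine Finset.sum_congr rfl fun i _ => ?_
    rw [map_zsmul, map_zsmul, co0Hom_apply, co0Hom_apply, H i]
  rw [map_zsmul, map_zsmul, co0Hom_apply, co0Hom_apply] at h1
  apply Subtype.ext
  funext j
  have h2 := congrArg (fun w : ↥leechLattice => w.1 j) h1
  simp only [AddSubgroup.coe_zsmul, Pi.smul_apply, smul_eq_mul] at h2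
  omega

/-- a coordinate permutation of the group of the code, as an automorphism of the lattice -/
noncomputable def permCo0 {σ : Equiv.Perm GolayPt} (hσ : σ ∈ M24) : ↥Co0 :=
  monoCo0 hσ Cfsg.Agent.S0390.empty_mem_supports

theorem permCo0_smul {σ : Equiv.Perm GolayPt} (hσ : σ ∈ M24) (v : ↥leechLattice) :
    ((permCo0 hσ • v : ↥leechLattice) : IVec) = signedPerm σ ∅ v.1 :=
  monoCo0_smul _ _ v

theorem permCo0_vec8 {σ : Equiv.Perm GolayPt} (hσ : σ ∈ M24) (i : GolayPt) :
    permCo0 hσ • vec8 i = vec8 (σ i) := by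
  apply Subtype.ext
  rw [permCo0_smul, vec8_val, vec8_val, signedPerm_empty_single]

theorem signedPerm_empty_mul (σ τ : Equiv.Perm GolayPt) (x : IVec) :
    signedPerm (σ * τ) ∅ x = signedPerm σ ∅ (signedPerm τ ∅ x) := by
  funext i
  rw [signedPerm_empty_apply, signedPerm_empty_apply, signedPerm_empty_apply]
  rfl

theorem permCo0_mul {σ τ : Equiv.Perm GolayPt} (hσ : σ ∈ M24) (hτ : τ ∈ M24) :
    permCo0 (M24.mul_mem hσ hτ) = permCo0 hσ * permCo0 hτ := by
  apply co0_ext
  intro v
  apply Subtype.ext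
  rw [mul_smul, permCo0_smul, permCo0_smul, permCo0_smul, signedPerm_empty_mul]

theorem permCo0_one : permCo0 (M24.one_mem) = 1 := by
  apply co0_ext
  intro v
  apply Subtype.ext
  rw [permCo0_smul, one_smul]
  funext i
  rw [signedPerm_empty_apply]
  rfl

theorem permCo0_congr {σ τ : Equiv.Perm GolayPt} (hσ : σ ∈ M24) (hτ : τ ∈ M24) (h : σ = τ) :
    permCo0 hσ = permCo0 hτ := by
  subst h
  rfl

theorem permCo0_pow {σ : Equiv.Perm GolayPt} (hσ : σ ∈ M24) (n : ℕ) :
    permCo0 (M24.pow_mem hσ n) = permCo0 hσ ^ n := by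
  induction n with
  | zero =>
    have h : permCo0 (M24.pow_mem hσ 0) = 1 :=
      (permCo0_congr _ M24.one_mem (pow_zero σ)).trans permCo0_one
    exact h.trans (pow_zero _).symm
  | succ n ih =>
    have e1 := permCo0_congr (M24.pow_mem hσ (n + 1)) (M24.mul_mem (M24.pow_mem hσ n) hσ)
      (pow_succ σ n)
    have e2 := permCo0_mul (M24.pow_mem hσ n) hσ
    exact e1.trans (e2.trans (by rw [ih]; exact (pow_succ _ n).symm))

theorem vec8_injective : Function.Injective vec8 := by
  intro i j h
  have h1 := congrArg (fun w : ↥leechLattice => w.1 i) h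
  simp only [vec8_val, Pi.single_eq_same] at h1
  by_contra hij
  rw [Pi.single_eq_of_ne hij] at h1
  norm_num at h1

theorem permCo0_injective {σ τ : Equiv.Perm GolayPt} (hσ : σ ∈ M24) (hτ : τ ∈ M24)
    (h : permCo0 hσ = permCo0 hτ) : σ = τ := by
  ext1 i
  apply vec8_injective
  rw [← permCo0_vec8 hσ, ← permCo0_vec8 hτ, h]

/-- the vector `(-5, -1, …, -1)` -/
abbrev vV : ↥leechLattice := Spor.leechV

theorem vV_apply (p : GolayPt) : (vV : IVec) p = if p = none then -5 else -1 := rfl

/-- an automorphism fixing `8 e_∞` and `(-5, -1, …, -1)` is a coordinate permutation fixing `∞` -/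
theorem exists_perm_of_fix {g : ↥Co0} (h8 : g • vec8 none = vec8 none) (hv : g • vV = vV) :
    ∃ (σ : Equiv.Perm GolayPt) (hσ : σ ∈ M24), σ none = none ∧ g = permCo0 hσ := by
  classical
  have hfc : FixesCross g := by
    rw [fixesCross_iff g none, h8]
    exact ⟨none, 8, Or.inl rfl, rfl⟩
  obtain ⟨σ, hσ, c, hc, hform⟩ := exists_mono_of_fixesCross g hfc
  have hnone : σ none = none := by
    have h1 := hform (vec8 none)
    rw [h8, vec8_val, signedPerm_single] at h1
    have h2 := congrFun h1 (σ none)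
    rw [Pi.single_eq_same] at h2
    by_contra hne
    rw [Pi.single_eq_of_ne hne] at h2
    split_ifs at h2 <;> norm_num at h2
  have hcE : c = ∅ := by
    rw [Finset.eq_empty_iff_forall_notMem]
    intro j hj
    have h1 := congrFun (hform vV) j
    rw [hv] at h1
    unfold signedPerm at h1
    rw [if_pos hj, vV_apply, vV_apply] at h1
    have hiff : σ.symm j = none ↔ j = none := by
      rw [Equiv.symm_apply_eq, hnone]
    by_cases hjn : j = none
    · rw [if_pos hjn, if_pos (hiff.mpr hjn)] at h1
      norm_num at h1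
    · rw [if_neg hjn, if_neg (fun h' => hjn (hiff.mp h'))] at h1
      norm_num at h1
  subst hcE
  refine ⟨σ, hσ, hnone, ?_⟩
  apply co0_ext
  intro v
  apply Subtype.ext
  rw [hform, permCo0_smul]

theorem permCo0_vV {σ : Equiv.Perm GolayPt} (hσ : σ ∈ M24) (hnone : σ none = none) :
    permCo0 hσ • vV = vV := by
  apply Subtype.ext
  rw [permCo0_smul]
  funext j
  rw [signedPerm_empty_apply, vV_apply, vV_apply]
  have hiff : σ.symm j = none ↔ j = none := by
    rw [Equiv.symm_apply_eq, hnone]
  by_cases hjn : j = none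
  · rw [if_pos hjn, if_pos (hiff.mpr hjn)]
  · rw [if_neg hjn, if_neg (fun h' => hjn (hiff.mp h'))]

theorem dotInt_vV_vec8 : dotInt (vV : IVec) (vec8 none : ↥leechLattice).1 = -40 := by
  unfold dotInt
  rw [Finset.sum_eq_single none]
  · rw [vec8_val, Pi.single_eq_same, vV_apply, if_pos rfl]; norm_num
  · intro j _ hj
    rw [vec8_val, Pi.single_eq_of_ne hj, mul_zero]
  · intro h
    exact absurd (Finset.mem_univ _) h

/-- the image of `8 e_∞` under an automorphism fixing `(-5, -1, …, -1)` -/
theorem img8_facts {g : ↥Co0} (hv : g • vV = vV) :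
    sqNorm ((g • vec8 none : ↥leechLattice) : IVec) = 64 ∧
      dotInt (vV : IVec) ((g • vec8 none : ↥leechLattice) : IVec) = -40 := by
  constructor
  · rw [co0_sqNorm]
    exact sqNorm_single8 none (Or.inl rfl)
  · have := co0_dotInt g vV (vec8 none)
    rw [hv] at this
    rw [this, dotInt_vV_vec8]

end Cfsg.Agent.Helper8.Out3
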