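import Cfsg.Agent.Helper8.Out3A
import Cfsg.Agent.Helper27.OutMathieu

/-!
Vectors fixed by the translation and by the doubling map of the 23 finite points, and the
centralisers of these two coordinate permutations among the automorphisms fixing
`(-5, -1, …, -1)`.
-/

set_option autoImplicit false

namespace Cfsg.Agent.Helper8.Out3

open Cfsg Cfsg.Agent.Helper8 Cfsg.Agent.Helper27

/-- vectors constant on the orbits of the doubling map: `x` at `∞`, `y` at `0`, `q` at the non-zero
squares and `n` at the non-squares -/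
def bvec (x y q n : ℤ) : IVec :=
  vecOf [y, q, q, q, q, n, q, n, q, q, n, n, q, q, n, n, q, n, q, n, n, n, n, x]

theorem bvec_gPt (x y q n : ℤ) (i : ℕ) (hi : i < 24) :
    bvec x y q n (gPt i) =
      [y, q, q, q, q, n, q, n, q, q, n, n, q, q, n, n, q, n, q, n, n, n, n, x].getD i 0 := by
  unfold bvec vecOf
  rw [gIdx_gPt i hi]

theorem vV_gPt (i : ℕ) (hi : i < 24) : (vV : IVec) (gPt i) = if i = 23 then -5 else -1 := by
  rw [vV_apply]
  unfold gPt
  by_cases h : i < 23
  · rw [if_pos h, if_neg (Option.some_ne_none _), if_neg (by omega)]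
  · rw [if_neg h, if_pos rfl, if_pos (by omega)]

theorem sqNorm_bvec (x y q n : ℤ) :
    sqNorm (bvec x y q n) = x ^ 2 + y ^ 2 + 11 * q ^ 2 + 11 * n ^ 2 := by
  unfold sqNorm
  rw [sum_golayPt]
  simp only [Finset.sum_range_succ, Finset.sum_range_zero]
  have h := bvec_gPt x y q n
  simp only [h 0 (by norm_num), h 1 (by norm_num), h 2 (by norm_num), h 3 (by norm_num),
    h 4 (by norm_num), h 5 (by norm_num), h 6 (by norm_num), h 7 (by norm_num),
    h 8 (by norm_num), h 9 (by norm_num), h 10 (by norm_num), h 11 (by norm_num),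
    h 12 (by norm_num), h 13 (by norm_num), h 14 (by norm_num), h 15 (by norm_num),
    h 16 (by norm_num), h 17 (by norm_num), h 18 (by norm_num), h 19 (by norm_num),
    h 20 (by norm_num), h 21 (by norm_num), h 22 (by norm_num), h 23 (by norm_num)]
  simp only [List.getD_cons_zero, List.getD_cons_succ]
  ring

theorem dotInt_vV_bvec (x y q n : ℤ) :
    dotInt (vV : IVec) (bvec x y q n) = -5 * x - y - 11 * q - 11 * n := by
  unfold dotInt
  rw [sum_golayPt]
  simp only [Finset.sum_range_succ, Finset.sum_range_zero]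
  have h := bvec_gPt x y q n
  have h' := vV_gPt
  simp only [h 0 (by norm_num), h 1 (by norm_num), h 2 (by norm_num), h 3 (by norm_num),
    h 4 (by norm_num), h 5 (by norm_num), h 6 (by norm_num), h 7 (by norm_num),
    h 8 (by norm_num), h 9 (by norm_num), h 10 (by norm_num), h 11 (by norm_num),
    h 12 (by norm_num), h 13 (by norm_num), h 14 (by norm_num), h 15 (by norm_num),
    h 16 (by norm_num), h 17 (by norm_num), h 18 (by norm_num), h 19 (by norm_num),
    h 20 (by norm_num), h 21 (by norm_num), h 22 (by norm_num), h 23 (by norm_num),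
    h' 0 (by norm_num), h' 1 (by norm_num), h' 2 (by norm_num), h' 3 (by norm_num),
    h' 4 (by norm_num), h' 5 (by norm_num), h' 6 (by norm_num), h' 7 (by norm_num),
    h' 8 (by norm_num), h' 9 (by norm_num), h' 10 (by norm_num), h' 11 (by norm_num),
    h' 12 (by norm_num), h' 13 (by norm_num), h' 14 (by norm_num), h' 15 (by norm_num),
    h' 16 (by norm_num), h' 17 (by norm_num), h' 18 (by norm_num), h' 19 (by norm_num),
    h' 20 (by norm_num), h' 21 (by norm_num), h' 22 (by norm_num), h' 23 (by norm_num)]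
  simp only [List.getD_cons_zero, List.getD_cons_succ]
  norm_num
  ring

theorem mu23_some (k : ZMod 23) : mu23 (some k) = some (2 * k) := by
  rw [mu23, muP_some, two23_val]

/-- a vector fixed by the doubling map is constant on its orbits -/
theorem eq_bvec_of_fixed {w : IVec} (h : signedPerm mu23 ∅ w = w) :
    w = bvec (w none) (w (some 0)) (w (some 1)) (w (some 5)) := by
  have h1 : ∀ k : ZMod 23, w (some (2 * k)) = w (some k) := by
    intro k
    have := congrFun h (some (2 * k))
    rw [signedPerm_empty_apply] at this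
    rw [← this]
    congr 1
    rw [Equiv.symm_apply_eq, mu23_some]
  have hc : ∀ (j : ℕ) (k : ZMod 23), w (some (2 ^ j * k)) = w (some k) := by
    intro j
    induction j with
    | zero => intro k; rw [pow_zero, one_mul]
    | succ j ih =>
      intro k
      rw [pow_succ, mul_comm (2 ^ j) 2, mul_assoc, h1, ih]
  funext p
  rw [← gPt_gIdx p]
  have hi := gIdx_lt p
  generalize gIdx p = i at hi ⊢
  rw [bvec_gPt _ _ _ _ i hi]
  interval_cases i
  · rfl
  · rfl
  · exact (show gPt 2 = some (2 ^ 1 * 1) from by decide) ▸ hc 1 1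
  · exact (show gPt 3 = some (2 ^ 8 * 1) from by decide) ▸ hc 8 1
  · exact (show gPt 4 = some (2 ^ 2 * 1) from by decide) ▸ hc 2 1
  · rfl
  · exact (show gPt 6 = some (2 ^ 9 * 1) from by decide) ▸ hc 9 1
  · exact (show gPt 7 = some (2 ^ 9 * 5) from by decide) ▸ hc 9 5
  · exact (show gPt 8 = some (2 ^ 3 * 1) from by decide) ▸ hc 3 1
  · exact (show gPt 9 = some (2 ^ 5 * 1) from by decide) ▸ hc 5 1
  · exact (show gPt 10 = some (2 ^ 1 * 5) from by decide) ▸ hc 1 5
  · exact (show gPt 11 = some (2 ^ 4 * 5) from by decide) ▸ hc 4 5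
  · exact (show gPt 12 = some (2 ^ 10 * 1) from by decide) ▸ hc 10 1
  · exact (show gPt 13 = some (2 ^ 7 * 1) from by decide) ▸ hc 7 1
  · exact (show gPt 14 = some (2 ^ 10 * 5) from by decide) ▸ hc 10 5
  · exact (show gPt 15 = some (2 ^ 8 * 5) from by decide) ▸ hc 8 5
  · exact (show gPt 16 = some (2 ^ 4 * 1) from by decide) ▸ hc 4 1
  · exact (show gPt 17 = some (2 ^ 3 * 5) from by decide) ▸ hc 3 5
  · exact (show gPt 18 = some (2 ^ 6 * 1) from by decide) ▸ hc 6 1
  · exact (show gPt 19 = some (2 ^ 7 * 5) from by decide) ▸ hc 7 5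
  · exact (show gPt 20 = some (2 ^ 2 * 5) from by decide) ▸ hc 2 5
  · exact (show gPt 21 = some (2 ^ 6 * 5) from by decide) ▸ hc 6 5
  · exact (show gPt 22 = some (2 ^ 5 * 5) from by decide) ▸ hc 5 5
  · rfl


/-- a vector fixed by the translation is constant on the finite points -/
theorem eq_bvec_of_fixed_tr {w : IVec} (h : signedPerm (trP 1) ∅ w = w) :
    w = bvec (w none) (w (some 0)) (w (some 0)) (w (some 0)) := by
  have h1 : ∀ k : ZMod 23, w (some (k + 1)) = w (some k) := by
    intro k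
    have := congrFun h (some (k + 1))
    rw [signedPerm_empty_apply] at this
    rw [← this]
    congr 1
    rw [Equiv.symm_apply_eq, trP_some]
  have hn : ∀ n : ℕ, w (some (n : ZMod 23)) = w (some 0) := by
    intro n
    induction n with
    | zero => rw [Nat.cast_zero]
    | succ n ih => rw [Nat.cast_succ, h1, ih]
  have hk : ∀ k : ZMod 23, w (some k) = w (some 0) := by
    intro k
    rw [← ZMod.natCast_zmod_val k]
    exact hn _
  funext p
  cases p with
  | none => rfl
  | some k =>
    rw [hk k]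
    unfold bvec vecOf
    show _ = List.getD _ k.val 0
    have hlt : k.val < 23 := ZMod.val_lt k
    generalize k.val = i at hlt
    interval_cases i <;> rfl

theorem bvec_eq_single : bvec 8 0 0 0 = Pi.single none 8 := by
  funext p
  rw [← gPt_gIdx p]
  have hi := gIdx_lt p
  generalize gIdx p = i at hi ⊢
  rw [bvec_gPt _ _ _ _ i hi]
  interval_cases i <;> decide

/-- the translation as an automorphism -/
noncomputable def aC : ↥Co0 := permCo0 (F23_le_M24 trP_one_mem)

theorem mu23_mem : mu23 ∈ M24 := muP_two_mem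

/-- the doubling map as an automorphism -/
noncomputable def bC : ↥Co0 := permCo0 mu23_mem

theorem aC_vec8_none : aC • vec8 none = vec8 none := by
  rw [aC, permCo0_vec8, trP_none]

theorem bC_vec8_none : bC • vec8 none = vec8 none := by
  rw [bC, permCo0_vec8]
  rfl

theorem aC_vV : aC • vV = vV := permCo0_vV _ (trP_none 1)

theorem bC_vV : bC • vV = vV := permCo0_vV _ rfl

/-- an automorphism fixing `(-5, -1, …, -1)` and commuting with the translation fixes `8 e_∞` -/
theorem img8_of_commute_a {g : ↥Co0} (hv : g • vV = vV) (hc : g * aC = aC * g) :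
    g • vec8 none = vec8 none := by
  have hfix : aC • (g • vec8 none) = g • vec8 none := by
    rw [← mul_smul, ← hc, mul_smul, aC_vec8_none]
  have h1 := congrArg Subtype.val hfix
  rw [aC, permCo0_smul] at h1
  have hform := eq_bvec_of_fixed_tr h1
  obtain ⟨hn, hd⟩ := img8_facts hv
  generalize ((g • vec8 none : ↥leechLattice) : IVec) none = x at hform
  generalize ((g • vec8 none : ↥leechLattice) : IVec) (some 0) = c at hform
  rw [hform, sqNorm_bvec] at hn
  rw [hform, dotInt_vV_bvec] at hd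
  have hc2 : c ^ 2 ≤ 2 := by nlinarith [sq_nonneg x]
  have hc1 : c ≤ 1 := by nlinarith
  have hc0 : -1 ≤ c := by nlinarith
  have hc' : c = 0 := by
    interval_cases c <;> omega
  subst hc'
  have hx : x = 8 := by omega
  subst hx
  apply Subtype.ext
  rw [hform, bvec_eq_single, vec8_val]

/-- the centraliser of the translation -/
theorem mem_zpowers_aC {g : ↥Co0} (hv : g • vV = vV) (hc : g * aC = aC * g) :
    g ∈ Subgroup.zpowers aC := by
  obtain ⟨σ, hσ, hnone, rfl⟩ := exists_perm_of_fix (img8_of_commute_a hv hc) hv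
  rw [aC, ← permCo0_mul, ← permCo0_mul] at hc
  have hcσ := permCo0_injective _ _ hc
  obtain ⟨b0, hb0⟩ := eq_trP_of_commute hcσ
  rw [trP_eq_pow] at hb0
  rw [permCo0_congr hσ (M24.pow_mem (F23_le_M24 trP_one_mem) b0.val) hb0, permCo0_pow]
  exact Subgroup.npow_mem_zpowers _ _

/-- a vector of the lattice meeting the doubled non-squares oddly -/
def yOct : IVec :=
  vecOf [2, 0, 2, 0, 0, 0, 0, 0, 0, 0, 0, 0, 0, 2, 2, 2, 2, 2, 0, 0, 2, 0, 0, 0]

set_option maxRecDepth 100000 in
theorem yOct_chk : leechChk yOct = true := by decide +kernel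

set_option maxRecDepth 100000 in
theorem dotInt_bad : dotInt (bvec 4 (-2) 0 2) yOct = 12 := by decide +kernel

/-- the second vector of norm `64` fixed by the doubling map -/
def u1 : IVec := bvec 4 (-2) 2 0

theorem solve_b : ∀ q ∈ Finset.Icc (-2 : ℤ) 2, ∀ n ∈ Finset.Icc (-2 : ℤ) 2,
    ∀ x ∈ Finset.Icc (-8 : ℤ) 8,
    x ^ 2 + (40 - 5 * x - 11 * q - 11 * n) ^ 2 + 11 * q ^ 2 + 11 * n ^ 2 = 64 →
    (x = 8 ∧ q = 0 ∧ n = 0) ∨ (x = 4 ∧ q = 2 ∧ n = 0) ∨ (x = 4 ∧ q = 0 ∧ n = 2) := by
  decide +kernel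

/-- an automorphism fixing `(-5, -1, …, -1)` and commuting with the doubling map maps `8 e_∞` to
itself or to `(4, -2, 2, …)` -/
theorem img8_of_commute_b {g : ↥Co0} (hv : g • vV = vV) (hc : g * bC = bC * g) :
    g • vec8 none = vec8 none ∨ ((g • vec8 none : ↥leechLattice) : IVec) = u1 := by
  have hfix : bC • (g • vec8 none) = g • vec8 none := by
    rw [← mul_smul, ← hc, mul_smul, bC_vec8_none]
  have h1 := congrArg Subtype.val hfix
  rw [bC, permCo0_smul] at h1
  have hform := eq_bvec_of_fixed h1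
  obtain ⟨hn, hd⟩ := img8_facts hv
  have hmem := (g • vec8 none : ↥leechLattice).2
  generalize ((g • vec8 none : ↥leechLattice) : IVec) none = x at hform
  generalize ((g • vec8 none : ↥leechLattice) : IVec) (some 0) = y at hform
  generalize ((g • vec8 none : ↥leechLattice) : IVec) (some 1) = q at hform
  generalize ((g • vec8 none : ↥leechLattice) : IVec) (some 5) = n at hform
  rw [hform, sqNorm_bvec] at hn
  rw [hform, dotInt_vV_bvec] at hd
  have hq2 : q ^ 2 ≤ 5 := by nlinarith [sq_nonneg x, sq_nonneg y, sq_nonneg n]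
  have hn2 : n ^ 2 ≤ 5 := by nlinarith [sq_nonneg x, sq_nonneg y, sq_nonneg q]
  have hx2 : x ^ 2 ≤ 64 := by nlinarith [sq_nonneg q, sq_nonneg y, sq_nonneg n]
  have hq1 : q ≤ 2 := by nlinarith
  have hq0 : -2 ≤ q := by nlinarith
  have hn1 : n ≤ 2 := by nlinarith
  have hn0 : -2 ≤ n := by nlinarith
  have hx1 : x ≤ 8 := by nlinarith
  have hx0 : -8 ≤ x := by nlinarith
  have hy : y = 40 - 5 * x - 11 * q - 11 * n := by omega
  subst hy
  have key : (x = 8 ∧ q = 0 ∧ n = 0) ∨ (x = 4 ∧ q = 2 ∧ n = 0) ∨ (x = 4 ∧ q = 0 ∧ n = 2) :=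
    solve_b q (Finset.mem_Icc.mpr ⟨hq0, hq1⟩) n (Finset.mem_Icc.mpr ⟨hn0, hn1⟩) x
      (Finset.mem_Icc.mpr ⟨hx0, hx1⟩) hn
  rcases key with ⟨rfl, rfl, rfl⟩ | ⟨rfl, rfl, rfl⟩ | ⟨rfl, rfl, rfl⟩
  · left
    apply Subtype.ext
    rw [hform, vec8_val, ← bvec_eq_single]
    norm_num
  · right
    rw [hform]
    unfold u1
    norm_num
  · exfalso
    rw [hform] at hmem
    have h8 := eight_dvd_dotInt hmem (mem_of_leechChk yOct_chk)
    norm_num at h8
    rw [dotInt_bad] at h8
    omega

/-- the elements commuting with the doubling map and fixing `8 e_∞` -/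
theorem mem_zpowers_bC {g : ↥Co0} (hv : g • vV = vV) (hc : g * bC = bC * g)
    (h8 : g • vec8 none = vec8 none) : g ∈ Subgroup.zpowers bC := by
  obtain ⟨σ, hσ, hnone, rfl⟩ := exists_perm_of_fix h8 hv
  rw [bC, ← permCo0_mul, ← permCo0_mul] at hc
  have hcσ := permCo0_injective _ _ hc
  have hQ := mem_Q23_of_commute hσ hcσ
  obtain ⟨j, hj⟩ := Subgroup.mem_zpowers_iff.mp hQ
  have hj' : mu23 ^ (j % (11 : ℤ)).toNat = σ := by
    have h11 : mu23 ^ (11 : ℤ) = 1 := by
      rw [show (11 : ℤ) = ((11 : ℕ) : ℤ) from rfl, zpow_natCast]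
      exact mu23_pow_eleven
    have h2 : mu23 ^ j = mu23 ^ (j % (11 : ℤ)) := zpow_eq_zpow_emod' j h11
    have h3 : 0 ≤ j % (11 : ℤ) := Int.emod_nonneg j (by norm_num)
    rw [← hj, h2, ← zpow_natCast, Int.toNat_of_nonneg h3]
  rw [permCo0_congr hσ (M24.pow_mem mu23_mem (j % (11 : ℤ)).toNat) hj'.symm, permCo0_pow]
  exact Subgroup.npow_mem_zpowers _ _

end Cfsg.Agent.Helper8.Out3
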