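import Cfsg.Agent.Helper8.Out3B

/-!
Automorphisms given by words: products, equality by evaluation on the vectors `8 e_i`, and the
three generators (translation, doubling map, an involution commuting with the doubling map).
-/

set_option autoImplicit false

namespace Cfsg.Agent.Helper8.Out3

open Cfsg Cfsg.Agent.Helper8 Cfsg.Agent.Helper27 Cfsg.Agent.Helper92

/-- the automorphism of a word (the identity for an invalid word) -/
noncomputable def wElt (w : List Letter) : ↥Co0 :=
  if h : okW w = true then Classical.choose (exists_co0_word w h) else 1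

theorem wElt_smul {w : List Letter} (h : okW w = true) (v : ↥leechLattice) :
    ((wElt w • v : ↥leechLattice) : IVec) = semW w v.1 := by
  unfold wElt
  rw [dif_pos h]
  exact Classical.choose_spec (exists_co0_word w h) v

theorem wElt_list {w : List Letter} (h : okW w = true) (v : ↥leechLattice) (l : List ℤ)
    (hv : v.1 = vecOf l) : ((wElt w • v : ↥leechLattice) : IVec) = vecOf (runW w l) := by
  rw [wElt_smul h, hv, vecOf_runW w h]

theorem semW_append (w1 w2 : List Letter) (x : IVec) :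
    semW (w1 ++ w2) x = semW w2 (semW w1 x) := by
  induction w1 generalizing x with
  | nil => rfl
  | cons a w ih =>
    show semW (w ++ w2) (a.sem x) = semW w2 (semW w (a.sem x))
    exact ih _

theorem okW_append {w1 w2 : List Letter} (h1 : okW w1 = true) (h2 : okW w2 = true) :
    okW (w1 ++ w2) = true := by
  unfold okW at *
  rw [List.all_append, h1, h2]
  rfl

theorem wElt_append {w1 w2 : List Letter} (h1 : okW w1 = true) (h2 : okW w2 = true) :
    wElt (w1 ++ w2) = wElt w2 * wElt w1 := by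
  apply co0_ext
  intro v
  apply Subtype.ext
  rw [mul_smul, wElt_smul (okW_append h1 h2), wElt_smul h2, wElt_smul h1, semW_append]

theorem wElt_nil : wElt [] = 1 := by
  apply co0_ext
  intro v
  apply Subtype.ext
  rw [wElt_smul (by rfl), one_smul]
  rfl

/-- the list of the vector `8 e_i` -/
def e8L (i : ℕ) : List ℤ := (List.range 24).map fun j => if j = i then 8 else 0

theorem vec8_eq (i : ℕ) (hi : i < 24) : (vec8 (gPt i) : ↥leechLattice).1 = vecOf (e8L i) := by
  funext p
  unfold e8L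
  rw [vecOf_range_map, vec8_val, Pi.single_apply]
  by_cases h : p = gPt i
  · rw [if_pos h, if_pos (by rw [h, gIdx_gPt i hi])]
  · rw [if_neg h, if_neg (fun h' => h (by rw [← h', gPt_gIdx]))]

/-- two words agreeing on the vectors `8 e_i` give the same automorphism -/
theorem wElt_eq_of_basis {w1 w2 : List Letter} (h1 : okW w1 = true) (h2 : okW w2 = true)
    (H : ∀ i < 24, runW w1 (e8L i) = runW w2 (e8L i)) : wElt w1 = wElt w2 := by
  apply co0_ext8
  intro p
  apply Subtype.ext
  rw [← gPt_gIdx p, wElt_list h1 _ _ (vec8_eq _ (gIdx_lt p)),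
    wElt_list h2 _ _ (vec8_eq _ (gIdx_lt p)), H _ (gIdx_lt p)]

/-- Boolean form of the agreement on the vectors `8 e_i` -/
def basisEqB (w1 w2 : List Letter) : Bool :=
  (List.range 24).all fun i => decide (runW w1 (e8L i) = runW w2 (e8L i))

theorem wElt_eq_of_basisEqB {w1 w2 : List Letter} (h1 : okW w1 = true) (h2 : okW w2 = true)
    (H : basisEqB w1 w2 = true) : wElt w1 = wElt w2 := by
  apply wElt_eq_of_basis h1 h2
  intro i hi
  unfold basisEqB at H
  rw [List.all_eq_true] at H
  have := H i (List.mem_range.mpr hi)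
  rwa [decide_eq_true_eq] at this

theorem vecOf_injective {l l' : List ℤ} (hl : l.length = 24) (hl' : l'.length = 24)
    (h : vecOf l = vecOf l') : l = l' := by
  apply List.ext_getElem (by rw [hl, hl'])
  intro k hk1 hk2
  have hk : k < 24 := by rwa [hl] at hk1
  have := congrFun h (gPt k)
  unfold vecOf at this
  rwa [gIdx_gPt k hk, List.getD_eq_getElem _ _ hk1, List.getD_eq_getElem _ _ hk2] at this

theorem stepL_length (a : Letter) (l : List ℤ) : (a.stepL l).length = 24 := by
  cases a <;> simp [Letter.stepL]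

theorem runW_length (w : List Letter) (l : List ℤ) (hl : l.length = 24) :
    (runW w l).length = 24 := by
  induction w generalizing l with
  | nil => exact hl
  | cons a w ih =>
    rw [runW_cons]
    exact ih _ (stepL_length a l)

theorem e8L_length (i : ℕ) : (e8L i).length = 24 := by simp [e8L]

/-- a word moving some vector `8 e_i` is not the identity -/
theorem wElt_ne_one {w : List Letter} (h : okW w = true) (i : ℕ) (hi : i < 24)
    (H : runW w (e8L i) ≠ e8L i) : wElt w ≠ 1 := by
  intro h1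
  apply H
  have h2 := wElt_list h (vec8 (gPt i)) _ (vec8_eq i hi)
  rw [h1, one_smul, vec8_eq i hi] at h2
  exact (vecOf_injective (e8L_length i) (runW_length w _ (e8L_length i)) h2).symm

/-! ### the generators -/

/-- the word of the translation -/
def aW : List Letter :=
  [.P [1, 2, 3, 4, 5, 6, 7, 8, 9, 10, 11, 12, 13, 14, 15, 16, 17, 18, 19, 20, 21, 22, 0, 23]
    [22, 0, 1, 2, 3, 4, 5, 6, 7, 8, 9, 10, 11, 12, 13, 14, 15, 16, 17, 18, 19, 20, 21, 23]]

/-- the word of the inverse of the translation -/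
def aiW : List Letter :=
  [.P [22, 0, 1, 2, 3, 4, 5, 6, 7, 8, 9, 10, 11, 12, 13, 14, 15, 16, 17, 18, 19, 20, 21, 23]
    [1, 2, 3, 4, 5, 6, 7, 8, 9, 10, 11, 12, 13, 14, 15, 16, 17, 18, 19, 20, 21, 22, 0, 23]]

/-- the word of the doubling map -/
def bW : List Letter :=
  [.P [0, 2, 4, 6, 8, 10, 12, 14, 16, 18, 20, 22, 1, 3, 5, 7, 9, 11, 13, 15, 17, 19, 21, 23]
    [0, 12, 1, 13, 2, 14, 3, 15, 4, 16, 5, 17, 6, 18, 7, 19, 8, 20, 9, 21, 10, 22, 11, 23]]

/-- the word of the inverse of the doubling map -/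
def biW : List Letter :=
  [.P [0, 12, 1, 13, 2, 14, 3, 15, 4, 16, 5, 17, 6, 18, 7, 19, 8, 20, 9, 21, 10, 22, 11, 23]
    [0, 2, 4, 6, 8, 10, 12, 14, 16, 18, 20, 22, 1, 3, 5, 7, 9, 11, 13, 15, 17, 19, 21, 23]]

/-- the word of the involution -/
def tW : List Letter := [
  .P [12, 9, 0, 7, 16, 5, 1, 17, 21, 11, 10, 19, 20, 8, 2, 3, 13, 22, 18, 6, 14, 4, 15, 23] [2, 6, 14, 15, 21, 5, 19, 3, 13, 1, 10, 9, 0, 16, 20, 22, 4, 7, 18, 11, 12, 8, 17, 23],
  .X,
  .P [0, 1, 2, 11, 18, 4, 13, 12, 20, 19, 8, 10, 23, 22, 21, 16, 7, 17, 9, 5, 3, 6, 14, 15] [0, 1, 2, 20, 5, 19, 21, 16, 10, 18, 11, 3, 7, 6, 22, 23, 15, 17, 4, 9, 8, 14, 13, 12],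
  .X,
  .P [15, 11, 21, 6, 19, 12, 5, 3, 18, 22, 13, 7, 1, 8, 9, 16, 10, 2, 20, 4, 17, 14, 0, 23] [22, 12, 17, 7, 19, 6, 3, 11, 13, 14, 16, 1, 5, 10, 21, 0, 15, 20, 8, 4, 18, 2, 9, 23],
  .X,
  .P [0, 1, 2, 20, 22, 6, 5, 17, 21, 11, 19, 16, 12, 15, 8, 13, 18, 4, 9, 3, 10, 23, 7, 14] [0, 1, 2, 19, 17, 6, 5, 22, 14, 18, 20, 9, 12, 15, 23, 13, 11, 7, 16, 10, 3, 8, 4, 21],
  .X,
  .P [4, 8, 12, 16, 20, 1, 5, 9, 13, 17, 21, 2, 6, 10, 14, 18, 22, 3, 7, 11, 15, 19, 0, 23] [22, 5, 11, 17, 0, 6, 12, 18, 1, 7, 13, 19, 2, 8, 14, 20, 3, 9, 15, 21, 4, 10, 16, 23]]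

set_option maxRecDepth 100000 in
theorem aW_ok : okW aW = true := by decide +kernel

set_option maxRecDepth 100000 in
theorem aiW_ok : okW aiW = true := by decide +kernel

set_option maxRecDepth 100000 in
theorem bW_ok : okW bW = true := by decide +kernel

set_option maxRecDepth 100000 in
theorem biW_ok : okW biW = true := by decide +kernel

set_option maxRecDepth 100000 in
theorem tW_ok : okW tW = true := by decide +kernel

/-- the involution -/
noncomputable def tC : ↥Co0 := wElt tW

end Cfsg.Agent.Helper8.Out3
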