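import Cfsg.Agent.Helper8.Out3DataC0
import Cfsg.Agent.Helper8.Out3DataC1
import Cfsg.Agent.Helper8.Out3DataC2
import Cfsg.Agent.Helper8.Out3DataC3
import Cfsg.Agent.Helper8.Out3DataC4
import Cfsg.Agent.Helper8.Out3DataC5
import Cfsg.Agent.Helper8.Out3DataX

/-!
The chunk function of the codes of the orbit certificate for the vector `8 e_∞`.
-/

set_option autoImplicit false

namespace Cfsg.Agent.Helper8.Out3

/-- the chunks of the codes -/
def c3chC (c : ℕ) : ℕ :=
  bif Nat.blt c 192 then
    bif Nat.blt c 64 then
      c3chC0 c
    else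
      bif Nat.blt c 128 then
        c3chC1 c
      else
        c3chC2 c
  else
    bif Nat.blt c 256 then
      c3chC3 c
    else
      bif Nat.blt c 320 then
        c3chC4 c
      else
        c3chC5 c

end Cfsg.Agent.Helper8.Out3
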