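import Cfsg.Agent.Helper8.Out3G
import Cfsg.Agent.Helper8.Out3Data

/-!
The orbit certificate for the vector `8 e_∞`: check of the entries (part 0).
-/

set_option autoImplicit false

namespace Cfsg.Agent.Helper8.Out3

open Cfsg Cfsg.Agent.Helper8 Cfsg.Agent.Helper26

set_option maxRecDepth 1000000 in
theorem c3range0 : rangeOKT c3Tabs c3Act 48600 48599 c3chC c3chX 0 6075 = true := by
  decide +kernel

set_option maxRecDepth 1000000 in
theorem c3range1 : rangeOKT c3Tabs c3Act 48600 48599 c3chC c3chX 6075 6075 = true := by
  decide +kernel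

end Cfsg.Agent.Helper8.Out3
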