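import Cfsg.Agent.Helper8.Out3C

/-!
The three generators as automorphisms: the translation, the doubling map and the involution, with
their relations.
-/

set_option autoImplicit false

namespace Cfsg.Agent.Helper8.Out3

open Cfsg Cfsg.Agent.Helper8 Cfsg.Agent.Helper27 Cfsg.Agent.Helper92

theorem vecOf_eq_of (x : IVec) (l : List ℤ) (h : ∀ i < 24, x (gPt i) = l.getD i 0) :
    x = vecOf l := by
  funext p
  unfold vecOf
  rw [← h _ (gIdx_lt p), gPt_gIdx]

/-- the automorphism of a one-letter word made of a coordinate permutation -/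
theorem wElt_perm {t s : List ℕ} (h : isInvPair t s = true) (hc : checkM24 s = true) :
    wElt [.P t s] = permCo0 (permOfTabs_mem_M24 h hc) := by
  have hok : okW [Letter.P t s] = true := by
    unfold okW
    rw [List.all_cons, List.all_nil, Bool.and_true]
    show (isInvPair t s && checkM24 s) = true
    rw [h, hc]
    rfl
  apply co0_ext
  intro v
  apply Subtype.ext
  rw [wElt_smul hok, permCo0_smul]
  rfl

set_option maxRecDepth 100000 in
theorem aW_tabs : isInvPair
    [1, 2, 3, 4, 5, 6, 7, 8, 9, 10, 11, 12, 13, 14, 15, 16, 17, 18, 19, 20, 21, 22, 0, 23]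
    [22, 0, 1, 2, 3, 4, 5, 6, 7, 8, 9, 10, 11, 12, 13, 14, 15, 16, 17, 18, 19, 20, 21, 23] = true ∧
    checkM24
    [22, 0, 1, 2, 3, 4, 5, 6, 7, 8, 9, 10, 11, 12, 13, 14, 15, 16, 17, 18, 19, 20, 21, 23] = true := by
  decide +kernel

set_option maxRecDepth 100000 in
theorem bW_tabs : isInvPair
    [0, 2, 4, 6, 8, 10, 12, 14, 16, 18, 20, 22, 1, 3, 5, 7, 9, 11, 13, 15, 17, 19, 21, 23]
    [0, 12, 1, 13, 2, 14, 3, 15, 4, 16, 5, 17, 6, 18, 7, 19, 8, 20, 9, 21, 10, 22, 11, 23] = true ∧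
    checkM24
    [0, 12, 1, 13, 2, 14, 3, 15, 4, 16, 5, 17, 6, 18, 7, 19, 8, 20, 9, 21, 10, 22, 11, 23] = true := by
  decide +kernel

set_option maxRecDepth 100000 in
theorem aW_perm : ∀ p : GolayPt, permOfTabs
    [1, 2, 3, 4, 5, 6, 7, 8, 9, 10, 11, 12, 13, 14, 15, 16, 17, 18, 19, 20, 21, 22, 0, 23]
    [22, 0, 1, 2, 3, 4, 5, 6, 7, 8, 9, 10, 11, 12, 13, 14, 15, 16, 17, 18, 19, 20, 21, 23] p =
      trP 1 p := by
  decide +kernel

set_option maxRecDepth 100000 in
theorem bW_perm : ∀ p : GolayPt, permOfTabs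
    [0, 2, 4, 6, 8, 10, 12, 14, 16, 18, 20, 22, 1, 3, 5, 7, 9, 11, 13, 15, 17, 19, 21, 23]
    [0, 12, 1, 13, 2, 14, 3, 15, 4, 16, 5, 17, 6, 18, 7, 19, 8, 20, 9, 21, 10, 22, 11, 23] p =
      mu23 p := by
  decide +kernel

theorem wElt_aW : wElt aW = aC := by
  unfold aW aC
  rw [wElt_perm aW_tabs.1 aW_tabs.2]
  exact permCo0_congr _ _ (Equiv.ext aW_perm)

theorem wElt_bW : wElt bW = bC := by
  unfold bW bC
  rw [wElt_perm bW_tabs.1 bW_tabs.2]
  exact permCo0_congr _ _ (Equiv.ext bW_perm)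

set_option maxRecDepth 100000 in
theorem aiW_chk : basisEqB (aW ++ aiW) [] = true := by decide +kernel

set_option maxRecDepth 100000 in
theorem biW_chk : basisEqB (bW ++ biW) [] = true := by decide +kernel

theorem wElt_aiW : wElt aiW = aC⁻¹ := by
  have h := wElt_eq_of_basisEqB (okW_append aW_ok aiW_ok) (by rfl) aiW_chk
  rw [wElt_append aW_ok aiW_ok, wElt_nil, wElt_aW] at h
  exact eq_inv_of_mul_eq_one_left h

theorem wElt_biW : wElt biW = bC⁻¹ := by
  have h := wElt_eq_of_basisEqB (okW_append bW_ok biW_ok) (by rfl) biW_chk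
  rw [wElt_append bW_ok biW_ok, wElt_nil, wElt_bW] at h
  exact eq_inv_of_mul_eq_one_left h

/-! ### the involution -/

/-- the list of the vector `(-5, -1, …, -1)` -/
def vVL : List ℤ := [-1, -1, -1, -1, -1, -1, -1, -1, -1, -1, -1, -1, -1, -1, -1, -1, -1, -1, -1,
  -1, -1, -1, -1, -5]

theorem vV_eq : (vV : IVec) = vecOf vVL := by
  apply vecOf_eq_of
  intro i hi
  rw [vV_gPt i hi]
  interval_cases i <;> rfl

set_option maxRecDepth 100000 in
theorem tW_vV : runW tW vVL = vVL := by decide +kernel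

theorem tC_vV : tC • vV = vV := by
  apply Subtype.ext
  rw [tC, wElt_list tW_ok vV vVL vV_eq, tW_vV, vV_eq]

set_option maxRecDepth 100000 in
theorem tW_comm_chk : basisEqB (bW ++ tW) (tW ++ bW) = true := by decide +kernel

theorem tC_comm : tC * bC = bC * tC := by
  have h := wElt_eq_of_basisEqB (okW_append bW_ok tW_ok) (okW_append tW_ok bW_ok) tW_comm_chk
  rwa [wElt_append bW_ok tW_ok, wElt_append tW_ok bW_ok, wElt_bW] at h

set_option maxRecDepth 100000 in
theorem tW_sq_chk : basisEqB (tW ++ tW) [] = true := by decide +kernel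

theorem tC_sq : tC * tC = 1 := by
  have h := wElt_eq_of_basisEqB (okW_append tW_ok tW_ok) (by rfl) tW_sq_chk
  rwa [wElt_append tW_ok tW_ok, wElt_nil] at h

set_option maxRecDepth 100000 in
theorem tW_e8 : runW tW (e8L 23) =
    [-2, 2, 2, 2, 2, 0, 2, 0, 2, 2, 0, 0, 2, 2, 0, 0, 2, 0, 2, 0, 0, 0, 0, 4] := by
  decide +kernel

theorem tC_vec8 : ((tC • vec8 none : ↥leechLattice) : IVec) = u1 := by
  rw [tC, wElt_list tW_ok (vec8 none) (e8L 23) (vec8_eq 23 (by norm_num)), tW_e8]
  rfl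

theorem tC_ne_one : tC ≠ 1 := by
  apply wElt_ne_one tW_ok 23 (by norm_num)
  rw [tW_e8]
  decide

/-! ### the relation -/

/-- the power of a word -/
def powW (w : List Letter) : ℕ → List Letter
  | 0 => []
  | n + 1 => w ++ powW w n

theorem okW_powW {w : List Letter} (h : okW w = true) (n : ℕ) : okW (powW w n) = true := by
  induction n with
  | zero => rfl
  | succ n ih => exact okW_append h ih

theorem wElt_powW {w : List Letter} (h : okW w = true) (n : ℕ) :
    wElt (powW w n) = wElt w ^ n := by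
  induction n with
  | zero => rw [pow_zero]; exact wElt_nil
  | succ n ih =>
    show wElt (w ++ powW w n) = _
    rw [wElt_append h (okW_powW h n), ih, pow_succ]

set_option maxRecDepth 100000 in
theorem rel_chk : basisEqB (powW (tW ++ bW ++ bW ++ bW ++ aiW) 11) [] = true := by
  decide +kernel

theorem rel_abt : (aC⁻¹ * bC * bC * bC * tC) ^ 11 = 1 := by
  have h1 := okW_append tW_ok bW_ok
  have h2 := okW_append h1 bW_ok
  have h3 := okW_append h2 bW_ok
  have hok : okW (tW ++ bW ++ bW ++ bW ++ aiW) = true := okW_append h3 aiW_ok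
  have h := wElt_eq_of_basisEqB (okW_powW hok 11) (by rfl) rel_chk
  rwa [wElt_powW hok, wElt_nil, wElt_append h3 aiW_ok, wElt_append h2 bW_ok,
    wElt_append h1 bW_ok, wElt_append tW_ok bW_ok, wElt_aiW, wElt_bW, ← mul_assoc, ← mul_assoc,
    ← mul_assoc] at h

set_option maxRecDepth 100000 in
theorem rel_inv_chk : runW (powW (tW ++ bW ++ bW ++ bW ++ aW) 11) (e8L 0) ≠ e8L 0 := by
  decide +kernel

theorem rel_inv : (aC * bC * bC * bC * tC) ^ 11 ≠ 1 := by
  have h1 := okW_append tW_ok bW_ok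
  have h2 := okW_append h1 bW_ok
  have h3 := okW_append h2 bW_ok
  have hok : okW (tW ++ bW ++ bW ++ bW ++ aW) = true := okW_append h3 aW_ok
  have h := wElt_ne_one (okW_powW hok 11) 0 (by norm_num) rel_inv_chk
  rwa [wElt_powW hok, wElt_append h3 aW_ok, wElt_append h2 bW_ok,
    wElt_append h1 bW_ok, wElt_append tW_ok bW_ok, wElt_aW, wElt_bW, ← mul_assoc, ← mul_assoc,
    ← mul_assoc] at h

end Cfsg.Agent.Helper8.Out3
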