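import Cfsg.Agent.Helper8.Out3A
import Cfsg.Agent.Helper26.R7Cert

/-!
Orbit certificates for a subgroup of the automorphism group given by generators: the entries of
the certificate lie in the orbit of the root under the subgroup, and they are pairwise distinct.
The check of the entries can be cut into ranges.
-/

set_option autoImplicit false

namespace Cfsg.Agent.Helper8.Out3

open Cfsg Cfsg.Agent.Helper8 Cfsg.Agent.Helper26

section

variable {tabs : ℕ → List ℕ} {actG : ℕ → IVec → IVec}

theorem cert_soundK (K : Subgroup ↥Co0) {y : ↥leechLattice}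
    (htab : ∀ t < 4, permTabOK (tabs t) = true ∧ ∀ w, actG t w = actPerm (tabs t) w)
    (hgen : ∀ t, ∃ h ∈ K, ∀ v : ↥leechLattice,
      ((h • v : ↥leechLattice) : IVec) = actG t (v : IVec))
    {n r0 : ℕ} {C P Gn D : ℕ → ℕ}
    (hc : ∀ i < n, entryOKP tabs actG n r0 C P Gn D i = true)
    (hy : (y : IVec) = decV (C r0)) :
    ∀ i < n, ∃ z : ↥leechLattice, (∃ h ∈ K, h • y = z) ∧ (z : IVec) = decV (C i) := by
  have key : ∀ d i, i < n → D i = d →
      ∃ z : ↥leechLattice, (∃ h ∈ K, h • y = z) ∧ (z : IVec) = decV (C i) := by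
    intro d
    induction d using Nat.strong_induction_on with
    | _ d ih =>
      intro i hi hd
      have h := hc i hi
      unfold entryOKP at h
      rw [Bool.and_eq_true] at h
      obtain ⟨-, h3⟩ := h
      by_cases hr : i = r0
      · subst hr
        exact ⟨y, ⟨1, K.one_mem, one_smul _ _⟩, hy⟩
      · rw [if_neg (fun hb => hr (Nat.eq_of_beq_eq_true hb)), Bool.and_eq_true, Bool.and_eq_true,
          Nat.blt_eq, Nat.blt_eq] at h3
        obtain ⟨⟨hp, hdp⟩, hv⟩ := h3
        obtain ⟨z, ⟨k, hk, hkz⟩, hzv⟩ := ih _ (by rw [← hd]; exact hdp) _ hp rfl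
        obtain ⟨g, g1, g3⟩ := hgen (Gn i)
        refine ⟨g • z, ⟨g * k, K.mul_mem g1 hk, by rw [mul_smul, hkz]⟩, ?_⟩
        rw [g3, hzv]
        by_cases ht : Gn i < 4
        · rw [if_pos (by rw [Nat.blt_eq]; exact ht)] at hv
          obtain ⟨hok, hact⟩ := htab (Gn i) ht
          obtain ⟨hlen, hs⟩ := permTabOK_spec hok
          rw [hact, ← decV_permCode hlen hs, Nat.eq_of_beq_eq_true hv]
        · rw [if_neg (by rw [Nat.blt_eq]; exact ht), vecEqB_iff] at hv
          exact hv
  intro i hi
  exact key _ i hi rfl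

/-- the certificate bounds the orbit from below -/
theorem cert_cardK (K : Subgroup ↥Co0) [Finite ↥Co0] {y : ↥leechLattice}
    (htab : ∀ t < 4, permTabOK (tabs t) = true ∧ ∀ w, actG t w = actPerm (tabs t) w)
    (hgen : ∀ t, ∃ h ∈ K, ∀ v : ↥leechLattice,
      ((h • v : ↥leechLattice) : IVec) = actG t (v : IVec))
    {n r0 : ℕ} {C P Gn D : ℕ → ℕ} (hC : ∀ i, C i < 2 ^ 96)
    (hc : ∀ i < n, entryOKP tabs actG n r0 C P Gn D i = true)
    (hy : (y : IVec) = decV (C r0)) :
    n ≤ Nat.card (MulAction.orbit ↥K y) := by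
  classical
  have hs := cert_soundK K htab hgen hc hy
  have hcert : certOKP tabs actG n r0 C P Gn D = true := by
    unfold certOKP
    rw [allBelow_iff]
    exact hc
  have hmono := cert_strictMonoP hcert
  have hinj : ∀ i i', i < n → i' < n → decV (C i) = decV (C i') → i = i' := by
    intro i i' hi hi' he
    have hcode : C i = C i' := decV_injective (hC i) (hC i') he
    rcases Nat.lt_trichotomy i i' with h | h | h
    · exact absurd hcode (Nat.ne_of_lt (hmono i i' h hi'))
    · exact h
    · exact absurd hcode.symm (Nat.ne_of_lt (hmono i' i h hi))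
  let f : Fin n → MulAction.orbit ↥K y := fun i =>
    ⟨Classical.choose (hs i i.2), by
      obtain ⟨⟨h, hK, hh⟩, -⟩ := Classical.choose_spec (hs i i.2)
      exact ⟨⟨h, hK⟩, hh⟩⟩
  have hf : ∀ i : Fin n, ((f i : ↥leechLattice) : IVec) = decV (C i) :=
    fun i => (Classical.choose_spec (hs i i.2)).2
  have hfinj : Function.Injective f := by
    intro i i' he
    apply Fin.ext
    apply hinj i i' i.2 i'.2
    rw [← hf i, ← hf i', he]
  have : Finite ↥K := inferInstance
  have : Finite (MulAction.orbit ↥K y) := Finite.of_surjective (fun k : ↥K => (⟨k • y, k, rfl⟩ : MulAction.orbit ↥K y))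
    (by rintro ⟨_, k, rfl⟩; exact ⟨k, rfl⟩)
  have := Nat.card_le_card_of_injective f hfinj
  rwa [Nat.card_fin] at this

end

/-- the check of the entries with numbers in `[lo, lo + len)` of a certificate given by two chunk
functions -/
def rangeOKT (tabs : ℕ → List ℕ) (actG : ℕ → IVec → IVec) (n r0 : ℕ) (chC chX : ℕ → ℕ)
    (lo len : ℕ) : Bool :=
  allBelow len fun j => entryOKP tabs actG n r0 (getT 96 128 chC)
    (fun i => Nat.land (getT 32 128 chX i) 65535)
    (fun i => Nat.land (Nat.shiftRight (getT 32 128 chX i) 16) 255)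
    (fun i => Nat.shiftRight (getT 32 128 chX i) 24) (Nat.add lo j)

theorem rangeOKT_spec {tabs : ℕ → List ℕ} {actG : ℕ → IVec → IVec} {n r0 : ℕ}
    {chC chX : ℕ → ℕ} {lo len : ℕ} (h : rangeOKT tabs actG n r0 chC chX lo len = true) (i : ℕ)
    (h1 : lo ≤ i) (h2 : i < lo + len) :
    entryOKP tabs actG n r0 (getT 96 128 chC)
      (fun i => Nat.land (getT 32 128 chX i) 65535)
      (fun i => Nat.land (Nat.shiftRight (getT 32 128 chX i) 16) 255)
      (fun i => Nat.shiftRight (getT 32 128 chX i) 24) i = true := by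
  unfold rangeOKT at h
  rw [allBelow_iff] at h
  have := h (i - lo) (by omega)
  have e : Nat.add lo (i - lo) = i := by
    show lo + (i - lo) = i
    omega
  rwa [e] at this

end Cfsg.Agent.Helper8.Out3
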