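import Cfsg.Agent.Helper8.Out3D
import Cfsg.Agent.Helper27.OutM23

/-!
The subgroup generated by the translation, the doubling map and the involution contains all the
coordinate permutations of the group of the code fixing `∞`.
-/

set_option autoImplicit false

namespace Cfsg.Agent.Helper8.Out3

open Cfsg Cfsg.Agent.Helper8 Cfsg.Agent.Helper27 Cfsg.Agent.Helper92

/-- the subgroup generated by the three elements -/
noncomputable def K3 : Subgroup ↥Co0 := Subgroup.closure {aC, bC, tC}

theorem aC_mem : aC ∈ K3 := Subgroup.subset_closure (by simp)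

theorem bC_mem : bC ∈ K3 := Subgroup.subset_closure (by simp)

theorem tC_mem : tC ∈ K3 := Subgroup.subset_closure (by simp)

/-- the stabiliser of `(-5, -1, …, -1)` -/
abbrev S3 : Subgroup ↥Co0 := MulAction.stabilizer ↥Co0 vV

theorem K3_le : K3 ≤ S3 := by
  unfold K3
  rw [Subgroup.closure_le]
  rintro g (rfl | rfl | hg)
  · exact aC_vV
  · exact bC_vV
  · rw [Set.mem_singleton_iff] at hg
    rw [hg]
    exact tC_vV

/-- the element of a concatenation of words lies in a subgroup containing the elements of the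
words -/
theorem wElt_flatten_mem (K : Subgroup ↥Co0) (ws : List (List Letter))
    (h : ∀ w ∈ ws, okW w = true ∧ wElt w ∈ K) :
    okW ws.flatten = true ∧ wElt ws.flatten ∈ K := by
  induction ws with
  | nil =>
    refine ⟨rfl, ?_⟩
    rw [List.flatten_nil, wElt_nil]
    exact K.one_mem
  | cons w ws ih =>
    obtain ⟨h1, h2⟩ := ih (fun w' hw' => h w' (List.mem_cons_of_mem _ hw'))
    obtain ⟨h3, h4⟩ := h w List.mem_cons_self
    rw [List.flatten_cons]
    refine ⟨okW_append h3 h1, ?_⟩
    rw [wElt_append h3 h1]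
    exact K.mul_mem h2 h4

/-- the words of the generators and of their inverses -/
def genW : ℕ → List Letter
  | 0 => aW
  | 1 => aiW
  | 2 => bW
  | 3 => biW
  | _ => tW

theorem genW_facts : ∀ k, okW (genW k) = true ∧ wElt (genW k) ∈ K3 := by
  intro k
  match k with
  | 0 => exact ⟨aW_ok, by rw [genW, wElt_aW]; exact aC_mem⟩
  | 1 => exact ⟨aiW_ok, by rw [genW, wElt_aiW]; exact K3.inv_mem aC_mem⟩
  | 2 => exact ⟨bW_ok, by rw [genW, wElt_bW]; exact bC_mem⟩
  | 3 => exact ⟨biW_ok, by rw [genW, wElt_biW]; exact K3.inv_mem bC_mem⟩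
  | (n + 4) => exact ⟨tW_ok, tC_mem⟩

/-- the word of a list of generator numbers -/
def prodW (l : List ℕ) : List Letter := (l.map genW).flatten

theorem prodW_facts (l : List ℕ) : okW (prodW l) = true ∧ wElt (prodW l) ∈ K3 := by
  apply wElt_flatten_mem
  intro w hw
  obtain ⟨k, -, rfl⟩ := List.mem_map.mp hw
  exact genW_facts k

/-- a word of the subgroup fixing `8 e_∞` -/
def cW : List Letter := prodW [4, 1, 4, 0, 2, 0, 4, 0, 4, 0, 4, 0, 0, 2, 0, 4]

theorem cW_facts : okW cW = true ∧ wElt cW ∈ K3 := prodW_facts _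

set_option maxRecDepth 100000 in
theorem cW_chk : runW cW (e8L 23) = e8L 23 ∧ runW cW (e8L 0) = e8L 14 ∧
    runW cW (e8L 1) = e8L 6 ∧ runW cW (e8L 2) = e8L 4 := by
  decide +kernel

theorem wElt_cW_vec8 (i j : ℕ) (hi : i < 24) (hj : j < 24) (h : runW cW (e8L i) = e8L j) :
    wElt cW • vec8 (gPt i) = vec8 (gPt j) := by
  apply Subtype.ext
  rw [wElt_list cW_facts.1 _ _ (vec8_eq i hi), h, vec8_eq j hj]

/-- the coordinate permutations of the group of the code whose automorphism lies in the subgroup -/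
def KP : Subgroup (Equiv.Perm GolayPt) where
  carrier := {σ | ∃ h : σ ∈ M24, permCo0 h ∈ K3}
  mul_mem' := by
    rintro σ τ ⟨h1, h2⟩ ⟨h3, h4⟩
    exact ⟨M24.mul_mem h1 h3, by rw [permCo0_mul h1 h3]; exact K3.mul_mem h2 h4⟩
  one_mem' := ⟨M24.one_mem, by rw [permCo0_one]; exact K3.one_mem⟩
  inv_mem' := by
    rintro σ ⟨h1, h2⟩
    refine ⟨M24.inv_mem h1, ?_⟩
    have e : permCo0 (M24.inv_mem h1) * permCo0 h1 = 1 := by
      rw [← permCo0_mul, ← permCo0_one]
      exact permCo0_congr _ _ (inv_mul_cancel σ)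
    rw [eq_inv_of_mul_eq_one_left e]
    exact K3.inv_mem h2

theorem mem_KP {σ : Equiv.Perm GolayPt} : σ ∈ KP ↔ ∃ h : σ ∈ M24, permCo0 h ∈ K3 := Iff.rfl

theorem trP_mem_KP : trP 1 ∈ KP := ⟨F23_le_M24 trP_one_mem, aC_mem⟩

theorem mu23_mem_KP : mu23 ∈ KP := ⟨mu23_mem, bC_mem⟩

/-- every coordinate permutation of the group of the code fixing `∞` lies in the subgroup -/
theorem M23p_le_KP : M23p ≤ KP := by
  -- the permutation of the word
  have h8 : wElt cW • vec8 none = vec8 none :=
    wElt_cW_vec8 23 23 (by norm_num) (by norm_num) cW_chk.1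
  have hv : wElt cW • vV = vV := K3_le cW_facts.2
  obtain ⟨σ, hσ, hnone, hσe⟩ := exists_perm_of_fix h8 hv
  have hval : ∀ i j : ℕ, i < 24 → j < 24 → runW cW (e8L i) = e8L j → σ (gPt i) = gPt j := by
    intro i j hi hj h
    have := wElt_cW_vec8 i j hi hj h
    rw [hσe, permCo0_vec8] at this
    exact vec8_injective this
  have h0 : σ (some 0) = some 14 := hval 0 14 (by norm_num) (by norm_num) cW_chk.2.1
  have h1 : σ (some 1) = some 6 := hval 1 6 (by norm_num) (by norm_num) cW_chk.2.2.1
  have h2 : σ (some 2) = some 4 := hval 2 4 (by norm_num) (by norm_num) cW_chk.2.2.2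
  have hσK : σ ∈ KP := ⟨hσ, by rw [← hσe]; exact cW_facts.2⟩
  have hσF : σ ∉ F23 := by
    intro hF
    have hN := F23_le_normalizer_P23 hF
    have hmem : σ * trP 1 * σ⁻¹ ∈ P23 :=
      (Subgroup.mem_normalizer_iff.mp hN (trP 1)).mp (Subgroup.mem_zpowers _)
    obtain ⟨j, hj⟩ := mem_P23 hmem
    have e : ∀ p, σ (trP 1 p) = trP j (σ p) := by
      intro p
      have := congrArg (fun f : Equiv.Perm GolayPt => f (σ p)) hj
      simp only [Equiv.Perm.mul_apply] at this
      rw [show σ⁻¹ (σ p) = p from σ.symm_apply_apply p] at this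
      exact this
    have e0 := e (some 0)
    have e1 := e (some 1)
    rw [trP_some, h0, trP_some] at e0
    rw [trP_some, h1, trP_some] at e1
    have e0' : σ (some 1) = some (14 + j) := by rw [← e0]; congr 1
    have e1' : σ (some 2) = some (6 + j) := by rw [← e1]; congr 1
    rw [h1] at e0'
    rw [h2] at e1'
    have f0 : (6 : ZMod 23) = 14 + j := Option.some.inj e0'
    have f1 : (4 : ZMod 23) = 6 + j := Option.some.inj e1'
    have : (6 : ZMod 23) - 14 = 4 - 6 := by linear_combination f0 - f1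
    revert this
    decide
  have hF : F23 ≤ KP ⊓ M23p :=
    F23_le_of_mem ⟨trP_mem_KP, F23_le_M23p trP_one_mem⟩ ⟨mu23_mem_KP, F23_le_M23p mu23_mem_F23⟩
  rcases F23_max (KP ⊓ M23p) hF inf_le_right with h | h
  · exfalso
    apply hσF
    rw [← h]
    exact ⟨hσK, hσ, hnone⟩
  · rw [← h]
    exact inf_le_left

end Cfsg.Agent.Helper8.Out3
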