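import Cfsg.Agent.Helper8.Out3F
import Cfsg.Agent.Helper8.Out3E

/-!
The generators used by the orbit certificate for the vector `8 e_∞`: four coordinate permutations
and the involution.
-/

set_option autoImplicit false

namespace Cfsg.Agent.Helper8.Out3

open Cfsg Cfsg.Agent.Helper8 Cfsg.Agent.Helper26 Cfsg.Agent.Helper27 Cfsg.Agent.Helper92

/-- the automorphism of a coordinate permutation given by tables, fixing `∞` -/
theorem exists_mem_K3_perm {t s : List ℕ} (h : isInvPair t s = true) (hc : checkM24 s = true)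
    (h23 : t.getD 23 0 = 23) :
    ∃ g ∈ K3, ∀ v : ↥leechLattice,
      ((g • v : ↥leechLattice) : IVec) = actPerm s (v : IVec) := by
  have hM : permOfTabs t s ∈ M23p := by
    refine ⟨permOfTabs_mem_M24 h hc, ?_⟩
    have := permOfTabs_gPt h 23 (by norm_num)
    rw [h23] at this
    exact this
  obtain ⟨hm, hK⟩ := M23p_le_KP hM
  refine ⟨_, hK, fun v => ?_⟩
  rw [permCo0_smul]
  exact actPerm_eq h v.1

def c3TA : List ℕ := [1, 2, 3, 4, 5, 6, 7, 8, 9, 10, 11, 12, 13, 14, 15, 16, 17, 18, 19, 20, 21, 22, 0, 23]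
def c3TAi : List ℕ := [22, 0, 1, 2, 3, 4, 5, 6, 7, 8, 9, 10, 11, 12, 13, 14, 15, 16, 17, 18, 19, 20, 21, 23]
def c3TB : List ℕ := [0, 2, 4, 6, 8, 10, 12, 14, 16, 18, 20, 22, 1, 3, 5, 7, 9, 11, 13, 15, 17, 19, 21, 23]
def c3TBi : List ℕ := [0, 12, 1, 13, 2, 14, 3, 15, 4, 16, 5, 17, 6, 18, 7, 19, 8, 20, 9, 21, 10, 22, 11, 23]
def c3TC : List ℕ := [14, 6, 4, 2, 0, 21, 10, 8, 12, 19, 1, 18, 20, 22, 16, 5, 3, 17, 11, 9, 13, 15, 7, 23]
def c3TCi : List ℕ := [4, 10, 3, 16, 2, 15, 1, 22, 7, 19, 6, 18, 8, 20, 0, 21, 14, 17, 11, 9, 12, 5, 13, 23]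
def c3TD : List ℕ := [6, 4, 2, 0, 21, 10, 8, 12, 19, 1, 18, 20, 22, 16, 5, 3, 17, 11, 9, 13, 15, 7, 14, 23]
def c3TDi : List ℕ := [3, 9, 2, 15, 1, 14, 0, 21, 6, 18, 5, 17, 7, 19, 22, 20, 13, 16, 10, 8, 11, 4, 12, 23]
def c3P1 : List ℕ := [12, 9, 0, 7, 16, 5, 1, 17, 21, 11, 10, 19, 20, 8, 2, 3, 13, 22, 18, 6, 14, 4, 15, 23]
def c3P1i : List ℕ := [2, 6, 14, 15, 21, 5, 19, 3, 13, 1, 10, 9, 0, 16, 20, 22, 4, 7, 18, 11, 12, 8, 17, 23]
def c3P2 : List ℕ := [0, 1, 2, 11, 18, 4, 13, 12, 20, 19, 8, 10, 23, 22, 21, 16, 7, 17, 9, 5, 3, 6, 14, 15]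
def c3P2i : List ℕ := [0, 1, 2, 20, 5, 19, 21, 16, 10, 18, 11, 3, 7, 6, 22, 23, 15, 17, 4, 9, 8, 14, 13, 12]
def c3P3 : List ℕ := [15, 11, 21, 6, 19, 12, 5, 3, 18, 22, 13, 7, 1, 8, 9, 16, 10, 2, 20, 4, 17, 14, 0, 23]
def c3P3i : List ℕ := [22, 12, 17, 7, 19, 6, 3, 11, 13, 14, 16, 1, 5, 10, 21, 0, 15, 20, 8, 4, 18, 2, 9, 23]
def c3P4 : List ℕ := [0, 1, 2, 20, 22, 6, 5, 17, 21, 11, 19, 16, 12, 15, 8, 13, 18, 4, 9, 3, 10, 23, 7, 14]
def c3P4i : List ℕ := [0, 1, 2, 19, 17, 6, 5, 22, 14, 18, 20, 9, 12, 15, 23, 13, 11, 7, 16, 10, 3, 8, 4, 21]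
def c3P5 : List ℕ := [4, 8, 12, 16, 20, 1, 5, 9, 13, 17, 21, 2, 6, 10, 14, 18, 22, 3, 7, 11, 15, 19, 0, 23]
def c3P5i : List ℕ := [22, 5, 11, 17, 0, 6, 12, 18, 1, 7, 13, 19, 2, 8, 14, 20, 3, 9, 15, 21, 4, 10, 16, 23]

theorem c3TA_inv : isInvPair c3TA c3TAi = true := by decide +kernel

theorem c3TA_chk : checkM24 c3TAi = true := by decide +kernel

theorem c3TB_inv : isInvPair c3TB c3TBi = true := by decide +kernel

theorem c3TB_chk : checkM24 c3TBi = true := by decide +kernel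

theorem c3TC_inv : isInvPair c3TC c3TCi = true := by decide +kernel

theorem c3TC_chk : checkM24 c3TCi = true := by decide +kernel

theorem c3TD_inv : isInvPair c3TD c3TDi = true := by decide +kernel

theorem c3TD_chk : checkM24 c3TDi = true := by decide +kernel

theorem c3P1_inv : isInvPair c3P1 c3P1i = true := by decide +kernel

theorem c3P1_chk : checkM24 c3P1i = true := by decide +kernel

theorem c3P2_inv : isInvPair c3P2 c3P2i = true := by decide +kernel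

theorem c3P2_chk : checkM24 c3P2i = true := by decide +kernel

theorem c3P3_inv : isInvPair c3P3 c3P3i = true := by decide +kernel

theorem c3P3_chk : checkM24 c3P3i = true := by decide +kernel

theorem c3P4_inv : isInvPair c3P4 c3P4i = true := by decide +kernel

theorem c3P4_chk : checkM24 c3P4i = true := by decide +kernel

theorem c3P5_inv : isInvPair c3P5 c3P5i = true := by decide +kernel

theorem c3P5_chk : checkM24 c3P5i = true := by decide +kernel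

/-- the action of the involution -/
def tFun (x : IVec) : IVec :=
  actPerm c3P5i (xiFun (actPerm c3P4i (xiFun (actPerm c3P3i (xiFun (actPerm c3P2i
    (xiFun (actPerm c3P1i x))))))))

theorem tW_eq : tW = [.P c3P1 c3P1i, .X, .P c3P2 c3P2i, .X, .P c3P3 c3P3i, .X, .P c3P4 c3P4i, .X,
    .P c3P5 c3P5i] := rfl

theorem semW_tW (x : IVec) : semW tW x = tFun x := by
  rw [tW_eq]
  show signedPerm (permOfTabs c3P5 c3P5i) ∅ (xiFun (signedPerm (permOfTabs c3P4 c3P4i) ∅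
    (xiFun (signedPerm (permOfTabs c3P3 c3P3i) ∅ (xiFun (signedPerm (permOfTabs c3P2 c3P2i) ∅
    (xiFun (signedPerm (permOfTabs c3P1 c3P1i) ∅ x)))))))) = _
  rw [actPerm_eq c3P5_inv, actPerm_eq c3P4_inv, actPerm_eq c3P3_inv, actPerm_eq c3P2_inv,
    actPerm_eq c3P1_inv]
  rfl

/-- the action of the generator with number `t` -/
def c3Act : ℕ → IVec → IVec
  | 0 => actPerm c3TAi
  | 1 => actPerm c3TBi
  | 2 => actPerm c3TCi
  | 3 => actPerm c3TDi
  | _ => tFun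

/-- the tables of the four permutation generators -/
def c3Tabs : ℕ → List ℕ
  | 0 => c3TAi
  | 1 => c3TBi
  | 2 => c3TCi
  | 3 => c3TDi
  | _ => []

theorem c3_htab : ∀ t < 4, permTabOK (c3Tabs t) = true ∧ ∀ w, c3Act t w = actPerm (c3Tabs t) w := by
  intro t ht
  interval_cases t
  · exact ⟨by decide, fun w => rfl⟩
  · exact ⟨by decide, fun w => rfl⟩
  · exact ⟨by decide, fun w => rfl⟩
  · exact ⟨by decide, fun w => rfl⟩

theorem c3_hgen : ∀ t, ∃ h ∈ K3, ∀ v : ↥leechLattice,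
    ((h • v : ↥leechLattice) : IVec) = c3Act t (v : IVec) := by
  intro t
  match t with
  | 0 => exact exists_mem_K3_perm c3TA_inv c3TA_chk rfl
  | 1 => exact exists_mem_K3_perm c3TB_inv c3TB_chk rfl
  | 2 => exact exists_mem_K3_perm c3TC_inv c3TC_chk rfl
  | 3 => exact exists_mem_K3_perm c3TD_inv c3TD_chk rfl
  | (n + 4) =>
    refine ⟨tC, tC_mem, fun v => ?_⟩
    rw [tC, wElt_smul tW_ok, semW_tW]
    rfl

end Cfsg.Agent.Helper8.Out3
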