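import Cfsg.Agent.Helper8.Out3Cert0
import Cfsg.Agent.Helper8.Out3Cert1
import Cfsg.Agent.Helper8.Out3Cert2
import Cfsg.Agent.Helper8.Out3Cert3
import Cfsg.Agent.Helper8.MaxCount
import Cfsg.Agent.Helper26.Co3Simple

/-!
The translation, the doubling map and the involution generate the stabiliser of
`(-5, -1, …, -1)`.
-/

set_option autoImplicit false

namespace Cfsg.Agent.Helper8.Out3

open Cfsg Cfsg.Agent.Helper8 Cfsg.Agent.Helper26 Cfsg.Agent.Helper27 Cfsg.Agent.Helper92

theorem c3_entries : ∀ i < 48600, entryOKP c3Tabs c3Act 48600 48599 (getT 96 128 c3chC)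
    (fun i => Nat.land (getT 32 128 c3chX i) 65535)
    (fun i => Nat.land (Nat.shiftRight (getT 32 128 c3chX i) 16) 255)
    (fun i => Nat.shiftRight (getT 32 128 c3chX i) 24) i = true := by
  intro i hi
  by_cases h0 : i < 6075
  · exact rangeOKT_spec c3range0 i (by omega) (by omega)
  by_cases h1 : i < 12150
  · exact rangeOKT_spec c3range1 i (by omega) (by omega)
  by_cases h2 : i < 18225
  · exact rangeOKT_spec c3range2 i (by omega) (by omega)
  by_cases h3 : i < 24300
  · exact rangeOKT_spec c3range3 i (by omega) (by omega)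
  by_cases h4 : i < 30375
  · exact rangeOKT_spec c3range4 i (by omega) (by omega)
  by_cases h5 : i < 36450
  · exact rangeOKT_spec c3range5 i (by omega) (by omega)
  by_cases h6 : i < 42525
  · exact rangeOKT_spec c3range6 i (by omega) (by omega)
  · exact rangeOKT_spec c3range7 i (by omega) (by omega)

set_option maxRecDepth 100000 in
theorem c3_root : vecEqB ((vec8 none : ↥leechLattice) : IVec)
    (decV (getT 96 128 c3chC 48599)) = true := by
  decide +kernel

theorem finite_co0' : Finite ↥Co0 :=
  Nat.finite_of_card_ne_zero (by rw [card_co0]; norm_num)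

/-- the orbit of `8 e_∞` under the subgroup has at least 48600 elements -/
theorem orbit_ge : 48600 ≤ (MulAction.orbit ↥K3 (vec8 none)).ncard := by
  have := finite_co0'
  rw [← Nat.card_coe_set_eq]
  exact cert_cardK K3 c3_htab c3_hgen (fun i => getT_lt 96 128 c3chC i) c3_entries
    ((vecEqB_iff _ _).mp c3_root)

theorem M23p_mem24 {σ : Equiv.Perm GolayPt} (h : σ ∈ M23p) : σ ∈ M24 := by
  obtain ⟨h1, -⟩ := h
  exact h1

theorem M23p_fix {σ : Equiv.Perm GolayPt} (h : σ ∈ M23p) : σ none = none := by
  obtain ⟨-, h2⟩ := h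
  exact h2

/-- the stabiliser of `8 e_∞` in the subgroup has at least `|M23|` elements -/
theorem stab_ge : 10200960 ≤ Nat.card ↥(MulAction.stabilizer ↥Co0 (vec8 none) ⊓ K3) := by
  have := finite_co0'
  rw [← card_M23p]
  let f : ↥M23p → ↥(MulAction.stabilizer ↥Co0 (vec8 none) ⊓ K3) := fun σ =>
    ⟨permCo0 (M23p_mem24 σ.2), by
      refine ⟨?_, ?_⟩
      · show permCo0 (M23p_mem24 σ.2) • vec8 none = vec8 none
        rw [permCo0_vec8, M23p_fix σ.2]
      · obtain ⟨hm, hK⟩ := M23p_le_KP σ.2
        exact hK⟩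
  apply Nat.card_le_card_of_injective f
  intro σ τ h
  apply Subtype.ext
  exact permCo0_injective _ _ (congrArg (fun x => x.1) h)

set_option maxRecDepth 100000 in
theorem sqNorm_vV : sqNorm (vV : IVec) = 48 := by decide +kernel

theorem card_S3 : Nat.card ↥S3 = 495766656000 := card_stab48 vV sqNorm_vV

/-- the three elements generate the stabiliser -/
theorem K3_eq : K3 = S3 := by
  have := finite_co0'
  apply Subgroup.eq_of_le_of_card_ge K3_le
  rw [card_S3, ← Cfsg.Agent.Helper8.Mx.card_inf_mul_orbit K3 (vec8 none)]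
  calc 495766656000 = 10200960 * 48600 := by norm_num
    _ ≤ _ := Nat.mul_le_mul stab_ge orbit_ge

end Cfsg.Agent.Helper8.Out3
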