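import Cfsg.Agent.Helper8.OutAbs
import Cfsg.Agent.Helper8.Out3H

/-!
All automorphisms of the stabiliser of `(-5, -1, …, -1)` in the automorphism group of the rank-24
lattice are inner; transport to the group `Cfsg.Spor.Co3`.
-/

set_option autoImplicit false

namespace Cfsg.Agent.Helper8.Out3

open Cfsg Cfsg.Agent.Helper8 Cfsg.Agent.Helper26 Cfsg.Agent.Helper27 Cfsg.Agent.Helper92

/-! ### orders -/

theorem aC_pow : aC ^ 23 = 1 := by
  rw [aC, ← permCo0_pow, ← permCo0_one]
  exact permCo0_congr _ _ trP_one_pow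

theorem aC_ne_one : aC ≠ 1 := by
  intro h
  rw [aC, ← permCo0_one] at h
  have h1 := permCo0_injective _ _ h
  have h2 := congrArg (fun f : Equiv.Perm GolayPt => f (some 0)) h1
  simp only [trP_some, Equiv.Perm.one_apply] at h2
  revert h2
  decide

theorem orderOf_aC : orderOf aC = 23 := orderOf_eq_prime aC_pow aC_ne_one

theorem bC_pow : bC ^ 11 = 1 := by
  rw [bC, ← permCo0_pow, ← permCo0_one]
  exact permCo0_congr _ _ mu23_pow_eleven

theorem bC_ne_one : bC ≠ 1 := by
  intro h
  rw [bC, ← permCo0_one] at h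
  have h1 := permCo0_injective _ _ h
  have h2 := congrArg (fun f : Equiv.Perm GolayPt => f (some 1)) h1
  rw [mu23_some, Equiv.Perm.one_apply] at h2
  revert h2
  decide

theorem orderOf_bC : orderOf bC = 11 :=
  haveI : Fact (Nat.Prime 11) := ⟨by norm_num⟩
  orderOf_eq_prime bC_pow bC_ne_one

theorem bC_conj : bC * aC * bC⁻¹ = aC ^ 2 := by
  rw [mul_inv_eq_iff_eq_mul, aC, bC, ← permCo0_pow, ← permCo0_mul, ← permCo0_mul]
  apply permCo0_congr
  rw [← mu23_conj_trP]
  group

/-- an element of order dividing `2` in the group generated by the doubling map is trivial -/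
theorem eq_one_of_sq {h : ↥Co0} (hm : h ∈ Subgroup.zpowers bC) (h2 : h * h = 1) : h = 1 := by
  have d1 : orderOf h ∣ 11 := by
    rw [← orderOf_bC]
    exact orderOf_dvd_of_mem_zpowers hm
  have d2 : orderOf h ∣ 2 := by
    apply orderOf_dvd_of_pow_eq_one
    rw [pow_two, h2]
  have d3 : orderOf h ∣ Nat.gcd 11 2 := Nat.dvd_gcd d1 d2
  rw [show Nat.gcd 11 2 = 1 by norm_num, Nat.dvd_one] at d3
  exact orderOf_eq_one_iff.mp d3

/-- the only involution fixing `(-5, -1, …, -1)` and commuting with the doubling map -/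
theorem uniq_invol {g : ↥Co0} (hv : g • vV = vV) (hc : g * bC = bC * g) (h2 : g * g = 1)
    (h1 : g ≠ 1) : g = tC := by
  rcases img8_of_commute_b hv hc with h8 | h8
  · exact absurd (eq_one_of_sq (mem_zpowers_bC hv hc h8) h2) h1
  · -- `tC⁻¹ * g` fixes `8 e_∞`
    have ht : tC⁻¹ = tC := inv_eq_of_mul_eq_one_left tC_sq
    set h := tC⁻¹ * g with hh
    have hg : g = tC * h := by rw [hh, mul_inv_cancel_left]
    have hv' : h • vV = vV := by
      rw [hh, mul_smul, hv, ht, tC_vV]
    have hc' : h * bC = bC * h := by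
      rw [hh, ht, mul_assoc, hc, ← mul_assoc, tC_comm, mul_assoc]
    have h8' : h • vec8 none = vec8 none := by
      rw [hh, mul_smul, inv_smul_eq_iff]
      apply Subtype.ext
      rw [h8, tC_vec8]
    have hm := mem_zpowers_bC hv' hc' h8'
    have hcomm : h * tC = tC * h := by
      obtain ⟨k, hk⟩ := Subgroup.mem_zpowers_iff.mp hm
      rw [← hk]
      exact ((show Commute bC tC from tC_comm.symm).zpow_left k).eq
    have hsq : h * h = 1 := by
      have : g * g = tC * tC * (h * h) := by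
        rw [hg, mul_assoc, ← mul_assoc h tC h, hcomm]
        group
      rw [h2, tC_sq, one_mul] at this
      exact this.symm
    rw [hg, eq_one_of_sq hm hsq, mul_one]

/-! ### the stabiliser as a group -/

/-- the translation in the stabiliser -/
noncomputable def a3 : ↥S3 := ⟨aC, aC_vV⟩

/-- the doubling map in the stabiliser -/
noncomputable def b3 : ↥S3 := ⟨bC, bC_vV⟩

/-- the involution in the stabiliser -/
noncomputable def t3 : ↥S3 := ⟨tC, tC_vV⟩

theorem closure_S3 : Subgroup.closure ({a3, b3, t3} : Set ↥S3) = ⊤ :=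
  closure_subtype_eq_top S3 aC bC tC aC_vV bC_vV tC_vV K3_eq

theorem inn_S3 : (MulAut.conj : ↥S3 →* MulAut ↥S3).range = ⊤ := by
  have : Fact (Nat.Prime 23) := ⟨by norm_num⟩
  have : Finite ↥S3 := Nat.finite_of_card_ne_zero (by rw [card_S3]; norm_num)
  have hBA : b3 * a3 * b3⁻¹ = a3 ^ 2 := Subtype.ext bC_conj
  have hoA : orderOf a3 = 23 := by
    rw [← orderOf_aC]
    exact Subgroup.orderOf_mk aC aC_vV
  apply inn_eq_top_of_abt 23 a3 b3 t3 2 hoA
  · rw [card_S3]
    norm_num
  · intro g hg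
    have h1 : g.1 * aC = aC * g.1 := congrArg Subtype.val hg
    obtain ⟨k, hk⟩ := Subgroup.mem_zpowers_iff.mp (mem_zpowers_aC g.2 h1)
    rw [Subgroup.mem_zpowers_iff]
    exact ⟨k, Subtype.ext (by rw [Subgroup.coe_zpow]; exact hk)⟩
  · exact hBA
  · exact conj_coset_of_sq hBA
  · exact Subtype.ext tC_comm.symm
  · exact Subtype.ext tC_sq
  · intro h
    exact tC_ne_one (congrArg Subtype.val h)
  · intro g hc h2 h1
    apply Subtype.ext
    exact uniq_invol g.2 (congrArg Subtype.val hc) (congrArg Subtype.val h2)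
      (fun h => h1 (Subtype.ext h))
  · exact red_of_sq hBA hoA
  · exact closure_S3
  · intro ψ ha hb ht
    have hrel : (a3⁻¹ * b3 * b3 * b3 * t3) ^ 11 = 1 := Subtype.ext (by
      rw [Subgroup.coe_pow]
      exact rel_abt)
    have := congrArg ψ hrel
    rw [map_pow, map_mul, map_mul, map_mul, map_mul, map_inv, ha, hb, ht, inv_inv, map_one] at this
    apply rel_inv
    have h2 := congrArg Subtype.val this
    rw [Subgroup.coe_pow] at h2
    exact h2

/-! ### transport -/

theorem co3_eq_map : S3.map Co0.subtype = Spor.Co3 := by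
  ext f
  constructor
  · rintro ⟨g, hg, rfl⟩
    exact ⟨g.2, hg⟩
  · rintro ⟨hf, h1⟩
    exact ⟨⟨f, hf⟩, h1, rfl⟩

/-- the stabiliser as the explicit group -/
noncomputable def co3Equiv : ↥S3 ≃* ↥Spor.Co3 :=
  (S3.equivMapOfInjective Co0.subtype Subtype.val_injective).trans
    (MulEquiv.subgroupCongr co3_eq_map)

theorem inn_co3 : Cfsg.Inn ↥Spor.Co3 = ⊤ :=
  inn_eq_top_of_equiv co3Equiv.symm inn_S3

theorem card_out_co3 : Nat.card (Cfsg.Out ↥Spor.Co3) = 1 := by
  show (Cfsg.Inn ↥Spor.Co3).index = 1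
  rw [inn_co3, Subgroup.index_top]

end Cfsg.Agent.Helper8.Out3
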