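import Cfsg.Agent.Helper27.OutChain

/-!
All automorphisms are inner for a finite group generated by `a`, `b`, `t`, where `a` has prime
order `p` with `p ^ 2` not dividing the group order, `a` is self-centralising, `b` normalises
`⟨a⟩`, the powers of `b` move every non-trivial element of `⟨a⟩` to `a` or to its inverse, `t` is the
only involution commuting with `b`, and no automorphism inverts `a` while fixing `b` and `t`.
-/

set_option autoImplicit false

namespace Cfsg.Agent.Helper8.Out3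

open Cfsg.Agent.Helper27

theorem inn_eq_top_of_abt {G : Type*} [Group G] [Finite G] (p : ℕ) [Fact p.Prime]
    (a b t : G) (s : ℕ)
    (hoA : orderOf a = p) (hp2 : ¬ p ^ 2 ∣ Nat.card G)
    (hcA : ∀ g : G, g * a = a * g → g ∈ Subgroup.zpowers a)
    (hBA : b * a * b⁻¹ = a ^ s)
    (hnA : ∀ z ∈ Subgroup.zpowers a, ∃ T ∈ Subgroup.zpowers a, T * (b * z) * T⁻¹ = b)
    (hbt : b * t = t * b) (ht2 : t * t = 1) (ht1 : t ≠ 1)
    (huniq : ∀ g : G, g * b = b * g → g * g = 1 → g ≠ 1 → g = t)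
    (hred : ∀ x ∈ Subgroup.zpowers a, x ≠ 1 →
      ∃ i : ℕ, b ^ i * x * (b ^ i)⁻¹ = a ∨ b ^ i * x * (b ^ i)⁻¹ = a⁻¹)
    (hgen : Subgroup.closure ({a, b, t} : Set G) = ⊤)
    (hfin : ∀ ψ : MulAut G, ψ a = a⁻¹ → ψ b = b → ψ t = t → False) :
    (MulAut.conj : G →* MulAut G).range = ⊤ := by
  have hpp : p.Prime := Fact.out
  have ha1 : a ≠ 1 := by
    intro h
    rw [h, orderOf_one] at hoA
    exact hpp.one_lt.ne hoA
  -- automorphisms fixing `b` fix `t`
  have hpin : ∀ ψ : MulAut G, ψ b = b → ψ t = t := by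
    intro ψ hb
    apply huniq
    · have := congrArg ψ hbt
      rw [map_mul, map_mul, hb] at this
      exact this.symm
    · rw [← map_mul, ht2, map_one]
    · intro h
      apply ht1
      have : ψ t = ψ 1 := by rw [h, map_one]
      exact ψ.injective this
  -- step 3
  have R3 : ∀ ψ : MulAut G, ψ a = a → ψ b = b →
      ψ ∈ (MulAut.conj : G →* MulAut G).range := by
    intro ψ h1 h2
    rw [eq_one_of_fix_gens a b t hgen ψ h1 h2 (hpin ψ h2)]
    exact Subgroup.one_mem _
  -- step 2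
  have R2 : ∀ ψ : MulAut G, ψ a ∈ Subgroup.zpowers a → ψ b = b →
      ψ ∈ (MulAut.conj : G →* MulAut G).range := by
    intro ψ h1 h2
    have hne : ψ a ≠ 1 := by
      intro h
      apply ha1
      have : ψ a = ψ 1 := by rw [h, map_one]
      exact ψ.injective this
    obtain ⟨i, hi⟩ := hred _ h1 hne
    apply mem_inn_of_mul_mem (b ^ i)
    have hb' : (MulAut.conj (b ^ i) * ψ) b = b := by
      rw [MulAut.mul_apply, MulAut.conj_apply, h2]
      have : Commute (b ^ i) b := (Commute.refl b).pow_left i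
      rw [this.eq, mul_inv_cancel_right]
    rcases hi with hi | hi
    · apply R3 _ _ hb'
      rw [MulAut.mul_apply, MulAut.conj_apply]
      exact hi
    · exfalso
      apply hfin (MulAut.conj (b ^ i) * ψ) _ hb' (hpin _ hb')
      rw [MulAut.mul_apply, MulAut.conj_apply]
      exact hi
  -- step 1
  have R1 : ∀ ψ : MulAut G, ψ a ∈ Subgroup.zpowers a →
      ψ ∈ (MulAut.conj : G →* MulAut G).range := by
    intro ψ h1
    set x := ψ a with hx
    have hox : orderOf x = p := by rw [hx, MulEquiv.orderOf_eq, hoA]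
    have hzp : Subgroup.zpowers x = Subgroup.zpowers a := by
      apply Subgroup.eq_of_le_of_card_ge (Subgroup.zpowers_le.mpr h1)
      rw [Nat.card_zpowers, Nat.card_zpowers, hox, hoA]
    have hAx : a ∈ Subgroup.zpowers x := by rw [hzp]; exact Subgroup.mem_zpowers a
    have e0 : b * x * b⁻¹ = x ^ s := by
      obtain ⟨z, hz⟩ := Subgroup.mem_zpowers_iff.mp h1
      rw [← hz, ← conj_zpow, hBA, ← zpow_natCast, ← zpow_natCast, ← zpow_mul, ← zpow_mul,
        mul_comm]
    have e1 : ψ b * x * (ψ b)⁻¹ = x ^ s := by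
      have := congrArg ψ hBA
      rwa [map_mul, map_mul, map_inv, map_pow] at this
    have hZx : (b⁻¹ * ψ b) * x = x * (b⁻¹ * ψ b) := by
      have e2 : ψ b * x = x ^ s * ψ b := by rw [← e1]; group
      have e3 : b * x = x ^ s * b := by rw [← e0]; group
      have e4 : b⁻¹ * x ^ s = x * b⁻¹ := by
        rw [inv_mul_eq_iff_eq_mul, ← mul_assoc, e3, mul_inv_cancel_right]
      rw [mul_assoc, e2, ← mul_assoc, e4, mul_assoc]
    have hZ : (b⁻¹ * ψ b) * a = a * (b⁻¹ * ψ b) := by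
      obtain ⟨z, hz⟩ := Subgroup.mem_zpowers_iff.mp hAx
      rw [← hz]
      exact ((show Commute (b⁻¹ * ψ b) x from hZx).zpow_right z).eq
    have hZm := hcA _ hZ
    obtain ⟨T, hT, hTC⟩ := hnA _ hZm
    apply mem_inn_of_mul_mem T
    apply R2
    · rw [MulAut.mul_apply, MulAut.conj_apply, ← hx, commute_of_mem_zpowers hT h1,
        mul_inv_cancel_right]
      exact h1
    · rw [MulAut.mul_apply, MulAut.conj_apply]
      rw [mul_inv_cancel_left] at hTC
      exact hTC
  rw [eq_top_iff]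
  intro φ _
  obtain ⟨g, hg⟩ := exists_conj_mem_zpowers p a hoA hp2 φ
  apply mem_inn_of_mul_mem g
  apply R1
  rw [MulAut.mul_apply, MulAut.conj_apply]
  exact hg

/-- transport of "all automorphisms are inner" along an isomorphism -/
theorem inn_eq_top_of_equiv {G H : Type*} [Group G] [Group H] (e : G ≃* H)
    (h : (MulAut.conj : H →* MulAut H).range = ⊤) :
    (MulAut.conj : G →* MulAut G).range = ⊤ := by
  rw [eq_top_iff]
  intro φ _
  have hmem : (e.symm.trans (φ.trans e) : MulAut H) ∈ (MulAut.conj : H →* MulAut H).range := by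
    rw [h]; trivial
  obtain ⟨k, hk⟩ := hmem
  refine ⟨e.symm k, ?_⟩
  ext x
  have := congrArg (fun f : MulAut H => f (e x)) hk
  simp only [MulAut.conj_apply] at this
  have h2 : e (φ x) = k * e x * k⁻¹ := by
    rw [this]
    show e (φ x) = e (φ (e.symm (e x)))
    rw [e.symm_apply_apply]
  apply e.injective
  rw [h2, MulAut.conj_apply, map_mul, map_mul, map_inv, e.apply_symm_apply]

/-- if `b` squares `a` by conjugation then `b a^j = a^(2j) b` -/
theorem mul_zpow_of_sq {G : Type*} [Group G] {a b : G} (h : b * a * b⁻¹ = a ^ 2) (j : ℤ) :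
    b * a ^ j = a ^ (2 * j) * b := by
  have h1 : b * a ^ j * b⁻¹ = a ^ (2 * j) := by
    rw [← conj_zpow, h, ← zpow_natCast, ← zpow_mul]
    norm_num
  rw [← h1, inv_mul_cancel_right]

/-- all the elements of the coset `b ⟨a⟩` are conjugate to `b` under `⟨a⟩` -/
theorem conj_coset_of_sq {G : Type*} [Group G] {a b : G} (h : b * a * b⁻¹ = a ^ 2) :
    ∀ z ∈ Subgroup.zpowers a, ∃ T ∈ Subgroup.zpowers a, T * (b * z) * T⁻¹ = b := by
  intro z hz
  obtain ⟨k, rfl⟩ := Subgroup.mem_zpowers_iff.mp hz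
  refine ⟨a ^ (2 * k), Subgroup.zpow_mem_zpowers a _, ?_⟩
  have e1 : b * a ^ k = a ^ (2 * k) * b := mul_zpow_of_sq h k
  have e2 : b * a ^ (-(2 * k)) = a ^ (-(4 * k)) * b := by
    have := mul_zpow_of_sq h (-(2 * k))
    rwa [show 2 * -(2 * k) = -(4 * k) by ring] at this
  calc a ^ (2 * k) * (b * a ^ k) * (a ^ (2 * k))⁻¹
      = a ^ (2 * k) * a ^ (2 * k) * (b * a ^ (-(2 * k))) := by
        rw [e1, zpow_neg]
        group
    _ = a ^ (2 * k) * a ^ (2 * k) * (a ^ (-(4 * k)) * b) := by rw [e2]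
    _ = b := by
        rw [← mul_assoc, ← zpow_add, ← zpow_add]
        have : 2 * k + 2 * k + -(4 * k) = 0 := by ring
        rw [this, zpow_zero, one_mul]

theorem pow_conj_of_sq {G : Type*} [Group G] {a b : G} (h : b * a * b⁻¹ = a ^ 2) (i j : ℕ) :
    b ^ i * a ^ j * (b ^ i)⁻¹ = a ^ (2 ^ i * j) := by
  induction i generalizing j with
  | zero => simp
  | succ i ih =>
    have h1 : b * a ^ (2 ^ i * j) * b⁻¹ = a ^ (2 ^ (i + 1) * j) := by
      have := mul_zpow_of_sq h ((2 ^ i * j : ℕ) : ℤ)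
      rw [zpow_natCast] at this
      rw [this, mul_inv_cancel_right, ← zpow_natCast]
      congr 1
      push_cast
      ring
    rw [pow_succ', mul_inv_rev, ← h1, ← ih]
    group

theorem exists_lt_pow' {G : Type*} [Group G] {a x : G} {n : ℕ} (hn : 0 < n)
    (ha : a ^ n = 1) (hx : x ∈ Subgroup.zpowers a) : ∃ j < n, x = a ^ j := by
  obtain ⟨z, rfl⟩ := Subgroup.mem_zpowers_iff.mp hx
  have h1 : a ^ z = a ^ (z % (n : ℤ)) := zpow_eq_zpow_emod' z ha
  have hn' : (0 : ℤ) < n := by exact_mod_cast hn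
  have h2 : 0 ≤ z % (n : ℤ) := Int.emod_nonneg z hn'.ne'
  have h3 : z % (n : ℤ) < n := Int.emod_lt_of_pos z hn'
  obtain ⟨j, hj⟩ := Int.eq_ofNat_of_zero_le h2
  refine ⟨j, ?_, ?_⟩
  · rw [hj] at h3
    exact_mod_cast h3
  · rw [h1, hj, zpow_natCast]

theorem arith23 : ∀ j : Fin 23, j ≠ 0 →
    ∃ i < 11, (2 ^ i * j.val) % 23 = 1 ∨ (2 ^ i * j.val) % 23 = 22 := by decide

/-- the powers of `b` move every non-trivial power of `a` to `a` or to its inverse -/
theorem red_of_sq {G : Type*} [Group G] {a b : G} (h : b * a * b⁻¹ = a ^ 2)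
    (ha : orderOf a = 23) :
    ∀ x ∈ Subgroup.zpowers a, x ≠ 1 →
      ∃ i : ℕ, b ^ i * x * (b ^ i)⁻¹ = a ∨ b ^ i * x * (b ^ i)⁻¹ = a⁻¹ := by
  intro x hx hx1
  have ha23 : a ^ 23 = 1 := by rw [← ha]; exact pow_orderOf_eq_one a
  obtain ⟨j, hj, rfl⟩ := exists_lt_pow' (by norm_num : 0 < 23) ha23 hx
  have hj0 : (⟨j, hj⟩ : Fin 23) ≠ 0 := by
    intro h0
    apply hx1
    have : j = 0 := by
      have := congrArg Fin.val h0
      exact this
    rw [this, pow_zero]
  obtain ⟨i, -, hi⟩ := arith23 ⟨j, hj⟩ hj0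
  refine ⟨i, ?_⟩
  rw [pow_conj_of_sq h, ← pow_mod_orderOf, ha]
  rcases hi with hi | hi
  · left
    rw [show (2 ^ i * j) % 23 = 1 from hi, pow_one]
  · right
    rw [show (2 ^ i * j) % 23 = 22 from hi]
    apply eq_inv_of_mul_eq_one_left
    rw [← pow_succ, ha23]

end Cfsg.Agent.Helper8.Out3
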