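import Cfsg.Agent.Helper8.Sp63D

/-!
Helper8 / Sp6(3): the prime graph of `Cfsg.PSp 3 F` for any field `F` with three elements:
the primes are `2, 3, 5, 7, 13` and the edges are exactly `2-3, 2-5, 3-5, 2-7`.
-/

set_option autoImplicit false

namespace Cfsg.Agent.Helper8.Sp63

open Matrix

/-- a ring isomorphism induces an isomorphism of symplectic groups -/
noncomputable def spMapEquiv {l R S : Type*} [DecidableEq l] [Fintype l] [CommRing R]
    [CommRing S] (e : R ≃+* S) : symplecticGroup l R ≃* symplecticGroup l S where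
  toFun A := ⟨A.1.map e, SymplecticGroup.map_mem A.2 e⟩
  invFun B := ⟨B.1.map e.symm, SymplecticGroup.map_mem B.2 e.symm⟩
  left_inv A := by
    apply Subtype.ext
    ext i j
    simp
  right_inv B := by
    apply Subtype.ext
    ext i j
    simp
  map_mul' A B := by
    apply Subtype.ext
    simp only [Submonoid.coe_mul]
    exact Matrix.map_mul

/-- an isomorphism of groups maps the centre onto the centre -/
theorem map_center_eq {G H : Type*} [Group G] [Group H] (e : G ≃* H) :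
    (Subgroup.center G).map e.toMonoidHom = Subgroup.center H := by
  ext h
  rw [Subgroup.mem_map, Subgroup.mem_center_iff]
  constructor
  · rintro ⟨z, hz, rfl⟩ g
    obtain ⟨g', rfl⟩ := e.surjective g
    show e g' * e z = e z * e g'
    rw [← map_mul, ← map_mul, (Subgroup.mem_center_iff.1 hz) g']
  · intro hh
    refine ⟨e.symm h, ?_, by simp⟩
    rw [Subgroup.mem_center_iff]
    intro g
    apply e.injective
    rw [map_mul, map_mul, e.apply_symm_apply]
    exact hh (e g)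

/-- `PSp₆(F) ≃* PSp₆(ZMod 3)` for a field with three elements -/
theorem exists_mulEquiv_Q6 {F : Type*} [Field F] [Fintype F] (hF : Fintype.card F = 3) :
    Nonempty (Cfsg.PSp 3 F ≃* Q6) := by
  have e0 : ZMod 3 ≃+* F := ZMod.ringEquivOfPrime F Nat.prime_three hF
  let e1 : symplecticGroup (Fin 3) F ≃* Sp6 := spMapEquiv e0.symm
  exact ⟨QuotientGroup.congr _ _ e1 (map_center_eq e1)⟩

variable {F : Type*} [Field F] [Fintype F]

/-- the order of `PSp₆(3)` -/
theorem card_PSp (hF : Fintype.card F = 3) : Nat.card (Cfsg.PSp 3 F) = 4585351680 := by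
  obtain ⟨e⟩ := exists_mulEquiv_Q6 hF
  rw [Nat.card_congr e.toEquiv, card_Q6]

/-- the prime divisors of `|PSp₆(3)| = 2⁹·3⁹·5·7·13` -/
theorem prime_dvd_card_PSp (hF : Fintype.card F = 3) {p : ℕ} (hp : p.Prime) :
    p ∣ Nat.card (Cfsg.PSp 3 F) ↔ p = 2 ∨ p = 3 ∨ p = 5 ∨ p = 7 ∨ p = 13 := by
  obtain ⟨e⟩ := exists_mulEquiv_Q6 hF
  rw [Nat.card_congr e.toEquiv]
  exact prime_dvd_card_Q6 hp

/-- the edges of the prime graph of `PSp₆(3)`: exactly `2-3, 2-5, 3-5, 2-7` -/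
theorem edge_iff_PSp (hF : Fintype.card F = 3) {p q : ℕ} (hp : p.Prime) (hq : q.Prime)
    (hpq : p ≠ q) :
    (∃ g : Cfsg.PSp 3 F, orderOf g = p * q) ↔
      (p * q = 6 ∨ p * q = 10 ∨ p * q = 15 ∨ p * q = 14) := by
  obtain ⟨e⟩ := exists_mulEquiv_Q6 hF
  rw [← edge_iff_Q6 hp hq hpq]
  constructor
  · rintro ⟨g, hg⟩
    exact ⟨e g, by rw [MulEquiv.orderOf_eq, hg]⟩
  · rintro ⟨g, hg⟩
    exact ⟨e.symm g, by rw [MulEquiv.orderOf_eq, hg]⟩

/-- the edge criterion in terms of the pair of primes -/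
theorem edge_iff_PSp' (hF : Fintype.card F = 3) {p q : ℕ} (hp : p.Prime) (hq : q.Prime)
    (hpq : p ≠ q) :
    (∃ g : Cfsg.PSp 3 F, orderOf g = p * q) ↔
      ((p = 2 ∧ q = 3) ∨ (p = 3 ∧ q = 2) ∨ (p = 2 ∧ q = 5) ∨ (p = 5 ∧ q = 2) ∨
       (p = 3 ∧ q = 5) ∨ (p = 5 ∧ q = 3) ∨ (p = 2 ∧ q = 7) ∨ (p = 7 ∧ q = 2)) := by
  rw [edge_iff_PSp hF hp hq hpq]
  constructor
  · intro h
    have key : ∀ a b : ℕ, a.Prime → b.Prime → p * q = a * b → (p = a ∧ q = b) ∨ (p = b ∧ q = a) := by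
      intro a b ha hb hab
      have h1 : p ∣ a * b := hab ▸ Dvd.intro _ rfl
      rcases (Nat.Prime.dvd_mul hp).1 h1 with h2 | h2
      · have h3 : p = a := (Nat.prime_dvd_prime_iff_eq hp ha).1 h2
        subst h3
        left; exact ⟨rfl, Nat.eq_of_mul_eq_mul_left hp.pos hab⟩
      · have h3 : p = b := (Nat.prime_dvd_prime_iff_eq hp hb).1 h2
        subst h3
        right; refine ⟨rfl, Nat.eq_of_mul_eq_mul_left hp.pos ?_⟩
        rw [hab, mul_comm]
    rcases h with h | h | h | h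
    · rcases key 2 3 Nat.prime_two Nat.prime_three (by rw [h]) with h | h <;> tauto
    · rcases key 2 5 Nat.prime_two Nat.prime_five (by rw [h]) with h | h <;> tauto
    · rcases key 3 5 Nat.prime_three Nat.prime_five (by rw [h]) with h | h <;> tauto
    · rcases key 2 7 Nat.prime_two (by norm_num) (by rw [h]) with h | h <;> tauto
  · rintro (⟨rfl, rfl⟩ | ⟨rfl, rfl⟩ | ⟨rfl, rfl⟩ | ⟨rfl, rfl⟩ | ⟨rfl, rfl⟩ | ⟨rfl, rfl⟩ |
      ⟨rfl, rfl⟩ | ⟨rfl, rfl⟩) <;> norm_num

end Cfsg.Agent.Helper8.Sp63
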