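import Cfsg.Agent.Helper86.PG63.Defs
import Cfsg.Agent.Helper8.Sp63E

/-!
Helper8 -> helper86 (S3664): the whole symplectic side in one piece:
`PSp(6,3)` has the target prime graph (vertices `2,3,5,7,13`, edges `2-3, 2-5, 3-5, 2-7`).
-/

set_option autoImplicit false

namespace Cfsg.Agent.Helper8.PG63

open Cfsg Cfsg.Agent.Helper86.PG63 Cfsg.Agent.Helper6

/-- the symplectic side -/
theorem psp_hasGraph {F : Type*} [Field F] [Fintype F] (hF : Fintype.card F = 3) :
    HasGraph (Cfsg.PSp 3 F) :=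
  ⟨fun _ hp => Cfsg.Agent.Helper8.Sp63.prime_dvd_card_PSp hF hp,
   fun _ _ hp hq hpq => Cfsg.Agent.Helper8.Sp63.edge_iff_PSp' hF hp hq hpq⟩

end Cfsg.Agent.Helper8.PG63
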