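import Cfsg.Agent.Helper8.Sims3Defs

set_option autoImplicit false

namespace Cfsg.Agent.Helper8.Sims3

open Pointwise MulAction

/-- A normal subgroup contained in a point stabilizer of a transitive faithful action is
trivial. -/
theorem eq_bot_of_normal_of_le_stabilizer {G Ω : Type*} [Group G] [MulAction G Ω]
    [FaithfulSMul G Ω] [IsPretransitive G Ω] (K : Subgroup G) (hK : K.Normal) (a : Ω)
    (hKa : K ≤ stabilizer G a) : K = ⊥ := by
  rw [Subgroup.eq_bot_iff_forall]
  intro x hx
  apply FaithfulSMul.eq_of_smul_eq_smul (α := Ω)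
  intro c
  obtain ⟨k, hk⟩ := MulAction.exists_smul_eq G a c
  have hx' : k⁻¹ * x * k ∈ K := by
    have := hK.conj_mem x hx k⁻¹
    simpa using this
  have h1 := hKa hx'
  rw [MulAction.mem_stabilizer_iff, mul_smul, mul_smul, hk] at h1
  rw [one_smul]
  have := congrArg (fun z => k • z) h1
  simpa [hk] using this

/-- The bridge: a primitive faithful action with a suborbit of length 3 gives a `Setup`. -/
theorem bridge {G : Type*} [Group G] {Ω : Type*} [MulAction G Ω] [FaithfulSMul G Ω]
    (hprim : MulAction.IsPreprimitive G Ω) (a b : Ω)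
    (h3 : Nat.card (MulAction.orbit (MulAction.stabilizer G a) b) = 3) :
    ∃ g : G, Setup (MulAction.stabilizer G a) g := by
  classical
  haveI := hprim
  have hnle : ¬ stabilizer G a ≤ stabilizer G b := by
    intro hle
    have hsub : Subsingleton (orbit (stabilizer G a) b) := by
      refine ⟨?_⟩
      rintro ⟨x, ⟨g, rfl⟩⟩ ⟨y, ⟨g', rfl⟩⟩
      apply Subtype.ext
      have h1 : g • b = b := by
        have := hle g.2
        rwa [MulAction.mem_stabilizer_iff] at this
      have h2 : g' • b = b := by
        have := hle g'.2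
        rwa [MulAction.mem_stabilizer_iff] at this
      show g • b = g' • b
      rw [h1, h2]
    have hfin : Finite (orbit (stabilizer G a) b) := by
      apply Nat.finite_of_card_ne_zero
      omega
    have := Finite.card_le_one_iff_subsingleton.2 hsub
    omega
  have hab : a ≠ b := by
    intro h
    apply hnle
    rw [h]
  haveI : Nontrivial Ω := ⟨⟨a, b, hab⟩⟩
  have hcoa : IsCoatom (stabilizer G a) :=
    MulAction.IsPreprimitive.isCoatom_stabilizer_of_isPreprimitive G a
  obtain ⟨g, hg⟩ := MulAction.exists_smul_eq G a b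
  refine ⟨g, hcoa, fun N hN hle => eq_bot_of_normal_of_le_stabilizer N hN a hle, ?_⟩
  have hconj : MulAut.conj g • stabilizer G a = stabilizer G b := by
    rw [← hg, MulAction.stabilizer_smul_eq_stabilizer_map_conj]
    rfl
  rw [hconj]
  have hstab : stabilizer (stabilizer G a) b =
      (stabilizer G a ⊓ stabilizer G b).subgroupOf (stabilizer G a) := by
    ext x
    rw [MulAction.mem_stabilizer_iff, Subgroup.mem_subgroupOf, Subgroup.mem_inf,
      MulAction.mem_stabilizer_iff, Subgroup.smul_def]
    constructor
    · intro h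
      exact ⟨x.2, h⟩
    · intro h
      exact h.2
  rw [Subgroup.relIndex, ← hstab, MulAction.index_stabilizer, ← Nat.card_coe_set_eq]
  exact h3

end Cfsg.Agent.Helper8.Sims3
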