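import Cfsg.Agent.Helper8.Sims3Main
import Cfsg.Agent.Helper42.Sims3_ID1
import Cfsg.Agent.Helper93.Sims3_ID2
import Cfsg.Agent.Helper48.Sims3_ID3
import Cfsg.Agent.Helper93.Sims3_ID4
import Cfsg.Agent.Helper48.Sims3_ID5

/-!
# Sims3: identification of the point stabilizer (Z3, S3, D12, S4, S4 x Z2)
-/

set_option autoImplicit false

namespace Cfsg.Agent.Helper8.Sims3

open Pointwise

variable {G : Type*} [Group G]

omit [Group G] in
theorem image_Ico_one_three (y : ℤ → G) :
    y '' Set.Ico (1 : ℤ) (1 + (3 : ℕ)) = {y 1, y 2, y 3} := by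
  ext x
  simp only [Set.mem_image, Set.mem_Ico, Set.mem_insert_iff, Set.mem_singleton_iff]
  constructor
  · rintro ⟨k, ⟨hk0, hk1⟩, rfl⟩
    have : k = 1 ∨ k = 2 ∨ k = 3 := by push_cast at hk1; omega
    rcases this with rfl | rfl | rfl <;> simp
  · rintro (rfl | rfl | rfl)
    · exact ⟨1, by norm_num, rfl⟩
    · exact ⟨2, by norm_num, rfl⟩
    · exact ⟨3, by norm_num, rfl⟩

/-- a subset of `↥(U y a m)` containing all the generators generates. -/
theorem U_closure_top (y : ℤ → G) (a : ℤ) (m : ℕ) (T : Set ↥(U y a m))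
    (hT : ∀ k, a ≤ k → k < a + m → ∀ hk : y k ∈ U y a m, (⟨y k, hk⟩ : ↥(U y a m)) ∈ T) :
    Subgroup.closure T = ⊤ := by
  have h1 : Subgroup.closure (((↑) : ↥(U y a m) → G) ⁻¹' (y '' Set.Ico a (a + m))) = ⊤ :=
    Subgroup.closure_closure_coe_preimage
  rw [eq_top_iff, ← h1]
  apply Subgroup.closure_mono
  rintro ⟨x, hx⟩ ⟨k, ⟨hk1, hk2⟩, hk⟩
  simp only at hk
  subst hk
  exact hT k hk1 hk2 hx

theorem Tower.iso_main {s : ℕ} {y : ℤ → G} (h : Tower s y) (hs2 : 2 ≤ s) (hs5 : s ≤ 5) :
    Nonempty (↥(U y 0 s) ≃* Equiv.Perm (Fin 3)) ∨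
      Nonempty (↥(U y 0 s) ≃* DihedralGroup 6) ∨ Nonempty (↥(U y 0 s) ≃* Equiv.Perm (Fin 4)) ∨
      Nonempty (↥(U y 0 s) ≃* Equiv.Perm (Fin 4) × Multiplicative (ZMod 2)) := by
  have hsq := h.sq
  have hm : ∀ k : ℤ, 0 ≤ k → k < 0 + (s : ℤ) → y k ∈ U y 0 s := fun k h1 h2 =>
    mem_U_self y h1 h2
  obtain rfl | rfl | rfl | rfl : s = 2 ∨ s = 3 ∨ s = 4 ∨ s = 5 := by omega
  · -- s = 2
    left
    obtain ⟨l, hl1, hl2, hl⟩ := Cfsg.Agent.Helper68.Sims3.exists_lam h (le_refl 2)
    have hl' : l = 1 := by omega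
    subst hl'
    have hnc := hl.ncomm 0
    refine Cfsg.Agent.Helper93.Sims3.iso_S3 (by rw [h.card_top 0]; norm_num) ⟨y 0, hm 0 (by norm_num) (by norm_num)⟩
      ⟨y 1, hm 1 (by norm_num) (by norm_num)⟩ ?_
    intro hc
    apply hnc
    have := congrArg Subtype.val hc.eq
    simpa [Commute, SemiconjBy] using this
  · -- s = 3
    right; left
    have c01 := rel3 h (le_refl 3) 0
    have c12 := rel3 h (le_refl 3) 1
    have hgen : Subgroup.closure
        ({⟨y 0, hm 0 (by norm_num) (by norm_num)⟩, ⟨y 1, hm 1 (by norm_num) (by norm_num)⟩,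
          ⟨y 2, hm 2 (by norm_num) (by norm_num)⟩} : Set ↥(U y 0 3)) = ⊤ := by
      apply U_closure_top
      intro k hk1 hk2 hk
      have : k = 0 ∨ k = 1 ∨ k = 2 := by push_cast at hk2; omega
      rcases this with rfl | rfl | rfl <;> simp
    refine Cfsg.Agent.Helper48.Sims3.iso_D12 (by rw [h.card_top 0]; norm_num) _ _ _ (Subtype.ext (hsq 0)) (Subtype.ext (hsq 1))
      (Subtype.ext (hsq 2)) (Subtype.ext ?_) (Subtype.ext ?_) hgen
    · simpa using c01.eq
    · simpa using c12.eq
  · -- s = 4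
    right; right; left
    have c01 := rel3 h (by norm_num) 0
    have c12 := rel3 h (by norm_num) 1
    have c23 := rel3 h (by norm_num) 2
    have r02 := rel4 h 0
    have r13 := rel4 h 1
    have hy1 := h.y_ne_one (by norm_num) 1
    have hgen : Subgroup.closure
        ({⟨y 0, hm 0 (by norm_num) (by norm_num)⟩, ⟨y 1, hm 1 (by norm_num) (by norm_num)⟩,
          ⟨y 2, hm 2 (by norm_num) (by norm_num)⟩, ⟨y 3, hm 3 (by norm_num) (by norm_num)⟩} :
            Set ↥(U y 0 4)) = ⊤ := by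
      apply U_closure_top
      intro k hk1 hk2 hk
      have : k = 0 ∨ k = 1 ∨ k = 2 ∨ k = 3 := by push_cast at hk2; omega
      rcases this with rfl | rfl | rfl | rfl <;> simp
    refine Cfsg.Agent.Helper93.Sims3.iso_S4 (by rw [h.card_top 0]; norm_num) _ _ _ _ (Subtype.ext (hsq 0)) (Subtype.ext (hsq 1))
      (Subtype.ext (hsq 2)) (Subtype.ext (hsq 3)) ?_ (Subtype.ext ?_) (Subtype.ext ?_)
      (Subtype.ext ?_) (Subtype.ext ?_) (Subtype.ext ?_) hgen
    · intro hh
      exact hy1 (congrArg Subtype.val hh)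
    · simpa using c01.eq
    · simpa using c12.eq
    · simpa using c23.eq
    · simpa using r02
    · norm_num at r13
      simpa using r13
  · -- s = 5
    right; right; right
    have c01 := rel3 h (by norm_num) 0
    have c12 := rel3 h (by norm_num) 1
    have c23 := rel3 h (by norm_num) 2
    have c34 := rel3 h (by norm_num) 3
    obtain ⟨hc2, hrel⟩ := rel5 h
    have c02 := hc2 0
    have c13 := hc2 1
    have c24 := hc2 2
    have hgen : Subgroup.closure
        ({⟨y 0, hm 0 (by norm_num) (by norm_num)⟩, ⟨y 1, hm 1 (by norm_num) (by norm_num)⟩,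
          ⟨y 2, hm 2 (by norm_num) (by norm_num)⟩, ⟨y 3, hm 3 (by norm_num) (by norm_num)⟩,
          ⟨y 4, hm 4 (by norm_num) (by norm_num)⟩} : Set ↥(U y 0 5)) = ⊤ := by
      apply U_closure_top
      intro k hk1 hk2 hk
      have : k = 0 ∨ k = 1 ∨ k = 2 ∨ k = 3 ∨ k = 4 := by push_cast at hk2; omega
      rcases this with rfl | rfl | rfl | rfl | rfl <;> simp
    have hK : Nat.card ↥(Subgroup.closure
        ({⟨y 1, hm 1 (by norm_num) (by norm_num)⟩, ⟨y 2, hm 2 (by norm_num) (by norm_num)⟩,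
          ⟨y 3, hm 3 (by norm_num) (by norm_num)⟩} : Set ↥(U y 0 5))) = 8 := by
      have h8 := h.card_lt 1 3 (by norm_num)
      have hmap : (Subgroup.closure
        ({⟨y 1, hm 1 (by norm_num) (by norm_num)⟩, ⟨y 2, hm 2 (by norm_num) (by norm_num)⟩,
          ⟨y 3, hm 3 (by norm_num) (by norm_num)⟩} : Set ↥(U y 0 5))).map (U y 0 5).subtype
            = U y 1 3 := by
        have hU13 : U y 1 3 = Subgroup.closure {y 1, y 2, y 3} := by
          unfold U
          rw [image_Ico_one_three]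
        rw [MonoidHom.map_closure, hU13]
        congr 1
        simp [Set.image_insert_eq]
      rw [← hmap, Subgroup.card_map_of_injective (Subgroup.subtype_injective _)] at h8
      simpa using h8
    refine Cfsg.Agent.Helper48.Sims3.iso_S4xZ2 (by rw [h.card_top 0]; norm_num) _ _ _ _ _ (Subtype.ext (hsq 0))
      (Subtype.ext (hsq 1))
      (Subtype.ext (hsq 2)) (Subtype.ext (hsq 3)) (Subtype.ext (hsq 4))
      (Subtype.ext ?_) (Subtype.ext ?_) (Subtype.ext ?_) (Subtype.ext ?_)
      (Subtype.ext ?_) (Subtype.ext ?_) (Subtype.ext ?_) hK ?_ hgen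
    · simpa using c01.eq
    · simpa using c12.eq
    · simpa using c23.eq
    · simpa using c34.eq
    · simpa using c02.eq
    · simpa using c13.eq
    · simpa using c24.eq
    · rcases hrel with hr | hr | hr
      · left
        have e0 := hr 0
        have e1 := hr 1
        norm_num at e0 e1
        exact ⟨Subtype.ext (by simpa using e0), Subtype.ext (by simpa using e1)⟩
      · right; left
        have e0 := hr 0
        have e1 := hr 1
        norm_num at e0 e1
        exact ⟨Subtype.ext (by simpa using e0), Subtype.ext (by simpa using e1)⟩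
      · right; right
        have e0 := hr 0
        have e1 := hr 1
        norm_num at e0 e1
        exact ⟨Subtype.ext (by simpa using e0), Subtype.ext (by simpa using e1)⟩

theorem Setup.iso_main [Finite G] {P : Subgroup G} {g : G} (h : Setup P g) :
    Nonempty (↥P ≃* Multiplicative (ZMod 3)) ∨ Nonempty (↥P ≃* Equiv.Perm (Fin 3)) ∨
      Nonempty (↥P ≃* DihedralGroup 6) ∨ Nonempty (↥P ≃* Equiv.Perm (Fin 4)) ∨
      Nonempty (↥P ≃* Equiv.Perm (Fin 4) × Multiplicative (ZMod 2)) := by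
  rcases h.main with h3 | ⟨s, y, hs2, hs5, hy, hU⟩
  · exact Or.inl (Cfsg.Agent.Helper42.Sims3.iso_Z3 h3)
  · right
    subst hU
    exact hy.iso_main hs2 hs5

end Cfsg.Agent.Helper8.Sims3
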