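import Cfsg.Agent.Helper8.Sims3Rel
import Cfsg.Agent.Helper33.Sims3_T0
import Cfsg.Agent.Helper33.Sims3_T1
import Cfsg.Agent.Helper70.Sims3_T2
import Cfsg.Agent.Helper10.Sims3_T3a
import Cfsg.Agent.Helper10.Sims3_T3b
import Cfsg.Agent.Helper41.Sims3_T3c
import Cfsg.Agent.Helper89.Sims3_T4G
import Cfsg.Agent.Helper50.Sims3_T4F
import Cfsg.Agent.Helper50.Sims3_P5

/-!
# Sims3: assembly.  Primitive groups with a suborbit of length 3 (abstract form).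
-/

set_option autoImplicit false

namespace Cfsg.Agent.Helper8.Sims3

open Pointwise

variable {G : Type*} [Group G]

/-- (P6) Tutte's bound. -/
theorem tower_le_five {s : ℕ} {y : ℤ → G} (h : Tower s y) (hs : 2 ≤ s) : s ≤ 5 := by
  by_contra hcon
  obtain ⟨l, hl1, hls, hl⟩ := Cfsg.Agent.Helper68.Sims3.exists_lam h hs
  have hup := Cfsg.Agent.Helper37.Sims3.lam_upper h hs hl hl1 hls
  have hlow := Cfsg.Agent.Helper70.Sims3.lam_lower h hl hl1 (by omega)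
  have hs7 : s = 7 := by omega
  subst hs7
  have hl4 : l = 4 := by omega
  subst hl4
  exact Cfsg.Agent.Helper50.Sims3.not_seven h hl

/-- (T3) regularity. -/
theorem exists_chain [Finite G] {P : Subgroup G} {g : G} (h : Setup P g)
    (h2 : IsPGroup 2 ↥(P ⊓ MulAut.conj g • P))
    (hne : MulAut.conj g • (P ⊓ MulAut.conj g • P) ≠ P ⊓ MulAut.conj g • P) :
    ∃ s : ℕ, 2 ≤ s ∧ ∀ j, 1 ≤ j → j ≤ s → Nat.card ↥(E P g 0 j) = 2 ^ (s - j) :=
  Cfsg.Agent.Helper41.Sims3.chain_of h h2 hne (Cfsg.Agent.Helper10.Sims3.E_step h h2) (Cfsg.Agent.Helper10.Sims3.E_stable h h2 hne (Cfsg.Agent.Helper10.Sims3.E_step h h2))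

/-- (T4) generators. -/
theorem exists_tower [Finite G] {P : Subgroup G} {g : G} (h : Setup P g) (s : ℕ) (hs : 2 ≤ s)
    (hE : ∀ j, 1 ≤ j → j ≤ s → Nat.card ↥(E P g 0 j) = 2 ^ (s - j)) :
    ∃ y : ℤ → G, Tower s y ∧ U y 0 s = P := by
  have hc : Nat.card ↥(E P g 0 (s - 1)) = 2 := by
    rw [hE (s - 1) (by omega) (by omega)]
    have : s - (s - 1) = 1 := by omega
    rw [this, pow_one]
  have hnt : Nontrivial ↥(E P g 0 (s - 1)) := by
    rw [← Finite.one_lt_card_iff_nontrivial, hc]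
    norm_num
  obtain ⟨⟨y0, hy0E⟩, hy0⟩ := exists_ne (1 : ↥(E P g 0 (s - 1)))
  have hy0' : y0 ≠ 1 := fun hh => hy0 (Subtype.ext hh)
  refine ⟨fun k => g ^ (k + 1 - s) * y0 * (g ^ (k + 1 - s))⁻¹, ?_⟩
  exact Cfsg.Agent.Helper50.Sims3.tower_of_G1 h s hs hE y0 hy0' hy0E _ (fun _ => rfl)
    (Cfsg.Agent.Helper89.Sims3.tower_G1 h s hs hE y0 hy0' hy0E _ (fun _ => rfl))

/-- The abstract Sims/Tutte theorem: either `|P| = 3`, or `P` is generated by a tower with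
`2 ≤ s ≤ 5`. -/
theorem Setup.main [Finite G] {P : Subgroup G} {g : G} (h : Setup P g) :
    Nat.card ↥P = 3 ∨ ∃ (s : ℕ) (y : ℤ → G), 2 ≤ s ∧ s ≤ 5 ∧ Tower s y ∧ U y 0 s = P := by
  have h2 := Cfsg.Agent.Helper33.Sims3.isPGroup_B h
  by_cases hn : ∀ p ∈ P, MulAut.conj p • (P ⊓ MulAut.conj g • P) = P ⊓ MulAut.conj g • P
  · exact Or.inl (Cfsg.Agent.Helper33.Sims3.card_of_normal h h2 hn)
  · right
    obtain ⟨g', h', hne⟩ := Cfsg.Agent.Helper70.Sims3.exists_adjust h hn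
    have h2' := Cfsg.Agent.Helper33.Sims3.isPGroup_B h'
    obtain ⟨s, hs, hE⟩ := exists_chain h' h2' hne
    obtain ⟨y, hy, hU⟩ := exists_tower h' s hs hE
    exact ⟨s, y, hs, tower_le_five hy hs, hy, hU⟩

theorem Setup.card_main [Finite G] {P : Subgroup G} {g : G} (h : Setup P g) :
    ∃ k : ℕ, k ≤ 4 ∧ Nat.card ↥P = 2 ^ k * 3 := by
  rcases h.main with h3 | ⟨s, y, hs2, hs5, hy, hU⟩
  · exact ⟨0, by omega, by simpa using h3⟩
  · refine ⟨s - 1, by omega, ?_⟩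
    rw [← hU, hy.card_top 0, mul_comm]

end Cfsg.Agent.Helper8.Sims3
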