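import Cfsg.Agent.Helper8.Sims3Basic
import Cfsg.Agent.Helper68.Sims3_P2
import Cfsg.Agent.Helper37.Sims3_P3
import Cfsg.Agent.Helper70.Sims3_P4

/-!
# Sims3: relations for `s = 3, 4, 5` (R3, R4, R5)
-/

set_option autoImplicit false

namespace Cfsg.Agent.Helper8.Sims3

open Pointwise

variable {G : Type*} [Group G]

theorem commute_of_sq_mul_eq_one {u v : G} (hu : u * u = 1) (hv : v * v = 1)
    (h : u * v * u * v = 1) : Commute u v := by
  show u * v = v * u
  have h1 : u * v = (u * v)⁻¹ := by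
    rw [eq_inv_iff_mul_eq_one]
    rw [← h]; group
  rw [h1, mul_inv_rev, inv_eq_of_mul_eq_one_left hu, inv_eq_of_mul_eq_one_left hv]

theorem sq_mul_eq_one_of_commute {u v : G} (hu : u * u = 1) (hv : v * v = 1)
    (h : Commute u v) : u * v * u * v = 1 := by
  have : u * v * u * v = u * (v * u) * v := by group
  rw [this, ← h.eq]
  have : u * (u * v) * v = (u * u) * (v * v) := by group
  rw [this, hu, hv, one_mul]

theorem mem_zpowers_of_sq {z x : G} (hz : z * z = 1) (hx : x ∈ Subgroup.zpowers z) :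
    x = 1 ∨ x = z := by
  obtain ⟨k, rfl⟩ := hx
  have hz2 : z ^ (2 : ℤ) = 1 := by rw [zpow_two]; exact hz
  simp only
  rcases Int.even_or_odd' k with ⟨c, hc | hc⟩
  · left
    rw [hc, zpow_mul, hz2, one_zpow]
  · right
    rw [hc, zpow_add, zpow_mul, hz2, one_zpow, one_mul, zpow_one]

theorem mem_closure_pair {u v x : G} (hu : u * u = 1) (hv : v * v = 1) (huv : Commute u v)
    (hx : x ∈ Subgroup.closure ({u, v} : Set G)) : x = 1 ∨ x = u ∨ x = v ∨ x = u * v := by
  have hui : u⁻¹ = u := inv_eq_of_mul_eq_one_left hu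
  have hvi : v⁻¹ = v := inv_eq_of_mul_eq_one_left hv
  have hvu : v * u = u * v := huv.eq.symm
  have key : ∀ z : G, (z = 1 ∨ z = u ∨ z = v ∨ z = u * v) →
      (u * z = 1 ∨ u * z = u ∨ u * z = v ∨ u * z = u * v) ∧
      (v * z = 1 ∨ v * z = u ∨ v * z = v ∨ v * z = u * v) := by
    rintro z (rfl | rfl | rfl | rfl)
    · exact ⟨by simp, by simp⟩
    · exact ⟨by simp [hu], by simp [hvu]⟩
    · exact ⟨by simp, by simp [hv]⟩
    · refine ⟨?_, ?_⟩
      · right; right; left
        rw [← mul_assoc, hu, one_mul]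
      · right; left
        rw [← mul_assoc, hvu, mul_assoc, hv, mul_one]
  induction hx using Subgroup.closure_induction_left with
  | one => exact Or.inl rfl
  | mul_left a ha b hb ih =>
    rcases ha with rfl | rfl
    · exact (key b ih).1
    · exact (key b ih).2
  | inv_mul_cancel a ha b hb ih =>
    rcases ha with rfl | rfl
    · rw [hui]; exact (key b ih).1
    · rw [hvi]; exact (key b ih).2

omit [Group G] in
theorem image_Ico_two' (y : ℤ → G) (b : ℤ) :
    y '' Set.Ico b (b + (2 : ℕ)) = {y b, y (b + 1)} := by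
  ext x
  simp only [Set.mem_image, Set.mem_Ico, Set.mem_insert_iff, Set.mem_singleton_iff]
  constructor
  · rintro ⟨k, ⟨hk0, hk1⟩, rfl⟩
    have : k = b ∨ k = b + 1 := by push_cast at hk1; omega
    rcases this with rfl | rfl <;> simp
  · rintro (rfl | rfl)
    · exact ⟨b, ⟨le_rfl, by push_cast; omega⟩, rfl⟩
    · exact ⟨b + 1, ⟨by omega, by push_cast; omega⟩, rfl⟩

/-- (R3) -/
theorem rel3 {s : ℕ} {y : ℤ → G} (h : Tower s y) (hs : 3 ≤ s) (a : ℤ) :
    Commute (y a) (y (a + 1)) := by
  have := tower_comm_mem h a 0 (by omega)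
  rw [U_zero, Subgroup.mem_bot] at this
  norm_num at this
  exact commute_of_sq_mul_eq_one (h.sq _) (h.sq _) this

/-- (R4) -/
theorem rel4 {y : ℤ → G} (h : Tower 4 y) (a : ℤ) :
    y a * y (a + 2) * y a * y (a + 2) = y (a + 1) := by
  obtain ⟨l, hl1, hls, hl⟩ := Cfsg.Agent.Helper68.Sims3.exists_lam h (by norm_num)
  have hup := Cfsg.Agent.Helper37.Sims3.lam_upper h (by norm_num) hl hl1 hls
  have hl2 : l = 2 := by
    by_contra hne
    have : l = 1 := by omega
    subst this
    exact hl.ncomm 0 (by simpa using rel3 h (by norm_num) 0)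
  subst hl2
  have hmem := tower_comm_mem h a 1 (by norm_num)
  rw [U_one] at hmem
  norm_num at hmem
  rcases mem_zpowers_of_sq (h.sq _) hmem with h1 | h1
  · exfalso
    apply hl.ncomm a
    exact commute_of_sq_mul_eq_one (h.sq _) (h.sq _) (by simpa using h1)
  · exact h1

/-- (R5) -/
theorem rel5 {y : ℤ → G} (h : Tower 5 y) :
    (∀ a : ℤ, Commute (y a) (y (a + 2))) ∧
    ((∀ a : ℤ, y a * y (a + 3) * y a * y (a + 3) = y (a + 1)) ∨
      (∀ a : ℤ, y a * y (a + 3) * y a * y (a + 3) = y (a + 2)) ∨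
      (∀ a : ℤ, y a * y (a + 3) * y a * y (a + 3) = y (a + 1) * y (a + 2))) := by
  obtain ⟨l, hl1, hls, hl⟩ := Cfsg.Agent.Helper68.Sims3.exists_lam h (by norm_num)
  have hup := Cfsg.Agent.Helper37.Sims3.lam_upper h (by norm_num) hl hl1 hls
  have hl3 : l = 3 := by
    by_contra hne
    have h12 : l = 1 ∨ l = 2 := by omega
    rcases h12 with rfl | rfl
    · exact hl.ncomm 0 (by simpa using rel3 h (by norm_num) 0)
    · have := Cfsg.Agent.Helper70.Sims3.lam_lower h hl (by norm_num) (by norm_num)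
      omega
  subst hl3
  refine ⟨fun a => by simpa using hl.comm a 2 (by norm_num), ?_⟩
  obtain ⟨g, hg⟩ := h.y_shift
  -- the commutator at `a` is the conjugate of the commutator at `0`
  have hconj : ∀ a : ℤ, y a * y (a + 3) * y a * y (a + 3) =
      g ^ a * (y 0 * y 3 * y 0 * y 3) * (g ^ a)⁻¹ := by
    intro a
    have e0 := hg a 0
    have e3 := hg a 3
    rw [zero_add] at e0
    rw [show (3 : ℤ) + a = a + 3 by ring] at e3
    rw [e0, e3]
    group
  have hmem := tower_comm_mem h 0 2 (by norm_num)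
  norm_num at hmem
  have hU : U y 1 2 = Subgroup.closure {y 1, y 2} := by
    unfold U
    rw [image_Ico_two']
    norm_num
  rw [hU] at hmem
  have hc12 : Commute (y 1) (y 2) := by simpa using rel3 h (by norm_num) 1
  rcases mem_closure_pair (h.sq 1) (h.sq 2) hc12 hmem with h1 | h1 | h1 | h1
  · exfalso
    apply hl.ncomm 0
    exact commute_of_sq_mul_eq_one (h.sq _) (h.sq _) (by simpa using h1)
  · left
    intro a
    rw [hconj, h1, ← hg a 1, add_comm]
  · right; left
    intro a
    rw [hconj, h1, ← hg a 2, add_comm]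
  · right; right
    intro a
    rw [hconj, h1]
    have e1 := hg a 1
    have e2 := hg a 2
    rw [show (1 : ℤ) + a = a + 1 by ring] at e1
    rw [show (2 : ℤ) + a = a + 2 by ring] at e2
    rw [e1, e2]
    group

end Cfsg.Agent.Helper8.Sims3
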