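import Mathlib
import Cfsg.Agent.Helper8.G2A

/-!
Helper8 / Sp6(3): a small strict computing model for 6×6 matrices over `ZMod 3`
(rows are structures of naturals), with bridging lemmas to `Matrix (Fin 6) (Fin 6) (ZMod 3)`,
exhaustive search over coefficient rows, and polynomials in a cyclic matrix.
(generated by /tmp/scratch/sp63/genA.py)
-/

set_option autoImplicit false

namespace Cfsg.Agent.Helper8.Sp63

open Cfsg.Agent.Helper8.G2 (cast_inj3 commutant_cyclic)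

/-- a row of six naturals -/
structure R6 where
  a0 : ℕ
  a1 : ℕ
  a2 : ℕ
  a3 : ℕ
  a4 : ℕ
  a5 : ℕ
deriving DecidableEq

/-- six rows -/
structure M6 where
  r0 : R6
  r1 : R6
  r2 : R6
  r3 : R6
  r4 : R6
  r5 : R6
deriving DecidableEq

namespace R6

/-- the entries as a function -/
def get (r : R6) : Fin 6 → ℕ
  | ⟨0, _⟩ => r.a0
  | ⟨1, _⟩ => r.a1
  | ⟨2, _⟩ => r.a2
  | ⟨3, _⟩ => r.a3
  | ⟨4, _⟩ => r.a4
  | ⟨5, _⟩ => r.a5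

/-- all entries are `< 3` -/
def Red (r : R6) : Prop := r.a0 < 3 ∧ r.a1 < 3 ∧ r.a2 < 3 ∧ r.a3 < 3 ∧ r.a4 < 3 ∧ r.a5 < 3

instance (r : R6) : Decidable r.Red := by unfold Red; infer_instance

/-- the vector over `ZMod 3` -/
def toVec (r : R6) : Fin 6 → ZMod 3 := fun i => ((r.get i : ℕ) : ZMod 3)

end R6

namespace M6

/-- the rows as a function -/
def row (m : M6) : Fin 6 → R6
  | ⟨0, _⟩ => m.r0
  | ⟨1, _⟩ => m.r1
  | ⟨2, _⟩ => m.r2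
  | ⟨3, _⟩ => m.r3
  | ⟨4, _⟩ => m.r4
  | ⟨5, _⟩ => m.r5

/-- all entries are `< 3` -/
def Red (m : M6) : Prop := m.r0.Red ∧ m.r1.Red ∧ m.r2.Red ∧ m.r3.Red ∧ m.r4.Red ∧ m.r5.Red

instance (m : M6) : Decidable m.Red := by unfold Red; infer_instance

/-- the matrix over `ZMod 3` -/
def toMat (m : M6) : Matrix (Fin 6) (Fin 6) (ZMod 3) := fun i j => (((m.row i).get j : ℕ) : ZMod 3)

end M6

/-- row vector times matrix, reduced mod 3 -/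
def R6.mulM (a : R6) (m : M6) : R6 :=
  ⟨(a.a0 * m.r0.a0 + a.a1 * m.r1.a0 + a.a2 * m.r2.a0 + a.a3 * m.r3.a0 + a.a4 * m.r4.a0 + a.a5 * m.r5.a0) % 3,
   (a.a0 * m.r0.a1 + a.a1 * m.r1.a1 + a.a2 * m.r2.a1 + a.a3 * m.r3.a1 + a.a4 * m.r4.a1 + a.a5 * m.r5.a1) % 3,
   (a.a0 * m.r0.a2 + a.a1 * m.r1.a2 + a.a2 * m.r2.a2 + a.a3 * m.r3.a2 + a.a4 * m.r4.a2 + a.a5 * m.r5.a2) % 3,
   (a.a0 * m.r0.a3 + a.a1 * m.r1.a3 + a.a2 * m.r2.a3 + a.a3 * m.r3.a3 + a.a4 * m.r4.a3 + a.a5 * m.r5.a3) % 3,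
   (a.a0 * m.r0.a4 + a.a1 * m.r1.a4 + a.a2 * m.r2.a4 + a.a3 * m.r3.a4 + a.a4 * m.r4.a4 + a.a5 * m.r5.a4) % 3,
   (a.a0 * m.r0.a5 + a.a1 * m.r1.a5 + a.a2 * m.r2.a5 + a.a3 * m.r3.a5 + a.a4 * m.r4.a5 + a.a5 * m.r5.a5) % 3⟩

/-- matrix product, reduced mod 3 -/
def M6.mul (A B : M6) : M6 :=
  ⟨A.r0.mulM B, A.r1.mulM B, A.r2.mulM B, A.r3.mulM B, A.r4.mulM B, A.r5.mulM B⟩

/-- the identity -/
def M6.one : M6 :=
  ⟨⟨1, 0, 0, 0, 0, 0⟩, ⟨0, 1, 0, 0, 0, 0⟩, ⟨0, 0, 1, 0, 0, 0⟩, ⟨0, 0, 0, 1, 0, 0⟩, ⟨0, 0, 0, 0, 1, 0⟩, ⟨0, 0, 0, 0, 0, 1⟩⟩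

/-- minus the identity -/
def M6.negone : M6 :=
  ⟨⟨2, 0, 0, 0, 0, 0⟩, ⟨0, 2, 0, 0, 0, 0⟩, ⟨0, 0, 2, 0, 0, 0⟩, ⟨0, 0, 0, 2, 0, 0⟩, ⟨0, 0, 0, 0, 2, 0⟩, ⟨0, 0, 0, 0, 0, 2⟩⟩

/-- the transpose -/
def M6.tr (A : M6) : M6 :=
  ⟨⟨A.r0.a0, A.r1.a0, A.r2.a0, A.r3.a0, A.r4.a0, A.r5.a0⟩,
   ⟨A.r0.a1, A.r1.a1, A.r2.a1, A.r3.a1, A.r4.a1, A.r5.a1⟩,
   ⟨A.r0.a2, A.r1.a2, A.r2.a2, A.r3.a2, A.r4.a2, A.r5.a2⟩,
   ⟨A.r0.a3, A.r1.a3, A.r2.a3, A.r3.a3, A.r4.a3, A.r5.a3⟩,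
   ⟨A.r0.a4, A.r1.a4, A.r2.a4, A.r3.a4, A.r4.a4, A.r5.a4⟩,
   ⟨A.r0.a5, A.r1.a5, A.r2.a5, A.r3.a5, A.r4.a5, A.r5.a5⟩⟩

theorem R6.toVec_mulM (a : R6) (m : M6) : (a.mulM m).toVec = Matrix.vecMul a.toVec m.toMat := by
  funext j
  fin_cases j <;>
  simp [R6.toVec, R6.get, R6.mulM, M6.toMat, M6.row, Matrix.vecMul, dotProduct, Fin.sum_univ_six,
    ZMod.natCast_mod]

theorem R6.red_mulM (a : R6) (m : M6) : (a.mulM m).Red := by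
  simp only [R6.Red, R6.mulM]
  refine ⟨?_, ?_, ?_, ?_, ?_, ?_⟩ <;> exact Nat.mod_lt _ (by norm_num)

theorem M6.red_mul (A B : M6) : (A.mul B).Red :=
  ⟨R6.red_mulM _ _, R6.red_mulM _ _, R6.red_mulM _ _, R6.red_mulM _ _, R6.red_mulM _ _, R6.red_mulM _ _⟩

theorem M6.toMat_row (A : M6) (i : Fin 6) : A.toMat i = (A.row i).toVec := rfl

theorem M6.row_mul (A B : M6) (i : Fin 6) : (A.mul B).row i = (A.row i).mulM B := by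
  fin_cases i <;> rfl

theorem M6.toMat_mul (A B : M6) : (A.mul B).toMat = A.toMat * B.toMat := by
  ext i j
  rw [M6.toMat_row, M6.row_mul, R6.toVec_mulM]
  simp [Matrix.vecMul, Matrix.mul_apply, dotProduct, M6.toMat_row]

theorem M6.toMat_one : M6.one.toMat = 1 := by
  ext i j
  fin_cases i <;> fin_cases j <;> simp [M6.toMat, M6.row, R6.get, M6.one]

theorem M6.toMat_negone : M6.negone.toMat = -1 := by
  ext i j
  fin_cases i <;> fin_cases j <;> simp [M6.toMat, M6.row, R6.get, M6.negone] <;> decide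

theorem M6.toMat_tr (A : M6) : A.tr.toMat = A.toMat.transpose := by
  ext i j
  fin_cases i <;> fin_cases j <;> rfl

theorem M6.red_one : M6.one.Red := by decide

theorem M6.red_negone : M6.negone.Red := by decide

theorem R6.eq_of_toVec_eq {a b : R6} (ha : a.Red) (hb : b.Red) (h : a.toVec = b.toVec) : a = b := by
  obtain ⟨a0, a1, a2, a3, a4, a5⟩ := a
  obtain ⟨b0, b1, b2, b3, b4, b5⟩ := b
  obtain ⟨h0, h1, h2, h3, h4, h5⟩ := ha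
  obtain ⟨k0, k1, k2, k3, k4, k5⟩ := hb
  have e0 := cast_inj3 h0 k0 (congrFun h 0)
  have e1 := cast_inj3 h1 k1 (congrFun h 1)
  have e2 := cast_inj3 h2 k2 (congrFun h 2)
  have e3 := cast_inj3 h3 k3 (congrFun h 3)
  have e4 := cast_inj3 h4 k4 (congrFun h 4)
  have e5 := cast_inj3 h5 k5 (congrFun h 5)
  simp only at e0 e1 e2 e3 e4 e5
  subst e0 e1 e2 e3 e4 e5
  rfl

theorem M6.eq_of_toMat_eq {A B : M6} (hA : A.Red) (hB : B.Red) (h : A.toMat = B.toMat) : A = B := by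
  obtain ⟨a0, a1, a2, a3, a4, a5⟩ := A
  obtain ⟨b0, b1, b2, b3, b4, b5⟩ := B
  obtain ⟨h0, h1, h2, h3, h4, h5⟩ := hA
  obtain ⟨k0, k1, k2, k3, k4, k5⟩ := hB
  have e0 := R6.eq_of_toVec_eq h0 k0 (congrFun h 0)
  have e1 := R6.eq_of_toVec_eq h1 k1 (congrFun h 1)
  have e2 := R6.eq_of_toVec_eq h2 k2 (congrFun h 2)
  have e3 := R6.eq_of_toVec_eq h3 k3 (congrFun h 3)
  have e4 := R6.eq_of_toVec_eq h4 k4 (congrFun h 4)
  have e5 := R6.eq_of_toVec_eq h5 k5 (congrFun h 5)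
  simp only at e0 e1 e2 e3 e4 e5
  subst e0 e1 e2 e3 e4 e5
  rfl

/-! ### powers -/

/-- `A ^ k` in the model -/
def M6.pow (A : M6) : ℕ → M6
  | 0 => M6.one
  | k + 1 => (M6.pow A k).mul A

theorem M6.toMat_pow (A : M6) (k : ℕ) : (A.pow k).toMat = A.toMat ^ k := by
  induction k with
  | zero => rw [pow_zero]; exact M6.toMat_one
  | succ k ih => rw [pow_succ, ← ih]; exact M6.toMat_mul _ _

theorem M6.red_pow (A : M6) (k : ℕ) : (A.pow k).Red := by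
  cases k with
  | zero => exact M6.red_one
  | succ k => exact M6.red_mul _ _

/-! ### exhaustive search over reduced coefficient rows -/

def allB (f : ℕ → Bool) : Bool := f 0 && f 1 && f 2

theorem allB_spec {f : ℕ → Bool} (h : allB f = true) {n : ℕ} (hn : n < 3) : f n = true := by
  simp only [allB, Bool.and_eq_true] at h
  interval_cases n
  · exact h.1.1
  · exact h.1.2
  · exact h.2

def allR6 (f : R6 → Bool) : Bool :=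
  allB fun a0 => allB fun a1 => allB fun a2 => allB fun a3 => allB fun a4 => allB fun a5 =>
    f ⟨a0, a1, a2, a3, a4, a5⟩

theorem allR6_spec {f : R6 → Bool} (h : allR6 f = true) (a : R6) (ha : a.Red) : f a = true := by
  obtain ⟨a0, a1, a2, a3, a4, a5⟩ := a
  obtain ⟨h0, h1, h2, h3, h4, h5⟩ := ha
  exact allB_spec (allB_spec (allB_spec (allB_spec (allB_spec (allB_spec h h0) h1) h2) h3) h4) h5

/-! ### polynomials in a matrix, given the table of its powers -/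

/-- the `i`-th rows of six matrices -/
def slice (P0 P1 P2 P3 P4 P5 : M6) (i : Fin 6) : M6 :=
  ⟨P0.row i, P1.row i, P2.row i, P3.row i, P4.row i, P5.row i⟩

/-- `a₀ P₀ + ⋯ + a₅ P₅` -/
def poly (P0 P1 P2 P3 P4 P5 : M6) (a : R6) : M6 :=
  ⟨a.mulM (slice P0 P1 P2 P3 P4 P5 0),
   a.mulM (slice P0 P1 P2 P3 P4 P5 1),
   a.mulM (slice P0 P1 P2 P3 P4 P5 2),
   a.mulM (slice P0 P1 P2 P3 P4 P5 3),
   a.mulM (slice P0 P1 P2 P3 P4 P5 4),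
   a.mulM (slice P0 P1 P2 P3 P4 P5 5)⟩

theorem red_poly (P0 P1 P2 P3 P4 P5 : M6) (a : R6) : (poly P0 P1 P2 P3 P4 P5 a).Red :=
  ⟨R6.red_mulM _ _, R6.red_mulM _ _, R6.red_mulM _ _, R6.red_mulM _ _, R6.red_mulM _ _, R6.red_mulM _ _⟩

theorem toMat_poly (P0 P1 P2 P3 P4 P5 : M6) (a : R6) :
    (poly P0 P1 P2 P3 P4 P5 a).toMat =
      ((a.a0 : ℕ) : ZMod 3) • P0.toMat +
      ((a.a1 : ℕ) : ZMod 3) • P1.toMat +
      ((a.a2 : ℕ) : ZMod 3) • P2.toMat +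
      ((a.a3 : ℕ) : ZMod 3) • P3.toMat +
      ((a.a4 : ℕ) : ZMod 3) • P4.toMat +
      ((a.a5 : ℕ) : ZMod 3) • P5.toMat := by
  ext i j
  have h : (poly P0 P1 P2 P3 P4 P5 a).toMat i = (a.mulM (slice P0 P1 P2 P3 P4 P5 i)).toVec := by
    fin_cases i <;> rfl
  rw [h, R6.toVec_mulM]
  simp only [Matrix.vecMul, dotProduct, Fin.sum_univ_six, Matrix.add_apply, Matrix.smul_apply,
    smul_eq_mul]
  rfl

/-- the matrix whose `j`-th column is the first column of `P_j` -/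
def colM (P0 P1 P2 P3 P4 P5 : M6) : M6 :=
  ⟨⟨P0.r0.a0, P1.r0.a0, P2.r0.a0, P3.r0.a0, P4.r0.a0, P5.r0.a0⟩,
   ⟨P0.r1.a0, P1.r1.a0, P2.r1.a0, P3.r1.a0, P4.r1.a0, P5.r1.a0⟩,
   ⟨P0.r2.a0, P1.r2.a0, P2.r2.a0, P3.r2.a0, P4.r2.a0, P5.r2.a0⟩,
   ⟨P0.r3.a0, P1.r3.a0, P2.r3.a0, P3.r3.a0, P4.r3.a0, P5.r3.a0⟩,
   ⟨P0.r4.a0, P1.r4.a0, P2.r4.a0, P3.r4.a0, P4.r4.a0, P5.r4.a0⟩,
   ⟨P0.r5.a0, P1.r5.a0, P2.r5.a0, P3.r5.a0, P4.r5.a0, P5.r5.a0⟩⟩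

theorem exists_poly_of_commute (P0 P1 P2 P3 P4 P5 cQ : M6)
    (X : Matrix (Fin 6) (Fin 6) (ZMod 3))
    (h0 : P0.toMat = 1) (h1 : P1.toMat = X) (h2 : P2.toMat = X ^ 2) (h3 : P3.toMat = X ^ 3)
    (h4 : P4.toMat = X ^ 4) (h5 : P5.toMat = X ^ 5)
    (hQ : (colM P0 P1 P2 P3 P4 P5).mul cQ = M6.one)
    (C : Matrix (Fin 6) (Fin 6) (ZMod 3)) (hC : C * X = X * C) :
    ∃ a : R6, a.Red ∧ C = (poly P0 P1 P2 P3 P4 P5 a).toMat := by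
  have hPQ : (colM P0 P1 P2 P3 P4 P5).toMat * cQ.toMat = 1 := by
    rw [← M6.toMat_mul, hQ, M6.toMat_one]
  have hP : ∀ i j : Fin 6, (colM P0 P1 P2 P3 P4 P5).toMat i j =
      ((X ^ (j : ℕ)).mulVec (Pi.single 0 1)) i := by
    intro i j
    rw [Matrix.mulVec_single_one]
    fin_cases j
    · show _ = (X ^ 0) i 0
      rw [pow_zero, ← h0]; fin_cases i <;> rfl
    · show _ = (X ^ 1) i 0
      rw [pow_one, ← h1]; fin_cases i <;> rfl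
    · show _ = (X ^ 2) i 0
      rw [← h2]; fin_cases i <;> rfl
    · show _ = (X ^ 3) i 0
      rw [← h3]; fin_cases i <;> rfl
    · show _ = (X ^ 4) i 0
      rw [← h4]; fin_cases i <;> rfl
    · show _ = (X ^ 5) i 0
      rw [← h5]; fin_cases i <;> rfl
  have key := commutant_cyclic X _ _ (Pi.single 0 1) hP hPQ C hC
  have hex : ∀ z : ZMod 3, ∃ n : ℕ, n < 3 ∧ ((n : ℕ) : ZMod 3) = z :=
    fun z => ⟨z.val, ZMod.val_lt z, ZMod.natCast_zmod_val z⟩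
  generalize cQ.toMat.mulVec (C.mulVec (Pi.single 0 1)) = b at key
  obtain ⟨n0, l0, e0⟩ := hex (b 0)
  obtain ⟨n1, l1, e1⟩ := hex (b 1)
  obtain ⟨n2, l2, e2⟩ := hex (b 2)
  obtain ⟨n3, l3, e3⟩ := hex (b 3)
  obtain ⟨n4, l4, e4⟩ := hex (b 4)
  obtain ⟨n5, l5, e5⟩ := hex (b 5)
  refine ⟨⟨n0, n1, n2, n3, n4, n5⟩, ?_, ?_⟩
  · unfold R6.Red
    exact ⟨l0, l1, l2, l3, l4, l5⟩
  · rw [toMat_poly, h0, h1, h2, h3, h4, h5]
    show C = (n0 : ZMod 3) • (1 : Matrix (Fin 6) (Fin 6) (ZMod 3)) + (n1 : ZMod 3) • X +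
      (n2 : ZMod 3) • X ^ 2 + (n3 : ZMod 3) • X ^ 3 + (n4 : ZMod 3) • X ^ 4 +
      (n5 : ZMod 3) • X ^ 5
    rw [e0, e1, e2, e3, e4, e5, key, Fin.sum_univ_six]
    simp

end Cfsg.Agent.Helper8.Sp63
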