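import Cfsg.Agent.Helper8.Sp63A

/-!
Helper8 / Sp6(3): explicit data in `Sp₆(3)` (with respect to Mathlib's `J = [[0,-1],[1,0]]`, reindexed
to `Fin 6`): an element `X` of order 13, an element `Z` of order 28 (with `Y = Z⁴` of order 7), an
element `G` of order 30 which has order 30 modulo `±1`, and the exhaustive checks over the commutants
of `X` and `Y`.  (generated by /tmp/scratch/sp63/genB.py)
-/

set_option autoImplicit false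

namespace Cfsg.Agent.Helper8.Sp63

/-- the matrix `J` of the symplectic form -/
def J6 : M6 :=
  ⟨⟨0, 0, 0, 2, 0, 0⟩,
    ⟨0, 0, 0, 0, 2, 0⟩,
    ⟨0, 0, 0, 0, 0, 2⟩,
    ⟨1, 0, 0, 0, 0, 0⟩,
    ⟨0, 1, 0, 0, 0, 0⟩,
    ⟨0, 0, 1, 0, 0, 0⟩⟩

/-- an element of order 13 -/
def XP1 : M6 :=
  ⟨⟨0, 1, 0, 0, 1, 2⟩,
    ⟨0, 2, 2, 0, 0, 0⟩,
    ⟨1, 0, 0, 1, 0, 0⟩,
    ⟨0, 0, 2, 0, 2, 1⟩,
    ⟨0, 0, 2, 0, 1, 1⟩,
    ⟨0, 0, 0, 1, 0, 0⟩⟩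

def XP2 : M6 :=
  ⟨⟨0, 2, 1, 2, 1, 1⟩,
    ⟨2, 1, 1, 2, 0, 0⟩,
    ⟨0, 1, 2, 0, 0, 0⟩,
    ⟨2, 0, 1, 0, 2, 2⟩,
    ⟨2, 0, 2, 0, 1, 1⟩,
    ⟨0, 0, 2, 0, 2, 1⟩⟩

def XP3 : M6 :=
  ⟨⟨1, 1, 1, 2, 2, 0⟩,
    ⟨1, 1, 0, 1, 0, 0⟩,
    ⟨2, 2, 2, 2, 0, 0⟩,
    ⟨1, 2, 1, 0, 1, 0⟩,
    ⟨2, 2, 2, 0, 0, 2⟩,
    ⟨2, 0, 1, 0, 2, 2⟩⟩

def XP4 : M6 :=
  ⟨⟨1, 0, 1, 1, 1, 0⟩,
    ⟨0, 0, 1, 0, 0, 0⟩,
    ⟨2, 0, 2, 2, 0, 0⟩,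
    ⟨1, 2, 0, 1, 2, 0⟩,
    ⟨2, 0, 1, 1, 2, 1⟩,
    ⟨1, 2, 1, 0, 1, 0⟩⟩

def XP5 : M6 :=
  ⟨⟨1, 1, 1, 1, 1, 1⟩,
    ⟨1, 0, 0, 1, 0, 0⟩,
    ⟨2, 2, 1, 2, 0, 0⟩,
    ⟨0, 2, 1, 0, 2, 2⟩,
    ⟨1, 2, 0, 2, 0, 1⟩,
    ⟨1, 2, 0, 1, 2, 0⟩⟩

/-- an element of order 7 -/
def YP1 : M6 :=
  ⟨⟨0, 2, 2, 1, 2, 2⟩,
    ⟨0, 1, 2, 0, 1, 2⟩,
    ⟨1, 1, 0, 2, 2, 1⟩,
    ⟨2, 1, 0, 2, 1, 0⟩,
    ⟨0, 1, 0, 2, 0, 1⟩,
    ⟨1, 2, 1, 2, 0, 2⟩⟩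

def YP2 : M6 :=
  ⟨⟨0, 2, 0, 2, 1, 0⟩,
    ⟨1, 2, 1, 1, 2, 0⟩,
    ⟨2, 0, 2, 2, 2, 2⟩,
    ⟨1, 2, 0, 2, 1, 1⟩,
    ⟨2, 2, 0, 0, 0, 1⟩,
    ⟨1, 2, 2, 2, 2, 2⟩⟩

def YP3 : M6 :=
  ⟨⟨1, 2, 1, 0, 1, 2⟩,
    ⟨0, 2, 0, 0, 1, 0⟩,
    ⟨2, 2, 0, 0, 1, 0⟩,
    ⟨2, 0, 1, 0, 0, 0⟩,
    ⟨1, 2, 0, 1, 0, 1⟩,
    ⟨2, 2, 2, 2, 1, 2⟩⟩

def YP4 : M6 :=
  ⟨⟨0, 1, 2, 0, 0, 0⟩,
    ⟨0, 0, 1, 2, 2, 2⟩,
    ⟨0, 1, 2, 1, 0, 0⟩,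
    ⟨1, 2, 1, 1, 0, 2⟩,
    ⟨0, 1, 1, 2, 2, 2⟩,
    ⟨2, 0, 1, 1, 0, 0⟩⟩

def YP5 : M6 :=
  ⟨⟨2, 0, 2, 1, 2, 1⟩,
    ⟨1, 0, 2, 2, 1, 1⟩,
    ⟨1, 1, 2, 0, 0, 1⟩,
    ⟨2, 1, 2, 0, 1, 2⟩,
    ⟨1, 1, 1, 2, 2, 0⟩,
    ⟨0, 0, 1, 0, 1, 2⟩⟩

/-- an element of order 28, of order 14 modulo the centre -/
def ZP1 : M6 :=
  ⟨⟨0, 0, 2, 0, 0, 0⟩,
    ⟨0, 0, 0, 2, 0, 0⟩,
    ⟨0, 1, 2, 0, 0, 0⟩,
    ⟨0, 0, 1, 2, 2, 2⟩,
    ⟨1, 0, 2, 2, 0, 0⟩,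
    ⟨0, 0, 0, 0, 1, 0⟩⟩

/-- an element of order 30, also modulo the centre -/
def GP1 : M6 :=
  ⟨⟨1, 0, 0, 1, 2, 0⟩,
    ⟨0, 0, 1, 0, 0, 0⟩,
    ⟨0, 0, 0, 0, 2, 0⟩,
    ⟨0, 0, 0, 1, 0, 0⟩,
    ⟨0, 0, 0, 0, 1, 1⟩,
    ⟨0, 1, 2, 2, 2, 0⟩⟩

def XcQ : M6 :=
  ⟨⟨1, 0, 0, 1, 2, 0⟩,
    ⟨0, 0, 1, 2, 1, 0⟩,
    ⟨0, 1, 0, 1, 0, 2⟩,
    ⟨0, 0, 0, 1, 2, 1⟩,
    ⟨0, 1, 0, 1, 1, 1⟩,
    ⟨0, 2, 0, 0, 1, 1⟩⟩

def YcQ : M6 :=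
  ⟨⟨1, 2, 0, 0, 2, 0⟩,
    ⟨0, 2, 1, 2, 2, 2⟩,
    ⟨0, 1, 0, 2, 1, 2⟩,
    ⟨0, 1, 0, 1, 0, 1⟩,
    ⟨0, 2, 1, 0, 0, 2⟩,
    ⟨0, 0, 0, 1, 2, 1⟩⟩

/-- `C J Cᵀ = J` -/
def symp (C : M6) : Bool := decide ((C.mul J6).mul C.tr = J6)

theorem symp_sound {C : M6} (h : C.toMat * J6.toMat * C.toMat.transpose = J6.toMat) (hJ : J6.Red) :
    symp C = true := by
  have e : ((C.mul J6).mul C.tr).toMat = J6.toMat := by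
    rw [M6.toMat_mul, M6.toMat_mul, M6.toMat_tr, h]
  have e' := M6.eq_of_toMat_eq (M6.red_mul _ _) hJ e
  simp only [symp, e', decide_true]

theorem J6_red : J6.Red := by decide

/-- `C¹³` -/
def M6.p13 (C : M6) : M6 :=
  let C2 := C.mul C
  let C4 := C2.mul C2
  let C8 := C4.mul C4
  (C8.mul C4).mul C

theorem M6.toMat_p13 (C : M6) : C.p13.toMat = C.toMat ^ 13 := by
  simp only [M6.p13, M6.toMat_mul]; noncomm_ring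

/-- `C²⁸` -/
def M6.p28 (C : M6) : M6 :=
  let C2 := C.mul C
  let C4 := C2.mul C2
  let C7 := (C4.mul C2).mul C
  let C14 := C7.mul C7
  C14.mul C14

theorem M6.toMat_p28 (C : M6) : C.p28.toMat = C.toMat ^ 28 := by
  simp only [M6.p28, M6.toMat_mul]; noncomm_ring

/-- `C¹³ = ±1` -/
def chk13 (C : M6) : Bool :=
  decide (C.p13 = M6.one) || decide (C.p13 = M6.negone)

theorem chk13_sound {C : M6} (h : chk13 C = true) : C.toMat ^ 13 = 1 ∨ C.toMat ^ 13 = -1 := by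
  simp only [chk13, Bool.or_eq_true, decide_eq_true_eq] at h
  rcases h with h | h
  · left; rw [← M6.toMat_p13, h, M6.toMat_one]
  · right; rw [← M6.toMat_p13, h, M6.toMat_negone]

/-- `C²⁸ = 1` -/
def chk28 (C : M6) : Bool := decide (C.p28 = M6.one)

theorem chk28_sound {C : M6} (h : chk28 C = true) : C.toMat ^ 28 = 1 := by
  simp only [chk28, decide_eq_true_eq] at h
  rw [← M6.toMat_p28, h, M6.toMat_one]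

/-! ### the element `X` of order 13 -/

theorem XP2_eq : XP2 = XP1.mul XP1 := by decide +kernel
theorem XP3_eq : XP3 = XP2.mul XP1 := by decide +kernel
theorem XP4_eq : XP4 = XP3.mul XP1 := by decide +kernel
theorem XP5_eq : XP5 = XP4.mul XP1 := by decide +kernel
theorem XP13_eq : XP1.pow 13 = M6.one := by decide +kernel
theorem XP1_symp : symp XP1 = true := by decide +kernel

/-- the matrix of `X` -/
def XM : Matrix (Fin 6) (Fin 6) (ZMod 3) := XP1.toMat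

theorem XP_pow2 : XP2.toMat = XM ^ 2 := by rw [XP2_eq, M6.toMat_mul, pow_two]; rfl
theorem XP_pow3 : XP3.toMat = XM ^ 3 := by rw [XP3_eq, M6.toMat_mul, XP_pow2, pow_succ]; rfl
theorem XP_pow4 : XP4.toMat = XM ^ 4 := by rw [XP4_eq, M6.toMat_mul, XP_pow3, pow_succ]; rfl
theorem XP_pow5 : XP5.toMat = XM ^ 5 := by rw [XP5_eq, M6.toMat_mul, XP_pow4, pow_succ]; rfl

theorem XM_pow13 : XM ^ 13 = 1 := by
  rw [XM, ← M6.toMat_pow, XP13_eq, M6.toMat_one]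

theorem XM_ne_one : XM ≠ 1 := by
  intro h
  have := M6.eq_of_toMat_eq (A := XP1) (B := M6.one) (by decide) M6.red_one (by rw [M6.toMat_one]; exact h)
  revert this; decide

def polyX (a : R6) : M6 := poly M6.one XP1 XP2 XP3 XP4 XP5 a

theorem X_enum : allR6 (fun a => !symp (polyX a) || chk13 (polyX a)) = true := by
  decide +kernel

theorem X_comm (C : Matrix (Fin 6) (Fin 6) (ZMod 3)) (hC : C * XM = XM * C) :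
    ∃ a : R6, a.Red ∧ C = (polyX a).toMat :=
  exists_poly_of_commute M6.one XP1 XP2 XP3 XP4 XP5 XcQ XM M6.toMat_one rfl XP_pow2 XP_pow3 XP_pow4
    XP_pow5 (by decide +kernel) C hC

/-- the centraliser of `X` in the symplectic group: thirteenth powers are `±1` -/
theorem X_centralizer (C : Matrix (Fin 6) (Fin 6) (ZMod 3)) (hC : C * XM = XM * C)
    (hs : C * J6.toMat * C.transpose = J6.toMat) : C ^ 13 = 1 ∨ C ^ 13 = -1 := by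
  obtain ⟨a, ha, rfl⟩ := X_comm C hC
  have h1 := allR6_spec X_enum a ha
  simp only [symp_sound hs J6_red, Bool.not_true, Bool.false_or] at h1
  exact chk13_sound h1

/-! ### the element `Z` of order 28 and `Y = Z⁴` of order 7 -/

theorem YP1_eq : YP1 = ZP1.pow 4 := by decide +kernel
theorem YP2_eq : YP2 = YP1.mul YP1 := by decide +kernel
theorem YP3_eq : YP3 = YP2.mul YP1 := by decide +kernel
theorem YP4_eq : YP4 = YP3.mul YP1 := by decide +kernel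
theorem YP5_eq : YP5 = YP4.mul YP1 := by decide +kernel
theorem YP7_eq : YP1.pow 7 = M6.one := by decide +kernel
theorem ZP1_symp : symp ZP1 = true := by decide +kernel
theorem ZP14_eq : ZP1.pow 14 = M6.negone := by decide +kernel
theorem ZP7_ne : ZP1.pow 7 ≠ M6.one ∧ ZP1.pow 7 ≠ M6.negone := by decide +kernel
theorem ZP2_ne : ZP1.pow 2 ≠ M6.one ∧ ZP1.pow 2 ≠ M6.negone := by decide +kernel

/-- the matrix of `Y` -/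
def YM : Matrix (Fin 6) (Fin 6) (ZMod 3) := YP1.toMat

/-- the matrix of `Z` -/
def ZM : Matrix (Fin 6) (Fin 6) (ZMod 3) := ZP1.toMat

theorem YM_eq : YM = ZM ^ 4 := by rw [YM, YP1_eq, M6.toMat_pow]; rfl

theorem YP_pow2 : YP2.toMat = YM ^ 2 := by rw [YP2_eq, M6.toMat_mul, pow_two]; rfl
theorem YP_pow3 : YP3.toMat = YM ^ 3 := by rw [YP3_eq, M6.toMat_mul, YP_pow2, pow_succ]; rfl
theorem YP_pow4 : YP4.toMat = YM ^ 4 := by rw [YP4_eq, M6.toMat_mul, YP_pow3, pow_succ]; rfl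
theorem YP_pow5 : YP5.toMat = YM ^ 5 := by rw [YP5_eq, M6.toMat_mul, YP_pow4, pow_succ]; rfl

theorem YM_pow7 : YM ^ 7 = 1 := by
  rw [YM, ← M6.toMat_pow, YP7_eq, M6.toMat_one]

theorem YM_ne_one : YM ≠ 1 := by
  intro h
  have := M6.eq_of_toMat_eq (A := YP1) (B := M6.one) (by decide) M6.red_one (by rw [M6.toMat_one]; exact h)
  revert this; decide

def polyY (a : R6) : M6 := poly M6.one YP1 YP2 YP3 YP4 YP5 a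

theorem Y_enum : allR6 (fun a => !symp (polyY a) || chk28 (polyY a)) = true := by
  decide +kernel

theorem Y_comm (C : Matrix (Fin 6) (Fin 6) (ZMod 3)) (hC : C * YM = YM * C) :
    ∃ a : R6, a.Red ∧ C = (polyY a).toMat :=
  exists_poly_of_commute M6.one YP1 YP2 YP3 YP4 YP5 YcQ YM M6.toMat_one rfl YP_pow2 YP_pow3 YP_pow4
    YP_pow5 (by decide +kernel) C hC

/-- the centraliser of `Y` in the symplectic group has exponent 28 -/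
theorem Y_centralizer (C : Matrix (Fin 6) (Fin 6) (ZMod 3)) (hC : C * YM = YM * C)
    (hs : C * J6.toMat * C.transpose = J6.toMat) : C ^ 28 = 1 := by
  obtain ⟨a, ha, rfl⟩ := Y_comm C hC
  have h1 := allR6_spec Y_enum a ha
  simp only [symp_sound hs J6_red, Bool.not_true, Bool.false_or] at h1
  exact chk28_sound h1

/-! ### the element `G` of order 30 -/

theorem GP1_symp : symp GP1 = true := by decide +kernel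
theorem GP30_eq : GP1.pow 30 = M6.one := by decide +kernel
theorem GP15_ne : GP1.pow 15 ≠ M6.one ∧ GP1.pow 15 ≠ M6.negone := by decide +kernel
theorem GP10_ne : GP1.pow 10 ≠ M6.one ∧ GP1.pow 10 ≠ M6.negone := by decide +kernel
theorem GP6_ne : GP1.pow 6 ≠ M6.one ∧ GP1.pow 6 ≠ M6.negone := by decide +kernel

end Cfsg.Agent.Helper8.Sp63
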