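import Cfsg.Agent.Helper8.Sp63B
import Cfsg.Agent.Helper8.G24S
import Cfsg.Agent.Helper5.SpCard
import Cfsg.Agent.S0246
import Cfsg.Prelude.Def_Classical

/-!
Helper8 / Sp6(3): the bridge between the computing model and Mathlib's
`Matrix.symplecticGroup (Fin 3) (ZMod 3)`; the explicit elements and their centralisers.
-/

set_option autoImplicit false

namespace Cfsg.Agent.Helper8.Sp63

open Matrix

/-- `Sp₆(3)` -/
abbrev Sp6 : Type := Matrix.symplecticGroup (Fin 3) (ZMod 3)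

/-- reindexing -/
def e6 : Fin 3 ⊕ Fin 3 ≃ Fin 6 := finSumFinEquiv

/-- matrices in `Fin 6` coordinates -/
def r6 (A : Matrix (Fin 3 ⊕ Fin 3) (Fin 3 ⊕ Fin 3) (ZMod 3)) : Matrix (Fin 6) (Fin 6) (ZMod 3) :=
  A.submatrix e6.symm e6.symm

/-- and back -/
def r6inv (A : Matrix (Fin 6) (Fin 6) (ZMod 3)) : Matrix (Fin 3 ⊕ Fin 3) (Fin 3 ⊕ Fin 3) (ZMod 3) :=
  A.submatrix e6 e6

theorem r6_r6inv (A : Matrix (Fin 6) (Fin 6) (ZMod 3)) : r6 (r6inv A) = A := by
  ext i j; simp [r6, r6inv]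

theorem r6inv_r6 (A : Matrix (Fin 3 ⊕ Fin 3) (Fin 3 ⊕ Fin 3) (ZMod 3)) : r6inv (r6 A) = A := by
  ext i j; simp [r6, r6inv]

theorem r6_mul (A B : Matrix (Fin 3 ⊕ Fin 3) (Fin 3 ⊕ Fin 3) (ZMod 3)) : r6 (A * B) = r6 A * r6 B := by
  unfold r6; rw [Matrix.submatrix_mul_equiv]

theorem r6inv_mul (A B : Matrix (Fin 6) (Fin 6) (ZMod 3)) : r6inv (A * B) = r6inv A * r6inv B := by
  unfold r6inv; rw [Matrix.submatrix_mul_equiv]

theorem r6_one : r6 1 = 1 := by unfold r6; rw [Matrix.submatrix_one_equiv]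

theorem r6_transpose (A : Matrix (Fin 3 ⊕ Fin 3) (Fin 3 ⊕ Fin 3) (ZMod 3)) :
    r6 A.transpose = (r6 A).transpose := rfl

theorem r6inv_transpose (A : Matrix (Fin 6) (Fin 6) (ZMod 3)) :
    r6inv A.transpose = (r6inv A).transpose := rfl

theorem r6_injective : Function.Injective r6 := fun A B h => by
  rw [← r6inv_r6 A, h, r6inv_r6]

theorem r6_J : r6 (Matrix.J (Fin 3) (ZMod 3)) = J6.toMat := by
  ext i j
  fin_cases i <;> fin_cases j <;>
    simp [r6, e6, Matrix.J, J6, M6.toMat, M6.row, R6.get, finSumFinEquiv, Fin.addCases] <;> decide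

/-- the matrix of an element of `Sp₆(3)` in `Fin 6` coordinates -/
def m6 (g : Sp6) : Matrix (Fin 6) (Fin 6) (ZMod 3) := r6 (g : Matrix _ _ _)

theorem m6_one : m6 1 = 1 := r6_one

theorem m6_mul (g h : Sp6) : m6 (g * h) = m6 g * m6 h := r6_mul _ _

theorem m6_pow (g : Sp6) (n : ℕ) : m6 (g ^ n) = m6 g ^ n := by
  induction n with
  | zero => rw [pow_zero, pow_zero, m6_one]
  | succ n ih => rw [pow_succ, pow_succ, m6_mul, ih]

theorem m6_injective : Function.Injective m6 := fun _ _ e => Subtype.ext (r6_injective e)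

theorem m6_symp (g : Sp6) : m6 g * J6.toMat * (m6 g).transpose = J6.toMat := by
  have h := (SymplecticGroup.mem_iff).1 g.2
  rw [m6, ← r6_J, ← r6_transpose, ← r6_mul, ← r6_mul, h]

/-- an element of `Sp₆(3)` from the model -/
def mk6 (M : M6) (h : symp M = true) : Sp6 :=
  ⟨r6inv M.toMat, by
    rw [SymplecticGroup.mem_iff]
    have h1 : (M.mul J6).mul M.tr = J6 := by simpa [symp] using h
    have h2 : M.toMat * J6.toMat * M.toMat.transpose = J6.toMat := by
      rw [← M6.toMat_tr, ← M6.toMat_mul, ← M6.toMat_mul, h1]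
    apply r6_injective
    rw [r6_mul, r6_mul, r6_transpose, r6_r6inv, r6_J, h2]⟩

theorem m6_mk6 (M : M6) (h : symp M = true) : m6 (mk6 M h) = M.toMat := r6_r6inv _

theorem m6_mk6_pow (M : M6) (h : symp M = true) (n : ℕ) : m6 (mk6 M h ^ n) = (M.pow n).toMat := by
  rw [m6_pow, m6_mk6, M6.toMat_pow]

theorem m6_negOne : m6 (Cfsg.Agent.S0246.negOne 3 (ZMod 3)) = -1 := by
  show r6 (-1) = -1
  ext i j
  simp [r6, Matrix.one_apply]

/-- the centre of `Sp₆(3)` in matrix terms -/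
theorem mem_center_iff (g : Sp6) : g ∈ Subgroup.center Sp6 ↔ m6 g = 1 ∨ m6 g = -1 := by
  rw [Cfsg.Agent.S0246.mem_center_iff (by norm_num)]
  constructor
  · rintro (rfl | rfl)
    · left; exact m6_one
    · right; exact m6_negOne
  · rintro (h | h)
    · left; exact m6_injective (by rw [h, m6_one])
    · right; exact m6_injective (by rw [h, m6_negOne])

theorem mk6_pow_mem_center_iff (M : M6) (h : symp M = true) (n : ℕ) :
    mk6 M h ^ n ∈ Subgroup.center Sp6 ↔ M.pow n = M6.one ∨ M.pow n = M6.negone := by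
  rw [mem_center_iff, m6_mk6_pow]
  constructor
  · rintro (e | e)
    · left; exact M6.eq_of_toMat_eq (M6.red_pow _ _) M6.red_one (by rw [e, M6.toMat_one])
    · right; exact M6.eq_of_toMat_eq (M6.red_pow _ _) M6.red_negone (by rw [e, M6.toMat_negone])
  · rintro (e | e)
    · left; rw [e, M6.toMat_one]
    · right; rw [e, M6.toMat_negone]

end Cfsg.Agent.Helper8.Sp63
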