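import Cfsg.Agent.Helper8.Sp63C

/-!
Helper8 / Sp6(3): the prime graph of `PSp₆(3)` over `ZMod 3`:
primes `2, 3, 5, 7, 13`, edges exactly `2-3, 2-5, 3-5, 2-7`.
-/

set_option autoImplicit false

namespace Cfsg.Agent.Helper8.Sp63

open Matrix
open Cfsg.Agent.Helper8.G24 (exists_conj_zpowers)

/-! ### the explicit elements -/

/-- the element of order 13 -/
def x13 : Sp6 := mk6 XP1 XP1_symp

/-- the element of order 28 -/
def z28 : Sp6 := mk6 ZP1 ZP1_symp

/-- the element of order 7 -/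
def y7 : Sp6 := z28 ^ 4

/-- the element of order 30 -/
def g30 : Sp6 := mk6 GP1 GP1_symp

theorem m6_x13 : m6 x13 = XM := m6_mk6 _ _

theorem m6_y7 : m6 y7 = YM := by
  rw [y7, z28, m6_mk6_pow, ← YP1_eq]; rfl

instance fact_prime_seven : Fact (Nat.Prime 7) := ⟨by norm_num⟩
instance fact_prime_thirteen : Fact (Nat.Prime 13) := ⟨by norm_num⟩

theorem orderOf_x13 : orderOf x13 = 13 := by
  refine orderOf_eq_prime ?_ ?_
  · apply m6_injective; rw [m6_pow, m6_x13, XM_pow13, m6_one]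
  · intro h; apply XM_ne_one; rw [← m6_x13, h, m6_one]

theorem orderOf_y7 : orderOf y7 = 7 := by
  refine orderOf_eq_prime ?_ ?_
  · apply m6_injective; rw [m6_pow, m6_y7, YM_pow7, m6_one]
  · intro h; apply YM_ne_one; rw [← m6_y7, h, m6_one]

theorem centralizer_x13 (c : Sp6) (h : c * x13 = x13 * c) : c ^ 13 ∈ Subgroup.center Sp6 := by
  rw [mem_center_iff, m6_pow]
  apply X_centralizer _ _ (m6_symp c)
  rw [← m6_x13, ← m6_mul, ← m6_mul, h]

theorem centralizer_y7 (c : Sp6) (h : c * y7 = y7 * c) : c ^ 28 = 1 := by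
  apply m6_injective
  rw [m6_pow, m6_one]
  apply Y_centralizer _ _ (m6_symp c)
  rw [← m6_y7, ← m6_mul, ← m6_mul, h]

/-! ### orders -/

theorem card_Sp6 : Nat.card Sp6 = 9170703360 := by
  rw [Cfsg.Agent.Helper5.card_sp, ZMod.card]
  simp [Finset.prod_range_succ]

theorem card_center : Nat.card (Subgroup.center Sp6) = 2 := by
  rw [Cfsg.Agent.S0246.result (F := ZMod 3) (q := 3) (ZMod.card 3) 3 (by norm_num)]
  rfl

/-- `PSp₆(3)` over `ZMod 3` -/
abbrev Q6 : Type := Cfsg.PSp 3 (ZMod 3)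

theorem card_Q6 : Nat.card Q6 = 4585351680 := by
  have h := Subgroup.card_eq_card_quotient_mul_card_subgroup (Subgroup.center Sp6)
  rw [card_Sp6, card_center] at h
  show Nat.card (Sp6 ⧸ Subgroup.center Sp6) = 4585351680
  omega

theorem sq_eq_one_of_mem_center (z : Sp6) (hz : z ∈ Subgroup.center Sp6) : z ^ 2 = 1 := by
  apply m6_injective
  rcases (mem_center_iff z).1 hz with h | h
  · rw [m6_pow, h, m6_one, one_pow]
  · rw [m6_pow, h, m6_one]; simp

theorem mk_pow_eq_one_iff (g : Sp6) (n : ℕ) :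
    ((g : Q6)) ^ n = 1 ↔ g ^ n ∈ Subgroup.center Sp6 := by
  rw [← QuotientGroup.mk_pow, QuotientGroup.eq_one_iff]

/-! ### non-edges -/

/-- if the centraliser of an element `xp` of prime order `p ≠ 2` (with `p² ∤ |Sp₆(3)|`) has exponent
dividing `e` modulo the centre, then every element of `PSp₆(3)` of order `p * r` has `p * r ∣ e` -/
theorem dvd_of_orderOf_eq (p : ℕ) [Fact p.Prime] (hp2 : p ≠ 2) (xp : Sp6) (hxp : orderOf xp = p)
    (hcard : ¬ p ^ 2 ∣ Nat.card Sp6) (e : ℕ)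
    (hcent : ∀ c : Sp6, c * xp = xp * c → c ^ e ∈ Subgroup.center Sp6)
    (g : Q6) (r : ℕ) (hr : 0 < r) (hord : orderOf g = p * r) : p * r ∣ e := by
  obtain ⟨g0, rfl⟩ := QuotientGroup.mk_surjective g
  have h1 : g0 ^ (p * r) ∈ Subgroup.center Sp6 :=
    (mk_pow_eq_one_iff _ _).1 (hord ▸ pow_orderOf_eq_one _)
  set x := g0 ^ (2 * r) with hx
  have hx1 : x ^ p = 1 := by
    rw [hx, ← pow_mul, show 2 * r * p = (p * r) * 2 by ring, pow_mul]
    exact sq_eq_one_of_mem_center _ h1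
  have hx2 : x ≠ 1 := by
    intro hx'
    have h2 : ((g0 : Q6)) ^ (2 * r) = 1 := by
      rw [mk_pow_eq_one_iff, ← hx, hx']; exact Subgroup.one_mem _
    have h3 := orderOf_dvd_of_pow_eq_one h2
    rw [hord] at h3
    have h4 : p ∣ 2 := Nat.dvd_of_mul_dvd_mul_right hr h3
    exact hp2 ((Nat.prime_dvd_prime_iff_eq (Fact.out : p.Prime) Nat.prime_two).1 h4)
  have hxo : orderOf x = p := orderOf_eq_prime hx1 hx2
  obtain ⟨k, hk⟩ := exists_conj_zpowers p xp x hxp hxo hcard
  set c := k * g0 * k⁻¹ with hc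
  have hcx : k * x * k⁻¹ = c ^ (2 * r) := by rw [hc, conj_pow]
  have hmem : xp ∈ Subgroup.zpowers (c ^ (2 * r)) := by
    rw [← hcx, hk]; exact Subgroup.mem_zpowers _
  obtain ⟨j, hj⟩ := Subgroup.mem_zpowers_iff.1 hmem
  have hcomm : c * xp = xp * c := by
    rw [← hj]
    exact (((Commute.refl c).pow_right _).zpow_right _).eq
  have h3 : ((c : Q6)) ^ e = 1 := (mk_pow_eq_one_iff _ _).2 (hcent c hcomm)
  have h4 : orderOf ((c : Sp6) : Q6) = orderOf ((g0 : Sp6) : Q6) := by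
    have e1 : ((c : Sp6) : Q6) = MulAut.conj ((k : Sp6) : Q6) ((g0 : Sp6) : Q6) := by
      rw [MulAut.conj_apply, hc, QuotientGroup.mk_mul, QuotientGroup.mk_mul, QuotientGroup.mk_inv]
    rw [e1, MulEquiv.orderOf_eq]
  rw [← hord, ← h4]
  exact orderOf_dvd_of_pow_eq_one h3

theorem not_sq_dvd_7 : ¬ 7 ^ 2 ∣ Nat.card Sp6 := by rw [card_Sp6]; norm_num
theorem not_sq_dvd_13 : ¬ 13 ^ 2 ∣ Nat.card Sp6 := by rw [card_Sp6]; norm_num

/-- 13 is an isolated vertex of the prime graph -/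
theorem no_edge_13 (g : Q6) (r : ℕ) (hr : r.Prime) : orderOf g ≠ 13 * r := by
  intro h
  have h1 := dvd_of_orderOf_eq 13 (by norm_num) x13 orderOf_x13 not_sq_dvd_13 13 centralizer_x13
    g r hr.pos h
  have h2 : r ∣ 1 := Nat.dvd_of_mul_dvd_mul_left (by norm_num : 0 < 13) (by simpa using h1)
  exact hr.one_lt.ne' (Nat.dvd_one.1 h2)

/-- 7 is joined to 2 only -/
theorem no_edge_7 (g : Q6) (r : ℕ) (hr : r.Prime) (hr2 : r ≠ 2) : orderOf g ≠ 7 * r := by
  intro h
  have h1 := dvd_of_orderOf_eq 7 (by norm_num) y7 orderOf_y7 not_sq_dvd_7 28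
    (fun c hc => by rw [centralizer_y7 c hc]; exact Subgroup.one_mem _) g r hr.pos h
  have h2 : r ∣ 4 := Nat.dvd_of_mul_dvd_mul_left (by norm_num : 0 < 7) (by simpa using h1)
  have h3 : r ∣ 2 := hr.dvd_of_dvd_pow (show r ∣ 2 ^ 2 from h2)
  exact hr2 ((Nat.prime_dvd_prime_iff_eq hr Nat.prime_two).1 h3)

/-! ### edges -/

theorem orderOf_mk_g30 : orderOf ((g30 : Sp6) : Q6) = 30 := by
  refine orderOf_eq_of_pow_and_pow_div_prime (by norm_num) ?_ ?_
  · rw [mk_pow_eq_one_iff, g30, mk6_pow_mem_center_iff]; left; exact GP30_eq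
  · intro p hp hpd
    have h30 : (30 : ℕ) = 2 * 3 * 5 := by norm_num
    rw [h30] at hpd
    have hcases : p = 2 ∨ p = 3 ∨ p = 5 := by
      rcases (Nat.Prime.dvd_mul hp).1 hpd with h | h
      · rcases (Nat.Prime.dvd_mul hp).1 h with h | h
        · left; exact (Nat.prime_dvd_prime_iff_eq hp Nat.prime_two).1 h
        · right; left; exact (Nat.prime_dvd_prime_iff_eq hp Nat.prime_three).1 h
      · right; right; exact (Nat.prime_dvd_prime_iff_eq hp Nat.prime_five).1 h
    rw [Ne, mk_pow_eq_one_iff, g30, mk6_pow_mem_center_iff]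
    rcases hcases with rfl | rfl | rfl
    · intro h; rcases h with h | h
      · exact GP15_ne.1 h
      · exact GP15_ne.2 h
    · intro h; rcases h with h | h
      · exact GP10_ne.1 h
      · exact GP10_ne.2 h
    · intro h; rcases h with h | h
      · exact GP6_ne.1 h
      · exact GP6_ne.2 h

theorem orderOf_mk_z28 : orderOf ((z28 : Sp6) : Q6) = 14 := by
  refine orderOf_eq_of_pow_and_pow_div_prime (by norm_num) ?_ ?_
  · rw [mk_pow_eq_one_iff, z28, mk6_pow_mem_center_iff]; right; exact ZP14_eq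
  · intro p hp hpd
    have h14 : (14 : ℕ) = 2 * 7 := by norm_num
    rw [h14] at hpd
    have hcases : p = 2 ∨ p = 7 := by
      rcases (Nat.Prime.dvd_mul hp).1 hpd with h | h
      · left; exact (Nat.prime_dvd_prime_iff_eq hp Nat.prime_two).1 h
      · right; exact (Nat.prime_dvd_prime_iff_eq hp (by norm_num)).1 h
    rw [Ne, mk_pow_eq_one_iff, z28, mk6_pow_mem_center_iff]
    rcases hcases with rfl | rfl
    · intro h; rcases h with h | h
      · exact ZP7_ne.1 h
      · exact ZP7_ne.2 h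
    · intro h; rcases h with h | h
      · exact ZP2_ne.1 h
      · exact ZP2_ne.2 h

theorem exists_orderOf_6 : ∃ g : Q6, orderOf g = 6 :=
  ⟨((g30 : Sp6) : Q6) ^ 5, by rw [orderOf_pow' _ (by norm_num), orderOf_mk_g30]; rfl⟩

theorem exists_orderOf_10 : ∃ g : Q6, orderOf g = 10 :=
  ⟨((g30 : Sp6) : Q6) ^ 3, by rw [orderOf_pow' _ (by norm_num), orderOf_mk_g30]; rfl⟩

theorem exists_orderOf_15 : ∃ g : Q6, orderOf g = 15 :=
  ⟨((g30 : Sp6) : Q6) ^ 2, by rw [orderOf_pow' _ (by norm_num), orderOf_mk_g30]; rfl⟩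

theorem exists_orderOf_14 : ∃ g : Q6, orderOf g = 14 := ⟨_, orderOf_mk_z28⟩

/-! ### the prime graph -/

/-- a prime dividing `2⁹·3⁹·5·7·13` -/
theorem prime_dvd_card_Q6 {r : ℕ} (hr : r.Prime) :
    r ∣ Nat.card Q6 ↔ r = 2 ∨ r = 3 ∨ r = 5 ∨ r = 7 ∨ r = 13 := by
  rw [card_Q6]
  constructor
  · intro h
    have e : (4585351680 : ℕ) = 2 ^ 9 * 3 ^ 9 * 5 * 7 * 13 := by norm_num
    rw [e] at h
    rcases (Nat.Prime.dvd_mul hr).1 h with h | h
    · rcases (Nat.Prime.dvd_mul hr).1 h with h | h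
      · rcases (Nat.Prime.dvd_mul hr).1 h with h | h
        · rcases (Nat.Prime.dvd_mul hr).1 h with h | h
          · left; exact (Nat.prime_dvd_prime_iff_eq hr Nat.prime_two).1 (hr.dvd_of_dvd_pow h)
          · right; left
            exact (Nat.prime_dvd_prime_iff_eq hr Nat.prime_three).1 (hr.dvd_of_dvd_pow h)
        · right; right; left
          exact (Nat.prime_dvd_prime_iff_eq hr Nat.prime_five).1 h
      · right; right; right; left; exact (Nat.prime_dvd_prime_iff_eq hr (by norm_num)).1 h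
    · right; right; right; right; exact (Nat.prime_dvd_prime_iff_eq hr (by norm_num)).1 h
  · rintro (rfl | rfl | rfl | rfl | rfl) <;> norm_num

instance finite_Q6 : Finite Q6 := inferInstance

/-- the edges of the prime graph of `PSp₆(3)` -/
theorem edge_iff_Q6 {p q : ℕ} (hp : p.Prime) (hq : q.Prime) (hpq : p ≠ q) :
    (∃ g : Q6, orderOf g = p * q) ↔ (p * q = 6 ∨ p * q = 10 ∨ p * q = 15 ∨ p * q = 14) := by
  constructor
  · rintro ⟨g, hg⟩
    have hpd : p ∣ Nat.card Q6 := (Dvd.intro _ rfl : p ∣ p * q).trans (hg ▸ orderOf_dvd_natCard g)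
    have hqd : q ∣ Nat.card Q6 := (Dvd.intro_left _ rfl : q ∣ p * q).trans (hg ▸ orderOf_dvd_natCard g)
    have h13 : ∀ r : ℕ, r.Prime → orderOf g ≠ 13 * r := no_edge_13 g
    have h13' : ∀ r : ℕ, r.Prime → orderOf g ≠ r * 13 := fun r hr => by
      rw [mul_comm]; exact no_edge_13 g r hr
    have h73 : orderOf g ≠ 7 * 3 := no_edge_7 g 3 (by norm_num) (by norm_num)
    have h75 : orderOf g ≠ 7 * 5 := no_edge_7 g 5 (by norm_num) (by norm_num)
    have h37 : orderOf g ≠ 3 * 7 := no_edge_7 g 3 (by norm_num) (by norm_num)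
    have h57 : orderOf g ≠ 5 * 7 := no_edge_7 g 5 (by norm_num) (by norm_num)
    rcases (prime_dvd_card_Q6 hp).1 hpd with rfl | rfl | rfl | rfl | rfl <;>
    rcases (prime_dvd_card_Q6 hq).1 hqd with rfl | rfl | rfl | rfl | rfl <;>
    first
      | exact absurd rfl hpq
      | exact absurd hg (h13 _ hq)
      | exact absurd hg (h13' _ hp)
      | exact absurd hg h73
      | exact absurd hg h75
      | exact absurd hg h37
      | exact absurd hg h57
      | norm_num
  · rintro (h | h | h | h) <;> rw [h]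
    · exact exists_orderOf_6
    · exact exists_orderOf_10
    · exact exists_orderOf_15
    · exact exists_orderOf_14

end Cfsg.Agent.Helper8.Sp63
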